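import Mathlib
import Cfsg.Statements.S0581
import Cfsg.Agent.Lib.Helper2.Schmidt2
import Cfsg.Agent.Lib.Helper2.SylowUtil

set_option autoImplicit false
open Pointwise
open Cfsg

namespace Cfsg.Agent.S0581

open Cfsg.Agent.Lib.Helper2.Schmidt Cfsg.Agent.Lib.Helper2.Conj Cfsg.Agent.Lib.Helper2.SylowUtil
  Cfsg.Agent.Lib.Helper1

theorem isNilpotent_of_le {G : Type*} [Group G] {L M : Subgroup G} (h : L ≤ M)
    (hM : Group.IsNilpotent M) : Group.IsNilpotent L := by
  have h1 : Group.IsNilpotent (L.subgroupOf M) := inferInstance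
  exact Group.nilpotent_of_mulEquiv (Subgroup.subgroupOfEquivOfLe h)

theorem isNilpotent_conj {G : Type*} [Group G] {H : Subgroup G} (hH : Group.IsNilpotent H) (x : G) :
    Group.IsNilpotent (MulAut.conj x • H : Subgroup G) :=
  Group.nilpotent_of_mulEquiv (Subgroup.equivSMul (MulAut.conj x) H)

theorem isNilpotent_of_map_le {G : Type*} [Group G] {K M : Subgroup G} (L : Subgroup K)
    (h : L.map K.subtype ≤ M) (hM : Group.IsNilpotent M) : Group.IsNilpotent L := by
  have h1 := isNilpotent_of_le h hM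
  exact Group.nilpotent_of_mulEquiv
    (Subgroup.equivMapOfInjective L K.subtype K.subtype_injective).symm

theorem sylow_le_of_coprime_index {G : Type*} [Group G] [Finite G] (M : Subgroup G)
    [M.Normal] {r : ℕ} [Fact r.Prime] (hr : Nat.Coprime M.index r)
    (R : Sylow r G) : (R : Subgroup G) ≤ M := by
  rw [← Subgroup.relIndex_eq_one]
  have h1 : M.relIndex R ∣ M.index := Subgroup.relIndex_dvd_index_of_normal M R
  obtain ⟨k, hk⟩ := IsPGroup.iff_card.mp R.isPGroup'
  have h2 : M.relIndex R ∣ r ^ k := hk ▸ Subgroup.relIndex_dvd_card M R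
  exact Nat.eq_one_of_dvd_coprimes (Nat.Coprime.pow_right k hr) h1 h2

theorem step {G : Type*} [Group G] [Finite G] (H K : Subgroup G) (hH : Group.IsNilpotent H)
    (hHall : (Nat.card H).Coprime H.index) (K₁ : Subgroup K) [K₁.Normal] (p : ℕ) [Fact p.Prime]
    (hp : K₁.index = p) (hK₁H : K₁.map K.subtype ≤ H) (hpH : p ∣ Nat.card H) :
    ∃ g : G, K ≤ MulAut.conj g • H := by
  have hpp : p.Prime := Fact.out
  have hK₁nil : Group.IsNilpotent K₁ := isNilpotent_of_map_le K₁ hK₁H hH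
  -- a Sylow p-subgroup of G inside H
  obtain ⟨S⟩ : Nonempty (Sylow p H) := inferInstance
  have hSp : IsPGroup p ((S : Subgroup H).map H.subtype) := S.2.map _
  have hSi : ¬ p ∣ ((S : Subgroup H).map H.subtype).index := by
    rw [Subgroup.index_map_subtype]
    intro hd
    rcases (Nat.Prime.dvd_mul hpp).mp hd with h1 | h1
    · exact S.not_dvd_index h1
    · exact Nat.Prime.not_coprime_iff_dvd.mpr ⟨p, hpp, hpH, h1⟩ hHall
  let Hp : Sylow p G := hSp.toSylow hSi
  have hHpH : (Hp : Subgroup G) ≤ H := Subgroup.map_subtype_le _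
  -- the family of Sylow r-subgroups of K, r ≠ p
  let 𝓡 : Set (Subgroup G) := {T | ∃ (r : ℕ) (_ : Fact r.Prime), r ≠ p ∧ ∃ R : Sylow r K,
    T = (R : Subgroup K).map K.subtype}
  let N : Subgroup G := ⨅ T ∈ 𝓡, Subgroup.normalizer (T : Set G)
  have hKN : K ≤ N := by
    refine le_iInf₂ ?_
    rintro T ⟨r, hr, hrp, R, rfl⟩
    have hRn : (R : Subgroup K).Normal := sylow_normal_of_normal_nilpotent K₁ hK₁nil
      (by rw [hp]; exact (Nat.coprime_primes hpp hr.out).mpr (Ne.symm hrp)) R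
    rw [Subgroup.le_normalizer_iff]
    rintro k hk _ ⟨y, hy, rfl⟩
    exact ⟨⟨k, hk⟩ * y * ⟨k, hk⟩⁻¹, hRn.conj_mem y hy _, rfl⟩
  have hTH : ∀ T ∈ 𝓡, T ≤ H := by
    rintro T ⟨r, hr, hrp, R, rfl⟩
    have h1 : (R : Subgroup K) ≤ K₁ := sylow_le_of_coprime_index K₁
      (by rw [hp]; exact (Nat.coprime_primes hpp hr.out).mpr (Ne.symm hrp)) R
    exact (Subgroup.map_mono h1).trans hK₁H
  have hHpN : (Hp : Subgroup G) ≤ N := by
    refine le_iInf₂ ?_
    intro T hT
    obtain ⟨r, hr, hrp, R, hTR⟩ := hT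
    have hTr : IsPGroup r T := by rw [hTR]; exact R.2.map _
    apply le_normalizer_of_commute
    exact commute_of_le_nilpotent hH (hTH T ⟨r, hr, hrp, R, hTR⟩) hHpH hrp hTr Hp.2
  obtain ⟨P⟩ : Nonempty (Sylow p K) := inferInstance
  have hPK : (P : Subgroup K).map K.subtype ≤ K := Subgroup.map_subtype_le _
  obtain ⟨n, hnN, hn⟩ := exists_conj_le_in N Hp hHpN ((P : Subgroup K).map K.subtype)
    (P.2.map _) (hPK.trans hKN)
  refine ⟨n⁻¹, ?_⟩
  rw [← Subgroup.subgroupOf_eq_top]
  apply eq_top_of_sylow_le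
  intro r hr
  by_cases hrp : r = p
  · subst hrp
    refine ⟨P, ?_⟩
    intro y hy
    rw [Subgroup.mem_subgroupOf]
    have h1 : (y : G) ∈ (P : Subgroup K).map K.subtype := ⟨y, hy, rfl⟩
    have h2 := conj_smul_mono (g := n⁻¹) (hn.trans hHpH)
    rw [conj_inv_smul_smul] at h2
    exact h2 h1
  · obtain ⟨R⟩ : Nonempty (Sylow r K) := inferInstance
    refine ⟨R, ?_⟩
    intro y hy
    rw [Subgroup.mem_subgroupOf]
    have hT : (R : Subgroup K).map K.subtype ∈ 𝓡 := ⟨r, hr, hrp, R, rfl⟩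
    have h1 : (y : G) ∈ (R : Subgroup K).map K.subtype := ⟨y, hy, rfl⟩
    have h3 : n⁻¹ ∈ Subgroup.normalizer (((R : Subgroup K).map K.subtype : Subgroup G) : Set G) := by
      have : N ≤ Subgroup.normalizer (((R : Subgroup K).map K.subtype : Subgroup G) : Set G) :=
        iInf₂_le _ hT
      exact this (inv_mem hnN)
    have h2 := conj_smul_mono (g := n⁻¹) (hTH _ hT)
    rw [conj_smul_eq_iff_mem_normalizer.mpr h3] at h2
    exact h2 h1

theorem aux {G : Type*} [Group G] [Finite G] (H : Subgroup G) (hH : Group.IsNilpotent H)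
    (hHall : (Nat.card H).Coprime H.index) : ∀ (n : ℕ) (K : Subgroup G), Nat.card K = n →
    (∀ p : ℕ, p.Prime → p ∣ Nat.card K → p ∣ Nat.card H) → ∃ x : G, K ≤ MulAut.conj x • H := by
  intro n
  induction n using Nat.strong_induction_on with
  | _ n ih =>
  intro K hn hK
  by_cases hKb : K = ⊥
  · exact ⟨1, hKb ▸ bot_le⟩
  have hprop : ∀ L : Subgroup K, L ≠ ⊤ → ∃ x : G, L.map K.subtype ≤ MulAut.conj x • H := by
    intro L hL
    have hc : Nat.card (L.map K.subtype) = Nat.card L :=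
      Subgroup.card_map_of_injective K.subtype_injective
    have hlt : Nat.card (L.map K.subtype) < n := by
      rw [hc, ← hn]
      exact Nat.lt_of_le_of_ne (Subgroup.card_le_card_group L)
        (fun h => hL (Subgroup.eq_top_of_card_eq L h))
    apply ih _ hlt _ rfl
    intro p hp hpd
    rw [hc] at hpd
    exact hK p hp (hpd.trans (Subgroup.card_subgroup_dvd_card L))
  have hnil : ∀ L : Subgroup K, L ≠ ⊤ → Group.IsNilpotent L := by
    intro L hL
    obtain ⟨x, hx⟩ := hprop L hL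
    exact isNilpotent_of_map_le L hx (isNilpotent_conj hH x)
  haveI := isSolvable_of_proper_nilpotent hnil
  haveI : Nontrivial K := (Subgroup.nontrivial_iff_ne_bot K).mpr hKb
  obtain ⟨K₁, hK₁n, hK₁p⟩ := exists_normal_prime_index (G := K)
  haveI : Fact K₁.index.Prime := ⟨hK₁p⟩
  have hK₁t : K₁ ≠ ⊤ := by
    intro ht
    rw [ht, Subgroup.index_top] at hK₁p
    exact Nat.not_prime_one hK₁p
  obtain ⟨x, hx⟩ := hprop K₁ hK₁t
  have hc : Nat.card (MulAut.conj x • H : Subgroup G) = Nat.card H := Cfsg.Agent.Lib.Helper2.Conj.card_conj_smul x H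
  have hi : (MulAut.conj x • H : Subgroup G).index = H.index := by
    have h1 := Subgroup.card_mul_index (MulAut.conj x • H : Subgroup G)
    have h2 := Subgroup.card_mul_index H
    rw [hc, ← h2] at h1
    exact Nat.eq_of_mul_eq_mul_left Nat.card_pos h1
  obtain ⟨g, hg⟩ := step (MulAut.conj x • H) K (isNilpotent_conj hH x) (by rw [hc, hi]; exact hHall)
    K₁ K₁.index rfl hx (by rw [hc]; exact hK _ hK₁p (Subgroup.index_dvd_card K₁))
  exact ⟨g * x, by rw [conj_mul_smul]; exact hg⟩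

theorem result {G : Type*} [Group G] [Finite G] (H K : Subgroup G) (hH : Group.IsNilpotent H) (hHall : (Nat.card H).Coprime H.index) (hK : ∀ p : ℕ, p.Prime → p ∣ Nat.card K → p ∣ Nat.card H) : ∃ x : G, K ≤ MulAut.conj x • H := by
  exact aux H hH hHall _ K rfl hK

end Cfsg.Agent.S0581
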