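import Cfsg.Statements.S1894
import Mathlib

set_option autoImplicit false
open Cfsg

namespace Cfsg.Agent.S1894

open Cfsg
open scoped commutatorElement

/-- in a nilpotent group, a normal subgroup `D` not contained in `C` has an element outside `C`
all of whose commutators lie in `C` (`C` any subgroup such that ...). -/
theorem exists_central_mod {P : Type*} [Group P] [hnil : Group.IsNilpotent P] (C D : Subgroup P) [hD : D.Normal]
    (h : ¬ D ≤ C) : ∃ x ∈ D, x ∉ C ∧ ∀ g : P, ⁅x, g⁆ ∈ C := by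
  classical
  have hex : ∃ n, ¬ D ⊓ Subgroup.upperCentralSeries P n ≤ C := by
    obtain ⟨n, hn⟩ := hnil.nilpotent
    exact ⟨n, by rw [hn, inf_top_eq]; exact h⟩
  have hspec := Nat.find_spec hex
  have hmin := fun m (hm : m < Nat.find hex) => Nat.find_min hex hm
  obtain ⟨n, hn⟩ : ∃ n, n = Nat.find hex := ⟨_, rfl⟩
  rw [← hn] at hspec hmin
  have hn0 : n ≠ 0 := by
    rintro rfl
    apply hspec
    rw [Subgroup.upperCentralSeries_zero, inf_bot_eq]
    exact bot_le
  obtain ⟨m, rfl⟩ : ∃ m, n = m + 1 := ⟨n - 1, by omega⟩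
  obtain ⟨x, hx, hxC⟩ := SetLike.not_le_iff_exists.mp hspec
  refine ⟨x, hx.1, hxC, fun g => ?_⟩
  have h1 := hmin m (by omega)
  rw [not_not] at h1
  apply h1
  refine Subgroup.mem_inf.mpr ⟨?_, Subgroup.mem_upperCentralSeries_succ_iff.mp hx.2 g⟩
  rw [commutatorElement_def]
  have e : x * g * x⁻¹ * g⁻¹ = x * (g * x⁻¹ * g⁻¹) := by group
  rw [e]
  exact D.mul_mem hx.1 (hD.conj_mem _ (D.inv_mem hx.1) g)

/-- Let P be a finite p-group, A a normal subgroup of P and B an abelian subgroup of A that is normal in P. Then some subgroup C of A containing B is normal in P and is self-centralizing and normal in A (C ∈ SCN(A)). -/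
theorem result {P : Type*} [Group P] [Finite P] {p : ℕ} [Fact p.Prime] (hP : IsPGroup p P)
    (A : Subgroup P) [A.Normal] (B : Subgroup P) [B.Normal] (hBA : B ≤ A) (hB : IsMulCommutative B) :
    ∃ C : Subgroup P, C.Normal ∧ B ≤ C ∧ Cfsg.IsSCN A C := by
  haveI hnil : Group.IsNilpotent P := hP.isNilpotent
  have hAn : A.Normal := inferInstance
  obtain ⟨C, hBC, hCmax⟩ := (Set.toFinite {L : Subgroup P | L.Normal ∧ B ≤ L ∧ L ≤ A ∧ ∀ a ∈ L, ∀ b ∈ L, a * b = b * a}).exists_le_maximal
    (show B ∈ {L : Subgroup P | L.Normal ∧ B ≤ L ∧ L ≤ A ∧ ∀ a ∈ L, ∀ b ∈ L, a * b = b * a} from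
      ⟨inferInstance, le_rfl, hBA, fun a ha b hb => congrArg Subtype.val (hB.is_comm.comm ⟨a, ha⟩ ⟨b, hb⟩)⟩)
  obtain ⟨hCn, _, hCA, hCab⟩ := hCmax.prop
  refine ⟨C, hCn, hBC, hCA, ?_, ?_⟩
  · rw [Subgroup.normalizer_eq_top_iff.mpr hCn]; exact le_top
  apply le_antisymm
  · by_contra hcon
    haveI : (Subgroup.centralizer (C : Set P)).Normal := inferInstance
    haveI hDn : (A ⊓ Subgroup.centralizer (C : Set P)).Normal := inferInstance
    obtain ⟨x, hxD, hxC, hxg⟩ := exists_central_mod C (A ⊓ Subgroup.centralizer (C : Set P)) hcon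
    have hxcen := Subgroup.mem_centralizer_iff.mp hxD.2
    have hE : C ⊔ Subgroup.zpowers x ∈ {L : Subgroup P | L.Normal ∧ B ≤ L ∧ L ≤ A ∧ ∀ a ∈ L, ∀ b ∈ L, a * b = b * a} := by
      refine ⟨?_, hBC.trans le_sup_left, sup_le hCA (by rw [Subgroup.zpowers_le]; exact hxD.1), ?_⟩
      · constructor
        intro n hn g
        obtain ⟨c, hc, z, hz, rfl⟩ := Subgroup.mem_sup_of_normal_left.mp hn
        obtain ⟨k, rfl⟩ := Subgroup.mem_zpowers_iff.mp hz
        have e : g * (c * x ^ k) * g⁻¹ = (g * c * g⁻¹) * (g * x * g⁻¹) ^ k := by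
          rw [conj_zpow]; group
        rw [e]
        apply Subgroup.mul_mem _ (Subgroup.mem_sup_left (hCn.conj_mem c hc g))
        apply Subgroup.zpow_mem
        have e2 : g * x * g⁻¹ = (⁅x, g⁆)⁻¹ * x := by
          rw [commutatorElement_def]; group
        rw [e2]
        exact Subgroup.mul_mem _ (Subgroup.mem_sup_left (C.inv_mem (hxg g))) (Subgroup.mem_sup_right (Subgroup.mem_zpowers x))
      · intro a ha b hb
        obtain ⟨c, hc, z, hz, rfl⟩ := Subgroup.mem_sup_of_normal_left.mp ha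
        obtain ⟨k, rfl⟩ := Subgroup.mem_zpowers_iff.mp hz
        obtain ⟨c', hc', z', hz', rfl⟩ := Subgroup.mem_sup_of_normal_left.mp hb
        obtain ⟨l, rfl⟩ := Subgroup.mem_zpowers_iff.mp hz'
        have c1 : Commute c c' := hCab c hc c' hc'
        have c2 : Commute c x := hxcen c hc
        have c3 : Commute c' x := hxcen c' hc'
        show Commute (c * x ^ k) (c' * x ^ l)
        apply Commute.mul_left
        · exact Commute.mul_right c1 (c2.zpow_right l)
        · exact Commute.mul_right (c3.zpow_right k).symm ((Commute.refl x).zpow_zpow k l)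
    have h1 := hCmax.eq_of_ge hE le_sup_left
    apply hxC
    rw [← h1]
    exact Subgroup.mem_sup_right (Subgroup.mem_zpowers x)
  · apply le_inf hCA
    intro c hc
    rw [Subgroup.mem_centralizer_iff]
    intro c' hc'
    exact hCab c' hc' c hc

end Cfsg.Agent.S1894
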