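import Mathlib
import Cfsg.Statements.S0912
import Cfsg.Agent.Lib.Helper2.BlockN
import Cfsg.Agent.Lib.Helper1.Cores

set_option autoImplicit false
open Cfsg

namespace Cfsg.Agent.S0912

open Cfsg.Agent.Lib.Helper2.LocRing Cfsg.Agent.Lib.Helper2.BlockZ Cfsg.Agent.Lib.Helper2.BlockN

/-- Let B be a block of the finite group G relative to a maximal ideal M of the algebraic integers containing the prime p. Every defect group of B contains the largest normal p-subgroup O_p(G). -/
theorem result {G : Type*} [Group G] [Finite G] (p : ℕ) [Fact p.Prime] (M : Ideal Cfsg.AlgInt) (hM : Cfsg.IsPModular p M) (B : Set (Cfsg.IrrCharacter G)) (hB : Cfsg.IsPBlock M B) (D : Subgroup G) (hD : Cfsg.IsDefectGroup p M B D) : Cfsg.pCore p G ≤ D := by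
  classical
  have := Fintype.ofFinite G
  have : M.IsPrime := hM.2.1.isPrime
  obtain ⟨χ₀, hχ₀⟩ := block_nonempty hB
  obtain ⟨g, hg, S, rfl⟩ := hD
  have hn : (Cfsg.pCore p G).Normal := Cfsg.Agent.Lib.Helper1.pCore_normal p
  have hp : IsPGroup p (Cfsg.pCore p G) := Cfsg.Agent.Lib.Helper1.pCore_isPGroup p
  have hgc : g ∈ Subgroup.centralizer (Cfsg.pCore p G : Set G) := by
    by_contra hcon
    exact hg.2.2 χ₀ hχ₀ (centralChar_mem_Iloc_of_normal' hM _ hp g hcon χ₀)
  have hle : Cfsg.pCore p G ≤ Subgroup.centralizer ({g} : Set G) := by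
    intro q hq
    rw [Subgroup.mem_centralizer_singleton_iff]
    exact Subgroup.mem_centralizer_iff.mp hgc q hq
  have hp' : IsPGroup p ((Cfsg.pCore p G).subgroupOf (Subgroup.centralizer ({g} : Set G))) :=
    IsPGroup.comap_of_injective hp _ (Subgroup.subtype_injective _)
  have h1 := hp'.le_sylow_of_normal S
  intro q hq
  exact ⟨⟨q, hle hq⟩, h1 (Subgroup.mem_subgroupOf.mpr hq), rfl⟩

end Cfsg.Agent.S0912
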