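import Mathlib
import Cfsg.Statements.S0911
import Cfsg.Agent.Lib.Helper2.BlockFix

set_option autoImplicit false
open Cfsg

namespace Cfsg.Agent.S0911

open Cfsg.Agent.Lib.Helper2.LocRing Cfsg.Agent.Lib.Helper2.BlockZ Cfsg.Agent.Lib.Helper2.BlockOrth
  Cfsg.Agent.Lib.Helper2.BlockFix

/-- The min–max Theorem for defect classes. Let B be a block of the finite group G relative to a maximal ideal M of the algebraic integers containing the prime p, let g represent a defect class of B and let D be a Sylow p-subgroup of the centralizer of g (viewed in G). For any h: (a) if the idempotent coefficient of B at h is a local integer outside the local ideal, then some conjugate of D contains a Sylow p-subgroup of the centralizer of h; (b) if the central character of some member of B at h is outside the local ideal, then some conjugate of D is contained in a Sylow p-subgroup of the centralizer of h. -/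
theorem result {G : Type*} [Group G] [Finite G] (p : ℕ) [Fact p.Prime] (M : Ideal Cfsg.AlgInt) (hM : Cfsg.IsPModular p M) (B : Set (Cfsg.IrrCharacter G)) (hB : Cfsg.IsPBlock M B) (g : G) (hg : Cfsg.IsDefectClass M B g) (D : Sylow p (Subgroup.centralizer ({g} : Set G))) (h : G) : (Cfsg.MemLocalRing M (Cfsg.blockCoeff B h) → ¬ Cfsg.MemLocalIdeal M (Cfsg.blockCoeff B h) → ∃ (x : G) (Q : Sylow p (Subgroup.centralizer ({h} : Set G))), (Q : Subgroup (Subgroup.centralizer ({h} : Set G))).map (Subgroup.centralizer ({h} : Set G)).subtype ≤ ((D : Subgroup (Subgroup.centralizer ({g} : Set G))).map (Subgroup.centralizer ({g} : Set G)).subtype).map (MulAut.conj x).toMonoidHom) ∧ ((∃ χ ∈ B, ¬ Cfsg.MemLocalIdeal M (Cfsg.centralChar (χ : G → ℂ) h)) → ∃ (x : G) (Q : Sylow p (Subgroup.centralizer ({h} : Set G))), ((D : Subgroup (Subgroup.centralizer ({g} : Set G))).map (Subgroup.centralizer ({g} : Set G)).subtype).map (MulAut.conj x).toMonoidHom ≤ (Q : Subgroup (Subgroup.centralizer ({h} : Set G))).map (Subgroup.centralizer ({h}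 : Set G)).subtype) := by
  classical
  have := Fintype.ofFinite G
  have : M.IsPrime := hM.2.1.isPrime
  obtain ⟨χ₀, hχ₀⟩ := block_nonempty hB
  have hcent : ∀ (k : G) (Q : Sylow p (Subgroup.centralizer ({k} : Set G))),
      ∀ q ∈ (Q : Subgroup (Subgroup.centralizer ({k} : Set G))).map
        (Subgroup.centralizer ({k} : Set G)).subtype, q * k = k * q := by
    rintro k Q _ ⟨q, _, rfl⟩
    exact Subgroup.mem_centralizer_singleton_iff.mp q.2
  have hcl : ∀ (y x : G), cl y x ∈ Rloc M := by
    intro y x
    unfold cl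
    split_ifs
    · exact Subring.one_mem _
    · exact Subring.zero_mem _
  constructor
  · intro _ hh
    obtain ⟨w, hw, hw', hcv⟩ := exists_cv_eq_blockCoeff hB (cl_isClass g) (hcl g) hχ₀
      (by rw [W_cl χ₀.2]; exact hg.2.2 χ₀ hχ₀)
    obtain ⟨Q⟩ : Nonempty (Sylow p (Subgroup.centralizer ({h} : Set G))) := inferInstance
    have hQp : IsPGroup p ((Q : Subgroup (Subgroup.centralizer ({h} : Set G))).map
        (Subgroup.centralizer ({h} : Set G)).subtype) := Q.2.map _
    by_cases hy : ∀ x, IsConj g x → ¬ ∀ q ∈ (Q : Subgroup (Subgroup.centralizer ({h} : Set G))).map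
        (Subgroup.centralizer ({h} : Set G)).subtype, q * x = x * q
    · exact absurd (hcv ▸ cv_cl_mem_Iloc hM _ hQp g hy hw hw' h (hcent h Q)) hh
    · push Not at hy
      obtain ⟨x, hx, hxq⟩ := hy
      obtain ⟨c, rfl⟩ := isConj_iff.mp hx
      obtain ⟨x, hx⟩ := exists_conj_sylow_centralizer_ge _ hQp g c hxq D
      exact ⟨x, Q, hx⟩
  · rintro ⟨χ, hχ, hh⟩
    obtain ⟨w, hw, hw', hcv⟩ := exists_cv_eq_blockCoeff hB (cl_isClass h) (hcl h) hχ
      (by rw [W_cl χ.2]; exact hh)
    have hDp : IsPGroup p ((D : Subgroup (Subgroup.centralizer ({g} : Set G))).map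
        (Subgroup.centralizer ({g} : Set G)).subtype) := D.2.map _
    by_cases hy : ∀ x, IsConj h x → ¬ ∀ q ∈ (D : Subgroup (Subgroup.centralizer ({g} : Set G))).map
        (Subgroup.centralizer ({g} : Set G)).subtype, q * x = x * q
    · exact absurd (hcv ▸ cv_cl_mem_Iloc hM _ hDp h hy hw hw' g (hcent g D)) hg.2.1
    · push Not at hy
      obtain ⟨x, hx, hxq⟩ := hy
      obtain ⟨c, rfl⟩ := isConj_iff.mp hx
      obtain ⟨Q, hQ⟩ := exists_sylow_centralizer_ge _ hDp h c hxq
      exact ⟨c⁻¹, Q, hQ⟩

end Cfsg.Agent.S0911
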