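import Mathlib
import Cfsg.Statements.S0959
import Cfsg.Agent.Lib.Helper2.BlockFix

set_option autoImplicit false
open Cfsg

namespace Cfsg.Agent.S0959

open Cfsg.Agent.Lib.Helper2.LocRing Cfsg.Agent.Lib.Helper2.BlockZ Cfsg.Agent.Lib.Helper2.BlockOrth
  Cfsg.Agent.Lib.Helper2.BlockFix

/-- Let B be a block of the finite group G with defect group D (relative to a maximal ideal M of the algebraic integers containing the prime p), and let P be a p-subgroup. Then there is an element g whose idempotent coefficient for B is a local integer outside the local ideal at M and which has a conjugate centralizing P, if and only if some conjugate of P is contained in D. -/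
theorem result {G : Type*} [Group G] [Finite G] (p : ℕ) [Fact p.Prime] (M : Ideal Cfsg.AlgInt) (hM : Cfsg.IsPModular p M) (B : Set (Cfsg.IrrCharacter G)) (hB : Cfsg.IsPBlock M B) (D : Subgroup G) (hD : Cfsg.IsDefectGroup p M B D) (P : Subgroup G) (hP : IsPGroup p P) : (∃ g : G, Cfsg.MemLocalRing M (Cfsg.blockCoeff B g) ∧ ¬ Cfsg.MemLocalIdeal M (Cfsg.blockCoeff B g) ∧ ∃ c : G, IsConj g c ∧ c ∈ Subgroup.centralizer (P : Set G)) ↔ ∃ x : G, P.map (MulAut.conj x).toMonoidHom ≤ D := by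
  classical
  have := Fintype.ofFinite G
  have : M.IsPrime := hM.2.1.isPrime
  obtain ⟨χ₀, hχ₀⟩ := block_nonempty hB
  obtain ⟨g₀, hg₀, S, rfl⟩ := hD
  have hcl : ∀ (y x : G), cl y x ∈ Rloc M := by
    intro y x
    unfold cl
    split_ifs
    · exact Subring.one_mem _
    · exact Subring.zero_mem _
  constructor
  · rintro ⟨g, _, hg, c, hgc, hc⟩
    obtain ⟨w, hw, hw', hcv⟩ := exists_cv_eq_blockCoeff hB (cl_isClass g₀) (hcl g₀) hχ₀
      (by rw [W_cl χ₀.2]; exact hg₀.2.2 χ₀ hχ₀)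
    have hgc' : Cfsg.blockCoeff B c = Cfsg.blockCoeff B g := by
      obtain ⟨d, rfl⟩ := isConj_iff.mp hgc
      exact blockCoeff_isClass B g d
    have hPc : ∀ q ∈ P, q * c = c * q := by
      intro q hq
      exact (Subgroup.mem_centralizer_iff.mp hc q hq)
    by_cases hy : ∀ x, IsConj g₀ x → ¬ ∀ q ∈ P, q * x = x * q
    · exact absurd (hgc' ▸ hcv ▸ cv_cl_mem_Iloc hM _ hP g₀ hy hw hw' c hPc) hg
    · push Not at hy
      obtain ⟨x, hx, hxq⟩ := hy
      obtain ⟨d, rfl⟩ := isConj_iff.mp hx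
      obtain ⟨x, hx⟩ := exists_conj_sylow_centralizer_ge _ hP g₀ d hxq S
      refine ⟨x⁻¹, ?_⟩
      rintro _ ⟨q, hq, rfl⟩
      obtain ⟨r, hr, hr'⟩ := hx hq
      have h1 : x * r * x⁻¹ = q := hr'
      change x⁻¹ * q * x⁻¹⁻¹ ∈ _
      rw [← h1]
      have h2 : x⁻¹ * (x * r * x⁻¹) * x⁻¹⁻¹ = r := by group
      rw [h2]
      exact hr
  · rintro ⟨x, hx⟩
    refine ⟨g₀, hg₀.1, hg₀.2.1, x⁻¹ * g₀ * x, ?_, ?_⟩
    · rw [isConj_iff]
      exact ⟨x⁻¹, by group⟩
    · rw [Subgroup.mem_centralizer_iff]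
      intro q hq
      obtain ⟨r, _, hr'⟩ := hx ⟨q, hq, rfl⟩
      have h1 : (r : G) = x * q * x⁻¹ := hr'
      have h2 : (r : G) * g₀ = g₀ * r := Subgroup.mem_centralizer_singleton_iff.mp r.2
      rw [h1] at h2
      calc q * (x⁻¹ * g₀ * x) = x⁻¹ * (x * q * x⁻¹ * g₀) * x := by group
        _ = x⁻¹ * (g₀ * (x * q * x⁻¹)) * x := by rw [h2]
        _ = x⁻¹ * g₀ * x * q := by group

end Cfsg.Agent.S0959
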