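import Mathlib
import Cfsg.Statements.S0917
import Cfsg.Agent.Lib.Helper2.BlockSub
import Cfsg.Agent.S0906
import Cfsg.Agent.S0911
import Cfsg.Agent.S0959

set_option autoImplicit false
open Cfsg

namespace Cfsg.Agent.S0917

open Cfsg.Agent.Lib.Helper2.LocRing Cfsg.Agent.Lib.Helper2.BlockZ Cfsg.Agent.Lib.Helper2.BlockSub

/-- Let H be a subgroup of the finite group G, p a prime and M a maximal ideal of the algebraic integers containing p. If the block b of H induces the block B of G relative to M, then every defect group of b (a subgroup of H, viewed in G) is contained in some defect group of B. -/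
theorem result {G : Type*} [Group G] [Finite G] (p : ℕ) [Fact p.Prime] (M : Ideal Cfsg.AlgInt) (hM : Cfsg.IsPModular p M) (H : Subgroup G) (b : Set (Cfsg.IrrCharacter H)) (hb : Cfsg.IsPBlock M b) (B : Set (Cfsg.IrrCharacter G)) (hB : Cfsg.IsPBlock M B) (hind : Cfsg.IsInducedBlock M H b B) (D : Subgroup H) (hD : Cfsg.IsDefectGroup p M b D) : ∃ E : Subgroup G, Cfsg.IsDefectGroup p M B E ∧ D.map H.subtype ≤ E := by
  classical
  have := Fintype.ofFinite G
  have : M.IsPrime := hM.2.1.isPrime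
  have := Fintype.ofFinite (ConjClasses H)
  obtain ⟨ξ, hξ⟩ := block_nonempty hb
  obtain ⟨χ, hχ⟩ := block_nonempty hB
  have hR := blockCoeff_mem_Rloc (M := M) B (block_closed hB)
  have h1 := induced_W hind hξ hχ (blockCoeff_isClass B) hR
  rw [W_blockCoeff, if_pos hχ] at h1
  have h2 : W (ξ : H → ℂ) (fun h : H => Cfsg.blockCoeff B h) ∉ Iloc M := by
    intro h
    apply one_notMem_Iloc (M := M)
    have := (Iloc M).sub_mem h h1
    simpa using this
  rw [W_eq_sum_classes ξ.2 (restrict_isClass H (blockCoeff_isClass B))] at h2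
  obtain ⟨L, hL⟩ : ∃ L : ConjClasses H,
      Cfsg.blockCoeff B (L.out : G) * Cfsg.centralChar (ξ : H → ℂ) L.out ∉ Iloc M := by
    by_contra hcon
    push Not at hcon
    exact h2 (Submodule.sum_mem _ fun K _ => hcon K)
  set l := L.out with hl
  have hl1 : Cfsg.blockCoeff B (l : G) ∉ Iloc M :=
    fun h => hL (mul_mem_Iloc' h (centralChar_mem_Rloc ξ _))
  have hl2 : Cfsg.centralChar (ξ : H → ℂ) l ∉ Iloc M := fun h => hL (mul_mem_Iloc (hR _) h)
  obtain ⟨y, hy, S, rfl⟩ := hD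
  obtain ⟨x, Q, hxQ⟩ := (Cfsg.Agent.S0911.result p M hM b hb y hy S l).2 ⟨ξ, hξ, hl2⟩
  obtain ⟨g₀, hg₀⟩ := Cfsg.Agent.S0906.result p M hM B hB
  obtain ⟨S₀⟩ : Nonempty (Sylow p (Subgroup.centralizer ({g₀} : Set G))) := inferInstance
  have hE₀ : Cfsg.IsDefectGroup p M B ((S₀ : Subgroup (Subgroup.centralizer ({g₀} : Set G))).map
    (Subgroup.centralizer ({g₀} : Set G)).subtype) := ⟨g₀, hg₀, S₀, rfl⟩
  set E₀ := (S₀ : Subgroup (Subgroup.centralizer ({g₀} : Set G))).map
    (Subgroup.centralizer ({g₀} : Set G)).subtype with hE₀def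
  set D := (S : Subgroup (Subgroup.centralizer ({y} : Set H))).map
    (Subgroup.centralizer ({y} : Set H)).subtype with hDdef
  have hDp : IsPGroup p D := S.2.map _
  set P := (D.map (MulAut.conj x).toMonoidHom).map H.subtype with hPdef
  have hP : IsPGroup p P := (hDp.map _).map _
  have hPl : (l : G) ∈ Subgroup.centralizer (P : Set G) := by
    rw [Subgroup.mem_centralizer_iff]
    rintro _ ⟨q, hq, rfl⟩
    obtain ⟨r, _, hr⟩ := hxQ hq
    have h3 : (r : H) * l = l * r := Subgroup.mem_centralizer_singleton_iff.mp r.2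
    have h4 : (r : H) = q := hr
    rw [h4] at h3
    exact congrArg Subtype.val h3
  obtain ⟨z, hz⟩ := (Cfsg.Agent.S0959.result p M hM B hB E₀ hE₀ P hP).1
    ⟨l, hR l, hl1, l, IsConj.refl _, hPl⟩
  refine ⟨E₀.map (MulAut.conj (z * x)⁻¹).toMonoidHom, isDefectGroup_conj hM hB hE₀ _, ?_⟩
  rintro _ ⟨d, hd, rfl⟩
  have h5 : z * ((x : G) * d * (x : G)⁻¹) * z⁻¹ ∈ E₀ := by
    apply hz
    exact ⟨_, ⟨_, ⟨d, hd, rfl⟩, rfl⟩, rfl⟩
  refine ⟨_, h5, ?_⟩
  change (z * x)⁻¹ * (z * ((x : G) * d * (x : G)⁻¹) * z⁻¹) * (z * x)⁻¹⁻¹ = d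
  group

end Cfsg.Agent.S0917
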