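import Cfsg.Statements.S0622
import Cfsg.Agent.Lib.Helper3.WS
open Cfsg.Agent.Lib.Helper3.WS Cfsg.Agent.Lib.Helper3.PLocal

set_option autoImplicit false
universe u
open Cfsg

namespace Cfsg.Agent.S0622

/-- Basic properties of the stable normal closure W(S) of Ω₁(Z(S)) in a finite p-group: characteristic, squeezed between Ω₁(Z(S)) and Ω₁(Z(J(S))), nontrivial for S ≠ 1, and transported by group isomorphisms. -/
theorem result {S : Type u} [Group S] [Finite S] {p : ℕ} [Fact p.Prime] (hS : IsPGroup p S) : (Cfsg.stableNormalClosure p S).Characteristic ∧ Cfsg.omegaOne p (Subgroup.center S) ≤ Cfsg.stableNormalClosure p S ∧ Cfsg.stableNormalClosure p S ≤ Cfsg.omegaCenterThompson p S ∧ (Nontrivial S → Cfsg.stableNormalClosure p S ≠ ⊥) ∧ ∀ (S' : Type u) [Group S'] (η : S ≃* S'), (Cfsg.stableNormalClosure p S).map η.toMonoidHom = Cfsg.stableNormalClosure p S' := by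
  refine ⟨W_characteristic p, (W_mem p).1, W_le_OZJ p, ?_, fun S' _ η => W_map_equiv p η⟩
  intro hnt hbot
  have hcn : Nontrivial (Subgroup.center S) := IsPGroup.center_nontrivial hS
  have hcp : IsPGroup p (Subgroup.center S) := hS.to_subgroup _
  obtain ⟨n, hn⟩ := IsPGroup.iff_card.1 hcp
  have hd : p ∣ Nat.card (Subgroup.center S) := by
    rw [hn]
    apply dvd_pow_self
    rintro rfl
    rw [pow_zero] at hn
    have := Finite.one_lt_card (α := Subgroup.center S)
    omega
  obtain ⟨z, hz⟩ := exists_prime_orderOf_dvd_card' (G := Subgroup.center S) p hd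
  have h1 : (z : S) ∈ Cfsg.omegaOne p (Subgroup.center S) := by
    apply Subgroup.subset_closure
    refine ⟨z.2, ?_⟩
    have : z ^ p = 1 := by rw [← hz, pow_orderOf_eq_one]
    exact congrArg Subtype.val this
  have h2 := (W_mem p).1 h1
  rw [hbot, Subgroup.mem_bot] at h2
  have h3 : z = 1 := Subtype.ext h2
  rw [h3, orderOf_one] at hz
  exact (Fact.out : p.Prime).one_lt.ne hz

end Cfsg.Agent.S0622
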