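import Mathlib
import Cfsg.Statements.S0754

set_option autoImplicit false
open Cfsg

namespace Cfsg.Agent.S0754


/-- In a field F with q^2 elements, every non-zero μ with μ^q = μ (that is, μ in the subfield of order q) has exactly q + 1 solutions λ of λ^(q+1) = μ. -/
theorem result {F : Type*} [Field F] [Fintype F] {q : ℕ} (hF : Fintype.card F = q ^ 2) (μ : F) (hμ : μ ≠ 0) (hμq : μ ^ q = μ) : Nat.card {x : F // x ^ (q + 1) = μ} = q + 1 := by
  classical
  have hq2 : 2 ≤ q := by
    have h1 : 1 < Fintype.card F := Fintype.one_lt_card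
    rw [hF] at h1
    by_contra hlt
    have : q ≤ 1 := by omega
    have : q ^ 2 ≤ 1 ^ 2 := Nat.pow_le_pow_left this 2
    omega
  have hcard : Nat.card Fˣ = q ^ 2 - 1 := by
    rw [Nat.card_eq_fintype_card, Fintype.card_units, hF]
  have hfac : q ^ 2 - 1 = (q - 1) * (q + 1) := by
    obtain ⟨r, rfl⟩ : ∃ r, q = r + 1 := ⟨q - 1, by omega⟩
    simp only [Nat.add_sub_cancel]
    have : (r + 1) ^ 2 = r * (r + 1 + 1) + 1 := by ring
    omega
  let N : Fˣ →* Fˣ := powMonoidHom (q + 1)
  let K : Fˣ →* Fˣ := powMonoidHom (q - 1)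
  have hkerN : Nat.card N.ker = q + 1 := by
    rw [IsCyclic.card_powMonoidHom_ker, hcard, hfac]
    exact Nat.gcd_eq_right (Dvd.intro_left _ rfl)
  have hranN : Nat.card N.range = q - 1 := by
    rw [IsCyclic.card_powMonoidHom_range, hcard, hfac, Nat.gcd_eq_right (Dvd.intro_left _ rfl)]
    exact Nat.mul_div_cancel _ (by omega)
  have hkerK : Nat.card K.ker = q - 1 := by
    rw [IsCyclic.card_powMonoidHom_ker, hcard, hfac]
    exact Nat.gcd_eq_right (Dvd.intro _ rfl)
  have hle : N.range ≤ K.ker := by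
    rintro _ ⟨x, rfl⟩
    rw [MonoidHom.mem_ker]
    show (x ^ (q + 1)) ^ (q - 1) = 1
    rw [← pow_mul, mul_comm, ← hfac, ← hcard]
    exact pow_card_eq_one'
  have heq : N.range = K.ker := Subgroup.eq_of_le_of_card_ge hle (by rw [hranN, hkerK])
  have hu : Units.mk0 μ hμ ∈ N.range := by
    rw [heq, MonoidHom.mem_ker]
    show (Units.mk0 μ hμ) ^ (q - 1) = 1
    apply Units.ext
    simp only [Units.val_pow_eq_pow_val, Units.val_mk0, Units.val_one]
    have h1 : μ ^ (q - 1) * μ = 1 * μ := by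
      rw [← pow_succ, one_mul, Nat.sub_add_cancel (by omega), hμq]
    exact mul_right_cancel₀ hμ h1
  obtain ⟨x0, hx0⟩ := hu
  have hx0' : (x0 : F) ^ (q + 1) = μ := by
    have := congrArg Units.val hx0
    simpa [N] using this
  refine Eq.trans (Eq.symm ?_) hkerN
  let f : N.ker → {x : F // x ^ (q + 1) = μ} := fun k => ⟨((k : Fˣ) * x0 : Fˣ), by
    have hk : ((k : Fˣ) : F) ^ (q + 1) = 1 := by
      have := congrArg Units.val (MonoidHom.mem_ker.mp k.2)
      simpa [N] using this
    rw [Units.val_mul, mul_pow, hk, hx0', one_mul]⟩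
  apply Nat.card_congr (Equiv.ofBijective f ⟨?_, ?_⟩)
  · intro a b hab
    have h1 : (((a : Fˣ) * x0 : Fˣ) : F) = (((b : Fˣ) * x0 : Fˣ) : F) := congrArg Subtype.val hab
    exact Subtype.ext (mul_right_cancel (Units.ext h1))
  · rintro ⟨x, hx⟩
    have hxne : x ≠ 0 := by
      rintro rfl
      apply hμ
      rw [← hx]; simp
    refine ⟨⟨Units.mk0 x hxne * x0⁻¹, ?_⟩, ?_⟩
    · rw [MonoidHom.mem_ker]
      show (Units.mk0 x hxne * x0⁻¹) ^ (q + 1) = 1
      apply Units.ext
      simp only [Units.val_pow_eq_pow_val, Units.val_mul, Units.val_mk0, Units.val_one, mul_pow, hx,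
        Units.val_inv_eq_inv_val, inv_pow, hx0']
      exact mul_inv_cancel₀ hμ
    · apply Subtype.ext
      simp [f]

end Cfsg.Agent.S0754
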