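import Mathlib
import Cfsg.Statements.S0755
import Cfsg.Agent.Lib.Helper5.OrthoFam
import Cfsg.Agent.S0753

set_option autoImplicit false
open Cfsg

namespace Cfsg.Agent.S0755

open Cfsg.Agent.Lib.Helper5.OrthoFam

theorem norm_surj {F : Type*} [Field F] [Finite F] (σ : F →+* F) (hσ : σ ≠ RingHom.id F)
    (hσ2 : ∀ a : F, σ (σ a) = a) (d : F) (hd : d ≠ 0) (hfix : σ d = d) : ∃ l : F, l * σ l = d := by
  classical
  let σu : Fˣ →* Fˣ := Units.map (σ : F →* F)
  have hσu : ∀ x : Fˣ, ((σu x : Fˣ) : F) = σ (x : F) := fun x => rfl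
  let N : Fˣ →* Fˣ := MonoidHom.id Fˣ * σu
  let φ : Fˣ →* Fˣ := MonoidHom.id Fˣ * σu⁻¹
  have hN : ∀ x, N x = x * σu x := fun x => rfl
  have hφ : ∀ x, φ x = x * (σu x)⁻¹ := fun x => rfl
  have h1 : N.ker ≤ φ.range := by
    intro x hx
    rw [MonoidHom.mem_ker, hN] at hx
    have hx' : (x : F) * σ (x : F) = 1 := by
      have := congrArg Units.val hx
      simpa [hσu] using this
    obtain ⟨a, ha⟩ : ∃ a : F, a + (x : F) * σ a ≠ 0 := by
      by_cases hx1 : (x : F) = -1
      · have : ∃ a, σ a ≠ a := by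
          by_contra hcon
          push Not at hcon
          exact hσ (RingHom.ext hcon)
        obtain ⟨a, ha⟩ := this
        refine ⟨a, ?_⟩
        rw [hx1]
        intro h
        apply ha
        linear_combination -h
      · refine ⟨1, ?_⟩
        rw [map_one, mul_one]
        intro h
        apply hx1
        linear_combination h
    have hy : (x : F) * σ (a + (x : F) * σ a) = a + (x : F) * σ a := by
      rw [map_add, map_mul, hσ2]
      linear_combination a * hx'
    refine ⟨Units.mk0 _ ha, ?_⟩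
    rw [hφ, mul_inv_eq_iff_eq_mul]
    apply Units.ext
    rw [Units.val_mul, hσu, Units.val_mk0, hy]
  have h2 : N.range ≤ φ.ker := by
    rintro _ ⟨x, rfl⟩
    rw [MonoidHom.mem_ker, hφ, mul_inv_eq_one, hN]
    apply Units.ext
    rw [hσu, Units.val_mul, hσu, map_mul, hσ2, mul_comm]
  have c1 : Nat.card N.ker * Nat.card N.range = Nat.card Fˣ := by
    rw [← Subgroup.index_ker, Subgroup.card_mul_index]
  have c2 : Nat.card φ.ker * Nat.card φ.range = Nat.card Fˣ := by
    rw [← Subgroup.index_ker, Subgroup.card_mul_index]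
  have c3 : Nat.card N.ker ≤ Nat.card φ.range := Subgroup.card_le_of_le h1
  have c4 : 0 < Nat.card N.ker := Nat.card_pos
  have c5 : Nat.card φ.ker ≤ Nat.card N.range := by
    have : Nat.card φ.ker * Nat.card N.ker ≤ Nat.card N.range * Nat.card N.ker := by
      calc Nat.card φ.ker * Nat.card N.ker ≤ Nat.card φ.ker * Nat.card φ.range :=
            Nat.mul_le_mul_left _ c3
        _ = Nat.card N.range * Nat.card N.ker := by rw [c2, ← c1, mul_comm]
    exact Nat.le_of_mul_le_mul_right this c4
  have heq : N.range = φ.ker := Subgroup.eq_of_le_of_card_ge h2 c5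
  have hdmem : Units.mk0 d hd ∈ N.range := by
    rw [heq, MonoidHom.mem_ker, hφ, mul_inv_eq_one]
    apply Units.ext
    rw [hσu, Units.val_mk0, hfix]
  obtain ⟨l, hl⟩ := hdmem
  refine ⟨(l : F), ?_⟩
  have := congrArg Units.val hl
  simpa [hN, hσu] using this


/-- Classification of Hermitian forms over finite fields: if σ is a non-identity involutive automorphism of the finite field F and B is a non-degenerate conjugate-symmetric σ-sesquilinear form on the finite-dimensional space V, then V has a B-orthonormal basis. -/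
theorem result {F V : Type*} [Field F] [Finite F] [AddCommGroup V] [Module F V] [FiniteDimensional F V] (σ : F →+* F) (hσ : σ ≠ RingHom.id F) (hσ2 : ∀ a : F, σ (σ a) = a) (B : V →ₛₗ[σ] V →ₗ[F] F) (hS : B.IsSymm) (hB : B.Nondegenerate) : ∃ b : Module.Basis (Fin (Module.finrank F V)) F V, ∀ i j, B (b i) (b j) = if i = j then 1 else 0 := by
  classical
  have hS' : ∀ x y, σ (B x y) = B y x := LinearMap.isSymm_def.mp hS
  have hpol : ∀ W : Submodule F V, (∀ w ∈ W, B w w = 0) → ∀ x ∈ W, ∀ y ∈ W, B x y = 0 := by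
    intro W hW x hx y hy
    have h0 := Cfsg.Agent.S0753.result σ hσ (B.domRestrict₁₂ W W) (hS.domRestrict W)
      (fun v => hW v v.2)
    have h2 := congrArg (fun C => C ⟨x, hx⟩ ⟨y, hy⟩) h0
    exact h2
  have key : ∀ k, k ≤ Module.finrank F V →
      ∃ c : Fin k → V, ∀ i j, B (c i) (c j) = if i = j then 1 else 0 := by
    intro k
    induction k with
    | zero => intro _; exact ⟨Fin.elim0, fun i => i.elim0⟩
    | succ k ih =>
      intro hk
      obtain ⟨c, hc⟩ := ih (by omega)
      have hOF : IsOF B c := ⟨fun i j hij => by rw [hc, if_neg hij],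
        fun i => by rw [hc, if_pos rfl]; exact one_ne_zero⟩
      obtain ⟨w, hw, hww⟩ := exists_aniso hS hB hpol hOF (by omega)
      obtain ⟨l, hl⟩ := norm_surj σ hσ hσ2 (B w w)⁻¹ (inv_ne_zero hww) (by rw [map_inv₀, hS'])
      have hcv : ∀ i, B (c i) (l • w) = 0 := by
        intro i
        simp [hw i]
      have hvv : B (l • w) (l • w) = 1 := by
        rw [map_smul, map_smulₛₗ, LinearMap.smul_apply, smul_eq_mul, smul_eq_mul, ← mul_assoc,
          hl, inv_mul_cancel₀ hww]
      refine ⟨Fin.snoc c (l • w), ?_⟩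
      intro i j
      refine Fin.lastCases ?_ (fun i => ?_) i <;> refine Fin.lastCases ?_ (fun j => ?_) j
      · simpa using hvv
      · simpa [(Fin.castSucc_lt_last j).ne'] using swap_zero hS (hcv j)
      · simpa [(Fin.castSucc_lt_last i).ne] using hcv i
      · simpa using hc i j
  obtain ⟨c, hc⟩ := key _ le_rfl
  have hOF : IsOF B c := ⟨fun i j hij => by rw [hc, if_neg hij],
    fun i => by rw [hc, if_pos rfl]; exact one_ne_zero⟩
  obtain ⟨b, hb⟩ := exists_basis_of_isOF hOF rfl
  refine ⟨b, ?_⟩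
  intro i j
  rw [hb, hb, hc]

end Cfsg.Agent.S0755
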