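import Mathlib
import Cfsg.Statements.S4244
import Cfsg.Agent.Lib.Helper2.Index

set_option autoImplicit false
open Cfsg
open Cfsg.Agent.Lib.Helper2.Index

namespace Cfsg.Agent.S4244

theorem result {G : Type*} [Group G] [Finite G] (H : Subgroup G) (hH : H.IsSubnormal) (K : Subgroup G) :
    (H ⊓ K).relIndex H ∣ K.index := by
  rw [Subgroup.inf_relIndex_left]
  induction hH with
  | top => rw [Subgroup.relIndex_top_right]
  | step H L hle _ hN ih =>
    refine dvd_trans ?_ ih
    have h1 := relIndex_normal_dvd_index (H.subgroupOf L) (K.subgroupOf L)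
    rw [Subgroup.relIndex_subgroupOf hle] at h1
    exact h1

end Cfsg.Agent.S4244
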