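import Mathlib
import Cfsg.Statements.S4341
import Cfsg.Agent.Lib.Helper2.SylowNumber
import Cfsg.Agent.S0542

set_option autoImplicit false
open Cfsg

namespace Cfsg.Agent.S4341

open Cfsg.Agent.Lib.Helper2.SylowNumber Cfsg.Agent.Lib.Helper2.Index

theorem result {G : Type*} [Group G] [Finite G]
    (p : ℕ) [Fact p.Prime] (K : Subgroup G) [K.Normal] (P : Sylow p G) (N : Subgroup G)
    (hN : N = ((P : Subgroup G) ⊔ K) ⊓ Subgroup.normalizer (((P : Subgroup G) ⊓ K : Subgroup G) : Set G))
    [hn : (((P : Subgroup G) ⊓ K).subgroupOf N).Normal] :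
    Nat.card (Sylow p G) =
      Nat.card (Sylow p (G ⧸ K)) * Nat.card (Sylow p K) * Nat.card (Sylow p (N ⧸ ((P : Subgroup G) ⊓ K).subgroupOf N)) := by
  have hKn : K.Normal := inferInstance
  set L := (P : Subgroup G) ⊔ K with hL
  set Q' := (P : Subgroup G) ⊓ K with hQ'
  set NP := Subgroup.normalizer ((P : Subgroup G) : Set G) with hNP
  have hPL : (P : Subgroup G) ≤ L := le_sup_left
  have hKL : K ≤ L := le_sup_right
  have hNPQ : NP ≤ Subgroup.normalizer (Q' : Set G) := by
    rw [Subgroup.le_normalizer_iff]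
    intro g hg x hx
    exact Subgroup.mem_inf.mpr ⟨(Subgroup.le_normalizer_iff.mp (le_refl NP)) g hg x hx.1,
      hKn.conj_mem x hx.2 g⟩
  have hPN : (P : Subgroup G) ≤ N := by
    rw [hN]; exact le_inf hPL (Subgroup.le_normalizer.trans hNPQ)
  have hNL : N ≤ L := by rw [hN]; exact inf_le_left
  have e1 := card_sylow_eq_mul K P
  have e2 := card_sylow_eq_relIndex P L hPL
  have e3 := card_sylow_eq_relIndex P N hPN
  have e4 : NP.relIndex N * N.relIndex L = NP.relIndex L := by
    have h1 : NP ⊓ L ≤ N := by rw [hN]; exact le_inf inf_le_right (inf_le_left.trans hNPQ)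
    have h2 := Subgroup.relIndex_mul_relIndex (NP ⊓ L) N L h1 hNL
    rw [Subgroup.inf_relIndex_right] at h2
    have h3 : (NP ⊓ L).relIndex N = NP.relIndex N := by
      rw [← Subgroup.inf_relIndex_right (NP ⊓ L) N, inf_assoc, inf_of_le_right hNL,
        Subgroup.inf_relIndex_right]
    rw [h3] at h2
    exact h2
  obtain ⟨Q, hQ⟩ := Cfsg.Agent.S0542.result p K hKn.isSubnormal P
  have hQmap : (Q : Subgroup K).map K.subtype = Q' := by
    rw [hQ, Subgroup.subgroupOf_map_subtype]
  have e5 : N.relIndex L = Nat.card (Sylow p K) := by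
    rw [card_sylow_eq_relIndex' K Q, hQmap, hN, Subgroup.inf_relIndex_left]
    have h1 := relIndex_normalizer_eq K L hKL (by rw [Subgroup.normalizer_eq_top]; exact le_top) Q
    rw [hQmap] at h1
    exact h1
  have e6 : Nat.card (Sylow p N) = Nat.card (Sylow p (N ⧸ Q'.subgroupOf N)) := by
    have h1 := card_sylow_eq_mul (Q'.subgroupOf N) (P.subtype hPN)
    have h2 : ((P.subtype hPN : Sylow p N) : Subgroup N) ⊔ Q'.subgroupOf N
        = ((P.subtype hPN : Sylow p N) : Subgroup N) := by
      rw [sup_eq_left, Sylow.coe_subtype]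
      exact Subgroup.subgroupOf_mono N inf_le_left
    have h3 : Nat.card (Sylow p (((P.subtype hPN : Sylow p N) : Subgroup N) ⊔ Q'.subgroupOf N : Subgroup N)) = 1 := by
      rw [card_sylow_eq_relIndex (P.subtype hPN) _ le_sup_left, h2, Subgroup.relIndex_eq_one]
      exact Subgroup.le_normalizer
    rw [h3, mul_one] at h1
    exact h1
  rw [e1, e2, ← e4, ← e3, e5, e6]
  ring

end Cfsg.Agent.S4341
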