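import Mathlib
import Cfsg.Statements.S4343
import Cfsg.Agent.Lib.Helper2.SylowUtil
import Cfsg.Agent.Lib.Helper2.Basic

set_option autoImplicit false
open Cfsg

namespace Cfsg.Agent.S4343

open scoped Pointwise
open Cfsg.Agent.Lib.Helper2.Conj Cfsg.Agent.Lib.Helper2.SylowUtil Cfsg.Agent.Lib.Helper2.Basic

theorem not_normal {S : Type*} [Group S] [Finite S]
    [IsSimpleGroup S] (hS : ¬ IsMulCommutative S) (p : ℕ) [Fact p.Prime] (hp : p ∣ Nat.card S)
    (R : Sylow p S) : ¬ (R : Subgroup S).Normal := by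
  intro hR
  rcases hR.eq_bot_or_eq_top with h | h
  · have h1 := R.dvd_card_of_dvd_card hp
    have h2 : Nat.card (R : Subgroup S) = 1 := by rw [h]; exact Subgroup.card_bot
    have h3 : Nat.card R = 1 := h2
    rw [h3] at h1
    exact (Fact.out : p.Prime).one_lt.ne' (Nat.dvd_one.mp h1)
  · apply hS
    have hpg : IsPGroup p S := by
      have := R.isPGroup'
      rw [h] at this
      exact this.of_equiv Subgroup.topEquiv
    have hc := hpg.center_nontrivial
    rcases (inferInstance : (Subgroup.center S).Normal).eq_bot_or_eq_top with h1 | h1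
    · exact absurd h1 ((Subgroup.nontrivial_iff_ne_bot _).mp hc)
    · refine ⟨⟨fun a b => ?_⟩⟩
      have hb : b ∈ Subgroup.center S := h1 ▸ Subgroup.mem_top b
      exact Subgroup.mem_center_iff.mp hb a

theorem relIndex_eq {S : Type*} [Group S] [Finite S] (p : ℕ) [Fact p.Prime]
    (hn : Nat.card (Sylow p S) < p ^ 2) (R1 R2 : Sylow p S) (hne : R1 ≠ R2) :
    (R2 : Subgroup S).relIndex R1 = p := by
  have hp : p.Prime := Fact.out
  have h1 := relIndex_le_card_sylow (R1 : Subgroup S) R1.isPGroup' R2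
  obtain ⟨k, hk⟩ := IsPGroup.iff_card.mp R1.isPGroup'
  have h2 : (R2 : Subgroup S).relIndex R1 ∣ p ^ k := hk ▸ Subgroup.relIndex_dvd_card _ _
  obtain ⟨j, _, hj⟩ := (Nat.dvd_prime_pow hp).mp h2
  have hj2 : j < 2 := by
    by_contra hc
    push Not at hc
    have := Nat.pow_le_pow_right hp.pos hc
    omega
  have hj0 : j ≠ 0 := by
    rintro rfl
    rw [pow_zero, Subgroup.relIndex_eq_one] at hj
    exact hne (Sylow.ext (R1.3 R2.2 hj).symm)
  have : j = 1 := by omega
  rw [hj, this, pow_one]

theorem le_normalizer_inf {S : Type*} [Group S] [Finite S] (p : ℕ) [Fact p.Prime]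
    (R1 R2 : Sylow p S) (h : (R2 : Subgroup S).relIndex R1 = p) :
    (R1 : Subgroup S) ≤ Subgroup.normalizer (((R1 : Subgroup S) ⊓ R2 : Subgroup S) : Set S) := by
  have hp : p.Prime := Fact.out
  rw [← Subgroup.normal_subgroupOf_iff_le_normalizer inf_le_left]
  apply Subgroup.normal_of_index_eq_minFac_card
  have h1 : (((R1 : Subgroup S) ⊓ R2).subgroupOf R1).index = p := by
    rw [← Subgroup.relIndex, Subgroup.inf_relIndex_left, h]
  rw [h1]
  obtain ⟨k, hk⟩ := IsPGroup.iff_card.mp R1.isPGroup'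
  rw [hk]
  have hk0 : k ≠ 0 := by
    rintro rfl
    have h2 : (R2 : Subgroup S).relIndex R1 ∣ Nat.card (R1 : Subgroup S) := Subgroup.relIndex_dvd_card _ _
    rw [h, hk, pow_zero] at h2
    exact hp.one_lt.ne' (Nat.dvd_one.mp h2)
  exact (hp.pow_minFac hk0).symm

theorem result {S : Type*} [Group S] [Finite S]
    [IsSimpleGroup S] (hS : ¬ IsMulCommutative S) (p : ℕ) [Fact p.Prime] (hp : p ∣ Nat.card S)
    (hn : Nat.card (Sylow p S) < p ^ 2) (P : Sylow p S) : Nat.card P = p := by
  have hpp : p.Prime := Fact.out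
  -- a second Sylow subgroup
  obtain ⟨Q, hQ⟩ : ∃ Q : Sylow p S, Q ≠ P := by
    by_contra hcon
    push Not at hcon
    apply not_normal hS p hp P
    rw [← Subgroup.normalizer_eq_top_iff, eq_top_iff]
    intro g _
    exact Sylow.smul_eq_iff_mem_normalizer.mp (hcon (g • P))
  set D : Subgroup S := (P : Subgroup S) ⊓ Q with hD
  have hPQ := relIndex_eq p hn P Q hQ.symm
  have hQP := relIndex_eq p hn Q P hQ
  have hPN := le_normalizer_inf p P Q hPQ
  have hQN : (Q : Subgroup S) ≤ Subgroup.normalizer (D : Set S) := by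
    have := le_normalizer_inf p Q P hQP
    rwa [inf_comm] at this
  have hcardD : Nat.card D * p = Nat.card (Q : Subgroup S) := by
    have := card_inf_mul_relIndex (P : Subgroup S) (Q : Subgroup S)
    rwa [hQP] at this
  have key : ∀ R : Sylow p S, D ≤ R := by
    intro R
    obtain ⟨n, hnN, hle⟩ := exists_conj_le_in (Subgroup.normalizer (D : Set S)) P hPN
      ((R : Subgroup S) ⊓ Subgroup.normalizer (D : Set S)) (R.isPGroup'.to_le inf_le_left) inf_le_right
    have h1 : ((n • R : Sylow p S) : Subgroup S) ⊓ Q ≤ D := by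
      intro x hx
      refine Subgroup.mem_inf.mpr ⟨hle ?_, hx.2⟩
      have hx1 : x ∈ ((n • R : Sylow p S) : Subgroup S) := hx.1
      rw [Sylow.coe_subgroup_smul, mem_conj_smul] at hx1
      rw [mem_conj_smul]
      exact Subgroup.mem_inf.mpr ⟨hx1, mul_mem (mul_mem (inv_mem hnN) (hQN hx.2)) hnN⟩
    have hne : Q ≠ n • R := by
      intro he
      rw [← he, inf_idem] at h1
      exact hQ (Sylow.ext (Q.3 P.2 (h1.trans inf_le_left)).symm)
    have h2 := relIndex_eq p hn Q (n • R) hne
    have h3 := card_inf_mul_relIndex ((n • R : Sylow p S) : Subgroup S) (Q : Subgroup S)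
    rw [h2, ← hcardD] at h3
    have h4 : Nat.card D ≤ Nat.card (((n • R : Sylow p S) : Subgroup S) ⊓ Q : Subgroup S) :=
      (Nat.eq_of_mul_eq_mul_right hpp.pos h3).ge
    have h5 := Subgroup.eq_of_le_of_card_ge h1 h4
    have h6 : D ≤ MulAut.conj n • (R : Subgroup S) := by
      rw [← h5]; exact inf_le_left
    have h7 := conj_smul_mono (g := n⁻¹) h6
    rw [conj_inv_smul_smul, conj_smul_eq_iff_mem_normalizer.mpr (inv_mem hnN)] at h7
    exact h7
  have hcore : D ≤ (P : Subgroup S).normalCore := by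
    intro d hd b
    have := key (b⁻¹ • P) hd
    rw [Sylow.coe_subgroup_smul, mem_conj_smul] at this
    simpa using this
  have hDbot : D = ⊥ := by
    rcases (inferInstance : ((P : Subgroup S).normalCore).Normal).eq_bot_or_eq_top with h | h
    · exact le_bot_iff.mp (h ▸ hcore)
    · exfalso
      apply not_normal hS p hp P
      have : (P : Subgroup S) = ⊤ := top_le_iff.mp (h ▸ Subgroup.normalCore_le _)
      rw [this]; infer_instance
  have h8 := card_inf_mul_relIndex (Q : Subgroup S) (P : Subgroup S)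
  rw [hPQ, inf_comm, ← hD, hDbot, Subgroup.card_bot, one_mul] at h8
  exact h8.symm

end Cfsg.Agent.S4343
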