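import Cfsg.Statements.S2838
import Mathlib
import Cfsg.Agent.Lib.Helper6.WClosed

set_option autoImplicit false
open Cfsg

namespace Cfsg.Agent.S2838

open Cfsg.Agent.Lib.Helper6.Basic Cfsg.Agent.Lib.Helper6.Subn Cfsg.Agent.Lib.Helper6.Quasi Cfsg.Agent.Lib.Helper6.Comp Cfsg.Agent.Lib.Helper6.Rad Cfsg.Agent.Lib.Helper6.Nil Cfsg.Agent.Lib.Helper6.FStar Cfsg.Agent.Lib.Helper6.FStar2 Cfsg.Agent.Lib.Helper6.PAct Cfsg.Agent.Lib.Helper6.CharP Cfsg.Agent.Lib.Helper6.Ores Cfsg.Agent.Lib.Helper6.Trace Cfsg.Agent.Lib.Helper6.PRed Cfsg.Agent.Lib.Helper6.WClosed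
open scoped commutatorElement Pointwise

/-- For a nontrivial p-subgroup Q of a finite group H the following are equivalent: Q is a weakly closed subgroup (it is the only H-conjugate of itself inside some Sylow p-subgroup containing it); Q = P for every conjugate P of Q with [Q, P] ≤ Q ∩ P; Q is normal in N_H(R) for every p-subgroup R of H containing Q. -/
theorem result {H : Type*} [Group H] [Finite H] {p : ℕ} [Fact p.Prime] (Q : Subgroup H) (hQp : IsPGroup p ↥Q) (hQ1 : Q ≠ ⊥) : (Cfsg.IsWeaklyClosedSubgroup p Q ↔ ∀ g : H, ⁅Q, ((Q : Subgroup H).map (MulAut.conj (g : H)).toMonoidHom)⁆ ≤ Q ⊓ ((Q : Subgroup H).map (MulAut.conj (g : H)).toMonoidHom) → ((Q : Subgroup H).map (MulAut.conj (g : H)).toMonoidHom) = Q) ∧ (Cfsg.IsWeaklyClosedSubgroup p Q ↔ ∀ R : Subgroup H, IsPGroup p ↥R → Q ≤ R → Subgroup.normalizer ((R : Subgroup H) : Set H) ≤ Subgroup.normalizer ((Q : Subgroup H) : Set H)) := by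
  rw [wc_top_bridge hQp]
  obtain ⟨T, hQT⟩ := hQp.exists_le_sylow
  have hT := syl_of_sylow T
  refine ⟨⟨?_, ?_⟩, ⟨?_, ?_⟩⟩
  · intro h g hc
    have hQN : Q ≤ Nz (cj g Q) := le_Nz_iff_comm_le.mpr (hc.trans inf_le_right)
    exact h (cj g Q ⊔ Q) ((isPGroup_cj hQp g).to_sup_of_normal_left' hQp hQN) le_top le_sup_right g
      (Subgroup.mem_top g) le_sup_left
  · intro h
    have key : ∀ g : H, cj g Q ≤ T → (T : Subgroup H) ≤ Nz (cj g Q) := by
      intro g hg
      by_contra hcon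
      have hlt : (T : Subgroup H) ⊓ Nz (cj g Q) < T :=
        lt_of_le_of_ne inf_le_left fun he => hcon (inf_eq_left.mp he)
      obtain ⟨t, htT, htN, htNN⟩ := exists_mem_Nz_of_lt hT.isPGroup.isNilpotent hlt
      have hPN : cj g Q ≤ (T : Subgroup H) ⊓ Nz (cj g Q) := le_inf hg Subgroup.le_normalizer
      have hcN : cj t ((T : Subgroup H) ⊓ Nz (cj g Q)) = (T : Subgroup H) ⊓ Nz (cj g Q) :=
        cj_eq_self_iff.mpr htNN
      have h1 : cj t (cj g Q) ≤ Nz (cj g Q) := by
        have := cj_mono (g := t) hPN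
        rw [hcN] at this
        exact this.trans inf_le_right
      have h2 : cj g Q ≤ Nz (cj t (cj g Q)) := by
        have h3 : cj t ((T : Subgroup H) ⊓ Nz (cj g Q)) ≤ cj t (Nz (cj g Q)) := cj_mono inf_le_right
        rw [hcN, cj_normalizer] at h3
        exact hPN.trans h3
      have e : cj t (cj g Q) = cj g (cj (g⁻¹ * t * g) Q) := by
        rw [cj_cj, cj_cj]; congr 1; group
      have h4 : cj (g⁻¹ * t * g) Q = Q := by
        apply h
        rw [← cj_le_cj_iff (g := g), cj_comm, cj_inf, ← e]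
        exact le_inf (comm_le_of_Nz' le_rfl h1) (comm_le_of_Nz h2 le_rfl)
      apply htN
      have h5 : t ∈ Nz (cj g Q) := by rw [← cj_eq_self_iff, e, h4]
      exact ⟨htT, h5⟩
    apply wc_of_syl hT
    intro g _ hg
    apply h
    have h1 := key g hg
    have h2 := key 1 (by rw [cj_one]; exact hQT)
    rw [cj_one] at h2
    exact le_inf (comm_le_of_Nz' le_rfl (hg.trans h2)) (comm_le_of_Nz (hQT.trans h1) le_rfl)
  · intro h R hR hQR
    have := h.Nz_le_Nz hR le_top hQR
    rwa [top_inf_eq] at this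
  · intro h
    apply wc_of_syl hT
    intro g _ hg
    have h1 : Nz (T : Subgroup H) ≤ Nz Q := h T hT.isPGroup hQT
    have h2 : Nz (T : Subgroup H) ≤ Nz (cj g Q) := by
      have h3 := h (cj g⁻¹ T) (isPGroup_cj hT.isPGroup _) (by rwa [← cj_le_iff])
      have h4 := cj_mono (g := g) h3
      rwa [cj_normalizer, cj_normalizer, cj_cj_inv] at h4
    have hS1 : Syl p T (Nz (cj g Q)) := hT.of_le (Subgroup.le_normalizer.trans h2) le_top
    have hS2 : Syl p (cj g T) (Nz (cj g Q)) := by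
      have h5 := hT.cj g
      rw [cj_top] at h5
      apply h5.of_le _ le_top
      have h6 := cj_mono (g := g) (Subgroup.le_normalizer.trans h1)
      rwa [cj_normalizer] at h6
    obtain ⟨y, hy, hy2⟩ := hS1.conj hS2
    have h7 : y⁻¹ * g ∈ Nz (T : Subgroup H) := by
      rw [← cj_eq_self_iff, ← cj_cj, hy2, cj_inv_cj]
    have h8 := cj_eq_self_iff.mpr (h1 h7)
    rw [← cj_cj, cj_eq_self_iff.mpr (Subgroup.inv_mem _ hy)] at h8
    exact h8

end Cfsg.Agent.S2838
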