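import Cfsg.Statements.S0013
import Cfsg.Agent.Lib.Helper1.Misc
open Cfsg.Agent.Lib.Helper1

set_option autoImplicit false
open Cfsg

namespace Cfsg.Agent.S0013

/-- In a finite p-group the Frattini subgroup is the smallest normal subgroup with elementary abelian quotient: it lies below any normal subgroup containing all commutators and all p-th powers. -/
theorem result {G : Type*} [Group G] [Finite G] (p : ℕ) [Fact p.Prime]
    (hG : IsPGroup p G) (N : Subgroup G) [N.Normal] (hcomm : commutator G ≤ N) (hpow : ∀ x : G, x ^ p ∈ N) :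
    frattini G ≤ N := by
  have hp : p.Prime := Fact.out
  intro x hx
  by_contra hxN
  obtain ⟨M, hNM, hMmax⟩ := (Set.toFinite {L : Subgroup G | N ≤ L ∧ x ∉ L}).exists_le_maximal
    (⟨le_rfl, hxN⟩ : N ∈ {L : Subgroup G | N ≤ L ∧ x ∉ L})
  have hM : IsCoatom M := by
    refine ⟨?_, ?_⟩
    · rintro rfl; exact hMmax.prop.2 (Subgroup.mem_top x)
    · intro L hL
      have hxL : x ∈ L := by
        by_contra h
        exact hL.ne (le_antisymm hL.le (hMmax.le_of_ge ⟨hNM.trans hL.le, h⟩ hL.le))
      rw [eq_top_iff]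
      intro g _
      by_contra hgL
      have hgM : g ∉ M := fun h => hgL (hL.le h)
      have hx' : x ∈ M ⊔ Subgroup.zpowers g := by
        by_contra h
        have := hMmax.le_of_ge ⟨hNM.trans le_sup_left, h⟩ le_sup_left
        exact hgM (this (Subgroup.mem_sup_right (Subgroup.mem_zpowers g)))
      have hMn : M.Normal := normal_of_commutator_le (hcomm.trans hNM)
      obtain ⟨m, hm, y, hy, hmy⟩ := Subgroup.mem_sup_of_normal_left.mp hx'
      obtain ⟨i, rfl⟩ := Subgroup.mem_zpowers_iff.mp hy
      have hgi : g ^ i ∈ L := by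
        have : g ^ i = m⁻¹ * x := by rw [← hmy]; group
        rw [this]
        exact L.mul_mem (L.inv_mem (hL.le hm)) hxL
      by_cases hdvd : (p : ℤ) ∣ i
      · obtain ⟨j, rfl⟩ := hdvd
        apply hMmax.prop.2
        rw [← hmy]
        apply M.mul_mem hm
        rw [zpow_mul, zpow_natCast]
        exact M.zpow_mem (hNM (hpow g)) j
      · obtain ⟨u, v, huv⟩ := ((Nat.prime_iff_prime_int.mp hp).coprime_iff_not_dvd).mpr hdvd
        apply hgL
        have : g = (g ^ p) ^ u * (g ^ i) ^ v := by
          rw [← zpow_natCast, ← zpow_mul, ← zpow_mul, ← zpow_add, mul_comm (p : ℤ) u, mul_comm i v, huv,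
            zpow_one]
        rw [this]
        exact L.mul_mem (L.zpow_mem (hL.le (hNM (hpow g))) u) (L.zpow_mem hgi v)
  exact hMmax.prop.2 (frattini_le_coatom hM hx)

end Cfsg.Agent.S0013
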