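import Cfsg.Statements.S2896
import Mathlib
import Cfsg.Agent.Lib.Helper6.CharP

set_option autoImplicit false
open Cfsg

namespace Cfsg.Agent.S2896

open Cfsg.Agent.Lib.Helper6.Basic Cfsg.Agent.Lib.Helper6.Subn Cfsg.Agent.Lib.Helper6.Quasi Cfsg.Agent.Lib.Helper6.Comp Cfsg.Agent.Lib.Helper6.Rad Cfsg.Agent.Lib.Helper6.Nil Cfsg.Agent.Lib.Helper6.FStar Cfsg.Agent.Lib.Helper6.FStar2 Cfsg.Agent.Lib.Helper6.PAct Cfsg.Agent.Lib.Helper6.CharP

theorem centralizer_singleton_eq {G : Type*} [Group G] (z : G) :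
    Subgroup.centralizer ({z} : Set G) = Cz (Subgroup.zpowers z) := by
  ext y
  rw [Subgroup.mem_centralizer_singleton_iff, Subgroup.mem_centralizer_iff]
  constructor
  · rintro h _ ⟨k, rfl⟩
    have hc : Commute y z := h
    exact (hc.zpow_right k).symm.eq
  · intro h
    exact (h z (Subgroup.mem_zpowers z)).symm

/-- transport of the hypothesis along conjugation -/
theorem chP_conj {G : Type*} [Group G] [Finite G] {p : ℕ} [Fact p.Prime] {z g : G}
    (h : ChP p (Subgroup.centralizer ({g⁻¹ * z * g} : Set G))) :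
    ChP p (Subgroup.centralizer ({z} : Set G)) := by
  have := h.cj g
  rw [cj_centralizer_singleton] at this
  have e : g * (g⁻¹ * z * g) * g⁻¹ = z := by group
  rwa [e] at this

theorem orderOf_conj' {G : Type*} [Group G] (g z : G) : orderOf (g⁻¹ * z * g) = orderOf z := by
  have := orderOf_injective (MulAut.conj g⁻¹).toMonoidHom (MulAut.conj g⁻¹).injective z
  simpa using this

/-- Let p be a prime dividing the order of the finite group G, S a Sylow p-subgroup of G and X a subgroup of S. (i) If some nontrivial element z of the centre of X has F*(C_G(z)) = O_p(C_G(z)), then F*(N_G(X)) = O_p(N_G(X)). (ii) G has parabolic characteristic p if and only if F*(C_G(z)) = O_p(C_G(z)) for every nontrivial z ∈ Ω₁(Z(S)). (iii) If F*(C_G(z)) = O_p(C_G(z)) for every element z of S of order p, then G has local characteristic p. -/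
theorem result {G : Type*} [Group G] [Finite G] {p : ℕ} [Fact p.Prime] (hdiv : p ∣ Nat.card G) (S : Sylow p G) (X : Subgroup G) (hX : X ≤ (S : Subgroup G)) : (∀ z : G, z ≠ 1 → z ∈ X → (∀ x ∈ X, x * z = z * x) → Cfsg.generalizedFittingSubgroup ↥(Subgroup.centralizer ({z} : Set G)) = Cfsg.pCore p ↥(Subgroup.centralizer ({z} : Set G)) → Cfsg.generalizedFittingSubgroup ↥(Subgroup.normalizer (X : Set G)) = Cfsg.pCore p ↥(Subgroup.normalizer (X : Set G))) ∧ (Cfsg.IsOfParabolicCharacteristic p G ↔ ∀ z : G, z ≠ 1 → z ∈ Cfsg.omegaOne p ((S : Subgroup G) ⊓ Subgroup.centralizer ((S : Subgroup G) : Set G)) → Cfsg.generalizedFittingSubgroup ↥(Subgroup.centralizer ({z} : Set G)) = Cfsg.pCore p ↥(Subgroup.centralizer ({z} : Set G))) ∧ ((∀ z : G, z ∈ (S : Subgroup G) → orderOf z = p → Cfsg.generalizedFittingSubgroup ↥(Subgroup.centralizer ({z} : Set G)) = Cfsg.pCore p ↥(Subgroup.centralizer ({z} : Set G))) → Cfsg.IsOfLocalCharacteristic p G) := by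
  have hSp : IsPGroup p ↥(S : Subgroup G) := S.isPGroup'
  refine ⟨?_, ?_, ?_⟩
  · intro z _ hzX hzc hF
    rw [gfit_eq_pCore_iff] at hF ⊢
    exact ChP.of_central (hSp.to_le hX) hzX (Subgroup.mem_centralizer_iff.mpr hzc) hF
  · constructor
    · intro h z hz1 hzΩ
      rw [gfit_eq_pCore_iff]
      have hzZ : z ∈ (S : Subgroup G) ⊓ Cz (S : Subgroup G) := by
        have hle : Cfsg.omegaOne p ((S : Subgroup G) ⊓ Subgroup.centralizer ((S : Subgroup G) : Set G))
            ≤ (S : Subgroup G) ⊓ Cz (S : Subgroup G) := by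
          unfold Cfsg.omegaOne
          rw [Subgroup.closure_le]
          intro x hx
          exact hx.1
        exact hle hzΩ
      have hR : IsPGroup p ↥(Subgroup.zpowers z) := hSp.to_le (Subgroup.zpowers_le.mpr hzZ.1)
      have hR1 : Subgroup.zpowers z ≠ ⊥ := Subgroup.zpowers_ne_bot.mpr hz1
      have hSC : (S : Subgroup G) ≤ Cz (Subgroup.zpowers z) :=
        le_Cz_comm.mp (Subgroup.zpowers_le.mpr hzZ.2)
      have h1 := h (Subgroup.zpowers z) hR hR1 ⟨S, hSC.trans (Cz_le_Nz _)⟩
      rw [chP_bridge] at h1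
      rw [centralizer_singleton_eq]
      exact h1.sn (SN.of_normal (Cz_le_Nz _) (Nz_le_Nz_Cz _))
    · intro h R hR hR1 hpar
      obtain ⟨T, hT⟩ := hpar
      rw [chP_bridge]
      obtain ⟨g, hg⟩ := sylow_conj S T
      have hRT : R ≤ (T : Subgroup G) := by
        have h1 : IsPGroup p ↥((T : Subgroup G) ⊔ R : Subgroup G) :=
          T.isPGroup'.to_sup_of_normal_right' hR hT
        have h2 := T.is_maximal' h1 le_sup_left
        exact h2 ▸ le_sup_right
      have hne := inf_Cz_ne_bot T.isPGroup'.isNilpotent hRT hT hR1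
      obtain ⟨z, hz, hzp⟩ := exists_orderOf_eq_prime (hR.to_le inf_le_left) hne
      have hzT : z ∈ (T : Subgroup G) ⊓ Cz (T : Subgroup G) := ⟨hRT hz.1, hz.2⟩
      have hz' : g⁻¹ * z * g ∈ (S : Subgroup G) ⊓ Cz (S : Subgroup G) := by
        rw [hg] at hzT
        have e : Cz (cj g (S : Subgroup G)) = cj g (Cz (S : Subgroup G)) := (cj_centralizer g _).symm
        rw [e, ← cj_inf, mem_cj] at hzT
        exact hzT
      have ho : orderOf (g⁻¹ * z * g) = p := by rw [orderOf_conj', hzp]
      have h1 := h (g⁻¹ * z * g) (by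
          intro h0
          rw [h0, orderOf_one] at ho
          exact (Fact.out : p.Prime).one_lt.ne ho)
        (Subgroup.subset_closure ⟨hz', by rw [← ho]; exact pow_orderOf_eq_one _⟩)
      rw [gfit_eq_pCore_iff] at h1
      exact ChP.of_central hR hz.1 (Cz_anti hRT hz.2) (chP_conj h1)
  · intro h
    refine ⟨hdiv, fun T hT hT1 => ?_⟩
    rw [chP_bridge]
    obtain ⟨g, hg⟩ := exists_le_cj_sylow hT S
    have hne := inf_Cz_ne_bot hT.isNilpotent le_rfl Subgroup.le_normalizer hT1
    obtain ⟨z, hz, hzp⟩ := exists_orderOf_eq_prime (hT.to_le inf_le_left) hne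
    have hz' : g⁻¹ * z * g ∈ (S : Subgroup G) := mem_cj.mp (hg hz.1)
    have h1 := h (g⁻¹ * z * g) hz' (by rw [orderOf_conj', hzp])
    rw [gfit_eq_pCore_iff] at h1
    exact ChP.of_central hT hz.1 hz.2 (chP_conj h1)

end Cfsg.Agent.S2896
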