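import Cfsg.Statements.S0887
import Cfsg.Agent.Lib.Helper7.All1
import Cfsg.Agent.Lib.Helper7.ProjExt3
-- import your own Cfsg.Agent.* helpers here

set_option autoImplicit false
open Cfsg
open Cfsg.Agent.Lib.Helper7.CharBasic Cfsg.Agent.Lib.Helper7.CharIrr Cfsg.Agent.Lib.Helper7.CharDecomp Cfsg.Agent.Lib.Helper7.CharComplete Cfsg.Agent.Lib.Helper7.CharOrth Cfsg.Agent.Lib.Helper7.CharInd Cfsg.Agent.Lib.Helper7.CharIntegral Cfsg.Agent.Lib.Helper7.CharBurnside Cfsg.Agent.Lib.Helper7.CharLinear Cfsg.Agent.Lib.Helper7.CharEquiv Cfsg.Agent.Lib.Helper7.CharMore Cfsg.Agent.Lib.Helper7.CharCount Cfsg.Agent.Lib.Helper7.CharMisc Cfsg.Agent.Lib.Helper7.CharMisc2 Cfsg.Agent.Lib.Helper7.CharNormal Cfsg.Agent.Lib.Helper7.CharOdd Cfsg.Agent.Lib.Helper7.CharClifford Cfsg.Agent.Lib.Helper7.CharProd Cfsg.Agent.Lib.Helper7.CharPerm Cfsg.Agent.Lib.Helper7.CharClassAlg Cfsg.Agent.Lib.Helper7.CharClassAlg2 Cfsg.Agent.Lib.Helper7.CharCentral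 Cfsg.Agent.Lib.Helper7.CharNormal2 Cfsg.Agent.Lib.Helper7.CharCliffordCorr Cfsg.Agent.Lib.Helper7.ProjExt1 Cfsg.Agent.Lib.Helper7.ProjExt2 Cfsg.Agent.Lib.Helper7.ProjExt3 Cfsg.Agent.Lib.Helper7.CharCenter
open scoped ComplexConjugate

namespace Cfsg.Agent.S0887

/-- Let N be a normal subgroup of the finite group G, χ an irreducible character of G and ϑ an irreducible character of N having nonzero inner product with the restriction of χ. If χ 1 = c and ϑ 1 = d as natural numbers, then d divides c and c / d divides the index of N. -/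
theorem result {G : Type*} [Group G] [Fintype G] (N : Subgroup G) [N.Normal] [Fintype N] (χ : G → ℂ) (hχ : Cfsg.IsIrrCharacter G χ) (ϑ : N → ℂ) (hϑ : Cfsg.IsIrrCharacter N ϑ) (hcon : Cfsg.classInner (fun n : N => χ n) ϑ ≠ 0) (c d : ℕ) (hc : χ 1 = c) (hd : ϑ 1 = d) : d ∣ c ∧ c / d ∣ N.index := by
  classical
  obtain ⟨T, hTdef⟩ : ∃ T : Subgroup G, T = inertia N ϑ := ⟨_, rfl⟩
  have hT : ∀ g : G, g ∈ T ↔ ∀ h : N, ϑ ⟨g * h * g⁻¹, Subgroup.Normal.conj_mem inferInstance (h : G) h.2 g⟩ = ϑ h := by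
    intro g
    rw [hTdef]
    exact mem_inertia N ϑ g
  have hHT : N ≤ T := by
    rw [hTdef]
    exact le_inertia N (IsIrrCharacter.isClassFunction hϑ)
  haveI := Fintype.ofFinite T
  obtain ⟨ψ, hψ, hψχ, hψc⟩ := exists_over_of_over N T ϑ hϑ hT hHT hχ hcon
  haveI := Fintype.ofFinite (N.subgroupOf T)
  obtain ⟨c', hc'⟩ := irr_one_eq_natCast (IsIrrCharacter.isCharacter hψ)
  have hd' : thetaT N T ϑ 1 = d := by
    rw [← hd]
    rfl
  obtain ⟨e, he1, he2⟩ := ratio_dvd_of_invariant (N.subgroupOf T) hψ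
    (isIrrCharacter_thetaT N T ϑ hϑ hHT)
    (fun g n => congrFun (conjFun_thetaT N T ϑ hT g) n)
    (by rw [classInner_thetaT N T ϑ hHT, hψc]; exact hcon) hc' hd'
  have h1 : c = T.index * c' := by
    have h2 := congrFun hψχ 1
    rw [indFun_one, hc, hc'] at h2
    exact_mod_cast h2.symm
  have hd0 : 0 < d := by
    rcases Nat.eq_zero_or_pos d with h | h
    · exfalso
      rw [h] at hd
      exact irr_one_ne_zero hϑ (by simpa using hd)
    · exact h
  have h3 : c = (T.index * e) * d := by rw [h1, he1]; ring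
  refine ⟨⟨T.index * e, by rw [h3]; ring⟩, ?_⟩
  rw [h3, Nat.mul_div_cancel _ hd0, ← Subgroup.relIndex_mul_index hHT, mul_comm]
  exact Nat.mul_dvd_mul_right he2 _

end Cfsg.Agent.S0887
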