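import Cfsg.Statements.S0027
import Cfsg.Agent.Lib.Helper1.Coprime2

set_option autoImplicit false
open Cfsg

namespace Cfsg.Agent.S0027

open scoped commutatorElement in
theorem aux {G : Type*} [Group G] [Finite G] (A K : Subgroup G) (hAK : A ≤ Subgroup.normalizer (K : Set G))
    (hcop : (Nat.card A).Coprime (Nat.card K)) (hsolv : Group.IsSolvable A ∨ Group.IsSolvable K) :
    ⁅⁅K, A⁆, A⁆ = ⁅K, A⁆ := by
  apply le_antisymm
  · exact Subgroup.commutator_mono (Cfsg.Agent.Lib.Helper1.commutator_le_of_le_normalizer hAK) le_rfl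
  · rw [Subgroup.commutator_le]
    intro k hk a ha
    obtain ⟨y, hy, c, hc, rfl⟩ :=
      Cfsg.Agent.Lib.Helper1.exists_commutator_mul_fixed A K hAK hcop hsolv k hk
    have h1 : a * c = c * a := (Subgroup.mem_centralizer_iff.mp hc.2) a ha
    have h2 : ⁅y * c, a⁆ = ⁅y, a⁆ := by
      simp only [commutatorElement_def]
      have : y * c * a * (y * c)⁻¹ * a⁻¹ = y * (c * a) * c⁻¹ * y⁻¹ * a⁻¹ := by group
      rw [this, ← h1]
      group
    rw [h2]
    exact Subgroup.commutator_mem_commutator hy ha

/-- Under coprime action the commutator subgroup with A is stable: taking the commutator with A twice gives the same subgroup as once. -/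
theorem result {G : Type*} [Group G] [Finite G] (A K : Subgroup G) (hAK : A ≤ Subgroup.normalizer (K : Set G))
    (hcop : (Nat.card A).Coprime (Nat.card K)) (hsolv : Group.IsSolvable A ∨ Group.IsSolvable K) :
    ⁅⁅K, A⁆, A⁆ = ⁅K, A⁆ := by
  exact aux A K hAK hcop hsolv

end Cfsg.Agent.S0027
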