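import Cfsg.Statements.S0039
import Cfsg.Agent.Lib.Helper1.FrobD

set_option autoImplicit false
open Cfsg

namespace Cfsg.Agent.S0039

/-- In a finite group that is a semidirect product of a normal subgroup K by a nontrivial subgroup H, H is a Frobenius complement exactly when each nonidentity element of H acts without nonidentity fixed points on K by conjugation. -/
theorem result {G : Type*} [Group G] [Finite G] (K H : Subgroup G) [K.Normal]
    (hc : Subgroup.IsComplement' K H) (hK : K ≠ ⊥) (hH : H ≠ ⊥) :
    Cfsg.IsFrobeniusComplement H ↔ ∀ h ∈ H, h ≠ 1 → K ⊓ Subgroup.centralizer {h} = ⊥ := by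
  constructor
  · intro hF h hh h1
    rw [eq_bot_iff]
    rintro k ⟨hk, hkc⟩
    rw [Subgroup.mem_bot]
    apply Cfsg.Agent.Lib.Helper1.FrobD.fix_eq_one hF (disjoint_iff.mp hc.disjoint) hh h1 hk
    exact Subgroup.mem_centralizer_iff.mp hkc h rfl
  · intro hf
    apply Cfsg.Agent.Lib.Helper1.FrobD.frob_of_fpf K H hc hK hH
    intro h hh h1 k hk hcomm
    have : k ∈ K ⊓ Subgroup.centralizer {h} := by
      refine Subgroup.mem_inf.mpr ⟨hk, ?_⟩
      rw [Subgroup.mem_centralizer_iff]
      intro z hz
      rw [Set.mem_singleton_iff] at hz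
      rw [hz]; exact hcomm
    rw [hf h hh h1] at this
    exact this

end Cfsg.Agent.S0039
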