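import Cfsg.Statements.S0079
import Cfsg.Agent.Lib.Helper1.Control

set_option autoImplicit false
open Cfsg

namespace Cfsg.Agent.S0079

/-- A nilpotent Hall subgroup has a normal complement exactly when elements of it that are conjugate in the whole group are already conjugate inside it. -/
theorem result {G : Type*} [Group G] [Finite G] (H : Subgroup G) (hH : Group.IsNilpotent H) (hHall : Nat.Coprime (Nat.card H) H.index) : (∃ N : Subgroup G, N.Normal ∧ N.IsComplement' H) ↔ ∀ x ∈ H, ∀ y ∈ H, (∃ g : G, g * x * g⁻¹ = y) → ∃ h ∈ H, h * x * h⁻¹ = y := by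
  constructor
  · rintro ⟨N, hN, hc⟩ x hx y hy ⟨g, rfl⟩
    have hd : N ⊓ H = ⊥ := disjoint_iff.mp hc.disjoint
    have hgm : g ∈ (↑(H ⊔ N) : Set G) := by
      rw [sup_comm, hc.sup_eq_top]; trivial
    rw [Subgroup.mul_normal, Set.mem_mul] at hgm
    obtain ⟨h, hh, n, hn, rfl⟩ := hgm
    refine ⟨h, hh, ?_⟩
    have h1 : n * x * n⁻¹ ∈ H := by
      have : n * x * n⁻¹ = h⁻¹ * (h * n * x * (h * n)⁻¹) * h := by group
      rw [this]
      exact H.mul_mem (H.mul_mem (H.inv_mem hh) hy) hh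
    have h2 : n * x * n⁻¹ * x⁻¹ ∈ N ⊓ H := by
      refine ⟨?_, H.mul_mem h1 (H.inv_mem hx)⟩
      have : n * x * n⁻¹ * x⁻¹ = n * (x * n⁻¹ * x⁻¹) := by group
      rw [this]
      exact N.mul_mem hn (hN.conj_mem _ (N.inv_mem hn) x)
    rw [hd, Subgroup.mem_bot, mul_inv_eq_one] at h2
    have : h * n * x * (h * n)⁻¹ = h * (n * x * n⁻¹) * h⁻¹ := by group
    rw [this, h2]
  · intro h
    exact Cfsg.Agent.Lib.Helper1.Control.nilpotent_hall_complement H hH hHall h

end Cfsg.Agent.S0079
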