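import Mathlib
import Cfsg.Statements.S0558
import Cfsg.Agent.S0079
import Cfsg.Agent.Lib.Helper1.Frobenius
import Cfsg.Agent.Lib.Lead.IndexInf

set_option autoImplicit false
open Cfsg
open Cfsg.Agent.Lib.Helper1

namespace Cfsg.Agent.S0558

theorem sylow_of_normalizer {G : Type*} [Group G] [Finite G] {p : ℕ} [hp : Fact p.Prime]
    (H S : Subgroup G) (hSp : IsPGroup p S)
    (hSc : Nat.card S = p ^ (Nat.card H).factorization p)
    (hN : Subgroup.normalizer (S : Set G) = H) : ∃ Ps : Sylow p G, (Ps : Subgroup G) = S := by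
  obtain ⟨Ps, hPs⟩ := hSp.exists_le_sylow
  refine ⟨Ps, ?_⟩
  by_contra hne
  have hlt : S < (Ps : Subgroup G) := lt_of_le_of_ne hPs (Ne.symm hne)
  have h1 := lt_inf_normalizer_of_lt Ps.isPGroup' hlt
  rw [hN] at h1
  have h2 : IsPGroup p ↥((Ps : Subgroup G) ⊓ H) := Ps.isPGroup'.to_le inf_le_left
  obtain ⟨k, hk⟩ := IsPGroup.iff_card.mp h2
  have h3 := Subgroup.card_dvd_of_le (inf_le_right : (Ps : Subgroup G) ⊓ H ≤ H)
  rw [hk] at h3
  have h4 := (hp.out.pow_dvd_iff_le_factorization Nat.card_pos.ne').mp h3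
  have h5 := card_lt_of_lt h1
  rw [hSc, hk] at h5
  exact absurd (Nat.pow_le_pow_right hp.out.pos h4) (not_le.2 h5)

/-- statement -/
theorem result {G : Type*} [Group G] [Finite G] (H : Subgroup G) (hnot : ∀ p : ℕ, p.Prime → ∀ P : Sylow p G, (P : Subgroup G) ≠ H) (hnorm : ∀ p : ℕ, p.Prime → p ∣ Nat.card H → ∀ P : Sylow p H, Subgroup.normalizer (((P : Subgroup H).map H.subtype : Subgroup G) : Set G) = H) : ∃ N : Subgroup G, N.Normal ∧ Subgroup.IsComplement' N H := by
  classical
  have hS : ∀ p : ℕ, p.Prime → ∃ S : Subgroup G, S ≤ H ∧ IsPGroup p S ∧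
      Nat.card S = p ^ (Nat.card H).factorization p ∧ H ≤ Subgroup.normalizer (S : Set G) ∧
      (p ∣ Nat.card H → Subgroup.normalizer (S : Set G) = H) := by
    intro p hp
    haveI := Fact.mk hp
    obtain ⟨P⟩ : Nonempty (Sylow p H) := inferInstance
    refine ⟨(P : Subgroup H).map H.subtype, Subgroup.map_subtype_le _, P.isPGroup'.map _, ?_, ?_,
      fun h => hnorm p hp h P⟩
    · rw [Subgroup.card_map_of_injective H.subtype_injective, P.card_eq_multiplicity]
    · by_cases h : p ∣ Nat.card H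
      · rw [hnorm p hp h P]
      · have h1 : (P : Subgroup H) = ⊥ := by
          rw [← Subgroup.card_eq_one, P.card_eq_multiplicity,
            Nat.factorization_eq_zero_of_not_dvd h, pow_zero]
        rw [h1, Subgroup.map_bot]
        intro x _
        rw [Subgroup.mem_normalizer_iff]
        intro y
        simp
  choose! S hSH hSp hSc hSn hSN using hS
  have hcomm : ∀ p q, p.Prime → q.Prime → p ≠ q → ∀ a ∈ S p, ∀ b ∈ S q, a * b = b * a := by
    intro p q hp hq hpq a ha b hb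
    haveI := Fact.mk hp
    haveI := Fact.mk hq
    have hdis : Disjoint (S p) (S q) := IsPGroup.disjoint_of_ne p q hpq _ _ (hSp p hp) (hSp q hq)
    have h1 : a * b * a⁻¹ * b⁻¹ ∈ S q := by
      have := (Subgroup.mem_normalizer_iff.1 (hSn q hq (hSH p hp ha)) b).1 hb
      exact (S q).mul_mem this ((S q).inv_mem hb)
    have h2 : a * b * a⁻¹ * b⁻¹ ∈ S p := by
      have := (Subgroup.mem_normalizer_iff.1 (hSn p hp (hSH q hq hb)) a⁻¹).1 ((S p).inv_mem ha)
      have h3 : a * b * a⁻¹ * b⁻¹ = a * (b * a⁻¹ * b⁻¹) := by group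
      rw [h3]; exact (S p).mul_mem ha this
    have h4 : a * b * a⁻¹ * b⁻¹ = 1 := Subgroup.disjoint_def.1 hdis h2 h1
    calc a * b = (a * b * a⁻¹ * b⁻¹) * (b * a) := by group
      _ = b * a := by rw [h4, one_mul]
  have hN : ∀ p : ℕ, ∃ N : Subgroup G, N.Normal ∧ N.index = p ^ (Nat.card H).factorization p ∧
      (p.Prime → p ∣ Nat.card H → ¬ p ∣ Nat.card N) := by
    intro p
    by_cases hpp : p.Prime ∧ p ∣ Nat.card H
    swap
    · refine ⟨⊤, inferInstance, ?_, fun h1 h2 => absurd ⟨h1, h2⟩ hpp⟩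
      rw [Subgroup.index_top]
      have : (Nat.card H).factorization p = 0 := by
        by_cases hp : p.Prime
        · exact Nat.factorization_eq_zero_of_not_dvd (fun h => hpp ⟨hp, h⟩)
        · exact Nat.factorization_eq_zero_of_not_prime _ hp
      rw [this, pow_zero]
    obtain ⟨hp, hpH⟩ := hpp
    haveI := Fact.mk hp
    obtain ⟨Ps, hPs⟩ := sylow_of_normalizer H (S p) (hSp p hp) (hSc p hp) (hSN p hp hpH)
    -- another prime
    have hother : ∃ r : ℕ, r.Prime ∧ r ∣ Nat.card H ∧ r ≠ p := by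
      by_contra hcon
      push Not at hcon
      have h1 := Nat.eq_prime_pow_of_unique_prime_dvd (n := Nat.card H) (p := p) Nat.card_pos.ne'
        (fun {d} hd hdH => hcon d hd hdH)
      have h2 : Nat.card (S p) = Nat.card H := by
        rw [hSc p hp]
        conv_rhs => rw [h1]
        congr 1
        conv_lhs => rw [h1]
        rw [Nat.Prime.factorization_pow hp]
        simp
      have h3 : S p = H := Subgroup.eq_of_le_of_card_ge (hSH p hp) h2.ge
      exact hnot p hp Ps (hPs.trans h3)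
    let T : Subgroup G :=
      { carrier := {n | n ∈ H ∧ ∃ z ∈ S p, ∀ x ∈ S p, n * x * n⁻¹ = z * x * z⁻¹}
        mul_mem' := by
          rintro n₁ n₂ ⟨h₁, z₁, hz₁, e₁⟩ ⟨h₂, z₂, hz₂, e₂⟩
          refine ⟨H.mul_mem h₁ h₂, z₁ * z₂, (S p).mul_mem hz₁ hz₂, fun x hx => ?_⟩
          have h3 : z₂ * x * z₂⁻¹ ∈ S p :=
            (S p).mul_mem ((S p).mul_mem hz₂ hx) ((S p).inv_mem hz₂)
          calc n₁ * n₂ * x * (n₁ * n₂)⁻¹ = n₁ * (n₂ * x * n₂⁻¹) * n₁⁻¹ := by group
            _ = n₁ * (z₂ * x * z₂⁻¹) * n₁⁻¹ := by rw [e₂ x hx]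
            _ = z₁ * (z₂ * x * z₂⁻¹) * z₁⁻¹ := e₁ _ h3
            _ = _ := by group
        one_mem' := ⟨H.one_mem, 1, (S p).one_mem, fun x _ => rfl⟩
        inv_mem' := by
          rintro n ⟨h, z, hz, e⟩
          refine ⟨H.inv_mem h, z⁻¹, (S p).inv_mem hz, fun x hx => ?_⟩
          have h3 : z⁻¹ * x * z ∈ S p :=
            (S p).mul_mem ((S p).mul_mem ((S p).inv_mem hz) hx) hz
          have h4 := e _ h3
          have h5 : z * (z⁻¹ * x * z) * z⁻¹ = x := by group
          rw [h5] at h4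
          calc n⁻¹ * x * n⁻¹⁻¹ = n⁻¹ * (n * (z⁻¹ * x * z) * n⁻¹) * n⁻¹⁻¹ := by rw [h4]
            _ = z⁻¹ * x * z⁻¹⁻¹ := by group }
    have hTH : T = H := by
      apply eq_of_forall_sylow_le (H := T) (N := H) (fun n (hn : n ∈ T) => hn.1)
      intro q hq
      refine ⟨S q, ?_, hSc q hq⟩
      intro n hn
      by_cases hqp : q = p
      · subst hqp
        exact ⟨hSH q hq hn, n, hn, fun x _ => rfl⟩
      · refine ⟨hSH q hq hn, 1, (S p).one_mem, fun x hx => ?_⟩
        rw [hcomm q p hq hp hqp n hn x hx]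
        group
    have hfus : ∀ x ∈ S p, ∀ y ∈ S p, (∃ g : G, g * x * g⁻¹ = y) →
        ∃ h ∈ S p, h * x * h⁻¹ = y := by
      rintro x hx y hy ⟨g, hg⟩
      obtain ⟨r, hr, hrH, hrp⟩ := hother
      haveI := Fact.mk hr
      obtain ⟨Rs, hRs⟩ := sylow_of_normalizer H (S r) (hSp r hr) (hSc r hr) (hSN r hr hrH)
      have hcen : ∀ w ∈ S p, w ∈ Subgroup.centralizer ((Rs : Subgroup G) : Set G) := by
        intro w hw
        rw [Subgroup.mem_centralizer_iff]
        intro b hb
        have hb' : b ∈ S r := by rw [← hRs]; exact hb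
        exact hcomm r p hr hp hrp b hb' w hw
      obtain ⟨n, hn, hnx⟩ := Rs.conj_eq_normalizer_conj_of_mem_centralizer x g⁻¹ (hcen x hx)
        (by rw [inv_inv, hg]; exact hcen y hy)
      have hnH : n ∈ H := by
        have : n ∈ Subgroup.normalizer ((Rs : Subgroup G) : Set G) := hn
        rw [hRs, hSN r hr hrH] at this
        exact this
      have hnT : n⁻¹ ∈ T := by rw [hTH]; exact H.inv_mem hnH
      obtain ⟨_, z, hz, e⟩ := hnT
      refine ⟨z, hz, ?_⟩
      rw [← e x hx, ← hg, inv_inv]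
      rw [inv_inv] at hnx
      exact hnx.symm
    have hHall : Nat.Coprime (Nat.card (S p)) (S p).index := by
      rw [← hPs]; exact Ps.card_coprime_index
    obtain ⟨N, hNn, hNc⟩ := (S0079.result (S p) (hSp p hp).isNilpotent hHall).2 hfus
    refine ⟨N, hNn, ?_, fun _ _ => ?_⟩
    · rw [hNc.symm.index_eq_card, hSc p hp]
    · rw [← hNc.index_eq_card, ← hPs]
      exact Ps.not_dvd_index
  choose Nf hNn hNi hNp using hN
  have hNnormal := IndexInf.normal_finset_inf (Nat.card H).primeFactors Nf (fun i _ => hNn i)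
  have hidx : ((Nat.card H).primeFactors.inf Nf).index = Nat.card H := by
    rw [IndexInf.index_finset_inf]
    · simp_rw [hNi]
      exact Nat.prod_factorization_pow_eq_self Nat.card_pos.ne'
    · intro i hi j hj hij
      rw [hNi, hNi]
      exact Nat.Coprime.pow _ _ ((Nat.coprime_primes (Nat.prime_of_mem_primeFactors hi)
        (Nat.prime_of_mem_primeFactors hj)).2 hij)
  refine ⟨_, hNnormal, Subgroup.isComplement'_of_coprime ?_ ?_⟩
  · have := Subgroup.card_mul_index ((Nat.card H).primeFactors.inf Nf)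
    rw [hidx] at this
    exact this
  · apply Nat.Coprime.symm
    apply Nat.Coprime.symm
    apply Nat.coprime_of_dvd
    intro k hk hkN hkH
    have hle : (Nat.card H).primeFactors.inf Nf ≤ Nf k :=
      Finset.inf_le (Nat.mem_primeFactors.2 ⟨hk, hkH, Nat.card_pos.ne'⟩)
    exact hNp k hk hkH (hkN.trans (Subgroup.card_dvd_of_le hle))

end Cfsg.Agent.S0558
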