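import Mathlib
import Cfsg.Statements.S4039
import Cfsg.Agent.S0558
import Cfsg.Agent.S0079
import Cfsg.Agent.Lib.Helper1.FunctStab
import Cfsg.Agent.Lib.Helper1.CoprimeSylow
import Cfsg.Agent.Lib.Helper1.Wielandt
import Cfsg.Agent.Lib.Helper6.WClosed

set_option autoImplicit false
open Cfsg
open Cfsg.Agent.Lib.Helper1
open Cfsg.Agent.Lib.Helper6.Basic Cfsg.Agent.Lib.Helper6.WClosed Cfsg.Agent.Lib.Helper6.Ores
open scoped commutatorElement

namespace Cfsg.Agent.S4039

universe u

theorem mem_normalizer_of_conj_mem {G : Type*} [Group G] [Finite G] {U : Subgroup G} {g : G}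
    (h : ∀ u ∈ U, g * u * g⁻¹ ∈ U) : g ∈ Subgroup.normalizer (U : Set G) := by
  rw [← cj_eq_self_iff]
  apply Subgroup.eq_of_le_of_card_ge
  · rintro _ ⟨u, hu, rfl⟩
    exact h u hu
  · rw [Subgroup.card_map_of_injective (MulAut.conj g).injective]

/-- a solvable maximal subgroup with a normal complement of coprime order -/
theorem solvable_of_complement {G : Type*} [Group G] [Finite G] (M K : Subgroup G)
    (hmax : IsCoatom M) (hMsol : Group.IsSolvable M) (hKn : K.Normal) (hsup : M ⊔ K = ⊤)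
    (hcop : (Nat.card M).Coprime (Nat.card K)) : Group.IsSolvable G := by
  have hMK : M ≤ Subgroup.normalizer (K : Set G) := by
    rw [Subgroup.normalizer_eq_top_iff.mpr hKn]; exact le_top
  have hKne : K ≠ ⊥ := by
    intro h
    rw [h, sup_bot_eq] at hsup
    exact hmax.1 hsup
  have hKsol : Group.IsSolvable K := by
    have h1 : Nat.card K ≠ 1 := fun h => hKne (Subgroup.card_eq_one.mp h)
    obtain ⟨q, hq, hqK⟩ := Nat.exists_prime_and_dvd h1
    haveI := Fact.mk hq
    obtain ⟨Q, hQK, hQc, hMQ⟩ := exists_invariant_sylow M K hMK hcop (Or.inl hMsol) q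
    have hcopQ : (Nat.card M).Coprime (Nat.card Q) :=
      Nat.Coprime.coprime_dvd_right (Subgroup.card_dvd_of_le hQK) hcop
    have hQne : Q ≠ ⊥ := by
      intro h
      rw [h, Subgroup.card_bot] at hQc
      have h1 : (Nat.card K).factorization q ≠ 0 :=
        (hq.factorization_pos_of_dvd Nat.card_pos.ne' hqK).ne'
      exact (Nat.one_lt_pow h1 hq.one_lt).ne hQc
    have h2 : M ⊔ Q = ⊤ := by
      by_contra hne
      have hQM : Q ≤ M := by
        by_contra h
        exact hne (hmax.2 _ (lt_of_le_of_ne le_sup_left (fun e => h (e ▸ le_sup_right))))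
      have h3 : Q ≤ M ⊓ Q := le_inf hQM le_rfl
      rw [(Subgroup.disjoint_of_coprime_natCard hcopQ).eq_bot, le_bot_iff] at h3
      exact hQne h3
    have h4 := card_sup_of_coprime M Q hMQ hcopQ
    have h5 := card_sup_of_coprime M K hMK hcop
    rw [h2] at h4
    rw [hsup, h4] at h5
    have h6 : Nat.card Q = Nat.card K := Nat.eq_of_mul_eq_mul_left Nat.card_pos h5
    have h7 : Q = K := Subgroup.eq_of_le_of_card_ge hQK h6.ge
    have h8 : IsPGroup q K := h7 ▸ IsPGroup.of_card hQc
    have := h8.isNilpotent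
    infer_instance
  haveI := hKn
  apply isSolvable_of_normal_of_quotient K hKsol
  apply Group.isSolvable_of_surjective (f := (QuotientGroup.mk' K).comp M.subtype)
  intro y
  obtain ⟨g, rfl⟩ := QuotientGroup.mk'_surjective K y
  have hg : g ∈ M ⊔ K := by rw [hsup]; trivial
  rw [← SetLike.mem_coe, Subgroup.mul_normal M K] at hg
  obtain ⟨m, hm, k, hk, rfl⟩ := hg
  refine ⟨⟨m, hm⟩, ?_⟩
  change QuotientGroup.mk' K m = QuotientGroup.mk' K (m * k)
  have hk1 : QuotientGroup.mk' K k = 1 := (QuotientGroup.eq_one_iff k).mpr hk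
  rw [map_mul, hk1, mul_one]

/-- fusion control when `M` is a Sylow subgroup of class at most two -/
theorem fusion {G : Type*} [Group G] [Finite G] (M : Subgroup G) {p : ℕ} [Fact p.Prime]
    (Ps : Sylow p G) (hPs : (Ps : Subgroup G) = M) (hMne : M ≠ ⊥)
    (hcl : ∀ a ∈ M, ∀ b ∈ M, ∀ c ∈ M, Commute (a * b * a⁻¹ * b⁻¹) c)
    (hcoatom : ∀ U : Subgroup G, U ≤ M → U ≠ ⊥ → M ≤ Subgroup.normalizer (U : Set G) →
        Subgroup.normalizer (U : Set G) = M) :
    ∀ x ∈ M, ∀ y ∈ M, (∃ g : G, g * x * g⁻¹ = y) → ∃ h ∈ M, h * x * h⁻¹ = y := by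
  have hMp : IsPGroup p M := hPs ▸ Ps.isPGroup'
  set Z : Subgroup G := M ⊓ Subgroup.centralizer (M : Set G) with hZ
  have hZM : Z ≤ M := inf_le_left
  have hZc : ∀ z ∈ Z, ∀ m ∈ M, m * z = z * m := fun z hz m hm =>
    Subgroup.mem_centralizer_iff.1 hz.2 m hm
  have hZne : Z ≠ ⊥ := by
    haveI : Nontrivial M := (Subgroup.nontrivial_iff_ne_bot M).2 hMne
    haveI := hMp.center_nontrivial
    obtain ⟨z, hz⟩ := exists_ne (1 : Subgroup.center M)
    intro hbot
    have h1 : ((z : M) : G) ∈ Z := by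
      refine ⟨(z : M).2, ?_⟩
      show ((z : M) : G) ∈ Subgroup.centralizer (M : Set G)
      rw [Subgroup.mem_centralizer_iff]
      intro m hm
      have := Subgroup.mem_center_iff.1 z.2 ⟨m, hm⟩
      exact congrArg Subtype.val this
    rw [hbot, Subgroup.mem_bot] at h1
    apply hz
    apply Subtype.ext
    apply Subtype.ext
    exact h1
  have hMNZ : M ≤ Subgroup.normalizer (Z : Set G) := by
    intro m hm
    apply mem_normalizer_of_conj_mem
    intro z hz
    rw [hZc z hz m hm, mul_inv_cancel_right]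
    exact hz
  have hNZ := hcoatom Z hZM hZne hMNZ
  have hNM := hcoatom M le_rfl hMne Subgroup.le_normalizer
  have hcomZ : ∀ a ∈ M, ∀ b ∈ M, a * b * a⁻¹ * b⁻¹ ∈ Z := by
    intro a ha b hb
    refine ⟨M.mul_mem (M.mul_mem (M.mul_mem ha hb) (M.inv_mem ha)) (M.inv_mem hb), ?_⟩
    show a * b * a⁻¹ * b⁻¹ ∈ Subgroup.centralizer (M : Set G)
    rw [Subgroup.mem_centralizer_iff]
    intro c hc
    exact (hcl a ha b hb c hc).eq.symm
  have claim : ∀ g : G, Z ≤ cj g M → g ∈ M := by
    intro g hg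
    have hZ'M : cj g Z ≤ M := by
      rw [← hNZ]
      refine le_trans ?_ (Subgroup.centralizer_le_normalizer (Z : Set G))
      rintro _ ⟨z, hz, rfl⟩
      rw [Subgroup.mem_centralizer_iff]
      intro t ht
      obtain ⟨m, hm, rfl⟩ := hg ht
      show g * m * g⁻¹ * (g * z * g⁻¹) = g * z * g⁻¹ * (g * m * g⁻¹)
      have := hZc z hz m hm
      calc g * m * g⁻¹ * (g * z * g⁻¹) = g * (m * z) * g⁻¹ := by group
        _ = g * (z * m) * g⁻¹ := by rw [this]
        _ = _ := by group
    have hZ'M' : cj g Z ≤ cj g M := cj_mono hZM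
    have hD1 : M ≤ Subgroup.normalizer ((M ⊓ cj g M : Subgroup G) : Set G) := by
      intro m hm
      apply mem_normalizer_of_conj_mem
      intro d hd
      have h1 : m * d * m⁻¹ = (m * d * m⁻¹ * d⁻¹) * d := by group
      rw [h1]
      exact Subgroup.mul_mem _ ⟨hZM (hcomZ m hm d hd.1), hg (hcomZ m hm d hd.1)⟩ hd
    have hD2 : cj g M ≤ Subgroup.normalizer ((M ⊓ cj g M : Subgroup G) : Set G) := by
      rintro _ ⟨a, ha, rfl⟩
      apply mem_normalizer_of_conj_mem
      intro d hd
      obtain ⟨b, hb, hbd⟩ := hd.2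
      have hbd' : g * b * g⁻¹ = d := hbd
      show g * a * g⁻¹ * d * (g * a * g⁻¹)⁻¹ ∈ _
      have h1 : g * a * g⁻¹ * d * (g * a * g⁻¹)⁻¹ = (g * (a * b * a⁻¹ * b⁻¹) * g⁻¹) * d := by
        rw [← hbd']; group
      rw [h1]
      have h2 : g * (a * b * a⁻¹ * b⁻¹) * g⁻¹ ∈ cj g Z := ⟨_, hcomZ a ha b hb, rfl⟩
      exact Subgroup.mul_mem _ ⟨hZ'M h2, hZ'M' h2⟩ hd
    have hDne : (M ⊓ cj g M : Subgroup G) ≠ ⊥ := by
      intro h
      apply hZne
      rw [← le_bot_iff, ← h]
      exact le_inf hZM hg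
    have hND := hcoatom _ inf_le_left hDne hD1
    rw [hND] at hD2
    have h3 : cj g M = M := by
      apply Subgroup.eq_of_le_of_card_ge hD2
      rw [Subgroup.card_map_of_injective (MulAut.conj g).injective]
    rw [cj_eq_self_iff, hNM] at h3
    exact h3
  have hZp : IsPGroup p Z := hMp.to_le hZM
  have hWC : WC p Z ⊤ := by
    apply wc_of_syl (syl_of_sylow Ps)
    intro g _ hg
    rw [hPs, cj_le_iff] at hg
    have h1 := claim g⁻¹ hg
    have h2 : g ∈ M := by simpa using M.inv_mem h1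
    exact cj_eq_self_iff.2 (hMNZ h2)
  rintro x hx y hy ⟨g, hg⟩
  have hZK : Z ≤ Subgroup.centralizer ({y} : Set G) := by
    intro z hz
    rw [Subgroup.mem_centralizer_iff]
    intro t ht
    rw [Set.mem_singleton_iff] at ht
    rw [ht]
    exact hZc z hz y hy
  have hgK : cj g Z ≤ Subgroup.centralizer ({y} : Set G) := by
    rintro _ ⟨z, hz, rfl⟩
    rw [Subgroup.mem_centralizer_iff]
    intro t ht
    rw [Set.mem_singleton_iff] at ht
    rw [ht, ← hg]
    show g * x * g⁻¹ * (g * z * g⁻¹) = g * z * g⁻¹ * (g * x * g⁻¹)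
    have := hZc z hz x hx
    calc g * x * g⁻¹ * (g * z * g⁻¹) = g * (x * z) * g⁻¹ := by group
      _ = g * (z * x) * g⁻¹ := by rw [this]
      _ = _ := by group
  obtain ⟨k, hk, hkg⟩ := WC.conj hWC hZp hZK le_top (Subgroup.mem_top g) hgK
  have h1 : cj (k⁻¹ * g) Z = Z := by
    rw [← cj_cj, hkg, cj_cj, inv_mul_cancel, cj_one]
  rw [cj_eq_self_iff, hNZ] at h1
  refine ⟨k⁻¹ * g, h1, ?_⟩
  have hky : y * k = k * y := Subgroup.mem_centralizer_iff.1 hk y rfl
  calc k⁻¹ * g * x * (k⁻¹ * g)⁻¹ = k⁻¹ * (g * x * g⁻¹) * k := by group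
    _ = k⁻¹ * (y * k) := by rw [hg]; group
    _ = y := by rw [hky]; group

theorem corefree {G : Type u} [Group G] [Finite G]
    (M : Subgroup G) (hmax : IsCoatom M) (hnil : Group.IsNilpotent M)
    (hcl : ∀ a ∈ M, ∀ b ∈ M, ∀ c ∈ M, Commute (a * b * a⁻¹ * b⁻¹) c)
    (hcore : ∀ N : Subgroup G, N.Normal → N ≤ M → N = ⊥) : Group.IsSolvable G := by
  classical
  have hMsol : Group.IsSolvable M := inferInstance
  by_cases hMne : M = ⊥
  · -- every nontrivial element generates
    subst hMne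
    apply Group.isSolvable_of_comm
    intro a b
    by_cases ha : a = 1
    · rw [ha, one_mul, mul_one]
    · have h1 : Subgroup.zpowers a = ⊤ := by
        apply hmax.2
        rw [bot_lt_iff_ne_bot]
        simpa using ha
      have hb : b ∈ Subgroup.zpowers a := by rw [h1]; trivial
      obtain ⟨k, rfl⟩ := hb
      exact (Commute.zpow_right (Commute.refl a) k).eq
  have hcoatom : ∀ U : Subgroup G, U ≤ M → U ≠ ⊥ → M ≤ Subgroup.normalizer (U : Set G) →
      Subgroup.normalizer (U : Set G) = M := by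
    intro U hUM hUne hMU
    by_contra hne
    have h1 := hmax.2 _ (lt_of_le_of_ne hMU (Ne.symm hne))
    exact hUne (hcore U (Subgroup.normalizer_eq_top_iff.mp h1) hUM)
  have hnorm : ∀ p : ℕ, p.Prime → p ∣ Nat.card M → ∀ P : Sylow p M,
      Subgroup.normalizer (((P : Subgroup M).map M.subtype : Subgroup G) : Set G) = M := by
    intro p hp hpM P'
    haveI := Fact.mk hp
    have hP'n : (P' : Subgroup ↥M).Normal :=
      Sylow.normal_of_normalizerCondition Group.normalizerCondition_of_isNilpotent P'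
    apply hcoatom _ (Subgroup.map_subtype_le _)
    · intro h
      have hPc : Nat.card ((P' : Subgroup ↥M).map M.subtype) = p ^ (Nat.card M).factorization p := by
        rw [Subgroup.card_map_of_injective M.subtype_injective, P'.card_eq_multiplicity]
      rw [h, Subgroup.card_bot] at hPc
      have h1 : (Nat.card M).factorization p ≠ 0 :=
        (hp.factorization_pos_of_dvd Nat.card_pos.ne' hpM).ne'
      exact (Nat.one_lt_pow h1 hp.one_lt).ne hPc
    · have h1 := Subgroup.le_normalizer_map (H := (P' : Subgroup ↥M)) M.subtype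
      rw [Subgroup.normalizer_eq_top_iff.mpr hP'n, ← MonoidHom.range_eq_map,
        Subgroup.range_subtype] at h1
      exact h1
  have hHall : (Nat.card M).Coprime M.index := by
    apply Nat.coprime_of_dvd
    intro k hk hkM hki
    haveI := Fact.mk hk
    obtain ⟨P'⟩ : Nonempty (Sylow k M) := inferInstance
    obtain ⟨Ps, hPs⟩ := S0558.sylow_of_normalizer M ((P' : Subgroup M).map M.subtype)
      (P'.isPGroup'.map _)
      (by rw [Subgroup.card_map_of_injective M.subtype_injective, P'.card_eq_multiplicity])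
      (hnorm k hk hkM P')
    have hle : (Ps : Subgroup G) ≤ M := by rw [hPs]; exact Subgroup.map_subtype_le _
    exact Ps.not_dvd_index (hki.trans (Subgroup.index_dvd_of_le hle))
  have hK : ∃ K : Subgroup G, K.Normal ∧ Subgroup.IsComplement' K M := by
    by_cases hSyl : ∃ p : ℕ, p.Prime ∧ ∃ P : Sylow p G, (P : Subgroup G) = M
    · obtain ⟨p, hp, Ps, hPs⟩ := hSyl
      haveI := Fact.mk hp
      exact (S0079.result M hnil hHall).2 (fusion M Ps hPs hMne hcl hcoatom)
    · push Not at hSyl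
      exact S0558.result M hSyl hnorm
  obtain ⟨K, hKn, hKc⟩ := hK
  apply solvable_of_complement M K hmax hMsol hKn hKc.symm.sup_eq_top
  rw [← hKc.index_eq_card]
  exact hHall

theorem main : ∀ (n : ℕ) (G : Type u) [Group G] [Finite G], Nat.card G = n →
    ∀ (M : Subgroup G), IsCoatom M → Group.IsNilpotent M →
    (∀ a ∈ M, ∀ b ∈ M, ∀ c ∈ M, Commute (a * b * a⁻¹ * b⁻¹) c) → Group.IsSolvable G := by
  intro n
  induction n using Nat.strong_induction_on with
  | _ n ih =>
    intro G _ _ hn M hmax hnil hcl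
    by_cases hcore : ∀ N : Subgroup G, N.Normal → N ≤ M → N = ⊥
    · exact corefree M hmax hnil hcl hcore
    · push Not at hcore
      obtain ⟨N, hNn, hNM, hNne⟩ := hcore
      haveI := hNn
      have hMsol : Group.IsSolvable M := inferInstance
      apply isSolvable_of_normal_of_quotient N (isSolvable_of_le hNM hMsol)
      have hlt : Nat.card (G ⧸ N) < n := by
        rw [← hn, ← N.card_mul_index, ← Subgroup.index_eq_card]
        have h1 : 1 < Nat.card N := by
          rw [Nat.one_lt_iff_ne_zero_and_ne_one]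
          exact ⟨Nat.card_pos.ne', fun h => hNne (Subgroup.card_eq_one.mp h)⟩
        have h2 : 0 < N.index := Nat.pos_of_ne_zero Subgroup.index_ne_zero_of_finite
        nlinarith
      refine ih _ hlt (G ⧸ N) rfl (M.map (QuotientGroup.mk' N)) (isCoatom_map_mk' N hNM hmax) ?_ ?_
      · exact Group.nilpotent_of_surjective ((QuotientGroup.mk' N).subgroupMap M)
          ((QuotientGroup.mk' N).subgroupMap_surjective M)
      · rintro _ ⟨a, ha, rfl⟩ _ ⟨b, hb, rfl⟩ _ ⟨c, hc, rfl⟩
        have := (hcl a ha b hb c hc).map (QuotientGroup.mk' N)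
        simpa using this

/-- statement -/
theorem result {G : Type*} [Group G] [Finite G]
    (M : Subgroup G) (hmax : IsCoatom M) (hnil : Group.IsNilpotent M) (hcl : Group.nilpotencyClass ↥M ≤ 2) :
    Group.IsSolvable G := by
  apply main _ G rfl M hmax hnil
  intro a ha b hb c hc
  rw [← Subgroup.upperCentralSeries_eq_top_iff_nilpotencyClass_le] at hcl
  have h1 : (⟨a, ha⟩ : M) ∈ Subgroup.upperCentralSeries M (1 + 1) := by rw [hcl]; trivial
  rw [Subgroup.mem_upperCentralSeries_succ_iff] at h1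
  have h2 := h1 ⟨b, hb⟩
  rw [Subgroup.upperCentralSeries_one, Subgroup.mem_center_iff] at h2
  have h3 := h2 ⟨c, hc⟩
  have h4 := congrArg Subtype.val h3
  simp only [commutatorElement_def] at h4
  exact h4.symm

end Cfsg.Agent.S4039
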