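import Mathlib
import Cfsg.Statements.S0045
import Cfsg.Agent.Lib.Helper6.Basic
import Cfsg.Agent.Lib.Helper6.WClosed
import Cfsg.Agent.Lib.Helper1.SZ
import Cfsg.Agent.Lib.Helper1.Basic
import Cfsg.Agent.Lib.Helper2.Subnormal
import Cfsg.Agent.Lib.Helper9.PFix
import Cfsg.Agent.S4039

set_option autoImplicit false
open Cfsg
open scoped Pointwise

namespace Cfsg.Agent.S0045

open Cfsg.Agent.Lib.Helper6.Basic Cfsg.Agent.Lib.Helper6.WClosed

universe u

def IsCar {G : Type u} [Group G] (C : Subgroup G) : Prop :=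
  Group.IsNilpotent C ∧ Subgroup.normalizer (C : Set G) = C

def ConjH (G : Type u) [Group G] : Prop :=
  ∀ C D : Subgroup G, IsCar C → IsCar D → ∃ g : G, cj g C = D

variable {G : Type u} [Group G]

theorem car_top_of_nilpotent [Group.IsNilpotent G] {C : Subgroup G} (h : IsCar C) : C = ⊤ :=
  (normalizerCondition_iff_only_full_group_self_normalizing.1
    Group.normalizerCondition_of_isNilpotent) C h.2

theorem car_cj {C : Subgroup G} (h : IsCar C) (g : G) : IsCar (cj g C) := by
  constructor
  · haveI := h.1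
    exact Group.nilpotent_of_mulEquiv (C.equivMapOfInjective _ (MulAut.conj g).injective)
  · ext x
    rw [← cj_eq_self_iff]
    constructor
    · intro hx
      have h1 : cj (g⁻¹ * x * g) C = C := by rw [← cj_cj, ← cj_cj, hx, cj_inv_cj]
      rw [cj_eq_self_iff, h.2] at h1
      exact mem_cj.2 h1
    · intro hx
      have h2 : cj (g⁻¹ * x * g) C = C := cj_eq_self_of_mem (mem_cj.1 hx)
      calc cj x (cj g C) = cj g (cj (g⁻¹ * x * g) C) := by
            rw [cj_cj, cj_cj]; congr 1; group
        _ = cj g C := by rw [h2]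

theorem car_subgroupOf {C K : Subgroup G} (h : IsCar C) (hCK : C ≤ K) : IsCar (C.subgroupOf K) := by
  constructor
  · haveI := h.1
    exact Group.nilpotent_of_mulEquiv (Subgroup.subgroupOfEquivOfLe hCK).symm
  · rw [← Subgroup.subgroupOf_normalizer_eq hCK, h.2]

theorem car_map_subtype {K : Subgroup G} {C : Subgroup K} (h : IsCar C) :
    Group.IsNilpotent (C.map K.subtype) ∧
      ∀ g ∈ K, g ∈ Subgroup.normalizer ((C.map K.subtype : Subgroup G) : Set G) →
        g ∈ C.map K.subtype := by
  constructor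
  · haveI := h.1
    exact Group.nilpotent_of_mulEquiv (C.equivMapOfInjective _ K.subtype_injective)
  · intro g hg hn
    have h1 : (⟨g, hg⟩ : K) ∈
        (Subgroup.normalizer ((C.map K.subtype : Subgroup G) : Set G)).subgroupOf K := hn
    rw [Subgroup.subgroupOf_normalizer_eq (Subgroup.map_subtype_le C)] at h1
    rw [show (C.map K.subtype).subgroupOf K = C from
      Subgroup.comap_map_eq_self_of_injective K.subtype_injective C, h.2] at h1
    exact ⟨⟨g, hg⟩, h1, rfl⟩

theorem conj_in_sub {K : Subgroup G} (hK : ConjH K) {C D : Subgroup G} (hC : IsCar C)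
    (hD : IsCar D) (hCK : C ≤ K) (hDK : D ≤ K) : ∃ k ∈ K, cj k C = D := by
  obtain ⟨k, hk⟩ := hK _ _ (car_subgroupOf hC hCK) (car_subgroupOf hD hDK)
  refine ⟨k, k.2, ?_⟩
  rw [cj_subgroupOf] at hk
  have h1 : cj (k : G) C ≤ K := by
    have := cj_mono (g := (k : G)) hCK
    rwa [cj_eq_self_of_mem k.2] at this
  exact Cfsg.Agent.Lib.Helper1.eq_of_subgroupOf_eq h1 hDK hk

theorem car_map {H : Type u} [Group H] (f : G →* H) (hf : Function.Surjective f)
    (hsub : ∀ K : Subgroup G, K ≠ ⊤ → ConjH K) {C : Subgroup G} (hC : IsCar C) :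
    IsCar (C.map f) := by
  constructor
  · haveI := hC.1
    exact Group.nilpotent_of_surjective (f.subgroupMap C) (f.subgroupMap_surjective C)
  · apply le_antisymm _ Subgroup.le_normalizer
    intro h hh
    obtain ⟨g, rfl⟩ := hf h
    have h1 : g ∈ (Subgroup.normalizer ((C.map f : Subgroup H) : Set H)).comap f := hh
    rw [Subgroup.comap_normalizer_eq_of_surjective _ hf] at h1
    set K := (C.map f).comap f with hK
    have hCK : C ≤ K := Subgroup.le_comap_map f C
    have hgK : g ∈ K := by
      by_cases hT : K = ⊤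
      · rw [hT]; trivial
      · have h2 : cj g C ≤ K := by
          have := cj_mono (g := g) hCK
          rwa [cj_eq_self_iff.2 h1] at this
        obtain ⟨k, hk, hke⟩ := conj_in_sub (hsub K hT) hC (car_cj hC g) hCK h2
        have h3 : k⁻¹ * g ∈ Subgroup.normalizer (C : Set G) := by
          rw [← cj_eq_self_iff, ← cj_cj, ← hke, cj_inv_cj]
        rw [hC.2] at h3
        have := K.mul_mem hk (hCK h3)
        simpa using this
    exact hgK

theorem map_cj {H : Type u} [Group H] (f : G →* H) (g : G) (C : Subgroup G) :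
    (cj g C).map f = cj (f g) (C.map f) := by
  simp only [cj, Subgroup.map_map]
  congr 1
  ext x
  simp

theorem lift_conj (N : Subgroup G) [N.Normal] {C D : Subgroup G} (q : G ⧸ N)
    (hq : cj q (C.map (QuotientGroup.mk' N)) = D.map (QuotientGroup.mk' N)) :
    ∃ g : G, cj g C ⊔ N = D ⊔ N := by
  obtain ⟨g, rfl⟩ := QuotientGroup.mk'_surjective N q
  refine ⟨g, ?_⟩
  rw [← map_cj] at hq
  have := congrArg (Subgroup.comap (QuotientGroup.mk' N)) hq
  rwa [Subgroup.comap_map_eq, Subgroup.comap_map_eq, QuotientGroup.ker_mk'] at this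

theorem cj_normal (N : Subgroup G) [hN : N.Normal] (g : G) : cj g N = N := by
  rw [cj_eq_self_iff, Subgroup.normalizer_eq_top]; trivial

theorem conj_of_normal_le (hsub : ∀ K : Subgroup G, K ≠ ⊤ → ConjH K) (N : Subgroup G) [N.Normal]
    (hQ : ConjH (G ⧸ N)) {C D : Subgroup G} (hC : IsCar C) (hD : IsCar D) (hNC : N ≤ C) :
    ∃ g : G, cj g C = D := by
  obtain ⟨q, hq⟩ := hQ _ _ (car_map (QuotientGroup.mk' N) (QuotientGroup.mk'_surjective N) hsub hC)
    (car_map (QuotientGroup.mk' N) (QuotientGroup.mk'_surjective N) hsub hD)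
  obtain ⟨g, hg⟩ := lift_conj N q hq
  have hN' : N ≤ cj g C := by
    have := cj_mono (g := g) hNC
    rwa [cj_normal] at this
  rw [sup_eq_left.2 hN'] at hg
  have hD' : D ≤ cj g C := hg ▸ le_sup_left
  haveI := (car_cj hC g).1
  have := car_top_of_nilpotent (car_subgroupOf hD hD')
  rw [Subgroup.subgroupOf_eq_top] at this
  exact ⟨g, le_antisymm this hD'⟩

theorem normal_of_sup {X N F : Subgroup G} (cN : ∀ a ∈ N, ∀ b ∈ N, a * b = b * a)
    (hT : X ⊔ N = ⊤) (hF : F ≤ N) (hX : X ≤ Subgroup.normalizer (F : Set G)) : F.Normal := by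
  rw [← Subgroup.normalizer_eq_top_iff, eq_top_iff, ← hT, sup_le_iff]
  refine ⟨hX, fun n hn => Subgroup.centralizer_le_normalizer _ ?_⟩
  rw [Subgroup.mem_centralizer_iff]
  intro f hf
  exact cN f (hF hf) n hn

theorem main : ∀ (n : ℕ) (G : Type u) [Group G] [Finite G] [Group.IsSolvable G], Nat.card G = n →
    (∃ C : Subgroup G, IsCar C) ∧ ConjH G := by
  intro n
  induction n using Nat.strong_induction_on with
  | _ n ih =>
  intro G _ _ _ hn
  have cardlt : ∀ K : Subgroup G, K ≠ ⊤ → Nat.card K < n := fun K hK => by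
    rw [← hn]
    exact lt_of_le_of_ne (Subgroup.card_le_card_group K)
      (fun h => hK (Subgroup.eq_top_of_card_eq K h))
  have ihS : ∀ K : Subgroup G, K ≠ ⊤ → (∃ C : Subgroup K, IsCar C) ∧ ConjH K :=
    fun K hK => ih (Nat.card K) (cardlt K hK) K rfl
  have ihQ : ∀ (N : Subgroup G) [N.Normal], N ≠ ⊥ →
      (∃ C : Subgroup (G ⧸ N), IsCar C) ∧ ConjH (G ⧸ N) := by
    intro N _ hN
    refine ih (Nat.card (G ⧸ N)) ?_ (G ⧸ N) rfl
    rw [← hn, ← N.card_mul_index]
    have h1 : 1 < Nat.card N := by
      rw [Subgroup.one_lt_card_iff_ne_bot]; exact hN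
    have h2 : 0 < N.index := Nat.pos_of_ne_zero N.index_ne_zero_of_finite
    show N.index < _
    nlinarith
  have hsub : ∀ K : Subgroup G, K ≠ ⊤ → ConjH K := fun K hK => (ihS K hK).2
  by_cases hnil : Group.IsNilpotent G
  · refine ⟨⟨⊤, ?_, Subgroup.normalizer_eq_top _⟩, ?_⟩
    · exact Group.nilpotent_of_mulEquiv Subgroup.topEquiv.symm
    · intro C D hC hD
      exact ⟨1, by rw [car_top_of_nilpotent hC, car_top_of_nilpotent hD, cj_one]⟩
  have hnt : Nontrivial G := by
    by_contra h
    rw [not_nontrivial_iff_subsingleton] at h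
    exact hnil inferInstance
  obtain ⟨N, hNn, hNne, hNmin⟩ := Cfsg.Agent.Lib.Helper2.Subnormal.exists_minimal_normal (G := G)
  obtain ⟨p, hp, M, hMN, hMn, hMne, hMc, hMp⟩ :=
    Cfsg.Agent.Lib.Helper1.exists_normal_elemAbelian _ N rfl hNn inferInstance hNne
  have hMeq : M = N := (hNmin M hMn hMN).resolve_left hMne
  subst hMeq
  haveI := Fact.mk hp
  have cN : ∀ a ∈ M, ∀ b ∈ M, a * b = b * a := fun a ha b hb =>
    congrArg Subtype.val (hMc.is_comm.comm (⟨a, ha⟩ : M) ⟨b, hb⟩)
  have hNp : IsPGroup p M := fun x => ⟨1, by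
    apply Subtype.ext
    simpa using hMp x x.2⟩
  have hsurj := QuotientGroup.mk'_surjective M
  constructor
  · obtain ⟨Cb, hCb⟩ := (ihQ M hNne).1
    set K := Cb.comap (QuotientGroup.mk' M) with hKdef
    have hNK : M ≤ K := by
      intro x hx
      show QuotientGroup.mk' M x ∈ Cb
      have : QuotientGroup.mk' M x = 1 := (QuotientGroup.eq_one_iff x).2 hx
      rw [this]; exact Cb.one_mem
    have hKn : Subgroup.normalizer (K : Set G) = K := by
      rw [hKdef, ← Subgroup.comap_normalizer_eq_of_surjective _ hsurj, hCb.2]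
    by_cases hKT : K = ⊤
    · have hCbT : Cb = ⊤ := by
        apply Subgroup.comap_injective hsurj
        rw [Subgroup.comap_top]; exact hKT
      haveI hQnil : Group.IsNilpotent (G ⧸ M) := by
        haveI := hCb.1
        rw [hCbT] at this
        exact Group.nilpotent_of_mulEquiv Subgroup.topEquiv
      have h0 : ¬ ∀ H : Subgroup G, IsCoatom H → H.Normal :=
        fun h => hnil ((Group.isNilpotent_of_finite_tfae.out 0 2).2 h)
      push_neg at h0
      obtain ⟨X, hX, hXn⟩ := h0
      have hXnorm : Subgroup.normalizer (X : Set G) = X := by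
        rcases hX.le_iff.1 (Subgroup.le_normalizer (H := X)) with h | h
        · exact absurd (Subgroup.normalizer_eq_top_iff.1 h) hXn
        · exact h
      have hNX : ¬ M ≤ X := by
        intro hle
        have h1 : (X.map (QuotientGroup.mk' M)).comap (QuotientGroup.mk' M) = X := by
          rw [Subgroup.comap_map_eq, QuotientGroup.ker_mk', sup_eq_left.2 hle]
        have h2 : Subgroup.normalizer ((X.map (QuotientGroup.mk' M) : Subgroup (G ⧸ M)) : Set (G ⧸ M))
            = X.map (QuotientGroup.mk' M) := by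
          apply Subgroup.comap_injective hsurj
          rw [Subgroup.comap_normalizer_eq_of_surjective _ hsurj, h1, hXnorm]
        have h3 := (normalizerCondition_iff_only_full_group_self_normalizing.1
          Group.normalizerCondition_of_isNilpotent) _ h2
        rw [h3, Subgroup.comap_top] at h1
        exact hX.1 h1.symm
      have hXN : X ⊔ M = ⊤ :=
        hX.2 _ (lt_of_le_of_ne le_sup_left (fun h => hNX (h ▸ le_sup_right)))
      have hinf : X ⊓ M = ⊥ := by
        have hnorm : (X ⊓ M).Normal := by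
          apply normal_of_sup cN hXN inf_le_right
          intro x hx
          apply S4039.mem_normalizer_of_conj_mem
          intro u hu
          exact ⟨X.mul_mem (X.mul_mem hx hu.1) (X.inv_mem hx), hNn.conj_mem u hu.2 x⟩
        rcases hNmin _ hnorm inf_le_right with h | h
        · exact h
        · exact absurd (h ▸ inf_le_left) hNX
      have hXnil : Group.IsNilpotent X := by
        let f : X →* G ⧸ M := (QuotientGroup.mk' M).comp X.subtype
        have hf : Function.Injective f := by
          rw [injective_iff_map_eq_one]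
          intro x hx
          have h1 : (x : G) ∈ M := (QuotientGroup.eq_one_iff _).1 hx
          have h2 : (x : G) ∈ X ⊓ M := ⟨x.2, h1⟩
          rw [hinf, Subgroup.mem_bot] at h2
          exact Subtype.ext h2
        exact Group.nilpotent_of_mulEquiv (MonoidHom.ofInjective hf).symm
      exact ⟨X, hXnil, hXnorm⟩
    · obtain ⟨C', hC'⟩ := (ihS K hKT).1
      obtain ⟨hnilC, hnormC⟩ := car_map_subtype hC'
      set C := C'.map K.subtype with hCdef
      have hCK : C ≤ K := Subgroup.map_subtype_le C'
      have hsup : K ≤ C ⊔ M := by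
        let f : K →* Cb := (QuotientGroup.mk' M).subgroupComap Cb
        have hf : Function.Surjective f :=
          (QuotientGroup.mk' M).subgroupComap_surjective_of_surjective Cb hsurj
        have hsubK : ∀ L : Subgroup K, L ≠ ⊤ → ConjH L := fun L _ =>
          (ih (Nat.card L) (lt_of_le_of_lt (Subgroup.card_le_card_group L) (cardlt K hKT)) L rfl).2
        have h1 := car_map f hf hsubK hC'
        haveI := hCb.1
        have h2 := car_top_of_nilpotent h1
        intro k hk
        have h5 : f ⟨k, hk⟩ ∈ C'.map f := by rw [h2]; trivial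
        obtain ⟨c, hc, hce⟩ := h5
        have h3 : QuotientGroup.mk' M (c : G) = QuotientGroup.mk' M k := congrArg Subtype.val hce
        have h4 : (c : G)⁻¹ * k ∈ M := QuotientGroup.eq.1 h3
        have e : k = c * ((c : G)⁻¹ * k) := by group
        rw [e]
        exact Subgroup.mul_mem _ (Subgroup.mem_sup_left ⟨c, hc, rfl⟩) (Subgroup.mem_sup_right h4)
      refine ⟨C, hnilC, le_antisymm ?_ Subgroup.le_normalizer⟩
      intro g hg
      apply hnormC g _ hg
      rw [← hKn, ← cj_eq_self_iff]
      have hKe : K = C ⊔ M := le_antisymm hsup (sup_le hCK hNK)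
      rw [hKe, show cj g (C ⊔ M) = cj g C ⊔ cj g M from Subgroup.map_sup _ _ _,
        cj_eq_self_iff.2 hg, cj_normal]
  · intro C D hC hD
    obtain ⟨q, hq⟩ := (ihQ M hNne).2 _ _ (car_map (QuotientGroup.mk' M) hsurj hsub hC)
      (car_map (QuotientGroup.mk' M) hsurj hsub hD)
    obtain ⟨g, hg⟩ := lift_conj M q hq
    have hC1 := car_cj hC g
    suffices ∃ x, cj x (cj g C) = D by
      obtain ⟨x, hx⟩ := this
      exact ⟨x * g, by rw [← cj_cj]; exact hx⟩
    generalize cj g C = C1 at hg hC1
    by_cases hT : D ⊔ M = ⊤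
    swap
    · obtain ⟨k, _, hk⟩ := conj_in_sub (hsub _ hT) hC1 hD (hg ▸ le_sup_left) le_sup_left
      exact ⟨k, hk⟩
    have hT1 : C1 ⊔ M = ⊤ := hg.trans hT
    have hinfn : ∀ X : Subgroup G, X ⊔ M = ⊤ → (X ⊓ M).Normal := by
      intro X hXN
      apply normal_of_sup cN hXN inf_le_right
      intro x hx
      apply S4039.mem_normalizer_of_conj_mem
      intro u hu
      exact ⟨X.mul_mem (X.mul_mem hx hu.1) (X.inv_mem hx), hNn.conj_mem u hu.2 x⟩
    rcases hNmin _ (hinfn C1 hT1) inf_le_right with h1 | h1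
    swap
    · exact conj_of_normal_le hsub M (ihQ M hNne).2 hC1 hD (h1 ▸ inf_le_left)
    rcases hNmin _ (hinfn D hT) inf_le_right with h2 | h2
    swap
    · obtain ⟨x, hx⟩ := conj_of_normal_le hsub M (ihQ M hNne).2 hD hC1 (h2 ▸ inf_le_left)
      exact ⟨x⁻¹, by rw [← hx, cj_inv_cj]⟩
    by_cases hpC : p ∣ Nat.card C1
    · obtain ⟨P'⟩ : Nonempty (Sylow p C1) := inferInstance
      have hP'n : (P' : Subgroup C1).Normal := by
        have h00 : ∀ (p : ℕ) (_hp : Fact p.Prime) (P : Sylow p C1), (↑P : Subgroup C1).Normal :=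
          (Group.isNilpotent_of_finite_tfae.out 0 3).1 hC1.1
        exact h00 p inferInstance P'
      set P1 := (P' : Subgroup C1).map C1.subtype with hP1def
      have hP1ne : P1 ≠ ⊥ := by
        intro hb
        rw [hP1def, Subgroup.map_eq_bot_iff_of_injective _ C1.subtype_injective] at hb
        exact P'.ne_bot_of_dvd_card hpC hb
      have hP1p : IsPGroup p P1 := P'.isPGroup'.map _
      have hC1P1 : C1 ≤ Subgroup.normalizer (P1 : Set G) := by
        intro c hc
        apply S4039.mem_normalizer_of_conj_mem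
        rintro _ ⟨x, hx, rfl⟩
        exact ⟨⟨c, hc⟩ * x * ⟨c, hc⟩⁻¹, hP'n.conj_mem x hx _, rfl⟩
      have hP1N : P1 ≤ Subgroup.normalizer (M : Set G) := by
        rw [Subgroup.normalizer_eq_top]; exact le_top
      obtain ⟨z, hzN, hz1, hzf⟩ := Cfsg.Agent.Lib.Helper9.PFix.exists_fixed hNp hP1p hP1N hNne
      set F := M ⊓ Subgroup.centralizer (P1 : Set G) with hFdef
      have hFn : F.Normal := by
        apply normal_of_sup cN hT1 inf_le_left
        intro c hc
        apply S4039.mem_normalizer_of_conj_mem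
        intro u hu
        refine ⟨hNn.conj_mem u hu.1 c, ?_⟩
        show c * u * c⁻¹ ∈ Subgroup.centralizer (P1 : Set G)
        rw [Subgroup.mem_centralizer_iff]
        intro y hy
        have hy' : c⁻¹ * y * c ∈ P1 := by
          exact (Subgroup.mem_normalizer_iff''.1 (hC1P1 hc) y).1 hy
        have h3 := Subgroup.mem_centralizer_iff.1 hu.2 _ hy'
        calc y * (c * u * c⁻¹) = c * ((c⁻¹ * y * c) * u) * c⁻¹ := by group
          _ = c * (u * (c⁻¹ * y * c)) * c⁻¹ := by rw [h3]
          _ = c * u * c⁻¹ * y := by group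
      have hFne : F ≠ ⊥ := by
        intro hb
        apply hz1
        have : z ∈ F := by
          refine ⟨hzN, ?_⟩
          show z ∈ Subgroup.centralizer (P1 : Set G)
          rw [Subgroup.mem_centralizer_iff]
          intro t ht
          have := hzf t ht
          calc t * z = (t * z * t⁻¹) * t := by group
            _ = z * t := by rw [this]
        rwa [hb, Subgroup.mem_bot] at this
      have hFN : F = M := (hNmin F hFn inf_le_left).resolve_left hFne
      have hP1n : P1.Normal := by
        rw [← Subgroup.normalizer_eq_top_iff, eq_top_iff, ← hT1, sup_le_iff]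
        refine ⟨hC1P1, fun m hm => Subgroup.centralizer_le_normalizer _ ?_⟩
        rw [← hFN] at hm
        exact hm.2
      exact conj_of_normal_le hsub P1 (ihQ P1 hP1ne).2 hC1 hD (Subgroup.map_subtype_le _)
    · have hidx : ∀ X : Subgroup G, X ⊔ M = ⊤ → X ⊓ M = ⊥ → Nat.card X = M.index := by
        intro X hX1 hX2
        have h3 := Cfsg.Agent.Lib.Helper1.card_sup_of_disjoint X M hX2
        rw [hX1, Subgroup.card_top, ← M.card_mul_index, mul_comm] at h3
        exact (Nat.eq_of_mul_eq_mul_right Nat.card_pos h3).symm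
      have hcop : (Nat.card M).Coprime M.index := by
        obtain ⟨k, hk⟩ := IsPGroup.iff_card.1 hNp
        rw [hk, ← hidx C1 hT1 h1]
        exact Nat.Coprime.pow_left _ ((Nat.Prime.coprime_iff_not_dvd hp).2 hpC)
      exact Cfsg.Agent.Lib.Helper1.sz_conj M hcop C1 D (hidx C1 hT1 h1) (hidx D hT h2)
        (Or.inl inferInstance)

theorem result {G : Type*} [Group G] [Finite G] [Group.IsSolvable G] :
    (∃ C : Subgroup G, Group.IsNilpotent C ∧ Subgroup.normalizer (C : Set G) = C) ∧
    ∀ C D : Subgroup G, Group.IsNilpotent C → Subgroup.normalizer (C : Set G) = C →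
      Group.IsNilpotent D → Subgroup.normalizer (D : Set G) = D → ∃ g : G, MulAut.conj g • C = D := by
  obtain ⟨h1, h2⟩ := main _ G rfl
  exact ⟨h1, fun C D a b c d => h2 C D ⟨a, b⟩ ⟨c, d⟩⟩

end Cfsg.Agent.S0045
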