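import Cfsg.Statements.S0068
import Cfsg.Agent.Lib.Helper1.FrobE

set_option autoImplicit false
open Cfsg

namespace Cfsg.Agent.S0068

open Cfsg.Agent.Lib.Helper1.FrobD Cfsg.Agent.Lib.Helper1.FrobE

/-- Frobenius complements of even order: if H complements a nontrivial normal subgroup K, each nonidentity element of H has trivial centraliser in K, and H has even order, then H contains a unique involution s, K is abelian, and s inverts every element of K. -/
theorem result {G : Type*} [Group G] [Finite G] (K H : Subgroup G) [K.Normal]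
    (hc : Subgroup.IsComplement' K H) (hK : K ≠ ⊥) (hfpf : ∀ h ∈ H, h ≠ 1 → K ⊓ Subgroup.centralizer {h} = ⊥)
    (heven : 2 ∣ Nat.card H) :
    (∃ s ∈ H, orderOf s = 2 ∧ (∀ t ∈ H, orderOf t = 2 → t = s) ∧ ∀ k ∈ K, s * k * s⁻¹ = k⁻¹) ∧ IsMulCommutative K := by
  haveI : Fact (Nat.Prime 2) := ⟨Nat.prime_two⟩
  obtain ⟨s0, hs0⟩ := exists_prime_orderOf_dvd_card' 2 heven
  have key : ∀ t ∈ H, orderOf t = 2 → (t * t = 1 ∧ ∀ k ∈ K, t * k * t⁻¹ = k⁻¹) := by
    intro t ht ho
    have h1 : t * t = 1 := by rw [← pow_two, ← ho]; exact pow_orderOf_eq_one t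
    have h2 : t ≠ 1 := by
      rintro rfl
      rw [orderOf_one] at ho
      omega
    exact ⟨h1, inv_of_invol K t h1 (hfpf t ht h2)⟩
  have hso : orderOf (s0 : G) = 2 := by rw [Subgroup.orderOf_coe]; exact hs0
  obtain ⟨hss, hsinv⟩ := key s0 s0.2 hso
  refine ⟨⟨s0, s0.2, hso, ?_, hsinv⟩, ?_⟩
  · intro t ht ho
    obtain ⟨htt, htinv⟩ := key t ht ho
    by_contra hne
    have h1 : t * (s0 : G) ≠ 1 := by
      intro h
      apply hne
      have : t = (s0 : G)⁻¹ := eq_inv_of_mul_eq_one_left h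
      rw [this]
      exact inv_eq_of_mul_eq_one_left hss
    have h2 := hfpf _ (H.mul_mem ht s0.2) h1
    apply hK
    rw [eq_bot_iff, ← h2]
    intro k hk
    refine Subgroup.mem_inf.mpr ⟨hk, ?_⟩
    rw [Subgroup.mem_centralizer_singleton_iff]
    have e1 := hsinv k hk
    have e2 := htinv k⁻¹ (K.inv_mem hk)
    rw [inv_inv, ← e1] at e2
    have : t * (s0 : G) * k * (t * (s0 : G))⁻¹ = k := by
      refine Eq.trans ?_ e2; group
    rw [mul_inv_eq_iff_eq_mul] at this
    exact this.symm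
  · refine ⟨⟨fun a b => ?_⟩⟩
    apply Subtype.ext
    have e1 := hsinv a a.2
    have e2 := hsinv b b.2
    have e3 := hsinv _ (K.mul_mem a.2 b.2)
    have e4 : (s0 : G) * ((a : G) * b) * (s0 : G)⁻¹ = ((s0 : G) * a * (s0 : G)⁻¹) * ((s0 : G) * b * (s0 : G)⁻¹) := by
      group
    rw [e4, e1, e2, ← mul_inv_rev] at e3
    exact (inv_injective e3).symm

end Cfsg.Agent.S0068
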