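import Cfsg.Statements.S0069
import Cfsg.Agent.Lib.Helper3.UniqP3
import Cfsg.Agent.Lib.Helper3.UniqP5

set_option autoImplicit false
open Cfsg

namespace Cfsg.Agent.S0069

theorem inverts {G : Type*} [Group G] [Finite G] (W : Subgroup G) [hW : W.Normal] {z : G}
    (hz : z * z = 1) (h : ∀ w ∈ W, z * w = w * z → w = 1) : ∀ w ∈ W, z * w * z⁻¹ = w⁻¹ := by
  have hzi : z⁻¹ = z := inv_eq_of_mul_eq_one_left hz
  let f : ↥W → ↥W := fun w => ⟨(w : G)⁻¹ * (z * w * z⁻¹),
    W.mul_mem (W.inv_mem w.2) (hW.conj_mem _ w.2 z)⟩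
  have hinj : Function.Injective f := by
    intro u v huv
    have h1 : (u : G)⁻¹ * (z * u * z⁻¹) = (v : G)⁻¹ * (z * v * z⁻¹) := congrArg Subtype.val huv
    have h2 : z * ((v : G) * (u : G)⁻¹) = ((v : G) * (u : G)⁻¹) * z := by
      have e : z * u * z⁻¹ = (u : G) * (v : G)⁻¹ * (z * v * z⁻¹) := by
        rw [mul_assoc (u : G), ← h1]; group
      have e2 : z * (u : G)⁻¹ * z⁻¹ = (z * v * z⁻¹)⁻¹ * ((v : G) * (u : G)⁻¹) := by
        have : z * (u : G)⁻¹ * z⁻¹ = (z * u * z⁻¹)⁻¹ := by group
        rw [this, e]; group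
      calc z * ((v : G) * (u : G)⁻¹) = (z * v * z⁻¹) * (z * (u : G)⁻¹ * z⁻¹) * z := by group
        _ = ((v : G) * (u : G)⁻¹) * z := by rw [e2]; group
    have h3 := h _ (W.mul_mem v.2 (W.inv_mem u.2)) h2
    apply Subtype.ext
    exact (mul_inv_eq_one.1 h3).symm
  have hsurj : Function.Surjective f := Finite.surjective_of_injective hinj
  intro w hw
  obtain ⟨u, hu⟩ := hsurj ⟨w, hw⟩
  have hw' : w = (u : G)⁻¹ * (z * u * z⁻¹) := (congrArg Subtype.val hu).symm
  rw [hw', hzi]
  have e1 : z * ((u : G)⁻¹ * (z * u * z)) * z = z * (u : G)⁻¹ * z * u * (z * z) := by group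
  have e3 : ((u : G)⁻¹ * (z * u * z))⁻¹ = z⁻¹ * (u : G)⁻¹ * z⁻¹ * u := by group
  rw [e1, e3, hz, hzi, mul_one]

theorem fix_pow {X : Type*} [Group X] {g s w : X} (h1 : g * s * g⁻¹ = s * w)
    (h2 : g * w * g⁻¹ = w) : w ^ orderOf g = 1 := by
  have hpow : ∀ i : ℕ, g ^ i * s * (g ^ i)⁻¹ = s * w ^ i := by
    intro i
    induction i with
    | zero => simp
    | succ i ihi =>
      have e1 : g ^ (i + 1) * s * (g ^ (i + 1))⁻¹ = g * (g ^ i * s * (g ^ i)⁻¹) * g⁻¹ := by
        rw [pow_succ']; group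
      have e2 : g * (s * w ^ i) * g⁻¹ = (g * s * g⁻¹) * (g * w * g⁻¹) ^ i := by
        rw [conj_pow]; group
      rw [e1, ihi, e2, h1, h2, pow_succ', mul_assoc]
  have h3 := hpow (orderOf g)
  rw [pow_orderOf_eq_one] at h3
  simpa using h3.symm

/-- the odd-order (Z-group) case, abstractly: `L` a Z-group in which subgroups of order `pq`
are commutative -/
theorem zgroup_center {L : Type*} [Group L] [Finite L] [Nontrivial L] [IsZGroup L]
    (hpq : ∀ (A : Subgroup L) (p q : ℕ), p.Prime → q.Prime → Nat.card A = p * q →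
      ∀ a ∈ A, ∀ b ∈ A, a * b = b * a) : Subgroup.center L ≠ ⊥ := by
  haveI hDc := IsZGroup.isCyclic_commutator L
  have hcop := IsZGroup.coprime_commutator_index (G := L)
  have hlt := IsZGroup.commutator_lt L
  obtain ⟨⟨c, hcD⟩, hgen⟩ := IsCyclic.exists_generator (α := commutator L)
  have hgen' : ∀ d ∈ commutator L, ∃ i : ℤ, c ^ i = d := by
    intro d hd
    obtain ⟨i, hi⟩ := Subgroup.mem_zpowers_iff.1 (hgen ⟨d, hd⟩)
    exact ⟨i, congrArg Subtype.val hi⟩
  obtain ⟨B, hB⟩ := Subgroup.exists_right_complement'_of_coprime hcop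
  have hBcard : (commutator L).index = Nat.card B := hB.symm.index_eq_card
  have hidx : (commutator L).index ≠ 1 := by
    intro h
    exact hlt.ne (Subgroup.index_eq_one.1 h)
  obtain ⟨q, hq, hqd⟩ := Nat.exists_prime_and_dvd hidx
  haveI := Fact.mk hq
  obtain ⟨⟨y, hyB⟩, hy⟩ := exists_prime_orderOf_dvd_card' (G := B) q (hBcard ▸ hqd)
  rw [Subgroup.orderOf_mk] at hy
  have hqD : ¬ q ∣ Nat.card (commutator L) := by
    intro h
    exact hq.one_lt.ne' (Nat.eq_one_of_dvd_coprimes hcop h hqd)
  have hyc : y * c * y⁻¹ = c := by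
    have h1 : y * c * y⁻¹ ∈ commutator L := (inferInstance : (commutator L).Normal).conj_mem c hcD y
    by_contra hne
    have ha1 : c⁻¹ * (y * c * y⁻¹) ≠ 1 := by
      intro h
      exact hne (inv_mul_eq_one.1 h).symm
    have haD : c⁻¹ * (y * c * y⁻¹) ∈ commutator L := mul_mem (inv_mem hcD) h1
    obtain ⟨i, hi⟩ := hgen' _ haD
    set a := c⁻¹ * (y * c * y⁻¹) with ha
    have hao : orderOf a ≠ 1 := fun h => ha1 (orderOf_eq_one_iff.1 h)
    obtain ⟨p, hp, hpd⟩ := Nat.exists_prime_and_dvd hao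
    have hapos : orderOf a ≠ 0 := (orderOf_pos a).ne'
    have hwo : orderOf (a ^ (orderOf a / p)) = p := orderOf_pow_orderOf_div hapos hpd
    have hca : Commute c a := by
      rw [← hi]
      exact (Commute.refl c).zpow_right i
    have hyca : y * c * y⁻¹ = c * a := by rw [ha]; group
    have hyb : y * c ^ (orderOf a / p) * y⁻¹ = c ^ (orderOf a / p) * a ^ (orderOf a / p) := by
      rw [← conj_pow, hyca, hca.mul_pow]
    set w := a ^ (orderOf a / p) with hw
    have hwD : w ∈ commutator L := pow_mem haD _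
    obtain ⟨l, hl⟩ := hgen' w hwD
    haveI hWn : (Subgroup.zpowers w).Normal := by
      constructor
      intro x hx h
      obtain ⟨j, rfl⟩ := Subgroup.mem_zpowers_iff.1 hx
      obtain ⟨r, hr⟩ := hgen' _ ((inferInstance : (commutator L).Normal).conj_mem c hcD h)
      have e1 : h * w ^ j * h⁻¹ = w ^ (r * j) := by
        rw [← conj_zpow, ← hl, ← conj_zpow, ← hr, ← zpow_mul, ← zpow_mul, ← zpow_mul]
        congr 1; ring
      rw [e1]
      exact Subgroup.zpow_mem _ (Subgroup.mem_zpowers _) _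
    have hpq' : p ≠ q := by
      rintro rfl
      apply hqD
      have h2 := orderOf_dvd_natCard (⟨a, haD⟩ : commutator L)
      rw [Subgroup.orderOf_mk] at h2
      exact hpd.trans h2
    have hdisj : Subgroup.zpowers w ⊓ Subgroup.zpowers y = ⊥ := by
      apply (Subgroup.disjoint_of_coprime_natCard _).eq_bot
      rw [Nat.card_zpowers, Nat.card_zpowers, hwo, hy]
      exact (Nat.coprime_primes hp hq).2 hpq'
    have hcard : Nat.card (Subgroup.zpowers y ⊔ Subgroup.zpowers w : Subgroup L) = p * q := by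
      have h2 := Subgroup.relIndex_mul_relIndex (H := ⊥) (K := Subgroup.zpowers w)
        (L := Subgroup.zpowers y ⊔ Subgroup.zpowers w) bot_le le_sup_right
      rw [Subgroup.relIndex_bot_left, Subgroup.relIndex_bot_left, Subgroup.relIndex_sup_right,
        ← Subgroup.inf_relIndex_right, hdisj, Subgroup.relIndex_bot_left, Nat.card_zpowers,
        Nat.card_zpowers, hwo, hy] at h2
      exact h2.symm
    have hyw := hpq _ p q hp hq hcard y (Subgroup.mem_sup_left (Subgroup.mem_zpowers y)) w
      (Subgroup.mem_sup_right (Subgroup.mem_zpowers w))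
    have hyw' : y * w * y⁻¹ = w := by rw [hyw]; group
    have h3 := fix_pow hyb hyw'
    rw [hy] at h3
    have h4 := orderOf_dvd_of_pow_eq_one h3
    rw [hwo] at h4
    exact hpq' ((Nat.prime_dvd_prime_iff_eq hp hq).1 h4)
  have hycen : y ∈ Subgroup.center L := by
    rw [Subgroup.mem_center_iff]
    intro h
    have hmem : h ∈ ((commutator L ⊔ B : Subgroup L) : Set L) := by
      rw [hB.sup_eq_top]; trivial
    rw [Subgroup.normal_mul] at hmem
    obtain ⟨d, hd, b, hb, rfl⟩ := hmem
    obtain ⟨i, rfl⟩ := hgen' d hd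
    have h1 : Commute y c := by
      have : y * c = c * y := by
        nth_rewrite 2 [← hyc]; group
      exact this
    have h2 : Commute y b := by
      have h3 : y * b * y⁻¹ * b⁻¹ ∈ commutator L := by
        rw [commutator_def]
        exact Subgroup.commutator_mem_commutator (Subgroup.mem_top y) (Subgroup.mem_top b)
      have h4 : y * b * y⁻¹ * b⁻¹ ∈ B := mul_mem (mul_mem (mul_mem hyB hb) (inv_mem hyB)) (inv_mem hb)
      have h5 : y * b * y⁻¹ * b⁻¹ ∈ (commutator L ⊓ B : Subgroup L) := ⟨h3, h4⟩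
      rw [hB.disjoint.eq_bot, Subgroup.mem_bot] at h5
      have : y * b = (y * b * y⁻¹ * b⁻¹) * (b * y) := by group
      rw [h5, one_mul] at this
      exact this
    exact ((h1.zpow_right i).mul_right h2).symm
  intro hbot
  rw [hbot, Subgroup.mem_bot] at hycen
  rw [hycen, orderOf_one] at hy
  exact hq.one_lt.ne hy

/-- A Frobenius complement has nontrivial centre: if H ≠ 1 complements a nontrivial normal subgroup K and every nonidentity element of H has trivial centraliser in K, then the centre of H is nontrivial. -/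
theorem result {G : Type*} [Group G] [Finite G] (K H : Subgroup G) [K.Normal]
    (hc : Subgroup.IsComplement' K H) (hK : K ≠ ⊥) (hH : H ≠ ⊥) (hfpf : ∀ h ∈ H, h ≠ 1 → K ⊓ Subgroup.centralizer {h} = ⊥) :
    Subgroup.center H ≠ ⊥ := by
  haveI : Nontrivial H := (Subgroup.nontrivial_iff_ne_bot H).2 hH
  have hHK : ∀ A : Subgroup G, A ≤ Subgroup.normalizer (K : Set G) := by
    intro A
    rw [Subgroup.normalizer_eq_top]; exact le_top
  by_cases h2 : 2 ∣ Nat.card H
  · haveI : Fact (Nat.Prime 2) := ⟨Nat.prime_two⟩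
    obtain ⟨⟨t, htH⟩, ht⟩ := exists_prime_orderOf_dvd_card' (G := H) 2 h2
    rw [Subgroup.orderOf_mk] at ht
    have ht1 : t ≠ 1 := by
      rintro rfl
      rw [orderOf_one] at ht
      norm_num at ht
    have htt : t * t = 1 := by rw [← pow_two, ← ht, pow_orderOf_eq_one]
    have hfix : ∀ z ∈ H, z ≠ 1 → ∀ w ∈ K, z * w = w * z → w = 1 := by
      intro z hz hz1 w hw hzw
      have : w ∈ K ⊓ Subgroup.centralizer {z} :=
        Subgroup.mem_inf.2 ⟨hw, Subgroup.mem_centralizer_singleton_iff.2 hzw.symm⟩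
      rw [hfpf z hz hz1] at this
      exact this
    have hcen : (⟨t, htH⟩ : H) ∈ Subgroup.center H := by
      rw [Subgroup.mem_center_iff]
      rintro ⟨h, hh⟩
      apply Subtype.ext
      change h * t = t * h
      have h1 := inverts K htt (hfix t htH ht1)
      have ht'H : h * t * h⁻¹ ∈ H := mul_mem (mul_mem hh htH) (inv_mem hh)
      have ht'1 : h * t * h⁻¹ ≠ 1 := by
        intro h3
        apply ht1
        have : t = h⁻¹ * (h * t * h⁻¹) * h := by group
        rw [this, h3]; group
      have ht't' : (h * t * h⁻¹) * (h * t * h⁻¹) = 1 := by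
        have : (h * t * h⁻¹) * (h * t * h⁻¹) = h * (t * t) * h⁻¹ := by group
        rw [this, htt]; group
      have h2' := inverts K ht't' (hfix _ ht'H ht'1)
      by_contra hne
      have hu1 : t * (h * t * h⁻¹) ≠ 1 := by
        intro hu
        apply hne
        have h3 : h * t * h⁻¹ = t := by
          have : h * t * h⁻¹ = (t * t) * (h * t * h⁻¹) := by rw [htt, one_mul]
          rw [this, mul_assoc, hu, mul_one]
        calc h * t = (h * t * h⁻¹) * h := by group
          _ = t * h := by rw [h3]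
      have hKle : K ≤ K ⊓ Subgroup.centralizer {t * (h * t * h⁻¹)} := by
        intro k hk
        refine Subgroup.mem_inf.2 ⟨hk, ?_⟩
        rw [Subgroup.mem_centralizer_singleton_iff]
        have e1 := h2' k hk
        have e2 := h1 k⁻¹ (inv_mem hk)
        rw [inv_inv] at e2
        have e3 : (t * (h * t * h⁻¹)) * k * (t * (h * t * h⁻¹))⁻¹ = k := by
          have : (t * (h * t * h⁻¹)) * k * (t * (h * t * h⁻¹))⁻¹ =
              t * ((h * t * h⁻¹) * k * (h * t * h⁻¹)⁻¹) * t⁻¹ := by group
          rw [this, e1, e2]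
        nth_rewrite 1 [← e3]
        group
      rw [hfpf _ (mul_mem htH ht'H) hu1] at hKle
      exact hK (eq_bot_iff.2 hKle)
    intro hbot
    rw [hbot, Subgroup.mem_bot] at hcen
    exact ht1 (congrArg Subtype.val hcen)
  · haveI : IsZGroup H := by
      constructor
      intro p hp P
      haveI := Fact.mk hp
      have hQ : IsPGroup p ((P : Subgroup H).map H.subtype) := P.isPGroup'.map _
      rcases Cfsg.Agent.Lib.Helper3.UniqP.cyclic_or_quat_of_fpf p ((P : Subgroup H).map H.subtype) K
        hQ hK (hHK _) (fun a ha ha1 => hfpf a (Subgroup.map_subtype_le _ ha) ha1) with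
        h | ⟨rfl, n, ⟨e⟩⟩
      · let e := (P : Subgroup H).equivMapOfInjective H.subtype H.subtype_injective
        exact isCyclic_of_surjective e.symm e.symm.surjective
      · exfalso
        apply h2
        haveI : NeZero (2 ^ n) := ⟨by positivity⟩
        have h3 : Nat.card ((P : Subgroup H).map H.subtype) = 4 * 2 ^ n := by
          rw [Nat.card_congr e.toEquiv, Nat.card_eq_fintype_card, QuaternionGroup.card]
        have h4 : Nat.card ((P : Subgroup H).map H.subtype) ∣ Nat.card H :=
          Subgroup.card_dvd_of_le (Subgroup.map_subtype_le _)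
        rw [h3] at h4
        exact (Dvd.intro (2 * 2 ^ n) (by ring)).trans h4
    apply zgroup_center
    intro A p q hp hq hcard a ha b hb
    haveI hcyc := Cfsg.Agent.Lib.Helper1.FrobF.cyclic_of_fpf_pq (A.map H.subtype) K hK (hHK _)
      (fun a ha ha1 => hfpf a (Subgroup.map_subtype_le _ ha) ha1) hp hq
      (by rw [Subgroup.card_map_of_injective H.subtype_injective]; exact hcard)
    have := Cfsg.Agent.Lib.Helper3.UniqP.comm_of_cyclic
      (⟨a, ⟨a, ha, rfl⟩⟩ : A.map H.subtype) ⟨b, ⟨b, hb, rfl⟩⟩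
    have h5 : (a : G) * (b : G) = (b : G) * (a : G) := congrArg Subtype.val this
    exact Subtype.ext h5

end Cfsg.Agent.S0069
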