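import Cfsg.Statements.S5093
import Cfsg.Agent.Lib.Lead.Realized
import Cfsg.Agent.Lib.Lead.Residual
import Cfsg.Agent.Lib.Lead.Graded
import Cfsg.Agent.S5092

set_option autoImplicit false
open Cfsg Cfsg.FusionSystem Cfsg.Agent.Fus
open scoped commutatorElement

namespace Cfsg.Agent.S5093

theorem hyp_le {G : Type*} [Group G] [Finite G] (p : ℕ) [Fact p.Prime] (S : Subgroup G) :
    (groupFusionSystem S).hyperfocalSubgroup p ≤ pResidual p G := by
  set F := groupFusionSystem S with hF
  have hN := pResidual_normal (G := G) p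
  rw [hyperfocalSubgroup, Subgroup.closure_le]
  rintro _ ⟨P, α, x, hP, hα, rfl⟩
  let f : Subgroup.normalizer (P : Set G) →* F.autGroup P :=
    P.normalizerMonoidHom.codRestrict _ (fun g => by
      rw [mem_autGroup_iff _ hP]
      exact ⟨hP, fun x => hP (P.normalizerMonoidHom g x).2, g, fun x => rfl⟩)
  have hf : Function.Surjective f := by
    rintro ⟨β, hβ⟩
    have hβ' := hβ
    rw [mem_autGroup_iff _ hP] at hβ'
    obtain ⟨-, -, g, hg⟩ := hβ'
    have hg' : ∀ x : P, ((β x : P) : G) = g * x * g⁻¹ := hg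
    refine ⟨⟨g, mem_normalizer_of_aut β g hg'⟩, ?_⟩
    apply Subtype.ext
    apply MulEquiv.ext
    intro x
    apply Subtype.ext
    exact (hg' x).symm
  obtain ⟨n, hn, rfl⟩ := pResidual_le_map f hf hα
  have hnG : (n : G) ∈ pResidual p G := map_pResidual_le p (Subgroup.subtype _) ⟨n, hn, rfl⟩
  show (x : G)⁻¹ * ((n : G) * x * (n : G)⁻¹) ∈ pResidual p G
  have h1 : (x : G)⁻¹ * (n : G) * x ∈ pResidual p G := by
    have := hN.conj_mem _ hnG (x : G)⁻¹
    rwa [inv_inv] at this
  have e : (x : G)⁻¹ * ((n : G) * x * (n : G)⁻¹) = ((x : G)⁻¹ * (n : G) * x) * (n : G)⁻¹ := by group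
  rw [e]
  exact Subgroup.mul_mem _ h1 (Subgroup.inv_mem _ hnG)

theorem result {G : Type*} [Group G] [Finite G] (p : ℕ) [Fact p.Prime] (S : Sylow p G) : (Cfsg.groupFusionSystem (S : Subgroup G)).hyperfocalSubgroup p = (S : Subgroup G) ⊓ Cfsg.pResidual p G := by
  apply le_antisymm
  · exact le_inf (hyperfocal_le _ p) (hyp_le p _)
  set F := groupFusionSystem (S : Subgroup G) with hF
  set N := pResidual p G with hNdef
  haveI hN : N.Normal := pResidual_normal (G := G) p
  set T := (S : Subgroup G) ⊓ N with hT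
  set E := fusionSystemOfSubgroup N T inf_le_right with hE
  have hTS : T ≤ S := inf_le_left
  have hTp : IsPGroup p T := S.2.to_le hTS
  have hEsat : E.IsSaturated p :=
    saturated_fusionSystemOfSubgroup p N T inf_le_right (sylow_inf_normal S N)
  have hsub : ∀ P, E.Hom P ⊆ F.Hom P := by
    rintro P φ ⟨hP, hφ, g, -, hg⟩
    exact ⟨hP.trans hTS, fun x => hTS (hφ x), g, hg⟩
  -- hyp(E) ≤ hyp(F)
  have hhyp : E.hyperfocalSubgroup p ≤ F.hyperfocalSubgroup p := by
    conv_lhs => rw [hyperfocalSubgroup]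
    rw [Subgroup.closure_le]
    rintro _ ⟨P, α, x, hP, hα, rfl⟩
    have hle : E.autGroup P ≤ F.autGroup P :=
      Subgroup.closure_mono (fun β hβ => hsub P hβ)
    have h1 : Subgroup.inclusion hle α ∈ pResidual p (F.autGroup P) :=
      map_pResidual_le p (Subgroup.inclusion hle) ⟨α, hα, rfl⟩
    exact mem_hyperfocal F (hP.trans hTS) h1 x
  refine le_trans ?_ hhyp
  -- foc(E) = T
  obtain ⟨Q, hQ⟩ := sylow_inf_normal S N
  have hfoc : T ≤ E.focalSubgroup := by
    have h1 := Subgroup.ker_transferFocal_inf_eq_focalSubgroup Q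
    have h2 : (Q : Subgroup N).transferFocal.ker = ⊤ := by
      rw [eq_top_iff, ← pResidual_pResidual p]
      exact pResidual_le_ker' _ (Q.2.to_quotient _)
    rw [h2, top_inf_eq] at h1
    have h3 : (Q : Subgroup N).focalSubgroup ≤ E.focalSubgroup.comap N.subtype := by
      rw [Subgroup.focalSubgroup_def, Subgroup.closure_le]
      rintro g ⟨hgQ, x, hxQ, u, hgx⟩
      rw [hQ] at hgQ hxQ
      have hgT : (g : G) ∈ T := hgQ
      have hxT : (x : G) ∈ T := hxQ
      have hg' : (g : G) = (x : G) * u * (x : G)⁻¹ * (u : G)⁻¹ := by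
        rw [hgx]; rfl
      have hux : (u : G) * (x : G)⁻¹ * (u : G)⁻¹ ∈ T := by
        have : (u : G) * (x : G)⁻¹ * (u : G)⁻¹ = (x : G)⁻¹ * g := by rw [hg']; group
        rw [this]; exact T.mul_mem (T.inv_mem hxT) hgT
      have hzle : Subgroup.zpowers (x : G)⁻¹ ≤ T := by
        rw [Subgroup.zpowers_le]; exact T.inv_mem hxT
      have hφ : conjHom (Subgroup.zpowers (x : G)⁻¹) (u : G) ∈ E.Hom (Subgroup.zpowers (x : G)⁻¹) := by
        refine ⟨hzle, ?_, u, u.2, fun _ => rfl⟩
        rintro ⟨_, k, rfl⟩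
        rw [conjHom_apply]
        show (u : G) * ((x : G)⁻¹ ^ k) * (u : G)⁻¹ ∈ T
        have : (u : G) * ((x : G)⁻¹ ^ k) * (u : G)⁻¹ = ((u : G) * (x : G)⁻¹ * (u : G)⁻¹) ^ k := by
          rw [conj_zpow]
        rw [this]; exact T.zpow_mem hux k
      show (g : G) ∈ E.focalSubgroup
      apply Subgroup.subset_closure
      refine ⟨_, _, ⟨(x : G)⁻¹, Subgroup.mem_zpowers _⟩, hφ, ?_⟩
      rw [conjHom_apply, hg']
      group
    intro t ht
    have ht' : (⟨t, ht.2⟩ : N) ∈ (Q : Subgroup N) := by rw [hQ]; exact ht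
    rw [h1] at ht'
    exact h3 ht'
  rw [Cfsg.Agent.S5092.result p hTp E hEsat] at hfoc
  -- pass to the group T
  set K := E.hyperfocalSubgroup p with hK
  have hKT : K ≤ T := hyperfocal_le E p
  haveI : (K.subgroupOf T).Normal := by
    constructor
    intro n hn g
    exact hyperfocal_conj_mem E p g.2 hn
  have htop : K.subgroupOf T ⊔ commutator T = ⊤ := by
    rw [eq_top_iff]
    have : (⊤ : Subgroup T).map T.subtype ≤ (K.subgroupOf T ⊔ commutator T).map T.subtype := by
      rw [Subgroup.map_sup, Subgroup.map_subtype_commutator, Subgroup.subgroupOf_map_subtype,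
        inf_eq_left.mpr hKT]
      rintro _ ⟨t, -, rfl⟩
      exact hfoc t.2
    exact (Subgroup.map_le_map_iff_of_injective T.subtype_injective).mp this
  have := eq_top_of_sup_commutator hTp (K.subgroupOf T) htop
  intro t ht
  have h1 : (⟨t, ht⟩ : T) ∈ K.subgroupOf T := by rw [this]; trivial
  exact h1

end Cfsg.Agent.S5093
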