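import Cfsg.Statements.S0078
import Mathlib
import Cfsg.Agent.S5093
import Cfsg.Agent.Lib.Helper1.Basic
import Cfsg.Agent.Lib.Helper1.SZQuot

set_option autoImplicit false
open Cfsg

namespace Cfsg.Agent.S0078

open Cfsg
open Cfsg.Agent.Lib.Helper1
open scoped Pointwise

theorem ctrl0078 {G : Type*} [Group G] [Finite G] {p : ℕ} [Fact p.Prime] (P : Sylow p G)
    (hn : ∀ Q : Sylow p G, (P : Subgroup G) ⊓ Subgroup.centralizer (P : Set G) ≤ (Q : Subgroup G) → (Q : Subgroup G) ⊓ Subgroup.centralizer (Q : Set G) = (P : Subgroup G) ⊓ Subgroup.centralizer (P : Set G))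
    (Q : Subgroup G) (hQ : Q ≤ P) (g : G) (hg1 : ∀ x ∈ Q, g * x * g⁻¹ ∈ Q) (hg2 : ∀ x ∈ Q, g⁻¹ * x * g ∈ Q) :
    ∃ v ∈ Subgroup.normalizer (((P : Subgroup G) ⊓ Subgroup.centralizer (P : Set G) : Subgroup G) : Set G),
      ∀ x ∈ Q, v * x * v⁻¹ = g * x * g⁻¹ := by
  set W := (P : Subgroup G) ⊓ Subgroup.centralizer (P : Set G) with hW
  set C := Subgroup.centralizer (Q : Set G) with hC
  have hWp : IsPGroup p W := P.2.to_le inf_le_left
  have hWC : W ≤ C := by
    intro w hw
    rw [hC, Subgroup.mem_centralizer_iff]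
    intro q hq
    exact Subgroup.mem_centralizer_iff.mp hw.2 q (hQ hq)
  have hWgC : ∀ w ∈ W, g * w * g⁻¹ ∈ C := by
    intro w hw
    rw [hC, Subgroup.mem_centralizer_iff]
    intro q hq
    have h1 := Subgroup.mem_centralizer_iff.mp (hWC hw) _ (hg2 q hq)
    calc q * (g * w * g⁻¹) = g * ((g⁻¹ * q * g) * w) * g⁻¹ := by group
      _ = g * (w * (g⁻¹ * q * g)) * g⁻¹ := by rw [h1]
      _ = g * w * g⁻¹ * q := by group
  have hp1 : IsPGroup p (W.subgroupOf C) := hWp.comap_subtype
  have hp2 : IsPGroup p ((MulAut.conj g • W).subgroupOf C) := by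
    apply IsPGroup.comap_subtype
    exact hWp.map (MulAut.conj g).toMonoidHom
  obtain ⟨R, hR⟩ := hp1.exists_le_sylow
  obtain ⟨R2, hR2⟩ := hp2.exists_le_sylow
  obtain ⟨c, hc⟩ := MulAction.exists_smul_eq C R2 R
  have hRe : (R : Subgroup C) = MulAut.conj c • (R2 : Subgroup C) := by rw [← hc]; rfl
  have hRp : IsPGroup p ((R : Subgroup C).map C.subtype) := R.2.map _
  obtain ⟨P1, hP1⟩ := hRp.exists_le_sylow
  have hWP1 : W ≤ P1 := by
    intro w hw
    apply hP1
    exact ⟨⟨w, hWC hw⟩, hR (by rw [Subgroup.mem_subgroupOf]; exact hw), rfl⟩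
  set h := (c : G) * g with hh
  have hWh : ∀ w ∈ W, h * w * h⁻¹ ∈ (P1 : Subgroup G) := by
    intro w hw
    apply hP1
    refine ⟨c * ⟨g * w * g⁻¹, hWgC w hw⟩ * c⁻¹, ?_, ?_⟩
    · rw [SetLike.mem_coe, hRe, mem_conj_smul]
      have : c⁻¹ * (c * ⟨g * w * g⁻¹, hWgC w hw⟩ * c⁻¹) * c = ⟨g * w * g⁻¹, hWgC w hw⟩ := by group
      rw [this]
      apply hR2
      rw [Subgroup.mem_subgroupOf, mem_conj_smul]
      have : g⁻¹ * (g * w * g⁻¹) * g = w := by group
      simp only [this]
      exact hw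
    · simp only [Subgroup.subtype_apply, Subgroup.coe_mul, Subgroup.coe_inv, hh]; group
  set P2 : Sylow p G := h⁻¹ • P1 with hP2
  have hP2e : (P2 : Subgroup G) = MulAut.conj h⁻¹ • (P1 : Subgroup G) := rfl
  have hWP2 : W ≤ P2 := by
    intro w hw
    rw [hP2e, mem_conj_smul, inv_inv]
    exact hWh w hw
  have e1 := hn P1 hWP1
  have e2 := hn P2 hWP2
  have hWW : ∀ w ∈ W, h * w * h⁻¹ ∈ W := by
    intro w hw
    rw [← e1]
    refine ⟨hWh w hw, Subgroup.mem_centralizer_iff.mpr ?_⟩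
    intro y hy
    have hw2 : w ∈ (P2 : Subgroup G) ⊓ Subgroup.centralizer (P2 : Set G) := by rw [e2]; exact hw
    have hy2 : h⁻¹ * y * h ∈ (P2 : Subgroup G) := by
      rw [hP2e, mem_conj_smul, inv_inv]
      have : h * (h⁻¹ * y * h) * h⁻¹ = y := by group
      rw [this]; exact hy
    have h1 := Subgroup.mem_centralizer_iff.mp hw2.2 _ hy2
    calc y * (h * w * h⁻¹) = h * ((h⁻¹ * y * h) * w) * h⁻¹ := by group
      _ = h * (w * (h⁻¹ * y * h)) * h⁻¹ := by rw [h1]
      _ = h * w * h⁻¹ * y := by group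
  refine ⟨h, ?_, ?_⟩
  · apply mem_normalizer_of_conj_smul_eq
    apply Subgroup.eq_of_le_of_card_ge
    · intro x hx
      rw [mem_conj_smul] at hx
      have := hWW _ hx
      have e : h * (h⁻¹ * x * h) * h⁻¹ = x := by group
      rwa [e] at this
    · rw [card_conj_smul]
  · intro x hx
    have hc' := Subgroup.mem_centralizer_iff.mp c.2 _ (hg1 x hx)
    calc h * x * h⁻¹ = (c : G) * (g * x * g⁻¹) * (c : G)⁻¹ := by rw [hh]; group
      _ = g * x * g⁻¹ := by rw [← hc', mul_inv_cancel_right]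

theorem pprime_lift {G : Type*} [Group G] [Finite G] {p : ℕ} [hp : Fact p.Prime] (Q V : Subgroup G) (β : MulAut Q)
    (hβ : (orderOf β).Coprime p) (v : G) (hv : v ∈ V) (h : ∀ x : Q, ((β x : Q) : G) = v * x * v⁻¹) :
    ∃ v' ∈ V, (orderOf v').Coprime p ∧ ∀ x : Q, ((β x : Q) : G) = v' * x * v'⁻¹ := by
  have hpow : ∀ (j : ℕ) (x : Q), (((β ^ j) x : Q) : G) = v ^ j * x * (v ^ j)⁻¹ := by
    intro j
    induction j with
    | zero => intro x; simp
    | succ j ih =>
      intro x
      rw [pow_succ', MulAut.mul_apply, h, ih, pow_succ']; group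
  set a := p ^ (orderOf v).factorization p with ha
  have hco : a.Coprime (orderOf β) := (Nat.Coprime.pow_right _ hβ).symm
  obtain ⟨m, hm⟩ := exists_pow_eq_self_of_coprime hco
  refine ⟨(v ^ a) ^ m, Subgroup.pow_mem _ (Subgroup.pow_mem _ hv _) _, ?_, ?_⟩
  · apply Nat.Coprime.coprime_dvd_left (orderOf_pow_dvd m)
    rw [ha, orderOf_pow_of_dvd (pow_ne_zero _ hp.out.ne_zero) (Nat.ordProj_dvd _ _)]
    exact (Nat.coprime_ordCompl hp.out (orderOf_pos v).ne').symm
  · intro x
    conv_lhs => rw [← hm]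
    rw [← pow_mul, hpow, ← pow_mul]

/-- In a p-normal group, a Sylow p-subgroup P meets O^p(G) exactly where it meets O^p(V), for any subgroup V containing the normalizer of the centre of P. -/
theorem result {G : Type*} [Group G] [Finite G] {p : ℕ} [Fact p.Prime] (P : Sylow p G) (hn : ∀ Q : Sylow p G, (P : Subgroup G) ⊓ Subgroup.centralizer (P : Set G) ≤ (Q : Subgroup G) → (Q : Subgroup G) ⊓ Subgroup.centralizer (Q : Set G) = (P : Subgroup G) ⊓ Subgroup.centralizer (P : Set G)) (V : Subgroup G) (hV : Subgroup.normalizer (((P : Subgroup G) ⊓ Subgroup.centralizer (P : Set G) : Subgroup G) : Set G) ≤ V) : (P : Subgroup G) ⊓ Cfsg.pResidual p G = (P : Subgroup G) ⊓ (Cfsg.pResidual p V).map V.subtype := by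
  set K := (Cfsg.pResidual p V).map V.subtype with hK
  have hPV : (P : Subgroup G) ≤ V := by
    refine le_trans ?_ hV
    intro x hx
    haveI : ((P : Subgroup G) ⊓ Subgroup.centralizer (P : Set G)).subgroupOf P |>.Normal := by
      have : ((P : Subgroup G) ⊓ Subgroup.centralizer (P : Set G)).subgroupOf P = Subgroup.center P := by
        ext y
        rw [Subgroup.mem_subgroupOf, Subgroup.mem_center_iff]
        constructor
        · rintro ⟨-, h2⟩ z
          exact Subtype.ext (Subgroup.mem_centralizer_iff.mp h2 z z.2)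
        · intro h
          refine ⟨y.2, Subgroup.mem_centralizer_iff.mpr fun z hz => ?_⟩
          exact congrArg Subtype.val (h ⟨z, hz⟩)
      rw [this]; infer_instance
    exact (Subgroup.normal_subgroupOf_iff_le_normalizer inf_le_left).mp inferInstance hx
  apply le_antisymm
  · refine le_inf inf_le_left ?_
    rw [← Cfsg.Agent.S5093.result p P]
    set F := groupFusionSystem (P : Subgroup G) with hF
    rw [FusionSystem.hyperfocalSubgroup, Subgroup.closure_le]
    rintro _ ⟨Q, α, x, hQ, hα, rfl⟩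
    -- step A
    have hA : ∀ β ∈ F.autGroup Q, ∃ g : G, ∀ x : Q, ((β x : Q) : G) = g * x * g⁻¹ := by
      intro β hβ
      induction hβ using Subgroup.closure_induction with
      | mem β hβ =>
        obtain ⟨-, -, g, hg⟩ := hβ
        exact ⟨g, hg⟩
      | one => exact ⟨1, fun x => by simp⟩
      | mul a b _ _ iha ihb =>
        obtain ⟨g, hg⟩ := iha
        obtain ⟨k, hk⟩ := ihb
        exact ⟨g * k, fun x => by rw [MulAut.mul_apply, hg, hk]; group⟩
      | inv a _ iha =>
        obtain ⟨g, hg⟩ := iha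
        refine ⟨g⁻¹, fun x => ?_⟩
        have := hg (a⁻¹ x)
        rw [MulAut.apply_inv_self] at this
        rw [this]; group
    have hD : ∀ β ∈ pResidual p (F.autGroup Q), ∃ v ∈ K, ∀ x : Q, ((((β : MulAut Q) x : Q)) : G) = v * x * v⁻¹ := by
      intro β hβ
      induction hβ using Subgroup.closure_induction with
      | mem β hβ =>
        have hβ' : (orderOf (β : MulAut Q)).Coprime p := by
          rw [Subgroup.orderOf_coe]; exact hβ
        obtain ⟨g, hg⟩ := hA β β.2
        have hg1 : ∀ x ∈ Q, g * x * g⁻¹ ∈ Q := by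
          intro x hx
          rw [← hg ⟨x, hx⟩]; exact Subtype.property _
        have hg2 : ∀ x ∈ Q, g⁻¹ * x * g ∈ Q := by
          intro x hx
          have := hg ((β : MulAut Q)⁻¹ ⟨x, hx⟩)
          rw [MulAut.apply_inv_self] at this
          have e : g⁻¹ * x * g = (((β : MulAut Q)⁻¹ ⟨x, hx⟩ : Q) : G) := by
            have t : x = g * (((β : MulAut Q)⁻¹ ⟨x, hx⟩ : Q) : G) * g⁻¹ := this
            conv_lhs => rw [t]
            group
          rw [e]; exact Subtype.property _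
        obtain ⟨v, hv, hvx⟩ := ctrl0078 P hn Q hQ g hg1 hg2
        obtain ⟨v', hv'V, hv'o, hv'x⟩ := pprime_lift Q V (β : MulAut Q) hβ' v (hV hv) (fun x => by
          rw [hg, hvx x x.2])
        refine ⟨v', ⟨⟨v', hv'V⟩, ?_, rfl⟩, hv'x⟩
        apply Subgroup.subset_closure
        show (orderOf (⟨v', hv'V⟩ : V)).Coprime p
        rw [← Subgroup.orderOf_coe]; exact hv'o
      | one => exact ⟨1, Subgroup.one_mem _, fun x => by simp⟩
      | mul a b _ _ iha ihb =>
        obtain ⟨g, hgK, hg⟩ := iha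
        obtain ⟨k, hkK, hk⟩ := ihb
        exact ⟨g * k, Subgroup.mul_mem _ hgK hkK, fun x => by
          rw [Subgroup.coe_mul, MulAut.mul_apply, hg, hk]; group⟩
      | inv a _ iha =>
        obtain ⟨g, hgK, hg⟩ := iha
        refine ⟨g⁻¹, Subgroup.inv_mem _ hgK, fun x => ?_⟩
        have := hg ((a : MulAut Q)⁻¹ x)
        rw [MulAut.apply_inv_self] at this
        rw [Subgroup.coe_inv, this]; group
    obtain ⟨v, hvK, hv⟩ := hD α hα
    rw [SetLike.mem_coe, hv]
    obtain ⟨v0, hv0, rfl⟩ := hvK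
    have hN := Cfsg.Agent.Fus.pResidual_normal (G := V) p
    have hxV : (x : G) ∈ V := hPV (hQ x.2)
    have h1 := hN.conj_mem v0 hv0 (⟨x, hxV⟩ : V)⁻¹
    have h2 := Subgroup.mul_mem _ h1 (Subgroup.inv_mem _ hv0)
    refine ⟨_, h2, ?_⟩
    simp only [Subgroup.subtype_apply, Subgroup.coe_mul, Subgroup.coe_inv, inv_inv]
    group
  · exact inf_le_inf_left _ (Cfsg.Agent.Fus.map_pResidual_le p V.subtype)

end Cfsg.Agent.S0078
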