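import Cfsg.Statements.S0092
import Mathlib
import Cfsg.Agent.Lib.Helper1.Transfer1
import Cfsg.Agent.Lib.Helper1.SZ
import Cfsg.Agent.Lib.Helper1.SZQuot
import Cfsg.Agent.Lib.Helper1.Coprime
import Cfsg.Agent.Lib.Helper1.FrobF
import Cfsg.Agent.Lib.Helper6.Off4
import Cfsg.Agent.S0075
import Cfsg.Agent.S0055

set_option autoImplicit false
open Cfsg

namespace Cfsg.Agent.S0092

open Cfsg.Agent.Lib.Helper1 Pointwise

/-- Schur–Zassenhaus conjugacy inside a subgroup `L`, the conjugating element taken in `L`. -/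
theorem sz_conj_mem {G : Type*} [Group G] [Finite G] (L R A B : Subgroup G) (hRL : R ≤ L)
    (hLR : L ≤ Subgroup.normalizer (R : Set G)) (hA : A ≤ L) (hB : B ≤ L)
    (hcop : (Nat.card R).Coprime (Nat.card A)) (hL : Nat.card L = Nat.card R * Nat.card A)
    (hAB : Nat.card B = Nat.card A) (hsol : Group.IsSolvable R) :
    ∃ g ∈ L, MulAut.conj g • A = B := by
  have hn : (R.subgroupOf L).Normal := (Subgroup.normal_subgroupOf_iff_le_normalizer hRL).mpr hLR
  have hidx : (R.subgroupOf L).index = Nat.card A := by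
    have h2 := (R.subgroupOf L).card_mul_index
    rw [card_subgroupOf hRL, hL] at h2
    exact Nat.eq_of_mul_eq_mul_left Nat.card_pos h2
  have hsol' : Group.IsSolvable (R.subgroupOf L) :=
    Group.isSolvable_of_isSolvable_injective
      (f := (Subgroup.subgroupOfEquivOfLe hRL).toMonoidHom)
      (Subgroup.subgroupOfEquivOfLe hRL).injective
  obtain ⟨a, ha⟩ := sz_conj (R.subgroupOf L) (by rw [hidx, card_subgroupOf hRL]; exact hcop)
    (A.subgroupOf L) (B.subgroupOf L) (by rw [card_subgroupOf hA, hidx])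
    (by rw [card_subgroupOf hB, hidx, hAB]) (Or.inl hsol')
  rw [Subgroup.conj_smul_subgroupOf hA] at ha
  exact ⟨a, a.2, eq_of_subgroupOf_eq (Subgroup.conj_smul_le_of_le hA a) hB ha⟩

theorem key {G : Type*} [Group G] [Finite G] (R L K P : Subgroup G)
    (hRab : ∀ x ∈ R, ∀ y ∈ R, x * y = y * x)
    (hKL : K ≤ L) (hRK : R ⊔ K = L) (hLR : L ≤ Subgroup.normalizer (R : Set G))
    (hcop : (Nat.card R).Coprime (Nat.card K))
    (hC : R ⊓ Subgroup.centralizer (K : Set G) = ⊥)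
    (hPL : P ≤ Subgroup.normalizer (L : Set G)) (hPLR : P ⊓ L = R) :
    (P ⊓ Subgroup.normalizer (K : Set G)) ⊓ L = ⊥ ∧
      ∀ x ∈ P, ∃ r ∈ R, ∃ s ∈ P ⊓ Subgroup.normalizer (K : Set G), x = r * s := by
  have hRL : R ≤ L := hRK ▸ le_sup_left
  have hRP : R ≤ P := hPLR ▸ inf_le_left
  have hRKbot : R ⊓ K = ⊥ := Subgroup.inf_eq_bot_of_coprime hcop
  constructor
  · rw [eq_bot_iff]
    rintro x ⟨⟨hxP, hxK⟩, hxL⟩
    have hxR : x ∈ R := hPLR ▸ (⟨hxP, hxL⟩ : x ∈ P ⊓ L)
    have hxc : x ∈ Subgroup.centralizer (K : Set G) := by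
      rw [Subgroup.mem_centralizer_iff]
      intro k hk
      have h1 : x * k * x⁻¹ ∈ K := (Subgroup.mem_normalizer_iff.mp hxK k).mp hk
      have h2 : k * x⁻¹ * k⁻¹ ∈ R :=
        (Subgroup.mem_normalizer_iff.mp (hLR (hKL hk)) x⁻¹).mp (R.inv_mem hxR)
      have h3 : x * k * x⁻¹ * k⁻¹ ∈ R ⊓ K := by
        refine ⟨?_, K.mul_mem h1 (K.inv_mem hk)⟩
        have : x * k * x⁻¹ * k⁻¹ = x * (k * x⁻¹ * k⁻¹) := by group
        rw [this]; exact R.mul_mem hxR h2
      rw [hRKbot, Subgroup.mem_bot] at h3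
      have : x * k = k * x := by
        have := congrArg (fun t => t * (k * x)) h3
        simpa [mul_assoc] using this
      exact this.symm
    have : x ∈ R ⊓ Subgroup.centralizer (K : Set G) := ⟨hxR, hxc⟩
    rwa [hC] at this
  · intro x hx
    have hB : MulAut.conj x • K ≤ L := by
      have h1 : MulAut.conj x • K ≤ MulAut.conj x • L :=
        Subgroup.pointwise_smul_le_pointwise_smul_iff.mpr hKL
      rwa [conj_smul_eq_of_mem_normalizer (hPL hx)] at h1
    have hcardL : Nat.card L = Nat.card R * Nat.card K := by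
      have := card_sup_mul_card_inf' K R (hKL.trans hLR)
      rw [sup_comm, hRK, inf_comm, hRKbot, Subgroup.card_bot, mul_one] at this
      rw [this, mul_comm]
    have hsol : Group.IsSolvable R :=
      Group.isSolvable_of_comm (fun a b => Subtype.ext (hRab a a.2 b b.2))
    obtain ⟨g, hgL, hg⟩ := sz_conj_mem L R K (MulAut.conj x • K) hRL hLR hKL hB hcop hcardL
      (card_conj_smul x K) hsol
    have hg' : g⁻¹ ∈ K ⊔ R := by rw [sup_comm, hRK]; exact L.inv_mem hgL
    obtain ⟨k, hk, r, hr, hkr⟩ := FrobF.mem_sup_of_le_normalizer (hKL.trans hLR) hg'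
    have hgeq : g = r⁻¹ * k⁻¹ := by rw [← inv_inv g, hkr]; group
    refine ⟨r⁻¹, R.inv_mem hr, r * x, ⟨P.mul_mem (hRP hr) hx, ?_⟩, by group⟩
    apply mem_normalizer_of_conj_smul_eq
    rw [map_mul, mul_smul, ← hg, ← mul_smul, ← map_mul, hgeq]
    have : r * (r⁻¹ * k⁻¹) = k⁻¹ := by group
    rw [this]
    exact Subgroup.conj_smul_eq_self_of_mem (K.inv_mem hk)

theorem conj_mem_iff_of_mem {G : Type*} [Group G] {H : Subgroup G} {x : G} (hx : x ∈ H) (h : G) :
    h ∈ H ↔ x * h * x⁻¹ ∈ H :=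
  ⟨fun hh => H.mul_mem (H.mul_mem hx hh) (H.inv_mem hx), fun hh => by
    have := H.mul_mem (H.mul_mem (H.inv_mem hx) hh) hx
    simpa [mul_assoc] using this⟩

theorem conj_mem_iff_of_normal {G : Type*} [Group G] {H : Subgroup G} (hH : H.Normal) (x h : G) :
    h ∈ H ↔ x * h * x⁻¹ ∈ H :=
  ⟨fun hh => hH.conj_mem h hh x, fun hh => by
    have := hH.conj_mem _ hh x⁻¹
    simpa [mul_assoc] using this⟩


/-- If the Sylow p-subgroups of O^p(G) are abelian then G splits over O^p(G). -/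
theorem result {G : Type*} [Group G] [Finite G] {p : ℕ} [Fact p.Prime] (h : ∀ Q : Sylow p (Cfsg.pResidual p G), IsMulCommutative Q) : ∃ K : Subgroup G, K.IsComplement' (Cfsg.pResidual p G) := by
  classical
  have hp : p.Prime := Fact.out
  have hNn : (Cfsg.pResidual p G).Normal := pResidual_normal p
  obtain ⟨N, hNdef⟩ : ∃ N : Subgroup G, N = Cfsg.pResidual p G := ⟨_, rfl⟩
  rw [← hNdef] at h hNn ⊢
  obtain ⟨T⟩ : Nonempty (Sylow p ↥N) := inferInstance
  obtain ⟨P, hPT⟩ := Sylow.exists_comap_subtype_eq T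
  have hTab := h T
  obtain ⟨R, hR⟩ : ∃ R : Subgroup G, R = (T : Subgroup ↥N).map N.subtype := ⟨_, rfl⟩
  have hRPN : (P : Subgroup G) ⊓ N = R := by
    rw [hR, ← hPT]; exact (Subgroup.subgroupOf_map_subtype _ _).symm
  have hRN : R ≤ N := hRPN ▸ inf_le_right
  have hRP : R ≤ P := hRPN ▸ inf_le_left
  have htop : Cfsg.pResidual p ↥N = ⊤ := by
    apply Subgroup.map_injective N.subtype_injective
    rw [← MonoidHom.range_eq_map, Subgroup.range_subtype]
    apply le_antisymm (Subgroup.map_subtype_le _)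
    intro g hg
    rw [hNdef] at hg
    refine (Subgroup.closure_le _).mpr ?_ hg
    intro y hy
    have hy' : Nat.Coprime (orderOf y) p := hy
    have hyN : y ∈ N := hNdef ▸ mem_pResidual_of_coprime hy'
    refine ⟨⟨y, hyN⟩, ?_, rfl⟩
    apply Subgroup.subset_closure
    show Nat.Coprime (orderOf (⟨y, hyN⟩ : ↥N)) p
    rwa [← Subgroup.orderOf_coe]
  have h75 := Cfsg.Agent.S0075.result T hTab
  rw [htop, inf_top_eq] at h75
  obtain ⟨L, hL⟩ : ∃ L : Subgroup G, L = N ⊓ Subgroup.normalizer (R : Set G) := ⟨_, rfl⟩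
  have hRL : R ≤ L := hL ▸ le_inf hRN Subgroup.le_normalizer
  have hLR : L ≤ Subgroup.normalizer (R : Set G) := hL ▸ inf_le_right
  have hLN : L ≤ N := hL ▸ inf_le_left
  have hRcomm : R ≤ ⁅R, L⁆ := by
    have h1 : R = ⁅R, (Subgroup.normalizer ((T : Subgroup ↥N) : Set ↥N)).map N.subtype⁆ := by
      conv_lhs => rw [hR, h75, Subgroup.map_commutator, ← hR]
      rfl
    calc R = ⁅R, (Subgroup.normalizer ((T : Subgroup ↥N) : Set ↥N)).map N.subtype⁆ := h1
      _ ≤ ⁅R, L⁆ := by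
        apply Subgroup.commutator_mono le_rfl
        rw [hL]
        refine le_inf (Subgroup.map_subtype_le _) ?_
        rw [hR]
        exact Subgroup.le_normalizer_map _
  have hRab : ∀ x ∈ R, ∀ y ∈ R, x * y = y * x := by
    intro x hx y hy
    rw [hR] at hx hy
    obtain ⟨a, ha, rfl⟩ := hx
    obtain ⟨b, hb, rfl⟩ := hy
    have := congrArg Subtype.val (mul_comm' (⟨a, ha⟩ : (T : Subgroup ↥N)) ⟨b, hb⟩)
    exact congrArg Subtype.val this
  have hRinst : IsMulCommutative R := ⟨⟨fun a b => Subtype.ext (hRab a a.2 b b.2)⟩⟩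
  have hRp : IsPGroup p R := by rw [hR]; exact T.2.map _
  have hidx : ¬ p ∣ R.relIndex L := by
    intro hd
    have h1 := Subgroup.relIndex_mul_relIndex R L N hRL hLN
    have h2 : R.relIndex N = (T : Subgroup ↥N).index := by
      rw [Subgroup.relIndex, hR, Subgroup.subgroupOf,
        Subgroup.comap_map_eq_self_of_injective N.subtype_injective]
    exact T.not_dvd_index (h2 ▸ h1 ▸ Dvd.dvd.mul_right hd _)
  have hcop : (Nat.card R).Coprime (R.relIndex L) := by
    obtain ⟨a, ha⟩ := IsPGroup.iff_card.mp hRp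
    rw [ha]
    exact Nat.Coprime.pow_left a ((Nat.Prime.coprime_iff_not_dvd hp).mpr hidx)
  obtain ⟨K, hKL, hKc, hRK⟩ := Cfsg.Agent.Lib.Helper6.Off4.exists_complement_sub hRL hLR hcop
  have hcopRK : (Nat.card R).Coprime (Nat.card K) := hKc ▸ hcop
  have h55 := (Cfsg.Agent.S0055.result K R (hKL.trans hLR) hcopRK.symm).1
  have hLK : ⁅R, L⁆ ≤ ⁅R, K⁆ := by
    rw [Subgroup.commutator_le]
    intro r0 hr0 l hl
    have hl' : l ∈ K ⊔ R := by rw [sup_comm, hRK]; exact hl
    obtain ⟨k, hk, r, hr, rfl⟩ := FrobF.mem_sup_of_le_normalizer (hKL.trans hLR) hl'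
    have hh := Subgroup.commutator_mem_commutator hr0 hk
    rw [commutatorElement_def] at hh ⊢
    have h1 : r * r0⁻¹ = r0⁻¹ * r := hRab r hr r0⁻¹ (R.inv_mem hr0)
    have : r0 * (k * r) * r0⁻¹ * (k * r)⁻¹ = r0 * k * r0⁻¹ * k⁻¹ := by
      calc r0 * (k * r) * r0⁻¹ * (k * r)⁻¹ = r0 * k * (r * r0⁻¹) * r⁻¹ * k⁻¹ := by group
        _ = r0 * k * r0⁻¹ * k⁻¹ := by rw [h1]; group
    rw [this]
    exact hh
  have hC : R ⊓ Subgroup.centralizer (K : Set G) = ⊥ := by
    rw [eq_bot_iff, ← h55]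
    exact le_inf le_rfl (inf_le_left.trans (hRcomm.trans hLK))
  have hPR : (P : Subgroup G) ≤ Subgroup.normalizer (R : Set G) := by
    intro x hx
    rw [Subgroup.mem_normalizer_iff]
    intro y
    rw [← hRPN, Subgroup.mem_inf, Subgroup.mem_inf, ← conj_mem_iff_of_mem hx,
      ← conj_mem_iff_of_normal hNn]
  have hPL : (P : Subgroup G) ≤ Subgroup.normalizer (L : Set G) := by
    intro x hx
    rw [Subgroup.mem_normalizer_iff]
    intro y
    rw [hL, Subgroup.mem_inf, Subgroup.mem_inf, ← conj_mem_iff_of_mem (hPR hx),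
      ← conj_mem_iff_of_normal hNn]
  have hPLR : (P : Subgroup G) ⊓ L = R := by
    apply le_antisymm
    · rw [← hRPN]
      exact inf_le_inf_left _ hLN
    · exact le_inf hRP hRL
  obtain ⟨h1, h2⟩ := key R L K P hRab hKL hRK hLR hcopRK hC hPL hPLR
  refine ⟨(P : Subgroup G) ⊓ Subgroup.normalizer (K : Set G), ?_⟩
  apply Subgroup.isComplement'_of_disjoint_and_mul_eq_univ
  · rw [disjoint_iff, eq_bot_iff, ← h1]
    intro x hx
    refine ⟨hx.1, hRL ?_⟩
    rw [← hRPN]
    exact ⟨hx.1.1, hx.2⟩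
  · rw [Set.eq_univ_iff_forall]
    intro g
    have hg : g ∈ (P : Subgroup G) ⊔ N := by
      rw [hNdef, sylow_sup_pResidual P]; exact Subgroup.mem_top g
    obtain ⟨x, hx, n, hn, rfl⟩ := Subgroup.mem_sup_of_normal_right.mp hg
    obtain ⟨r, hr, s, hs, rfl⟩ := h2 x hx
    rw [Set.mem_mul]
    refine ⟨s, hs, s⁻¹ * r * s * n, ?_, by group⟩
    apply N.mul_mem _ hn
    have := hNn.conj_mem r (hRN hr) s⁻¹
    simpa using this

end Cfsg.Agent.S0092
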