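import Cfsg.Statements.S0105
import Mathlib
import Cfsg.Agent.Lib.Helper1.Transfer1
import Cfsg.Agent.Lib.Helper1.FrobF
import Cfsg.Agent.Lib.Helper6.Off4
import Cfsg.Agent.S0075
import Cfsg.Agent.S0055

set_option autoImplicit false
open Cfsg

namespace Cfsg.Agent.S0105

open Cfsg.Agent.Lib.Helper1 Pointwise

/-- With an abelian Sylow p-subgroup P, some quotient of G is isomorphic to the part of P central in N_G(P). -/
theorem result {G : Type*} [Group G] [Finite G] {p : ℕ} [Fact p.Prime] (P : Sylow p G) (hP : IsMulCommutative P) : ∃ (N : Subgroup G) (hN : N.Normal), Nonempty (G ⧸ N ≃* ((P : Subgroup G) ⊓ Subgroup.centralizer (Subgroup.normalizer (P : Set G) : Set G) : Subgroup G)) := by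
  classical
  have hp : p.Prime := Fact.out
  have hNn : (Cfsg.pResidual p G).Normal := pResidual_normal p
  refine ⟨Cfsg.pResidual p G, hNn, ?_⟩
  have h75 := Cfsg.Agent.S0075.result P hP
  obtain ⟨R, hR⟩ : ∃ R : Subgroup G, R = (P : Subgroup G) := ⟨_, rfl⟩
  obtain ⟨L, hL⟩ : ∃ L : Subgroup G, L = Subgroup.normalizer ((P : Subgroup G) : Set G) := ⟨_, rfl⟩
  have hRL : R ≤ L := by rw [hR, hL]; exact Subgroup.le_normalizer
  have hLR : L ≤ Subgroup.normalizer (R : Set G) := by rw [hR, hL]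
  have hRab : ∀ x ∈ R, ∀ y ∈ R, x * y = y * x := by
    intro x hx y hy
    rw [hR] at hx hy
    exact congrArg Subtype.val (mul_comm' (⟨x, hx⟩ : (P : Subgroup G)) ⟨y, hy⟩)
  have hRinst : IsMulCommutative R := ⟨⟨fun a b => Subtype.ext (hRab a a.2 b b.2)⟩⟩
  have hRp : IsPGroup p R := by rw [hR]; exact P.2
  have hidx : ¬ p ∣ R.relIndex L := by
    intro hd
    have h1 := Subgroup.relIndex_mul_index hRL
    apply P.not_dvd_index
    rw [← hR, ← h1]
    exact Dvd.dvd.mul_right hd _
  have hcop : (Nat.card R).Coprime (R.relIndex L) := by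
    obtain ⟨a, ha⟩ := IsPGroup.iff_card.mp hRp
    rw [ha]
    exact Nat.Coprime.pow_left a ((Nat.Prime.coprime_iff_not_dvd hp).mpr hidx)
  obtain ⟨K, hKL, hKc, hRK⟩ := Cfsg.Agent.Lib.Helper6.Off4.exists_complement_sub hRL hLR hcop
  have hcopRK : (Nat.card R).Coprime (Nat.card K) := hKc ▸ hcop
  obtain ⟨h55a, h55b⟩ := Cfsg.Agent.S0055.result K R (hKL.trans hLR) hcopRK.symm
  have hLK : ⁅R, L⁆ ≤ ⁅R, K⁆ := by
    rw [Subgroup.commutator_le]
    intro r0 hr0 l hl
    have hl' : l ∈ K ⊔ R := by rw [sup_comm, hRK]; exact hl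
    obtain ⟨k, hk, r, hr, rfl⟩ := FrobF.mem_sup_of_le_normalizer (hKL.trans hLR) hl'
    have hh := Subgroup.commutator_mem_commutator hr0 hk
    rw [commutatorElement_def] at hh ⊢
    have h1 : r * r0⁻¹ = r0⁻¹ * r := hRab r hr r0⁻¹ (R.inv_mem hr0)
    have : r0 * (k * r) * r0⁻¹ * (k * r)⁻¹ = r0 * k * r0⁻¹ * k⁻¹ := by
      calc r0 * (k * r) * r0⁻¹ * (k * r)⁻¹ = r0 * k * (r * r0⁻¹) * r⁻¹ * k⁻¹ := by group
        _ = r0 * k * r0⁻¹ * k⁻¹ := by rw [h1]; group
    rw [this]
    exact hh
  have hcomm : ⁅R, K⁆ = R ⊓ Cfsg.pResidual p G := by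
    rw [hR, h75, ← hR]
    apply le_antisymm
    · have hL' : Subgroup.normalizer (P : Set G) = L := hL.symm
      rw [hL']; exact Subgroup.commutator_mono le_rfl hKL
    · have hL' : Subgroup.normalizer (P : Set G) = L := hL.symm
      rw [hL']; exact hLK
  have hZ : R ⊓ Subgroup.centralizer (K : Set G) = R ⊓ Subgroup.centralizer (L : Set G) := by
    apply le_antisymm
    · rintro x ⟨hx1, hx2⟩
      refine ⟨hx1, ?_⟩
      have h5 : L ≤ Subgroup.centralizer {x} := by
        rw [← hRK]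
        apply sup_le
        · intro a ha
          rw [Subgroup.mem_centralizer_singleton_iff]
          exact hRab a ha x hx1
        · intro k hk
          rw [Subgroup.mem_centralizer_singleton_iff]
          exact (Subgroup.mem_centralizer_iff.mp hx2 k hk)
      apply Subgroup.mem_centralizer_iff.mpr
      intro l hl
      exact Subgroup.mem_centralizer_singleton_iff.mp (h5 hl)
    · exact inf_le_inf_left _ (Subgroup.centralizer_le hKL)
  have hcompl : (R ⊓ Subgroup.centralizer (L : Set G)).IsComplement' (Cfsg.pResidual p G) := by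
    apply Subgroup.isComplement'_of_disjoint_and_mul_eq_univ
    · rw [disjoint_iff, eq_bot_iff, ← h55a, hcomm, hZ]
      intro x hx
      exact ⟨hx.1, hx.1.1, hx.2⟩
    · rw [← Subgroup.mul_normal]
      have : (R ⊓ Subgroup.centralizer (L : Set G)) ⊔ Cfsg.pResidual p G = ⊤ := by
        rw [eq_top_iff, ← sylow_sup_pResidual P, ← hR]
        apply sup_le _ le_sup_right
        conv_lhs => rw [← h55b]
        apply sup_le
        · rw [hZ]; exact le_sup_left
        · rw [hcomm]; exact inf_le_right.trans le_sup_right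
      rw [this]; rfl
  rw [hR, hL] at hcompl
  exact ⟨hcompl.QuotientMulEquiv⟩

end Cfsg.Agent.S0105
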