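import Cfsg.Statements.S0108
import Cfsg.Agent.Lib.Helper6.Off6
import Cfsg.Agent.Lib.Helper3.WS2
import Cfsg.Agent.Lib.Helper3.ZJ5
import Cfsg.Agent.Lib.Helper9.PFix
import Cfsg.Agent.S0055

set_option autoImplicit false
set_option linter.unusedSectionVars false
set_option maxHeartbeats 400000
open Cfsg

namespace Cfsg.Agent.S0108

section aux

open Cfsg.Agent.Lib.Helper6.Basic Cfsg.Agent.Lib.Helper6.Subn Cfsg.Agent.Lib.Helper6.Quasi
  Cfsg.Agent.Lib.Helper6.Rad Cfsg.Agent.Lib.Helper6.Off Cfsg.Agent.Lib.Helper6.Off2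
  Cfsg.Agent.Lib.Helper6.Off3 Cfsg.Agent.Lib.Helper6.Off4 Cfsg.Agent.Lib.Helper6.Off5
  Cfsg.Agent.Lib.Helper6.Off6
  Cfsg.Agent.Lib.Helper6.PAct Cfsg.Agent.Lib.Helper6.FStar
open Cfsg.Agent.Lib.Helper3.PLocal Cfsg.Agent.Lib.Helper1 Cfsg.Agent.Lib.Helper3.PStab
open scoped commutatorElement Pointwise

universe u
variable {X : Type u} [Group X]

theorem mem_PMaxE [Finite X] {p : ℕ} {D A : Subgroup X} (hA : A ∈ PMax (Pea p) D) {x : X}
    (hx : x ∈ D) (hxp : x ^ p = 1) (hxc : ∀ a ∈ A, a * x = x * a) : x ∈ A := by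
  have h1 : Cfsg.IsElementaryAbelian p (A ⊔ Subgroup.zpowers x) := by
    apply ea_sup hA.2.1 (ea_zpowers hxp)
    intro a ha b hb
    obtain ⟨i, rfl⟩ := Subgroup.mem_zpowers_iff.1 hb
    exact ((show Commute a x from hxc a ha).zpow_right i)
  have h2 : A ⊔ Subgroup.zpowers x ≤ D := sup_le hA.1 (by rw [Subgroup.zpowers_le]; exact hx)
  have h3 := Subgroup.eq_of_le_of_card_ge (le_sup_left : A ≤ A ⊔ Subgroup.zpowers x)
    (hA.2.2 _ h2 h1)
  rw [h3]
  exact (le_sup_right : Subgroup.zpowers x ≤ _) (Subgroup.mem_zpowers x)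

theorem JE_normal [Finite X] {p : ℕ} {S T : Subgroup X} (hT : T.Normal) (hTS : T ≤ S)
    (h : ∀ A ∈ PMax (Pea p) S, A ≤ T) : (sSup (PMax (Pea p) S)).Normal := by
  have hconj : ∀ g : X, ∀ A ∈ PMax (Pea p) S, cj g A ∈ PMax (Pea p) S := by
    intro g A hA
    refine ⟨?_, ?_, ?_⟩
    · calc cj g A ≤ cj g T := cj_mono (h A hA)
        _ = T := cj_normal g
        _ ≤ S := hTS
    · exact ea_map _ hA.2.1
    · intro C hC hPC
      rw [card_cj]
      exact hA.2.2 C hC hPC
  apply Cfsg.Agent.Lib.Helper6.Ores.normal_of_top_le_Nz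
  intro g _
  rw [← cj_eq_self_iff]
  apply Subgroup.eq_of_le_of_card_ge _ (by rw [card_cj])
  rw [cj_le_iff]
  apply sSup_le
  intro A hA
  rw [← cj_le_iff]
  exact le_sSup (hconj g A hA)

theorem exists_pow_order_p {p : ℕ} {z : X} (hz : z ≠ 1) (hk : ∃ k : ℕ, z ^ p ^ k = 1) :
    ∃ m : ℕ, z ^ m ≠ 1 ∧ (z ^ m) ^ p = 1 := by
  classical
  have h0 : Nat.find hk ≠ 0 := by
    intro h
    have := Nat.find_spec hk
    rw [h] at this
    exact hz (by simpa using this)
  obtain ⟨k, hk'⟩ := Nat.exists_eq_succ_of_ne_zero h0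
  refine ⟨p ^ k, ?_, ?_⟩
  · exact Nat.find_min hk (by omega)
  · rw [← pow_mul, ← pow_succ, ← Nat.succ_eq_add_one, ← hk']
    exact Nat.find_spec hk

theorem finalOddE [Finite X] {p : ℕ} [hp : Fact p.Prime] (hp2 : p ≠ 2)
    [hRn : (Cfsg.pCore p X).Normal]
    (h1 : Subgroup.centralizer (Cfsg.pCore p X : Set X) ≤ Cfsg.pCore p X)
    (h2 : Cfsg.HasNormalPComplement p (X ⧸ Cfsg.pCore p X))
    (h3 : ∀ P : Sylow p X, IsCoatom (P : Subgroup X))
    (S : Sylow p X)
    (hZ : Cfsg.HasNormalPComplement p ↥(Nz ((S : Subgroup X) ⊓ Cz (S : Subgroup X))))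
    (hJ : Cfsg.HasNormalPComplement p ↥(Nz (sSup (PMax (Pea p) (S : Subgroup X))))) :
    Cfsg.HasNormalPComplement p X := by
  have hab := ab2_final hp2 h2 S (h3 S)
  have h4 := ZJ_ea hp2 h1 (fun B _ hB => pStableOn_of_ab2 hp2 hab B hB) S
  have h6 : (XX (Pea p) (S : Subgroup X)).Normal := inferInstance
  have hCn : (Cz (XX (Pea p) (S : Subgroup X))).Normal := Subgroup.normal_centralizer
  rcases eq_or_lt_of_le
    (le_sup_right : (S : Subgroup X) ≤ Cz (XX (Pea p) (S : Subgroup X)) ⊔ S) with h | h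
  · have hCS : Cz (XX (Pea p) (S : Subgroup X)) ≤ (S : Subgroup X) :=
      le_sup_left.trans (le_of_eq h.symm)
    have hall : ∀ A ∈ PMax (Pea p) (S : Subgroup X), A ≤ Cz (XX (Pea p) (S : Subgroup X)) := by
      intro A hA
      have hAab : A ≤ Cz A := Subgroup.le_centralizer_iff_isMulCommutative.mpr hA.2.1.1
      exact hAab.trans (Cz_anti (sInf_le hA))
    have := JE_normal hCn hCS hall
    rw [show Nz (sSup (PMax (Pea p) (S : Subgroup X))) = ⊤ from
      Subgroup.normalizer_eq_top_iff.mpr this] at hJ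
    exact pn_top_iff.mp hJ
  · have htop := (h3 S).2 _ h
    have hRS : Cfsg.pCore p X ≤ (S : Subgroup X) := Cfsg.Agent.Lib.Helper1.pCore_le_sylow S
    have hRp : IsPGroup p (Cfsg.pCore p X) := S.isPGroup'.to_le hRS
    have hCRn : (Cz (Cfsg.pCore p X)).Normal := Subgroup.normal_centralizer
    have hVn : (Cfsg.pCore p X ⊓ Cz (Cfsg.pCore p X)).Normal := inferInstance
    have hVc : IsMulCommutative ↥(Cfsg.pCore p X ⊓ Cz (Cfsg.pCore p X)) :=
      ⟨⟨fun a b => Subtype.ext ((Subgroup.mem_centralizer_iff.mp b.2.2) a a.2.1)⟩⟩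
    have hDn := pResidual_normal (G := X) p
    have hLn : (Cfsg.pCore p X ⊔ Cfsg.pResidual p X).Normal := inferInstance
    have hcop : (Nat.card (Cfsg.pCore p X)).Coprime
        ((Cfsg.pCore p X).relIndex (Cfsg.pCore p X ⊔ Cfsg.pResidual p X)) := by
      rw [Subgroup.relIndex_sup_left]
      have e1 : (Cfsg.pCore p X).relIndex (Cfsg.pResidual p X) =
          Nat.card ((Cfsg.pResidual p X).map (QuotientGroup.mk' (Cfsg.pCore p X))) := by
        rw [← Subgroup.relIndex_ker, QuotientGroup.ker_mk']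
      have e2 : (Cfsg.pResidual p X).map (QuotientGroup.mk' (Cfsg.pCore p X)) ≤
          Cfsg.pResidual p (X ⧸ Cfsg.pCore p X) := by
        rw [Cfsg.pResidual, MonoidHom.map_closure, Subgroup.closure_le]
        rintro _ ⟨x, hx, rfl⟩
        apply mem_pResidual_of_coprime
        exact Nat.Coprime.coprime_dvd_left (orderOf_map_dvd _ x) hx
      have e3 := hasNormalPComplement_iff.mp h2
      have e4 := Nat.Coprime.coprime_dvd_left (Subgroup.card_dvd_of_le e2) e3
      obtain ⟨n, hn⟩ := IsPGroup.iff_card.mp hRp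
      rw [e1, hn]
      exact (Nat.Coprime.pow_right n e4).symm
    obtain ⟨K, hKL, hKc, hRK⟩ := exists_complement_sub
      (le_sup_left : Cfsg.pCore p X ≤ Cfsg.pCore p X ⊔ Cfsg.pResidual p X)
      (le_top.trans (le_of_eq (Subgroup.normalizer_eq_top_iff.mpr hRn).symm)) hcop
    have hKcop : (Nat.card K).Coprime (Nat.card ↥(Cfsg.pCore p X ⊓ Cz (Cfsg.pCore p X))) := by
      rw [hKc]
      exact (Nat.Coprime.coprime_dvd_left (Subgroup.card_dvd_of_le inf_le_left) hcop).symm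
    have h55 := (Cfsg.Agent.S0055.result K (Cfsg.pCore p X ⊓ Cz (Cfsg.pCore p X))
      (le_top.trans (le_of_eq (Subgroup.normalizer_eq_top_iff.mpr hVn).symm)) hKcop).1
    have hWn : (⁅Cfsg.pCore p X ⊓ Cz (Cfsg.pCore p X),
        Cfsg.pCore p X ⊔ Cfsg.pResidual p X⁆).Normal := inferInstance
    have hWV : ⁅Cfsg.pCore p X ⊓ Cz (Cfsg.pCore p X), Cfsg.pCore p X ⊔ Cfsg.pResidual p X⁆ ≤
        Cfsg.pCore p X ⊓ Cz (Cfsg.pCore p X) := Subgroup.commutator_le_left _ _
    have hWK : ⁅Cfsg.pCore p X ⊓ Cz (Cfsg.pCore p X), Cfsg.pCore p X ⊔ Cfsg.pResidual p X⁆ ≤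
        ⁅Cfsg.pCore p X ⊓ Cz (Cfsg.pCore p X), K⁆ := by
      rw [Subgroup.commutator_le]
      intro v hv l hl
      rw [← hRK, sup_comm] at hl
      obtain ⟨k, hk, r, hr, rfl⟩ := Subgroup.mem_sup_of_normal_right.mp hl
      have hthis : ⁅v, k * r⁆ = ⁅v, k⁆ := by
        have hc : r * v⁻¹ = v⁻¹ * r := (Subgroup.mem_centralizer_iff.mp (inv_mem hv.2)) r hr
        rw [commutatorElement_def, commutatorElement_def]
        calc v * (k * r) * v⁻¹ * (k * r)⁻¹ = v * k * (r * v⁻¹) * r⁻¹ * k⁻¹ := by group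
          _ = v * k * (v⁻¹ * r) * r⁻¹ * k⁻¹ := by rw [hc]
          _ = v * k * v⁻¹ * k⁻¹ := by group
      rw [hthis]
      exact Subgroup.commutator_mem_commutator hv hk
    have hWbot : ⁅Cfsg.pCore p X ⊓ Cz (Cfsg.pCore p X),
        Cfsg.pCore p X ⊔ Cfsg.pResidual p X⁆ = ⊥ := by
      by_contra hne
      obtain ⟨z, hzW, hz1, hzfix⟩ := Cfsg.Agent.Lib.Helper9.PFix.exists_fixed
        (T := (S : Subgroup X))
        (hRp.to_le (hWV.trans inf_le_left)) S.isPGroup'
        (le_top.trans (le_of_eq (Subgroup.normalizer_eq_top_iff.mpr hWn).symm)) hne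
      obtain ⟨m, hm1, hmp⟩ := exists_pow_order_p (p := p) hz1 (by
        obtain ⟨k, hk⟩ := hRp ⟨z, (hWV hzW).1⟩
        exact ⟨k, congrArg Subtype.val hk⟩)
      have hzmW := pow_mem hzW m
      have hzmS : z ^ m ∈ (S : Subgroup X) := hRS (hWV hzmW).1
      have hcomm : ∀ t ∈ (S : Subgroup X), t * z ^ m = z ^ m * t := by
        intro t ht
        have h := hzfix t ht
        have h' : t * z = z * t := by
          calc t * z = (t * z * t⁻¹) * t := by group
            _ = z * t := by rw [h]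
        exact (show Commute t z from h').pow_right m
      have hzY : z ^ m ∈ XX (Pea p) (S : Subgroup X) := by
        apply Subgroup.mem_sInf.mpr
        intro A hA
        exact mem_PMaxE hA hzmS hmp (fun a ha => hcomm a (hA.1 ha))
      have hall : (⊤ : Subgroup X) ≤ Subgroup.centralizer {z ^ m} := by
        rw [← htop]
        apply sup_le
        · intro c hc
          rw [Subgroup.mem_centralizer_singleton_iff]
          exact ((Subgroup.mem_centralizer_iff.mp hc) _ hzY).symm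
        · intro t ht
          rw [Subgroup.mem_centralizer_singleton_iff]
          exact hcomm t ht
      have hzK : z ^ m ∈ Cz K := by
        rw [Subgroup.mem_centralizer_iff]
        intro k _
        exact (Subgroup.mem_centralizer_singleton_iff.mp (hall (Subgroup.mem_top k)))
      have hmem : z ^ m ∈ ((Cfsg.pCore p X ⊓ Cz (Cfsg.pCore p X)) ⊓ Cz K) ⊓
          ⁅Cfsg.pCore p X ⊓ Cz (Cfsg.pCore p X), K⁆ := ⟨⟨hWV hzmW, hzK⟩, hWK hzmW⟩
      rw [h55] at hmem
      exact hm1 (Subgroup.mem_bot.mp hmem)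
    have hLC : Cfsg.pCore p X ⊔ Cfsg.pResidual p X ≤
        Cz (Cfsg.pCore p X ⊓ Cz (Cfsg.pCore p X)) := by
      rw [Subgroup.commutator_comm] at hWbot
      exact Subgroup.commutator_eq_bot_iff_le_centralizer.mp hWbot
    have hZV : (S : Subgroup X) ⊓ Cz (S : Subgroup X) ≤
        Cfsg.pCore p X ⊓ Cz (Cfsg.pCore p X) := by
      intro z hz
      have hzc : z ∈ Cz (Cfsg.pCore p X) := Cz_anti hRS hz.2
      exact ⟨h1 hzc, hzc⟩
    rw [pn_iff_frobHyp]
    intro Q hQ g hg hcopg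
    have hgD : g ∈ Cfsg.pResidual p X := mem_pResidual_of_coprime hcopg
    have hgC : g ∈ Cz ((S : Subgroup X) ⊓ Cz (S : Subgroup X)) :=
      Cz_anti hZV (hLC ((le_sup_right : Cfsg.pResidual p X ≤ _) hgD))
    have hgR : g ∈ Cz (Cfsg.pCore p X) := (pn_subgroup_iff _).mp hZ (Cfsg.pCore p X)
      (hRS.trans (fun s hs => mem_Nz_inf_Cz (Subgroup.le_normalizer hs) (Subgroup.le_normalizer hs)))
      hRp g (Cfsg.Agent.Lib.Helper6.Quasi.Cz_le_Nz _ hgC)
      ((le_of_eq (Subgroup.normalizer_eq_top_iff.mpr hRn).symm) (Subgroup.mem_top g)) hcopg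
    have hg1 : g = 1 := eq_one_of_coprime_of_pgroup hcopg (by
      obtain ⟨k, hk⟩ := hRp ⟨g, h1 hgR⟩
      exact ⟨k, congrArg Subtype.val hk⟩)
    rw [hg1]
    exact one_mem _

theorem Nz_sylow_leE [Finite X] {p : ℕ} [hp : Fact p.Prime] (S : Sylow p X) (J : Subgroup X)
    (hNJ : Nz (S : Subgroup X) ≤ Nz J)
    (hJ : Cfsg.HasNormalPComplement p ↥(Nz J)) :
    Nz (S : Subgroup X) ≤ Cz ((S : Subgroup X) ⊓ Cz (S : Subgroup X)) := by
  intro n hn
  have hSC : (S : Subgroup X) ≤ Cz ((S : Subgroup X) ⊓ Cz (S : Subgroup X)) :=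
    Subgroup.le_centralizer_iff.mp inf_le_right
  have ho : orderOf n ≠ 0 := (orderOf_pos n).ne'
  apply mem_of_pow_mem_coprime (a := ordCompl[p] (orderOf n)) (b := ordProj[p] (orderOf n))
  · exact (Nat.Coprime.pow_left _ (Nat.coprime_ordCompl hp.out ho)).symm
  · apply hSC
    have h1 : (n ^ (ordCompl[p] (orderOf n))) ^ (p ^ (orderOf n).factorization p) = 1 := by
      rw [← pow_mul, mul_comm, Nat.ordProj_mul_ordCompl_eq_self]
      exact pow_orderOf_eq_one n
    have h2 : IsPGroup p ↥(Subgroup.zpowers (n ^ (ordCompl[p] (orderOf n)))) := by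
      rintro ⟨x, hx⟩
      obtain ⟨j, rfl⟩ := Subgroup.mem_zpowers_iff.mp hx
      refine ⟨(orderOf n).factorization p, Subtype.ext ?_⟩
      show ((n ^ (ordCompl[p] (orderOf n))) ^ j) ^ (p ^ (orderOf n).factorization p) = 1
      rw [← zpow_natCast, ← zpow_mul, mul_comm, zpow_mul, zpow_natCast, h1, one_zpow]
    have h3 := h2.inf_normalizer_sylow S
    have h4 : n ^ (ordCompl[p] (orderOf n)) ∈
        Subgroup.zpowers (n ^ (ordCompl[p] (orderOf n))) ⊓ Nz (S : Subgroup X) :=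
      ⟨Subgroup.mem_zpowers _, (Nz (S : Subgroup X)).pow_mem hn _⟩
    have h5 : n ^ (ordCompl[p] (orderOf n)) ∈
        Subgroup.zpowers (n ^ (ordCompl[p] (orderOf n))) ⊓ (S : Subgroup X) := by
      rw [← h3]; exact h4
    exact h5.2
  · apply Cz_anti (inf_le_left : (S : Subgroup X) ⊓ Cz (S : Subgroup X) ≤ S)
    have hmem : n ^ (ordProj[p] (orderOf n)) ∈ Nz (S : Subgroup X) :=
      (Nz (S : Subgroup X)).pow_mem hn _
    refine (pn_subgroup_iff _).mp hJ S (Subgroup.le_normalizer.trans hNJ) S.isPGroup' _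
      (hNJ hmem) hmem ?_
    rw [orderOf_pow_of_dvd (pow_ne_zero _ hp.out.ne_zero) (Nat.ordProj_dvd _ _)]
    exact (Nat.coprime_ordCompl hp.out ho).symm

theorem Nz_center_leE [Finite X] {p : ℕ} [hp : Fact p.Prime] (S : Sylow p X) (J : Subgroup X)
    (hNJ : Nz (S : Subgroup X) ≤ Nz J)
    (hJ : Cfsg.HasNormalPComplement p ↥(Nz J)) :
    Nz ((S : Subgroup X) ⊓ Cz (S : Subgroup X)) ≤ Cz ((S : Subgroup X) ⊓ Cz (S : Subgroup X)) := by
  intro g hg
  have hSC : (S : Subgroup X) ≤ Cz ((S : Subgroup X) ⊓ Cz (S : Subgroup X)) :=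
    Subgroup.le_centralizer_iff.mp inf_le_right
  have hmap : ((S.subtype hSC : Sylow p _) : Subgroup _).map
      (Cz ((S : Subgroup X) ⊓ Cz (S : Subgroup X))).subtype = S := by
    rw [Sylow.coe_subtype, Subgroup.subgroupOf_map_subtype]
    exact inf_eq_left.mpr hSC
  have hgS : cj g (S : Subgroup X) ≤ Cz ((S : Subgroup X) ⊓ Cz (S : Subgroup X)) := by
    calc cj g (S : Subgroup X) ≤ cj g (Cz ((S : Subgroup X) ⊓ Cz (S : Subgroup X))) := cj_mono hSC
      _ = Cz (cj g ((S : Subgroup X) ⊓ Cz (S : Subgroup X))) := cj_centralizer g _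
      _ = _ := by rw [cj_eq_self_iff.mpr hg]
  obtain ⟨c, hc, hle⟩ := exists_mem_le_cj_of_sylow (S.subtype hSC) (isPGroup_cj S.isPGroup' g) hgS
  rw [hmap] at hle
  have heq : cj g (S : Subgroup X) = cj c (S : Subgroup X) :=
    Subgroup.eq_of_le_of_card_ge hle (by rw [card_cj, card_cj])
  have hn : c⁻¹ * g ∈ Nz (S : Subgroup X) := by
    rw [← cj_eq_self_iff, ← cj_cj, heq, cj_inv_cj]
  have := (Cz ((S : Subgroup X) ⊓ Cz (S : Subgroup X))).mul_mem hc (Nz_sylow_leE S J hNJ hJ hn)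
  simpa using this

/-- the two functors `Z` and `J_e` -/
def WZJE (p : ℕ) : Bool → ∀ (Q : Type u) [Group Q], Subgroup Q
  | true => fun Q _ => Subgroup.center Q
  | false => fun Q _ => Cfsg.thompsonSubgroup p Q

theorem isCharPFunctor_WZJE (p : ℕ) [hp : Fact p.Prime] (i : Bool) :
    Cfsg.IsCharPFunctor.{u} p (WZJE p i) := by
  cases i with
  | true => exact isCharPFunctor_WZJ p true
  | false => exact Cfsg.Agent.Lib.Helper3.WS.charP_J p

theorem induced_centerE (p : ℕ) (S : Subgroup X) :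
    Cfsg.inducedFunctor (WZJE p true) S = S ⊓ Cz S := induced_center S

theorem induced_JE (p : ℕ) (S : Subgroup X) :
    Cfsg.inducedFunctor (WZJE p false) S = sSup (PMax (Pea p) S) := by
  rw [← thompsonOf_eq']; rfl

theorem thompson_mainE {G : Type u} [Group G] [Finite G] {p : ℕ} [hp : Fact p.Prime]
    (hp2 : p ≠ 2) (S : Sylow p G)
    (hC : Cfsg.HasNormalPComplement p ↥(Cz ((S : Subgroup G) ⊓ Cz (S : Subgroup G))))
    (hN : Cfsg.HasNormalPComplement p ↥(Nz (Cfsg.thompsonSubgroupOf p (S : Subgroup G)))) :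
    Cfsg.HasNormalPComplement p G := by
  have hN' : Cfsg.HasNormalPComplement p ↥(Nz (sSup (PMax (Pea p) (S : Subgroup G)))) := by
    rw [← thompsonOf_eq']; exact hN
  have hNJ : Nz (S : Subgroup G) ≤ Nz (sSup (PMax (Pea p) (S : Subgroup G))) := by
    rw [← induced_JE]
    exact normalizer_le_normalizer_inducedFunctor (isCharPFunctor_WZJE p false) _ S.isPGroup'
  refine functor_main (ι := Bool) (W := WZJE p) (isCharPFunctor_WZJE p)
    (fun X _ => True) ?_ ?_ ?_ _ G rfl trivial ⟨S, fun i => ?_⟩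
  · intro Y _ hY L
    trivial
  · intro Y _ hY N _
    trivial
  · intro Y _ _ _ hY _ h1 h2 h3 hHyp
    obtain ⟨S'⟩ : Nonempty (Sylow p Y) := inferInstance
    have hZ := hHyp.all (isCharPFunctor_WZJE p) S' true
    have hJ := hHyp.all (isCharPFunctor_WZJE p) S' false
    rw [induced_centerE] at hZ
    rw [induced_JE] at hJ
    exact finalOddE hp2 h1 h2 h3 S' hZ hJ
  · cases i with
    | true =>
      rw [induced_centerE]
      have : Nz ((S : Subgroup G) ⊓ Cz (S : Subgroup G)) =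
          Cz ((S : Subgroup G) ⊓ Cz (S : Subgroup G)) :=
        le_antisymm (Nz_center_leE S _ hNJ hN') (Cfsg.Agent.Lib.Helper6.Quasi.Cz_le_Nz _)
      rw [show Subgroup.normalizer (((S : Subgroup G) ⊓ Cz (S : Subgroup G) : Subgroup G) : Set G)
        = Cz ((S : Subgroup G) ⊓ Cz (S : Subgroup G)) from this]
      exact hC
    | false =>
      rw [induced_JE]
      exact hN'

end aux

/-- The Thompson normal p-complement Theorem, in the form stating that for odd p, G has a normal p-complement exactly when the normalizer of the Thompson subgroup J(P) and the centralizer of the centre of P both have one. -/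
theorem result {G : Type*} [Group G] [Finite G] {p : ℕ} [Fact p.Prime] (hp : p ≠ 2) (P : Sylow p G) : Cfsg.HasNormalPComplement p G ↔ (Cfsg.HasNormalPComplement p (Subgroup.normalizer (Cfsg.thompsonSubgroupOf p (P : Subgroup G) : Set G)) ∧ Cfsg.HasNormalPComplement p (Subgroup.centralizer (((P : Subgroup G) ⊓ Subgroup.centralizer (P : Set G)) : Set G))) := by
  constructor
  · intro h
    exact ⟨Cfsg.Agent.Lib.Helper1.pn_of_injective (Subgroup.subtype _) (Subgroup.subtype_injective _) h,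
      Cfsg.Agent.Lib.Helper1.pn_of_injective (Subgroup.subtype _) (Subgroup.subtype_injective _) h⟩
  · rintro ⟨hN, hC⟩
    exact thompson_mainE hp P hC hN

end Cfsg.Agent.S0108
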