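import Mathlib
import Cfsg.Statements.S0543
import Cfsg.Agent.S0004
import Cfsg.Agent.S0007
import Cfsg.Agent.Lib.Lead.IndexInf

set_option autoImplicit false
open Cfsg
open scoped Pointwise

namespace Cfsg.Agent.S0543

theorem index_conj {G : Type*} [Group G] (g : G) (H : Subgroup G) :
    (MulAut.conj g • H).index = H.index :=
  Subgroup.index_map_equiv (H := H) (MulAut.conj g)

theorem card_of_index {G : Type*} [Group G] [Finite G] (H : Subgroup G) (p : Nat.Primes)
    (h : H.index = (p : ℕ) ^ (Nat.card G).factorization p) :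
    Nat.card H = ordCompl[(p : ℕ)] (Nat.card G) := by
  have h1 := H.card_mul_index
  rw [h] at h1
  have h2 := Nat.ordProj_mul_ordCompl_eq_self (Nat.card G) p
  have h3 : 0 < (p : ℕ) ^ (Nat.card G).factorization p := pow_pos p.2.pos _
  apply Nat.eq_of_mul_eq_mul_right h3
  rw [h1, mul_comm, h2]

/-- partial conjugacy on a finite set of primes -/
theorem partial_conj {G : Type*} [Group G] [Finite G] [Group.IsSolvable G]
    (K L : Nat.Primes → Subgroup G) (hK : Cfsg.IsComplementSystem K)
    (hL : Cfsg.IsComplementSystem L) (s : Finset Nat.Primes) :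
    ∃ g : G, ∀ p ∈ s, MulAut.conj g • K p = L p := by
  classical
  induction s using Finset.induction_on with
  | empty => exact ⟨1, fun p hp => absurd hp (Finset.notMem_empty p)⟩
  | insert q s hq ih =>
    obtain ⟨g, hg⟩ := ih
    have hidx : (MulAut.conj g • K q).index = (q : ℕ) ^ (Nat.card G).factorization q := by
      rw [index_conj, hK q]
    have hG0 : Nat.card G ≠ 0 := Nat.card_pos.ne'
    obtain ⟨x, hx⟩ := S0004.result (G := G) (ordCompl[(q : ℕ)] (Nat.card G))
      (ordProj[(q : ℕ)] (Nat.card G))
      (by rw [mul_comm]; exact (Nat.ordProj_mul_ordCompl_eq_self _ _).symm)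
      ((Nat.Coprime.pow_left _ (Nat.coprime_ordCompl q.2 hG0)).symm)
      (MulAut.conj g • K q) (L q) (card_of_index _ q hidx) (card_of_index _ q (hL q))
    have hD : (s.inf L).index = ∏ i ∈ s, (L i).index := by
      apply IndexInf.index_finset_inf
      intro i _ j _ hij
      rw [hL i, hL j]
      exact Nat.Coprime.pow _ _ ((Nat.coprime_primes i.2 j.2).2 (fun h => hij (Subtype.ext h)))
    have hcop : ((s.inf L).index).Coprime (MulAut.conj g • K q).index := by
      rw [hD, hidx]
      apply Nat.Coprime.prod_left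
      intro i hi
      rw [hL i]
      exact Nat.Coprime.pow _ _ ((Nat.coprime_primes i.2 q.2).2
        (fun h => hq ((Subtype.ext h : i = q) ▸ hi)))
    obtain ⟨d, hd, k, hk, hxdk⟩ := S0007.exists_mul_of_coprime _ _ hcop x
    refine ⟨d * g, ?_⟩
    intro p hp
    rw [map_mul, mul_smul]
    rcases Finset.mem_insert.1 hp with rfl | hps
    · rw [← hx, hxdk, map_mul, mul_smul, Subgroup.conj_smul_eq_self_of_mem hk]
    · rw [hg p hps]
      exact Subgroup.conj_smul_eq_self_of_mem ((Finset.inf_le hps : s.inf L ≤ L p) hd)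

/-- statement -/
theorem result {G : Type*} [Group G] [Finite G] [Group.IsSolvable G] (K L : Nat.Primes → Subgroup G) (hK : Cfsg.IsComplementSystem K) (hL : Cfsg.IsComplementSystem L) : ∃ g : G, ∀ p : Nat.Primes, MulAut.conj g • K p = L p := by
  classical
  obtain ⟨g, hg⟩ := partial_conj K L hK hL ((Nat.card G).primeFactors.subtype Nat.Prime)
  refine ⟨g, fun p => ?_⟩
  by_cases hp : (p : ℕ) ∣ Nat.card G
  · apply hg
    exact Finset.mem_subtype.2 (Nat.mem_primeFactors.2 ⟨p.2, hp, Nat.card_pos.ne'⟩)
  · have h1 : (MulAut.conj g • K p).index = 1 := by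
      rw [index_conj, hK p, Nat.factorization_eq_zero_of_not_dvd hp, pow_zero]
    have h2 : (L p).index = 1 := by
      rw [hL p, Nat.factorization_eq_zero_of_not_dvd hp, pow_zero]
    rw [Subgroup.index_eq_one] at h1 h2
    rw [h1, h2]

end Cfsg.Agent.S0543
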