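import Mathlib
import Cfsg.Statements.S0545
import Cfsg.Agent.S0543
import Cfsg.Agent.Lib.Helper1.Glauberman
import Cfsg.Agent.Lib.Helper6.WClosed

set_option autoImplicit false
open Cfsg
open Cfsg.Agent.Lib.Helper1
open Cfsg.Agent.Lib.Helper6.Basic Cfsg.Agent.Lib.Helper6.WClosed
open scoped Pointwise

namespace Cfsg.Agent.S0545

theorem mem_finset_inf {G : Type*} [Group G] {ι : Type*} [DecidableEq ι] (s : Finset ι)
    (f : ι → Subgroup G) (x : G) : x ∈ s.inf f ↔ ∀ i ∈ s, x ∈ f i := by
  induction s using Finset.induction_on with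
  | empty => simp
  | insert a s ha ih =>
    rw [Finset.inf_insert, Subgroup.mem_inf, ih]
    simp

theorem relIndex_dvd_index_right {G : Type*} [Group G] [Finite G] (H N : Subgroup G) [N.Normal] :
    H.relIndex N ∣ H.index := by
  have hHN : H ≤ Subgroup.normalizer (N : Set G) := by
    rw [Subgroup.normalizer_eq_top]; exact le_top
  have h1 := card_sup_mul_card_inf' H N hHN
  have h2 : H.relIndex N * Nat.card (H ⊓ N : Subgroup G) = Nat.card N := by
    have := (H.subgroupOf N).index_mul_card
    rwa [card_subgroupOf'] at this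
  have h3 : H.relIndex (H ⊔ N) * Nat.card H = Nat.card (H ⊔ N : Subgroup G) := by
    have := (H.subgroupOf (H ⊔ N)).index_mul_card
    rwa [card_subgroupOf le_sup_left] at this
  have h4 : H.relIndex N * (Nat.card (H ⊓ N : Subgroup G) * Nat.card H) =
      H.relIndex (H ⊔ N) * (Nat.card (H ⊓ N : Subgroup G) * Nat.card H) := by
    calc _ = (H.relIndex N * Nat.card (H ⊓ N : Subgroup G)) * Nat.card H := by ring
      _ = Nat.card N * Nat.card H := by rw [h2]
      _ = Nat.card H * Nat.card N := by ring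
      _ = Nat.card (H ⊔ N : Subgroup G) * Nat.card (H ⊓ N : Subgroup G) := h1.symm
      _ = (H.relIndex (H ⊔ N) * Nat.card H) * Nat.card (H ⊓ N : Subgroup G) := by rw [h3]
      _ = _ := by ring
  have h5 : H.relIndex N = H.relIndex (H ⊔ N) :=
    Nat.eq_of_mul_eq_mul_right (Nat.mul_pos Nat.card_pos Nat.card_pos) h4
  rw [h5]
  exact Subgroup.relIndex_dvd_index_of_le le_sup_left

theorem hall_conj_in_sup {G : Type*} [Group G] [Finite G] [Group.IsSolvable G]
    (K K' N : Subgroup G) [N.Normal] (p : Nat.Primes)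
    (hK : K.index = (p : ℕ) ^ (Nat.card G).factorization p)
    (hK' : K'.index = (p : ℕ) ^ (Nat.card G).factorization p) (hle : K' ≤ K ⊔ N) :
    ∃ n ∈ N, MulAut.conj n • K = K' := by
  have hG0 : Nat.card G ≠ 0 := Nat.card_pos.ne'
  have hKT : K ≤ K ⊔ N := le_sup_left
  have hcT : Nat.card (K ⊔ N : Subgroup G) =
      ordCompl[(p : ℕ)] (Nat.card G) * K.relIndex (K ⊔ N) := by
    have := (K.subgroupOf (K ⊔ N)).card_mul_index
    rw [card_subgroupOf hKT, S0543.card_of_index K p hK] at this
    exact this.symm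
  have hcop : (ordCompl[(p : ℕ)] (Nat.card G)).Coprime (K.relIndex (K ⊔ N)) := by
    have h1 : K.relIndex (K ⊔ N) ∣ (p : ℕ) ^ (Nat.card G).factorization p :=
      hK ▸ Subgroup.relIndex_dvd_index_of_le hKT
    exact Nat.Coprime.coprime_dvd_right h1
      ((Nat.Coprime.pow_left _ (Nat.coprime_ordCompl p.2 hG0)).symm)
  obtain ⟨t, ht⟩ := S0004.result (G := (K ⊔ N : Subgroup G)) _ _ hcT hcop
    (K.subgroupOf (K ⊔ N)) (K'.subgroupOf (K ⊔ N))
    (by rw [card_subgroupOf hKT, S0543.card_of_index K p hK])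
    (by rw [card_subgroupOf hle, S0543.card_of_index K' p hK'])
  have h1 : (MulAut.conj (t : G) • K).subgroupOf (K ⊔ N) = K'.subgroupOf (K ⊔ N) := by
    rw [← ht]
    exact (cj_subgroupOf t K).symm
  have h2 : MulAut.conj (t : G) • K = K' :=
    eq_of_subgroupOf_eq (Subgroup.conj_smul_le_of_le hKT t) hle h1
  have h3 : (t : G) ∈ N ⊔ K := by rw [sup_comm]; exact t.2
  rw [Subgroup.mem_sup_of_normal_left] at h3
  obtain ⟨n, hn, k, hk, hnk⟩ := h3
  refine ⟨n, hn, ?_⟩
  rw [← h2, ← hnk, map_mul, mul_smul, Subgroup.conj_smul_eq_self_of_mem hk]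

theorem inter_lemma {G : Type*} [Group G] [Finite G]
    (K : Nat.Primes → Subgroup G) (hK : Cfsg.IsComplementSystem K) (N : Subgroup G) [N.Normal]
    (x : G) (hx : ∀ p, ∃ n ∈ N, x * n ∈ Subgroup.normalizer (K p : Set G))
    (s : Finset Nat.Primes) :
    ∃ n ∈ N, ∀ p ∈ s, x * n ∈ Subgroup.normalizer (K p : Set G) := by
  classical
  induction s using Finset.induction_on with
  | empty => exact ⟨1, N.one_mem, fun p hp => absurd hp (Finset.notMem_empty p)⟩
  | insert q s hq ih =>
    obtain ⟨n₁, hn₁, ha⟩ := ih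
    obtain ⟨n₂, hn₂, hb⟩ := hx q
    set A : Subgroup G := s.inf (fun p => Subgroup.normalizer (K p : Set G)) with hA
    set B : Subgroup G := Subgroup.normalizer (K q : Set G) with hB
    have haA : x * n₁ ∈ A := by
      rw [hA, mem_finset_inf]
      exact ha
    have hD : (s.inf K).index = ∏ i ∈ s, (K i).index := by
      apply IndexInf.index_finset_inf
      intro i _ j _ hij
      rw [hK i, hK j]
      exact Nat.Coprime.pow _ _ ((Nat.coprime_primes i.2 j.2).2 (fun h => hij (Subtype.ext h)))
    have hDA : s.inf K ≤ A := by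
      rw [hA]
      apply Finset.le_inf
      intro p hp
      exact (Finset.inf_le hp).trans Subgroup.le_normalizer
    have hcop0 : ((s.inf K).index).Coprime (K q).index := by
      rw [hD, hK q]
      apply Nat.Coprime.prod_left
      intro i hi
      rw [hK i]
      exact Nat.Coprime.pow _ _ ((Nat.coprime_primes i.2 q.2).2
        (fun h => hq ((Subtype.ext h : i = q) ▸ hi)))
    have hcop : ((B.subgroupOf N).index).Coprime (A.subgroupOf N).index := by
      have h1 : (B.subgroupOf N).index ∣ (K q).index :=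
        (relIndex_dvd_index_right B N).trans (Subgroup.index_dvd_of_le Subgroup.le_normalizer)
      have h2 : (A.subgroupOf N).index ∣ (s.inf K).index :=
        (relIndex_dvd_index_right A N).trans (Subgroup.index_dvd_of_le hDA)
      exact (Nat.Coprime.coprime_dvd_left h2 (Nat.Coprime.coprime_dvd_right h1 hcop0)).symm
    have hu : n₂⁻¹ * n₁ ∈ N := N.mul_mem (N.inv_mem hn₂) hn₁
    obtain ⟨β, hβ, α, hα, huβα⟩ := S0007.exists_mul_of_coprime _ _ hcop ⟨n₂⁻¹ * n₁, hu⟩
    have huβα' : n₂⁻¹ * n₁ = (β : G) * (α : G) := congrArg Subtype.val huβα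
    have hβB : (β : G) ∈ B := Subgroup.mem_subgroupOf.1 hβ
    have hαA : (α : G) ∈ A := Subgroup.mem_subgroupOf.1 hα
    refine ⟨n₁ * (α : G)⁻¹, N.mul_mem hn₁ (N.inv_mem α.2), ?_⟩
    have hcA : x * (n₁ * (α : G)⁻¹) ∈ A := by
      rw [← mul_assoc]
      exact A.mul_mem haA (A.inv_mem hαA)
    have hcB : x * (n₁ * (α : G)⁻¹) ∈ B := by
      have h1 : n₁ * (α : G)⁻¹ = n₂ * (β : G) := by
        have : n₁ = n₂ * ((β : G) * (α : G)) := by rw [← huβα']; group
        rw [this]; group
      rw [h1, ← mul_assoc]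
      exact B.mul_mem hb hβB
    intro p hp
    rcases Finset.mem_insert.1 hp with rfl | hps
    · exact hcB
    · rw [hA, mem_finset_inf] at hcA
      exact hcA p hps

/-- statement -/
theorem result {G : Type*} [Group G] [Finite G] [Group.IsSolvable G] (K : Nat.Primes → Subgroup G) (hK : Cfsg.IsComplementSystem K) (N : Subgroup G) [N.Normal] : Cfsg.IsComplementSystem (fun p => (K p).map (QuotientGroup.mk' N)) ∧ Cfsg.systemNormalizer (fun p => (K p).map (QuotientGroup.mk' N)) = (Cfsg.systemNormalizer K).map (QuotientGroup.mk' N) := by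
  classical
  constructor
  · intro p
    show ((K p).map (QuotientGroup.mk' N)).index = _
    have h1 : ((K p).map (QuotientGroup.mk' N)).index ∣ (p : ℕ) ^ (Nat.card G).factorization p :=
      hK p ▸ Subgroup.index_map_dvd (K p) (QuotientGroup.mk'_surjective N)
    obtain ⟨b, _, hb⟩ := (Nat.dvd_prime_pow p.2).1 h1
    have h2 : ¬ (p : ℕ) ∣ Nat.card ((K p).map (QuotientGroup.mk' N)) := by
      intro h
      have h3 := h.trans (Subgroup.card_map_dvd (K p) (QuotientGroup.mk' N))
      rw [S0543.card_of_index (K p) p (hK p)] at h3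
      exact Nat.not_dvd_ordCompl p.2 Nat.card_pos.ne' h3
    have h4 := ((K p).map (QuotientGroup.mk' N)).card_mul_index
    rw [hb] at h4
    rw [hb, ← h4, Nat.factorization_mul Nat.card_pos.ne' (pow_pos p.2.pos b).ne',
      Finsupp.add_apply, Nat.factorization_eq_zero_of_not_dvd h2, Nat.Prime.factorization_pow p.2]
    simp
  · ext y
    constructor
    · intro hy
      obtain ⟨x, rfl⟩ := QuotientGroup.mk'_surjective N y
      have hy' : ∀ p, QuotientGroup.mk' N x ∈
          Subgroup.normalizer (((K p).map (QuotientGroup.mk' N) : Subgroup (G ⧸ N)) : Set (G ⧸ N)) := by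
        intro p
        exact (Subgroup.mem_iInf.1 hy) p
      have hx : ∀ p, ∃ n ∈ N, x * n ∈ Subgroup.normalizer (K p : Set G) := by
        intro p
        have hle : MulAut.conj x • K p ≤ K p ⊔ N := by
          rintro _ ⟨k, hk, rfl⟩
          show x * k * x⁻¹ ∈ K p ⊔ N
          have h1 := (Subgroup.mem_normalizer_iff.1 (hy' p) (QuotientGroup.mk' N k)).1
            (Subgroup.mem_map_of_mem _ hk)
          obtain ⟨k', hk', hkk⟩ := h1
          have h2 : QuotientGroup.mk' N (k'⁻¹ * (x * k * x⁻¹)) = 1 := by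
            rw [map_mul, map_inv, hkk, map_mul, map_mul, map_inv]
            group
          have h3 : k'⁻¹ * (x * k * x⁻¹) ∈ N := (QuotientGroup.eq_one_iff _).1 h2
          have h4 : x * k * x⁻¹ = k' * (k'⁻¹ * (x * k * x⁻¹)) := by group
          rw [h4]
          exact Subgroup.mul_mem _ (Subgroup.mem_sup_left hk') (Subgroup.mem_sup_right h3)
        obtain ⟨n, hn, hnK⟩ := hall_conj_in_sup (K p) (MulAut.conj x • K p) N p (hK p)
          (by rw [S0543.index_conj, hK p]) hle
        refine ⟨x⁻¹ * n⁻¹ * x, ?_, ?_⟩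
        · have := (inferInstance : N.Normal).conj_mem n⁻¹ (N.inv_mem hn) x⁻¹
          simpa using this
        · have h1 : x * (x⁻¹ * n⁻¹ * x) = n⁻¹ * x := by group
          rw [h1, ← cj_eq_self_iff, cj_eq_smul, map_mul, mul_smul, ← hnK, ← mul_smul, ← map_mul,
            inv_mul_cancel, map_one, one_smul]
      obtain ⟨n, hn, hxn⟩ := inter_lemma K hK N x hx ((Nat.card G).primeFactors.subtype Nat.Prime)
      refine ⟨x * n, ?_, ?_⟩
      · show x * n ∈ Cfsg.systemNormalizer K
        unfold Cfsg.systemNormalizer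
        rw [Subgroup.mem_iInf]
        intro p
        by_cases hp : (p : ℕ) ∣ Nat.card G
        · apply hxn
          exact Finset.mem_subtype.2 (Nat.mem_primeFactors.2 ⟨p.2, hp, Nat.card_pos.ne'⟩)
        · have h1 : (K p).index = 1 := by
            rw [hK p, Nat.factorization_eq_zero_of_not_dvd hp, pow_zero]
          rw [Subgroup.index_eq_one] at h1
          rw [h1]
          exact Subgroup.le_normalizer (Subgroup.mem_top _)
      · have h1 : QuotientGroup.mk' N n = 1 := (QuotientGroup.eq_one_iff n).2 hn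
        rw [map_mul, h1, mul_one]
    · rintro ⟨d, hd, rfl⟩
      unfold Cfsg.systemNormalizer
      rw [Subgroup.mem_iInf]
      intro p
      apply Subgroup.le_normalizer_map
      exact Subgroup.mem_map_of_mem _ ((Subgroup.mem_iInf.1 hd) p)

end Cfsg.Agent.S0545
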