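import Mathlib
import Cfsg.Statements.S3744
import Cfsg.Agent.S0045
import Cfsg.Agent.S0545
import Cfsg.Agent.Lib.Helper9.PSolv

set_option autoImplicit false
open Cfsg
open scoped Pointwise

namespace Cfsg.Agent.S3744

open Cfsg.Agent.Lib.Helper6.Basic Cfsg.Agent.Lib.Helper6.WClosed Cfsg.Agent.Lib.Helper1

universe u

section
variable {G : Type u} [Group G] [Finite G]

theorem card_mul_relIndex {N L : Subgroup G} (h : N ≤ L) :
    Nat.card N * N.relIndex L = Nat.card L := by
  rw [← card_subgroupOf h]; exact (N.subgroupOf L).card_mul_index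

theorem conj_compl (N : Subgroup G) [N.Normal] (hsol : Group.IsSolvable N) (A B : Subgroup G)
    (hAB : A ⊔ N = B ⊔ N) (hA : (Nat.card A).Coprime (Nat.card N))
    (hB : (Nat.card B).Coprime (Nat.card N)) :
    ∃ w ∈ A ⊔ N, cj w A = B := by
  have cA : Nat.card (A ⊔ N : Subgroup G) = Nat.card A * Nat.card N :=
    card_sup_of_disjoint A N (Subgroup.inf_eq_bot_of_coprime hA)
  have cB : Nat.card (A ⊔ N : Subgroup G) = Nat.card B * Nat.card N := by
    rw [hAB]; exact card_sup_of_disjoint B N (Subgroup.inf_eq_bot_of_coprime hB)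
  have hBW : B ≤ A ⊔ N := hAB ▸ le_sup_left
  generalize hW : A ⊔ N = W at cA cB hBW
  have hAW : A ≤ W := hW ▸ le_sup_left
  have hNW : N ≤ W := hW ▸ le_sup_right
  have hidx : (N.subgroupOf W).index = Nat.card A := by
    have h1 := card_mul_relIndex hNW
    rw [cA, mul_comm (Nat.card A)] at h1
    exact Nat.eq_of_mul_eq_mul_left Nat.card_pos h1
  have hcardAB : Nat.card A = Nat.card B :=
    Nat.eq_of_mul_eq_mul_right Nat.card_pos (cA.symm.trans cB)
  haveI : Group.IsSolvable (N.subgroupOf W) :=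
    Group.isSolvable_of_isSolvable_injective
      (f := (Subgroup.subgroupOfEquivOfLe hNW).toMonoidHom) (MulEquiv.injective _)
  obtain ⟨w, hw⟩ := sz_conj (N.subgroupOf W)
    (by rw [card_subgroupOf hNW, hidx]; exact hA.symm) (A.subgroupOf W) (B.subgroupOf W)
    (by rw [card_subgroupOf hAW, hidx]) (by rw [card_subgroupOf hBW, hidx, hcardAB])
    (Or.inl inferInstance)
  refine ⟨w, w.2, ?_⟩
  have hw' : cj w (A.subgroupOf W) = B.subgroupOf W := hw
  rw [cj_subgroupOf] at hw'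
  have h1 : cj (w : G) A ≤ W := by
    have := cj_mono (g := (w : G)) hAW
    rwa [cj_eq_self_of_mem w.2] at this
  exact eq_of_subgroupOf_eq h1 hBW hw'

theorem card_cj (g : G) (H : Subgroup G) : Nat.card (cj g H) = Nat.card H :=
  Subgroup.card_map_of_injective (MulAut.conj g).injective

theorem exists_compl_ge {p : ℕ} [hp : Fact p.Prime] (N : Subgroup G) [N.Normal] (hNp : IsPGroup p N)
    (L : Subgroup G) (hNL : N ≤ L) (hcop : (N.relIndex L).Coprime p) (U : Subgroup G)
    (hUL : U ≤ L) (hU : (Nat.card U).Coprime p) :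
    ∃ K : Subgroup G, U ≤ K ∧ K ≤ L ∧ Nat.card K = N.relIndex L := by
  obtain ⟨k, hk⟩ := IsPGroup.iff_card.1 hNp
  have hc : (Nat.card (N.subgroupOf L)).Coprime (N.subgroupOf L).index := by
    rw [card_subgroupOf hNL, hk]; exact Nat.Coprime.pow_left _ hcop.symm
  obtain ⟨K', hK'⟩ := Subgroup.exists_right_complement'_of_coprime hc
  have hK0L : K'.map L.subtype ≤ L := Subgroup.map_subtype_le K'
  have cK0 : Nat.card (K'.map L.subtype) = N.relIndex L := by
    rw [Subgroup.card_map_of_injective L.subtype_injective]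
    exact hK'.symm.index_eq_card.symm
  generalize K'.map L.subtype = K0 at hK0L cK0
  have hK0c : (Nat.card K0).Coprime (Nat.card N) := by
    rw [cK0, hk]; exact Nat.Coprime.pow_right _ hcop
  have hK0N : K0 ⊔ N = L := by
    apply Subgroup.eq_of_le_of_card_ge (sup_le hK0L hNL)
    rw [card_sup_of_disjoint K0 N (Subgroup.inf_eq_bot_of_coprime hK0c), cK0,
      ← card_mul_relIndex hNL, mul_comm]
  have hWL : U ⊔ N ≤ L := sup_le hUL hNL
  have h1 : (K0 ⊓ (U ⊔ N)) ⊔ N = U ⊔ N :=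
    dedekind_normal K0 N (U ⊔ N) le_sup_right (hWL.trans hK0N.ge)
  haveI : Group.IsSolvable N := by
    haveI := hNp.isNilpotent
    infer_instance
  obtain ⟨w, hwW, hw⟩ := conj_compl N inferInstance (K0 ⊓ (U ⊔ N)) U h1
    (Nat.Coprime.coprime_dvd_left (Subgroup.card_dvd_of_le inf_le_left) hK0c)
    (by rw [hk]; exact Nat.Coprime.pow_right _ hU)
  rw [h1] at hwW
  refine ⟨cj w K0, ?_, ?_, ?_⟩
  · rw [← hw]; exact cj_mono inf_le_left
  · have := cj_mono (g := w) hK0L
    rwa [cj_eq_self_of_mem (hWL hwW)] at this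
  · rw [card_cj, cK0]

end

def IsPC {G : Type u} [Group G] (p : ℕ) (H : Subgroup G) : Prop :=
  (Nat.card H).Coprime p ∧ ∃ n : ℕ, H.index = p ^ n

theorem main (p : ℕ) [hp : Fact p.Prime] : ∀ (n : ℕ) (G : Type u) [Group G] [Finite G],
    Nat.card G = n → Cfsg.IsPSolvable p G →
    (∀ U : Subgroup G, (Nat.card U).Coprime p → ∃ H : Subgroup G, IsPC p H ∧ U ≤ H) ∧
    (∀ H1 H2 : Subgroup G, IsPC p H1 → IsPC p H2 → ∃ g : G, cj g H1 = H2) := by
  intro n
  induction n using Nat.strong_induction_on with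
  | _ n ih =>
  intro G _ _ hn hG
  rcases subsingleton_or_nontrivial G with hs | hnt
  · constructor
    · intro U hU
      refine ⟨U, ⟨hU, 0, ?_⟩, le_rfl⟩
      rw [Subsingleton.elim U ⊤, Subgroup.index_top, pow_zero]
    · intro H1 H2 _ _
      exact ⟨1, Subsingleton.elim _ _⟩
  obtain ⟨N, hNn, hNne, hfac⟩ := Cfsg.Agent.Lib.Helper9.PSolv.exists_normal_ne_bot hG
  have hQ := ih (Nat.card (G ⧸ N)) (by
    rw [← hn, ← N.card_mul_index]
    have h1 : 1 < Nat.card N := by
      rw [Subgroup.one_lt_card_iff_ne_bot]; exact hNne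
    have h2 : 0 < N.index := Nat.pos_of_ne_zero N.index_ne_zero_of_finite
    show N.index < _
    nlinarith) (G ⧸ N) rfl (Cfsg.Agent.Lib.Helper9.PSolv.quotient hp.out hG N)
  simp only [Cfsg.Agent.Lib.Helper9.PSolv.Fac, Subgroup.relIndex_bot_left] at hfac
  have hsurj := QuotientGroup.mk'_surjective N
  constructor
  · intro U hU
    have hUb : (Nat.card (U.map (QuotientGroup.mk' N))).Coprime p :=
      Nat.Coprime.coprime_dvd_left (Subgroup.card_map_dvd _ _) hU
    obtain ⟨Hb, ⟨hHb1, m, hHb2⟩, hUHb⟩ := hQ.1 _ hUb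
    have hUL : U ≤ Hb.comap (QuotientGroup.mk' N) := Subgroup.map_le_iff_le_comap.1 hUHb
    have hNL : N ≤ Hb.comap (QuotientGroup.mk' N) := by
      intro x hx
      show QuotientGroup.mk' N x ∈ Hb
      have : QuotientGroup.mk' N x = 1 := (QuotientGroup.eq_one_iff x).2 hx
      rw [this]; exact Hb.one_mem
    have hLidx : (Hb.comap (QuotientGroup.mk' N)).index = p ^ m := by
      rw [Subgroup.index_comap_of_surjective _ hsurj]; exact hHb2
    generalize Hb.comap (QuotientGroup.mk' N) = L at hUL hNL hLidx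
    have hrel : N.relIndex L = Nat.card Hb := by
      have h1 := Subgroup.relIndex_mul_index hNL
      have h2 := Hb.card_mul_index
      have h3 : Nat.card (G ⧸ N) = N.index := rfl
      rw [hLidx] at h1
      rw [hHb2, h3, ← h1] at h2
      exact (Nat.eq_of_mul_eq_mul_right (pow_pos hp.out.pos m) h2).symm
    rcases hfac with ⟨k, hk⟩ | hcop
    · have hNp : IsPGroup p N := IsPGroup.of_card hk
      obtain ⟨K, hUK, hKL, hKc⟩ := exists_compl_ge N hNp L hNL (hrel ▸ hHb1) U hUL hU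
      refine ⟨K, ⟨by rw [hKc, hrel]; exact hHb1, k + m, ?_⟩, hUK⟩
      have h1 := card_mul_relIndex hKL
      have h2 := card_mul_relIndex hNL
      rw [hKc, ← h2, hk, mul_comm] at h1
      have h3 : K.relIndex L = p ^ k := Nat.eq_of_mul_eq_mul_right
        (Nat.pos_of_ne_zero (by
          intro h0
          rw [h0, mul_zero] at h2
          exact Nat.card_pos.ne h2)) h1
      rw [← Subgroup.relIndex_mul_index hKL, h3, hLidx, pow_add]
    · refine ⟨L, ⟨?_, m, hLidx⟩, hUL⟩
      rw [← card_mul_relIndex hNL, hrel]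
      exact Nat.Coprime.mul_left hcop hHb1
  · intro H1 H2 h1 h2
    have hb : ∀ H : Subgroup G, IsPC p H → IsPC p (H.map (QuotientGroup.mk' N)) := by
      rintro H ⟨hc, j, hj⟩
      refine ⟨Nat.Coprime.coprime_dvd_left (Subgroup.card_map_dvd _ _) hc, ?_⟩
      have := Subgroup.index_map_dvd H hsurj
      rw [hj] at this
      obtain ⟨i, _, hi⟩ := (Nat.dvd_prime_pow hp.out).1 this
      exact ⟨i, hi⟩
    obtain ⟨q, hq⟩ := hQ.2 _ _ (hb H1 h1) (hb H2 h2)
    obtain ⟨g, hg⟩ := S0045.lift_conj N q hq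
    have h1' : IsPC p (cj g H1) := by
      refine ⟨by rw [card_cj]; exact h1.1, ?_⟩
      obtain ⟨j, hj⟩ := h1.2
      exact ⟨j, (Subgroup.index_map_equiv (H := H1) (MulAut.conj g)).trans hj⟩
    rcases hfac with ⟨k, hk⟩ | hcop
    · have hNp : IsPGroup p N := IsPGroup.of_card hk
      haveI : Group.IsSolvable N := by
        haveI := hNp.isNilpotent
        infer_instance
      obtain ⟨w, _, hw⟩ := conj_compl N inferInstance (cj g H1) H2 hg
        (by rw [hk]; exact Nat.Coprime.pow_right _ h1'.1)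
        (by rw [hk]; exact Nat.Coprime.pow_right _ h2.1)
      exact ⟨w * g, by rw [← cj_cj]; exact hw⟩
    · have hle : ∀ H : Subgroup G, IsPC p H → N ≤ H := by
        rintro H ⟨_, j, hj⟩
        rw [← Subgroup.relIndex_eq_one]
        have d1 : H.relIndex N ∣ p ^ j := hj ▸ S0545.relIndex_dvd_index_right H N
        have d2 : H.relIndex N ∣ Nat.card N := Subgroup.relIndex_dvd_card H N
        exact Nat.Coprime.eq_one_of_dvd
          (Nat.Coprime.coprime_dvd_left d2 (Nat.Coprime.pow_right j hcop)) d1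
      rw [sup_eq_left.2 (hle _ h1'), sup_eq_left.2 (hle _ h2)] at hg
      exact ⟨g, hg⟩

theorem result {G : Type*} [Group G] [Finite G] {p : ℕ} [Fact p.Prime] (hG : Cfsg.IsPSolvable p G) : (∃ H : Subgroup G, (Nat.card H).Coprime p ∧ ∃ n : ℕ, H.index = p ^ n) ∧ (∀ H₁ H₂ : Subgroup G, (Nat.card H₁).Coprime p → (∃ n : ℕ, H₁.index = p ^ n) → (Nat.card H₂).Coprime p → (∃ n : ℕ, H₂.index = p ^ n) → ∃ g : G, H₂ = H₁.map (MulAut.conj g).toMonoidHom) ∧ (∀ U : Subgroup G, (Nat.card U).Coprime p → ∃ H : Subgroup G, (Nat.card H).Coprime p ∧ (∃ n : ℕ, H.index = p ^ n) ∧ ∃ g : G, U.map (MulAut.conj g).toMonoidHom ≤ H) := by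
  obtain ⟨h1, h2⟩ := main p _ G rfl hG
  refine ⟨?_, ?_, ?_⟩
  · obtain ⟨H, hH, _⟩ := h1 ⊥ (by simp)
    exact ⟨H, hH⟩
  · intro H₁ H₂ a b c d
    obtain ⟨g, hg⟩ := h2 H₁ H₂ ⟨a, b⟩ ⟨c, d⟩
    exact ⟨g, hg.symm⟩
  · intro U hU
    obtain ⟨H, hH, hUH⟩ := h1 U hU
    exact ⟨H, hH.1, hH.2, 1, by
      have : cj 1 U = U := cj_one U
      exact this.le.trans hUH⟩

end Cfsg.Agent.S3744
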