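import Mathlib
import Cfsg.Statements.S3803
import Cfsg.Agent.Lib.Helper1.ClassTwo
import Cfsg.Agent.Lib.Helper1.FrattiniAct
import Cfsg.Agent.Lib.Helper1.SZQuot
import Cfsg.Agent.Lib.Helper2.Basic
import Cfsg.Agent.Lib.Helper2.Frattini
import Cfsg.Agent.Lib.Helper6.Basic
import Cfsg.Agent.S3744

set_option autoImplicit false
open Cfsg

namespace Cfsg.Agent.S3803

open Cfsg.Agent.Lib.Helper1 Cfsg.Agent.Lib.Helper6.Basic

variable {X : Type*} [Group X]

theorem mem_centralizer_of_hom_eq_one (K : Subgroup X) (a : X)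
    (ha : a ∈ Subgroup.normalizer (K : Set X)) (h : K.normalizerMonoidHom ⟨a, ha⟩ = 1) :
    a ∈ Subgroup.centralizer (K : Set X) := by
  have h1 : (⟨a, ha⟩ : Subgroup.normalizer (K : Set X)) ∈ K.normalizerMonoidHom.ker :=
    MonoidHom.mem_ker.2 h
  rw [Subgroup.normalizerMonoidHom_ker] at h1
  exact Subgroup.mem_subgroupOf.1 h1

theorem hom_pow_card (A K : Subgroup X) (a : X) (haA : a ∈ A)
    (ha : a ∈ Subgroup.normalizer (K : Set X)) :
    (K.normalizerMonoidHom ⟨a, ha⟩) ^ Nat.card A = 1 := by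
  rw [← map_pow]
  have : (⟨a, ha⟩ : Subgroup.normalizer (K : Set X)) ^ Nat.card A = 1 := by
    apply Subtype.ext
    have h1 := pow_card_eq_one' (x := (⟨a, haA⟩ : A))
    have h2 : a ^ Nat.card A = 1 := by
      have := congrArg Subtype.val h1
      rwa [Subgroup.coe_pow, Subgroup.coe_one] at this
    rw [Subgroup.coe_pow, Subgroup.coe_one]
    exact h2
  rw [this, map_one]

theorem cent_of_cyclic [Finite X] (A E : Subgroup X) (hA : Odd (Nat.card A)) (hE : IsPGroup 2 E)
    (hc : IsCyclic E) (hAE : A ≤ Subgroup.normalizer (E : Set X)) :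
    A ≤ Subgroup.centralizer (E : Set X) := by
  intro a ha
  have hcard : ∃ j, Nat.card (MulAut E) = 2 ^ j := by
    rw [IsCyclic.card_mulAut]
    obtain ⟨k, hk⟩ := IsPGroup.iff_card.1 hE
    rw [hk]
    cases k with
    | zero => exact ⟨0, by simp⟩
    | succ k => exact ⟨k, by rw [Nat.totient_prime_pow Nat.prime_two (Nat.succ_pos k)]; simp⟩
  obtain ⟨j, hj⟩ := hcard
  apply mem_centralizer_of_hom_eq_one E a (hAE ha)
  have h1 := hom_pow_card A E a ha (hAE ha)
  have h2 : (E.normalizerMonoidHom ⟨a, hAE ha⟩) ^ (2 ^ j) = 1 := by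
    rw [← hj]; exact pow_card_eq_one'
  have d1 := orderOf_dvd_of_pow_eq_one h1
  have d2 := orderOf_dvd_of_pow_eq_one h2
  have hc : (Nat.card A).Coprime (2 ^ j) := Nat.Coprime.pow_right j hA.coprime_two_right
  exact orderOf_eq_one_iff.1 (Nat.Coprime.eq_one_of_dvd (Nat.Coprime.coprime_dvd_left d1 hc) d2)

theorem exists_between [Finite X] (P F : Subgroup X) (hFP : F ≤ P) {i m N : ℕ}
    (hF : Nat.card F = 2 ^ i) (hP : Nat.card P = 2 ^ N) (him : i ≤ m) (hmN : m ≤ N) :
    ∃ E : Subgroup X, F ≤ E ∧ E ≤ P ∧ Nat.card E = 2 ^ m := by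
  haveI : Fact (Nat.Prime 2) := ⟨Nat.prime_two⟩
  obtain ⟨K, hK, hFK⟩ := Sylow.exists_subgroup_card_pow_prime_le (G := P) 2
    (n := i) (m := m) (by rw [hP]; exact pow_dvd_pow 2 hmN) (F.subgroupOf P)
    (by rw [card_subgroupOf hFP, hF]) him
  refine ⟨K.map P.subtype, ?_, Subgroup.map_subtype_le K, ?_⟩
  · have := Subgroup.map_mono (f := P.subtype) hFK
    rwa [Subgroup.subgroupOf_map_subtype, inf_eq_left.2 hFP] at this
  · rw [Subgroup.card_map_of_injective (Subgroup.subtype_injective P), hK]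

theorem coatom_facts [Finite X] (M : Subgroup X) {k : ℕ} (hM : Nat.card M = 2 ^ (k + 1))
    (H : Subgroup M) (hH : IsCoatom H) :
    H.index = 2 ∧ Nat.card (H.map M.subtype) = 2 ^ k := by
  haveI : Fact (Nat.Prime 2) := ⟨Nat.prime_two⟩
  have hp : IsPGroup 2 M := IsPGroup.of_card hM
  haveI : Group.IsNilpotent M := hp.isNilpotent
  have hnil : Group.IsNilpotent M := hp.isNilpotent
  have hall : ∀ H : Subgroup M, IsCoatom H → H.Normal :=
    ((Group.isNilpotent_of_finite_tfae (G := M)).out 0 2).1 hnil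
  haveI : H.Normal := hall H hH
  have hidx := prime_index_of_normal_coatom hH
  have hdvd : H.index ∣ 2 ^ (k + 1) := hM ▸ H.index_dvd_card
  have h2 : H.index = 2 := (Nat.prime_dvd_prime_iff_eq hidx Nat.prime_two).1 (hidx.dvd_of_dvd_pow hdvd)
  refine ⟨h2, ?_⟩
  rw [Subgroup.card_map_of_injective (Subgroup.subtype_injective M)]
  have := H.card_mul_index
  rw [h2, hM, pow_succ] at this
  exact Nat.eq_of_mul_eq_mul_right (by norm_num) this

theorem claim [Finite X] (P A : Subgroup X) (hA : Odd (Nat.card A)) {k N : ℕ}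
    (hPc : Nat.card P = 2 ^ N) (hkN : k < N)
    (hinv : ∀ E : Subgroup X, E ≤ P → Nat.card E = 2 ^ k → A ≤ Subgroup.normalizer (E : Set X))
    (E : Subgroup X) (hEP : E ≤ P) (hE : Nat.card E = 2 ^ k) :
    A ≤ Subgroup.centralizer (E : Set X) := by
  obtain ⟨M, hEM, hMP, hM⟩ := exists_between P E hEP hE hPc (Nat.le_succ k) hkN
  have hco := coatom_facts M hM
  by_cases huniq : ∀ E' : Subgroup X, E' ≤ M → Nat.card E' = 2 ^ k → E' = E
  · -- M is cyclic
    apply cent_of_cyclic A E hA (IsPGroup.of_card hE) _ (hinv E hEP hE)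
    have hex : ∃ y ∈ M, y ∉ E := by
      by_contra hcon
      push Not at hcon
      have : M ≤ E := hcon
      have h1 := Nat.card_le_card_of_injective _ (Subgroup.inclusion_injective this)
      rw [hM, hE] at h1
      exact absurd h1 (by rw [pow_succ]; have := Nat.pow_pos (n := k) (show 0 < 2 by norm_num); omega)
    obtain ⟨y, hyM, hyE⟩ := hex
    have htop : Subgroup.zpowers (⟨y, hyM⟩ : M) = ⊤ := by
      by_contra hne
      obtain ⟨H, hH, hle⟩ := Cfsg.Agent.Lib.Helper2.Basic.exists_isCoatom_ge hne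
      have h1 := huniq (H.map M.subtype) (Subgroup.map_subtype_le H) (hco H hH).2
      apply hyE
      rw [← h1]
      exact ⟨⟨y, hyM⟩, hle (Subgroup.mem_zpowers _), rfl⟩
    haveI : IsCyclic M := isCyclic_iff_exists_zpowers_eq_top.2 ⟨_, htop⟩
    exact isCyclic_of_surjective (Subgroup.subgroupOfEquivOfLe hEM) (Subgroup.subgroupOfEquivOfLe hEM).surjective
  · push Not at huniq
    obtain ⟨E', hE'M, hE', hne⟩ := huniq
    have hrel : E.relIndex M = 2 := by
      have := S3744.card_mul_relIndex hEM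
      rw [hE, hM, pow_succ] at this
      exact Nat.eq_of_mul_eq_mul_left (Nat.pow_pos (by norm_num)) this
    have hMeq : M = E ⊔ E' := by
      apply le_antisymm _ (sup_le hEM hE'M)
      have h1 := Subgroup.relIndex_mul_relIndex E (E ⊔ E') M le_sup_left (sup_le hEM hE'M)
      rw [hrel] at h1
      have h2 : E.relIndex (E ⊔ E') ≠ 1 := by
        intro h
        have h3 : E ⊔ E' ≤ E := Subgroup.relIndex_eq_one.1 h
        have h4 : E' ≤ E := le_sup_right.trans h3
        exact hne (Subgroup.eq_of_le_of_card_ge h4 (by rw [hE, hE']))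
      have h5 : E.relIndex (E ⊔ E') ∣ 2 := Dvd.intro _ h1
      have h6 : E.relIndex (E ⊔ E') = 2 := ((Nat.dvd_prime Nat.prime_two).1 h5).resolve_left h2
      rw [h6] at h1
      have h7 : (E ⊔ E').relIndex M = 1 := by omega
      exact Subgroup.relIndex_eq_one.1 h7
    have hAM : A ≤ Subgroup.normalizer (M : Set X) := by
      intro a ha
      rw [← cj_eq_self_iff, hMeq, cj_sup, cj_eq_self_iff.2 (hinv E hEP hE ha),
        cj_eq_self_iff.2 (hinv E' (hE'M.trans hMP) hE' ha)]
    have hcent : A ≤ Subgroup.centralizer (M : Set X) := by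
      apply centralizes_of_frattini A M hAM
      · have h1 : Nat.card (frattini M) ∣ 2 ^ (k + 1) := hM ▸ Subgroup.card_subgroup_dvd_card _
        exact Nat.Coprime.coprime_dvd_right h1 (Nat.Coprime.pow_right _ hA.coprime_two_right)
      · intro a ha y hy
        have hay : a * y * a⁻¹ ∈ M := (Subgroup.mem_normalizer_iff.1 (hAM ha) y).1 hy
        refine ⟨⟨a * y * a⁻¹, hay⟩ * (⟨y, hy⟩ : M)⁻¹, ?_, rfl⟩
        have hz : Subgroup.zpowers ((⟨a * y * a⁻¹, hay⟩ : M) * (⟨y, hy⟩ : M)⁻¹) ≤ frattini M := by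
          rw [Cfsg.Agent.Lib.Helper2.Frattini.le_frattini_iff]
          intro H hH
          rw [Subgroup.zpowers_le]
          obtain ⟨h2, hc⟩ := hco H hH
          rw [Subgroup.mul_mem_iff_of_index_two h2, Subgroup.inv_mem_iff]
          have hn := hinv (H.map M.subtype) ((Subgroup.map_subtype_le H).trans hMP) hc ha
          have h3 := Subgroup.mem_normalizer_iff.1 hn y
          constructor
          · intro h
            obtain ⟨w, hw, hwe⟩ := h3.2 ⟨_, h, rfl⟩
            have : w = ⟨y, hy⟩ := Subtype.ext hwe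
            rwa [this] at hw
          · intro h
            obtain ⟨w, hw, hwe⟩ := h3.1 ⟨_, h, rfl⟩
            have : w = ⟨a * y * a⁻¹, hay⟩ := Subtype.ext hwe
            rwa [this] at hw
        exact hz (Subgroup.mem_zpowers _)
    exact hcent.trans (Subgroup.centralizer_le hEM)

theorem result {X : Type*} [Group X] [Finite X] (P A D : Subgroup X) (hP : IsPGroup 2 P) (hA : Odd (Nat.card A))
    (hAP : A ≤ Subgroup.normalizer (P : Set X)) (hDP : D ≤ P) (hD1 : 1 < Nat.card D) (hD2 : Nat.card D < Nat.card P)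
    (hinv : ∀ E : Subgroup X, E ≤ P → (Nat.card E = Nat.card D ∨ (Nat.card D = 2 ∧ Nat.card E = 4)) → A ≤ Subgroup.normalizer (E : Set X)) :
    A ≤ Subgroup.centralizer (P : Set X) := by
  haveI : Fact (Nat.Prime 2) := ⟨Nat.prime_two⟩
  obtain ⟨N, hN⟩ := IsPGroup.iff_card.1 hP
  obtain ⟨k, hk⟩ := IsPGroup.iff_card.1 (hP.to_le hDP)
  have hkN : k < N := by
    rw [hk, hN] at hD2
    exact (Nat.pow_lt_pow_iff_right (by norm_num)).1 hD2
  have hk1 : 1 ≤ k := by
    rcases Nat.eq_zero_or_pos k with h | h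
    · rw [hk, h] at hD1; simp at hD1
    · exact h
  have hcl := claim P A hA hN hkN (fun E hEP hE => hinv E hEP (Or.inl (by rw [hE, hk])))
  -- elements of order dividing 4 are centralized
  have h4 : ∀ x ∈ P, x ^ 4 = 1 → A ≤ Subgroup.centralizer ((Subgroup.zpowers x : Subgroup X) : Set X) := by
    intro x hxP hx4
    have hzP : Subgroup.zpowers x ≤ P := Subgroup.zpowers_le.2 hxP
    have hzp : IsPGroup 2 (Subgroup.zpowers x) := hP.to_le hzP
    obtain ⟨i, hi⟩ := IsPGroup.iff_card.1 hzp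
    have hi2 : i ≤ 2 := by
      have h1 : orderOf x ∣ 4 := orderOf_dvd_of_pow_eq_one hx4
      rw [← Nat.card_zpowers, hi] at h1
      have h2 := Nat.le_of_dvd (by norm_num) h1
      by_contra hcon
      have : 2 ^ 3 ≤ 2 ^ i := Nat.pow_le_pow_right (by norm_num) (by omega)
      omega
    by_cases hik : i ≤ k
    · obtain ⟨E, hzE, hEP, hE⟩ := exists_between P _ hzP hi hN hik hkN.le
      exact (hcl E hEP hE).trans (Subgroup.centralizer_le hzE)
    · have hk' : k = 1 := by omega
      have hi' : i = 2 := by omega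
      apply cent_of_cyclic A _ hA hzp inferInstance
      apply hinv _ hzP
      right
      rw [hk, hk', hi, hi']
      norm_num
  intro a ha
  apply mem_centralizer_of_hom_eq_one P a (hAP ha)
  apply aut_trivial (p := 2) (m := Nat.card A) (e := 4) hP _ hA.coprime_two_right
    (hom_pow_card A P a ha (hAP ha)) (by norm_num) (by decide)
  intro x hx
  have hx4 : (x : X) ^ 4 = 1 := by
    have := congrArg Subtype.val hx
    simpa using this
  have h1 := h4 x x.2 hx4 ha
  have h2 := Subgroup.mem_centralizer_iff.1 h1 x (Subgroup.mem_zpowers _)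
  apply Subtype.ext
  show a * (x : X) * a⁻¹ = x
  rw [← h2, mul_inv_cancel_right]

end Cfsg.Agent.S3803
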