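import Cfsg.Statements.S3741
import Cfsg.Agent.Lib.Helper6.Card
import Cfsg.Agent.S3803

set_option autoImplicit false
open Cfsg

namespace Cfsg.Agent.S3741

/-- a subgroup of order at most `p` of a `p`-group is centralized by everything normalizing it. -/
theorem central {G : Type*} [Group G] [Finite G] {p : ℕ} [hp : Fact p.Prime] (hG : IsPGroup p G)
    (Z : Subgroup G) (hZ : Nat.card Z ≤ p) (b : G) (hb : b ∈ Subgroup.normalizer (Z : Set G)) :
    b ∈ Subgroup.centralizer (Z : Set G) := by
  apply S3803.mem_centralizer_of_hom_eq_one Z b hb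
  obtain ⟨e, he⟩ := IsPGroup.iff_card.1 (hG.to_subgroup Z)
  obtain ⟨n, hn⟩ := IsPGroup.iff_card.1 hG
  have h1 := S3803.hom_pow_card (⊤ : Subgroup G) Z b (Subgroup.mem_top b) hb
  rw [Subgroup.card_top, hn] at h1
  have he1 : e ≤ 1 := by
    by_contra h
    push Not at h
    have : p ^ 2 ≤ p ^ e := Nat.pow_le_pow_right hp.out.pos h
    have h3 : p < p ^ 2 := by
      have := hp.out.one_lt
      nlinarith
    omega
  haveI hcyc : IsCyclic Z := by
    interval_cases e
    · haveI : Subsingleton Z := (Nat.card_eq_one_iff_unique.1 (by simpa using he)).1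
      infer_instance
    · exact isCyclic_of_prime_card (p := p) (by simpa using he)
  have h2 : (Z.normalizerMonoidHom ⟨b, hb⟩) ^ Nat.card (MulAut Z) = 1 := pow_card_eq_one'
  have hcop : Nat.Coprime (p ^ n) (Nat.card (MulAut Z)) := by
    rw [IsCyclic.card_mulAut, he]
    apply Nat.Coprime.pow_left
    interval_cases e
    · simp
    · rw [pow_one, Nat.totient_prime hp.out]
      have h1lt := hp.out.one_lt
      exact Nat.coprime_of_lt_prime (by omega) (by omega) hp.out
  have h3 : orderOf (Z.normalizerMonoidHom ⟨b, hb⟩) ∣ 1 := by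
    rw [← hcop.gcd_eq_one]
    exact Nat.dvd_gcd (orderOf_dvd_of_pow_eq_one h1) (orderOf_dvd_of_pow_eq_one h2)
  exact orderOf_eq_one_iff.1 (Nat.dvd_one.1 h3)

theorem half {G : Type*} [Group G] [Finite G] {p : ℕ} [hp : Fact p.Prime] (hG : IsPGroup p G)
    (A B : Subgroup G) (hcard : Nat.card ↥⁅A, B⁆ ≤ p) (a : G) (ha : a ∈ A)
    (hna : a ∉ Subgroup.centralizer (B : Set G)) :
    Nat.card ↥(B ⊓ Subgroup.centralizer ({a} : Set G)) * p = Nat.card B := by
  have hmem : ∀ b : B, a * (b : G) * a⁻¹ * (b : G)⁻¹ ∈ ⁅A, B⁆ :=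
    fun b => Subgroup.commutator_mem_commutator ha b.2
  have hcen : ∀ b ∈ B, ∀ z ∈ ⁅A, B⁆, b * z * b⁻¹ = z := by
    intro b hb z hz
    have h1 := central hG ⁅A, B⁆ hcard b (Subgroup.normalizer_commutator_ge_right A B hb)
    have h2 := (Subgroup.mem_centralizer_iff.1 h1) z hz
    rw [← h2, mul_inv_cancel_right]
  let φ : B →* ↥⁅A, B⁆ := MonoidHom.mk' (fun b => ⟨a * (b : G) * a⁻¹ * (b : G)⁻¹, hmem b⟩) (by
    intro y z
    apply Subtype.ext
    show a * ((y : G) * z) * a⁻¹ * ((y : G) * z)⁻¹ =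
      (a * (y : G) * a⁻¹ * (y : G)⁻¹) * (a * (z : G) * a⁻¹ * (z : G)⁻¹)
    have hc := hcen y y.2 _ (hmem z)
    calc a * ((y : G) * z) * a⁻¹ * ((y : G) * z)⁻¹
        = (a * (y : G) * a⁻¹ * (y : G)⁻¹) * ((y : G) * (a * (z : G) * a⁻¹ * (z : G)⁻¹) * (y : G)⁻¹) := by
          group
      _ = _ := by rw [hc])
  have hker : φ.ker = (B ⊓ Subgroup.centralizer ({a} : Set G)).subgroupOf B := by
    ext y
    rw [MonoidHom.mem_ker, Subgroup.mem_subgroupOf, Subgroup.mem_inf,
      Subgroup.mem_centralizer_singleton_iff, Subtype.ext_iff]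
    show a * (y : G) * a⁻¹ * (y : G)⁻¹ = 1 ↔ _
    constructor
    · intro h
      refine ⟨y.2, ?_⟩
      have h1 : a * (y : G) = y * a := by
        calc a * (y : G) = (a * (y : G) * a⁻¹ * (y : G)⁻¹) * (y * a) := by group
          _ = y * a := by rw [h, one_mul]
      exact h1.symm
    · rintro ⟨-, h⟩
      rw [← h]
      group
  have hrange : Nat.card φ.range = p := by
    obtain ⟨e, he⟩ := IsPGroup.iff_card.1 ((hG.to_subgroup ⁅A, B⁆).to_subgroup φ.range)
    have hle : Nat.card φ.range ≤ p := (Subgroup.card_le_card_group _).trans hcard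
    have hne : φ.range ≠ ⊥ := by
      intro h
      apply hna
      rw [Subgroup.mem_centralizer_iff]
      intro b hb
      have h1 : φ ⟨b, hb⟩ ∈ φ.range := ⟨_, rfl⟩
      rw [h, Subgroup.mem_bot] at h1
      have h2 : a * b * a⁻¹ * b⁻¹ = 1 := congrArg Subtype.val h1
      calc b * a = (a * b * a⁻¹ * b⁻¹)⁻¹ * (a * b) := by group
        _ = a * b := by rw [h2, inv_one, one_mul]
    have he0 : e ≠ 0 := by
      intro h
      rw [h, pow_zero] at he
      exact hne (Subgroup.card_eq_one.1 he)
    rw [he] at hle ⊢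
    have : p ^ 1 ≤ p ^ e := Nat.pow_le_pow_right hp.out.pos (by omega)
    rw [pow_one] at this
    omega
  have h1 := Subgroup.card_mul_index φ.ker
  rw [Subgroup.index_ker, hrange, hker] at h1
  rw [← h1]
  congr 1
  exact (Nat.card_congr (Subgroup.subgroupOfEquivOfLe (inf_le_left :
    B ⊓ Subgroup.centralizer ({a} : Set G) ≤ B)).toEquiv).symm

/-- `p * #{commuting pairs in A × B}` computed from the `A` side. -/
theorem count {G : Type*} [Group G] [Fintype G] [DecidableEq G] {p : ℕ} [hp : Fact p.Prime]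
    (hG : IsPGroup p G) (A B : Subgroup G) (hcard : Nat.card ↥⁅A, B⁆ ≤ p)
    [DecidablePred (· ∈ A)] [DecidablePred (· ∈ B)] :
    p * ∑ g : G, ∑ h : G, (if g ∈ A then 1 else 0) * ((if h ∈ B then 1 else 0) *
      (if g * h = h * g then 1 else 0)) =
    Nat.card A * Nat.card B + (p - 1) * Nat.card B *
      Nat.card ↥(A ⊓ Subgroup.centralizer (B : Set G)) := by
  classical
  have hin : ∀ g : G, ∑ h : G, ((if h ∈ B then 1 else 0) * (if g * h = h * g then 1 else 0) : ℕ) =
      Nat.card ↥(B ⊓ Subgroup.centralizer ({g} : Set G)) := by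
    intro g
    rw [Nat.card_eq_fintype_card, Fintype.card_subtype, Finset.card_filter]
    refine Finset.sum_congr rfl (fun h _ => ?_)
    by_cases hc : g * h = h * g
    · have h1 : h ∈ Subgroup.centralizer ({g} : Set G) :=
        Subgroup.mem_centralizer_singleton_iff.2 hc.symm
      by_cases h2 : h ∈ B
      · simp [hc, h1, h2]
      · simp [hc, h1, h2]
    · have h1 : h ∉ Subgroup.centralizer ({g} : Set G) :=
        fun e => hc (Subgroup.mem_centralizer_singleton_iff.1 e).symm
      simp [hc, h1]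
  have hp1 : 1 ≤ p := hp.out.one_lt.le
  have hterm : ∀ g : G, p * ((if g ∈ A then 1 else 0) *
      Nat.card ↥(B ⊓ Subgroup.centralizer ({g} : Set G))) =
      (if g ∈ A then 1 else 0) * Nat.card B + (p - 1) * Nat.card B *
        (if g ∈ A ⊓ Subgroup.centralizer (B : Set G) then 1 else 0) := by
    intro g
    by_cases hgA : g ∈ A
    · by_cases hgC : g ∈ Subgroup.centralizer (B : Set G)
      · have e : B ⊓ Subgroup.centralizer ({g} : Set G) = B := by
          apply inf_eq_left.2
          intro b hb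
          rw [Subgroup.mem_centralizer_singleton_iff]
          exact (Subgroup.mem_centralizer_iff.1 hgC) b hb
        have hmem : g ∈ A ⊓ Subgroup.centralizer (B : Set G) := ⟨hgA, hgC⟩
        rw [e, if_pos hgA, if_pos hmem]
        obtain ⟨p', rfl⟩ : ∃ p', p = p' + 1 := ⟨p - 1, by omega⟩
        simp only [Nat.add_sub_cancel]
        ring
      · have hmem : g ∉ A ⊓ Subgroup.centralizer (B : Set G) := fun h => hgC h.2
        have := half hG A B hcard g hgA hgC
        rw [if_pos hgA, if_neg hmem, ← this]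
        ring
    · have hmem : g ∉ A ⊓ Subgroup.centralizer (B : Set G) := fun h => hgA h.1
      rw [if_neg hgA, if_neg hmem]
      simp
  have hcA : ∑ g : G, (if g ∈ A then 1 else 0 : ℕ) = Nat.card A := by
    rw [Nat.card_eq_fintype_card, Fintype.card_subtype, Finset.card_filter]
  have hcC : ∑ g : G, (if g ∈ A ⊓ Subgroup.centralizer (B : Set G) then 1 else 0 : ℕ) =
      Nat.card ↥(A ⊓ Subgroup.centralizer (B : Set G)) := by
    rw [Nat.card_eq_fintype_card, Fintype.card_subtype, Finset.card_filter]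
  calc p * ∑ g : G, ∑ h : G, (if g ∈ A then 1 else 0) * ((if h ∈ B then 1 else 0) *
      (if g * h = h * g then 1 else 0))
      = ∑ g : G, p * ((if g ∈ A then 1 else 0) *
          Nat.card ↥(B ⊓ Subgroup.centralizer ({g} : Set G))) := by
        rw [Finset.mul_sum]
        refine Finset.sum_congr rfl (fun g _ => ?_)
        rw [← Finset.mul_sum, hin]
    _ = ∑ g : G, ((if g ∈ A then 1 else 0) * Nat.card B + (p - 1) * Nat.card B *
        (if g ∈ A ⊓ Subgroup.centralizer (B : Set G) then 1 else 0)) :=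
        Finset.sum_congr rfl (fun g _ => hterm g)
    _ = _ := by
        rw [Finset.sum_add_distrib, ← Finset.sum_mul, ← Finset.mul_sum, hcA, hcC]

/-- Let A and B be subgroups of a finite p-group with [A, B] ≤ A ∩ B and [A, B] of order at most p. Then |A : C_A(B)| = |B : C_B(A)|. -/
theorem result {G : Type*} [Group G] [Finite G] {p : ℕ} [Fact p.Prime] (hG : IsPGroup p G) (A B : Subgroup G) (hAB : ⁅A, B⁆ ≤ A ⊓ B) (hcard : Nat.card ↥⁅A, B⁆ ≤ p) : (A ⊓ Subgroup.centralizer (B : Set G)).relIndex A = (B ⊓ Subgroup.centralizer (A : Set G)).relIndex B := by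
  classical
  haveI : Fintype G := Fintype.ofFinite G
  have h1 := count hG A B hcard
  have h2 := count hG B A (by rw [Subgroup.commutator_comm]; exact hcard)
  have hswap : ∑ g : G, ∑ h : G, (if g ∈ A then 1 else 0) * ((if h ∈ B then 1 else 0) *
      (if g * h = h * g then 1 else 0)) =
      ∑ g : G, ∑ h : G, (if g ∈ B then 1 else 0) * ((if h ∈ A then 1 else 0) *
      (if g * h = h * g then 1 else 0) : ℕ) := by
    rw [Finset.sum_comm]
    refine Finset.sum_congr rfl (fun g _ => Finset.sum_congr rfl (fun h _ => ?_))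
    by_cases hc : g * h = h * g
    · rw [if_pos hc, if_pos hc.symm]
      ring
    · have hc' : ¬ h * g = g * h := fun e => hc e.symm
      rw [if_neg hc, if_neg hc']
      simp
  rw [hswap, h2] at h1
  have hp1 : 0 < p - 1 := by
    have := (Fact.out : p.Prime).one_lt
    omega
  have h3 : Nat.card A * Nat.card ↥(B ⊓ Subgroup.centralizer (A : Set G)) =
      Nat.card B * Nat.card ↥(A ⊓ Subgroup.centralizer (B : Set G)) := by
    have h4 : (p - 1) * (Nat.card A * Nat.card ↥(B ⊓ Subgroup.centralizer (A : Set G))) =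
        (p - 1) * (Nat.card B * Nat.card ↥(A ⊓ Subgroup.centralizer (B : Set G))) := by
      have h5 : Nat.card B * Nat.card A = Nat.card A * Nat.card B := mul_comm _ _
      rw [h5] at h1
      have h6 := Nat.add_left_cancel h1
      calc _ = (p - 1) * Nat.card A * Nat.card ↥(B ⊓ Subgroup.centralizer (A : Set G)) := by ring
        _ = (p - 1) * Nat.card B * Nat.card ↥(A ⊓ Subgroup.centralizer (B : Set G)) := h6
        _ = _ := by ring
    exact Nat.eq_of_mul_eq_mul_left hp1 h4
  have hrA := Cfsg.Agent.Lib.Helper6.Card.card_mul_relIndex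
    (inf_le_left : A ⊓ Subgroup.centralizer (B : Set G) ≤ A)
  have hrB := Cfsg.Agent.Lib.Helper6.Card.card_mul_relIndex
    (inf_le_left : B ⊓ Subgroup.centralizer (A : Set G) ≤ B)
  rw [← hrA, ← hrB] at h3
  have hpos : 0 < Nat.card ↥(A ⊓ Subgroup.centralizer (B : Set G)) *
      Nat.card ↥(B ⊓ Subgroup.centralizer (A : Set G)) := Nat.mul_pos Nat.card_pos Nat.card_pos
  apply Nat.eq_of_mul_eq_mul_left hpos
  calc _ = Nat.card ↥(A ⊓ Subgroup.centralizer (B : Set G)) *
        (A ⊓ Subgroup.centralizer (B : Set G)).relIndex A *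
        Nat.card ↥(B ⊓ Subgroup.centralizer (A : Set G)) := by ring
    _ = Nat.card ↥(B ⊓ Subgroup.centralizer (A : Set G)) *
        (B ⊓ Subgroup.centralizer (A : Set G)).relIndex B *
        Nat.card ↥(A ⊓ Subgroup.centralizer (B : Set G)) := h3
    _ = _ := by ring

end Cfsg.Agent.S3741
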