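import Cfsg.Statements.S0110
import Cfsg.Agent.Lib.Helper6.FStar
import Cfsg.Agent.S3741

set_option autoImplicit false
open Cfsg

namespace Cfsg.Agent.S0110

open Cfsg.Agent.Lib.Helper6.Basic Cfsg.Agent.Lib.Helper6.Subn Cfsg.Agent.Lib.Helper6.Quasi Cfsg.Agent.Lib.Helper6.Comp Cfsg.Agent.Lib.Helper6.Rad Cfsg.Agent.Lib.Helper6.FStar

/-- In a p-group G, an extraspecial subgroup E with [G, E] ≤ Z(E) satisfies G = E C_G(E). -/
theorem result {G : Type*} [Group G] [Finite G] {p : ℕ} [Fact p.Prime] (hG : IsPGroup p G) (E : Subgroup G) (hE : Cfsg.IsExtraspecial p E) (h : ⁅(⊤ : Subgroup G), E⁆ ≤ E ⊓ Subgroup.centralizer (E : Set G)) : E ⊔ Subgroup.centralizer (E : Set G) = ⊤ := by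
  have hZc : Nat.card ↥(E ⊓ Cz E) = p := by
    rw [← map_center_subtype, Subgroup.card_map_of_injective E.subtype_injective]
    exact hE.2
  have hcard : Nat.card ↥⁅(⊤ : Subgroup G), E⁆ ≤ p := by
    rw [← hZc]
    exact Subgroup.card_le_of_le h
  have hkey := S3741.result hG ⊤ E (le_inf le_top (h.trans inf_le_left)) hcard
  have hNE : (⊤ : Subgroup G) ≤ Nz E := le_Nz_iff_comm_le.2 (h.trans inf_le_left)
  have hNZ : (⊤ : Subgroup G) ≤ Nz (E ⊓ Cz E) := le_Nz_inf hNE (hNE.trans (Nz_le_Nz_Cz E))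
  have heq : E ⊓ Subgroup.centralizer (((⊤ : Subgroup G) : Subgroup G) : Set G) = E ⊓ Cz E := by
    apply le_antisymm
    · exact inf_le_inf_left _ (Cz_anti le_top)
    · intro z hz
      have hzc : z ∈ Subgroup.centralizer (((⊤ : Subgroup G) : Subgroup G) : Set G) := by
        rw [Subgroup.mem_centralizer_iff]
        intro g _
        have h1 := S3741.central hG (E ⊓ Cz E) hZc.le g (hNZ (Subgroup.mem_top g))
        exact ((Subgroup.mem_centralizer_iff.1 h1) z hz).symm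
      exact ⟨hz.1, hzc⟩
  rw [heq, top_inf_eq, Subgroup.relIndex_top_right] at hkey
  have hr1 := Subgroup.card_mul_index (Cz E)
  have hr2 := Cfsg.Agent.Lib.Helper6.Card.card_mul_relIndex (inf_le_left : E ⊓ Cz E ≤ E)
  have hsup := card_sup_mul (M := E) (N := Cz E) (Cz_le_Nz E)
  apply Subgroup.eq_top_of_card_eq
  have hpos : 0 < Nat.card ↥(E ⊓ Cz E) := Nat.card_pos
  apply Nat.eq_of_mul_eq_mul_right hpos
  rw [hsup, ← hr2, ← hr1, hkey]
  ring

end Cfsg.Agent.S0110
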