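import Cfsg.Statements.S4142
import Mathlib

set_option autoImplicit false
open Cfsg

namespace Cfsg.Agent.S4142

open Cfsg

theorem card_of_fibers' {α β : Type*} [Finite α] [Finite β] (f : α → β) (c : ℕ)
    (h : ∀ b, Nat.card {a // f a = b} = c) : Nat.card α = Nat.card β * c := by
  haveI := Fintype.ofFinite β
  rw [Nat.card_congr (Equiv.sigmaFiberEquiv f).symm, Nat.card_sigma]
  simp [h]

theorem key {G : Type*} [Group G] [Finite G] (N : Subgroup G) [N.Normal] (g : G) :
    Nat.card N * Nat.card (Subgroup.centralizer ({(QuotientGroup.mk g : G ⧸ N)} : Set (G ⧸ N))) =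
    Nat.card {n : G // n ∈ N ∧ ∃ x : G, x * g * x⁻¹ = g * n} *
      Nat.card (Subgroup.centralizer ({g} : Set G)) := by
  have h1 : Nat.card {x : G // g⁻¹ * (x * g * x⁻¹) ∈ N} = Nat.card N *
      Nat.card (Subgroup.centralizer ({(QuotientGroup.mk g : G ⧸ N)} : Set (G ⧸ N))) := by
    have e := QuotientGroup.preimageMkEquivSubgroupProdSet N
      (Subgroup.centralizer ({(QuotientGroup.mk g : G ⧸ N)} : Set (G ⧸ N)) : Set (G ⧸ N))
    have e2 : Nat.card (Subgroup.centralizer ({(QuotientGroup.mk g : G ⧸ N)} : Set (G ⧸ N))) =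
      Nat.card ((Subgroup.centralizer ({(QuotientGroup.mk g : G ⧸ N)} : Set (G ⧸ N)) : Set (G ⧸ N))) := rfl
    rw [e2, ← Nat.card_prod, ← Nat.card_congr e]
    apply Nat.card_congr
    apply Equiv.subtypeEquivRight
    intro x
    rw [Set.mem_preimage, SetLike.mem_coe, Subgroup.mem_centralizer_singleton_iff,
      ← QuotientGroup.mk_mul, ← QuotientGroup.mk_mul, QuotientGroup.eq]
    have e1 : (x * g)⁻¹ * (g * x) = x⁻¹ * (g⁻¹ * (x * g * x⁻¹))⁻¹ * x⁻¹⁻¹ := by group
    rw [e1]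
    constructor
    · intro h
      exact ‹N.Normal›.conj_mem _ (inv_mem h) _
    · intro h
      have := ‹N.Normal›.conj_mem _ h x
      have e3 : x * (x⁻¹ * (g⁻¹ * (x * g * x⁻¹))⁻¹ * x⁻¹⁻¹) * x⁻¹ = (g⁻¹ * (x * g * x⁻¹))⁻¹ := by group
      rw [e3] at this
      exact inv_mem_iff.mp this
  rw [← h1]
  apply card_of_fibers' (fun x : {x : G // g⁻¹ * (x * g * x⁻¹) ∈ N} =>
      (⟨g⁻¹ * (x.1 * g * x.1⁻¹), x.2, x.1, by group⟩ : {n : G // n ∈ N ∧ ∃ x : G, x * g * x⁻¹ = g * n}))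
  rintro ⟨n, hn, c, hc⟩
  apply Nat.card_congr
  refine
    { toFun := fun w => ⟨c⁻¹ * w.1.1, ?_⟩
      invFun := fun z => ⟨⟨c * z.1, ?_⟩, ?_⟩
      left_inv := ?_
      right_inv := ?_ }
  · rw [Subgroup.mem_centralizer_singleton_iff]
    have h3 : g⁻¹ * (w.1.1 * g * w.1.1⁻¹) = n := congrArg Subtype.val w.2
    have h4 : w.1.1 * g * w.1.1⁻¹ = c * g * c⁻¹ := by
      rw [hc]
      calc w.1.1 * g * w.1.1⁻¹ = g * (g⁻¹ * (w.1.1 * g * w.1.1⁻¹)) := by group
        _ = g * n := congrArg (g * ·) h3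
    calc c⁻¹ * w.1.1 * g = c⁻¹ * (w.1.1 * g * w.1.1⁻¹) * w.1.1 := by group
      _ = c⁻¹ * (c * g * c⁻¹) * w.1.1 := by rw [h4]
      _ = g * (c⁻¹ * w.1.1) := by group
  · have h3 := Subgroup.mem_centralizer_singleton_iff.mp z.2
    have h4 : g⁻¹ * (c * z.1 * g * (c * z.1)⁻¹) = n := by
      calc g⁻¹ * (c * z.1 * g * (c * z.1)⁻¹) = g⁻¹ * (c * (z.1 * g) * z.1⁻¹ * c⁻¹) := by group
        _ = g⁻¹ * (c * (g * z.1) * z.1⁻¹ * c⁻¹) := by rw [h3]
        _ = g⁻¹ * (c * g * c⁻¹) := by group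
        _ = n := by rw [hc]; group
    rw [h4]; exact hn
  · apply Subtype.ext
    have h3 := Subgroup.mem_centralizer_singleton_iff.mp z.2
    show g⁻¹ * (c * z.1 * g * (c * z.1)⁻¹) = n
    calc g⁻¹ * (c * z.1 * g * (c * z.1)⁻¹) = g⁻¹ * (c * (z.1 * g) * z.1⁻¹ * c⁻¹) := by group
        _ = g⁻¹ * (c * (g * z.1) * z.1⁻¹ * c⁻¹) := by rw [h3]
        _ = g⁻¹ * (c * g * c⁻¹) := by group
        _ = n := by rw [hc]; group
  · intro w
    apply Subtype.ext
    apply Subtype.ext
    show c * (c⁻¹ * w.1.1) = w.1.1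
    group
  · intro z
    apply Subtype.ext
    show c⁻¹ * (c * z.1) = z.1
    group

/-- Let G be a finite group and N a normal subgroup. Then the conjugacy class of every element g outside N is a union of cosets of N (gn is conjugate to g for all n ∈ N) if and only if for every g outside N the centralizer of g in G has the same order as the centralizer of gN in G/N. -/
theorem result {G : Type*} [Group G] [Finite G] (N : Subgroup G) [N.Normal] :
    (∀ g : G, g ∉ N → ∀ n ∈ N, ∃ x : G, x * g * x⁻¹ = g * n) ↔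
      ∀ g : G, g ∉ N → Nat.card (Subgroup.centralizer ({g} : Set G)) =
        Nat.card (Subgroup.centralizer ({(QuotientGroup.mk g : G ⧸ N)} : Set (G ⧸ N))) := by
  constructor
  · intro h g hg
    have hk := key N g
    have e : Nat.card {n : G // n ∈ N ∧ ∃ x : G, x * g * x⁻¹ = g * n} = Nat.card N := by
      apply Nat.card_congr
      apply Equiv.subtypeEquivRight
      intro n
      constructor
      · intro h1; exact h1.1
      · intro h1; exact ⟨h1, h g hg n h1⟩
    rw [e] at hk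
    exact (Nat.eq_of_mul_eq_mul_left Nat.card_pos hk).symm
  · intro h g hg n hn
    have hk := key N g
    rw [← h g hg] at hk
    have e := Nat.eq_of_mul_eq_mul_right Nat.card_pos hk
    have hsub : {n : G | n ∈ N ∧ ∃ x : G, x * g * x⁻¹ = g * n} ⊆ (N : Set G) := fun n hn => hn.1
    have heq := Set.eq_of_subset_of_ncard_le hsub (le_of_eq e) (Set.toFinite _)
    have : n ∈ {n : G | n ∈ N ∧ ∃ x : G, x * g * x⁻¹ = g * n} := by rw [heq]; exact hn
    exact this.2

end Cfsg.Agent.S4142
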