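import Cfsg.Statements.S0112
import Mathlib
import Cfsg.Agent.S4142

set_option autoImplicit false
open Cfsg

namespace Cfsg.Agent.S0112

open Cfsg

universe u

/-- card of a subgroup strictly between in a `p`-group chain -/
theorem card_of_lt_lt {X : Type*} [Group X] [Finite X] {p : ℕ} [hp : Fact p.Prime] (hX : IsPGroup p X)
    {K L M : Subgroup X} {i : ℕ} (hK : Nat.card K = p ^ i) (hM : Nat.card M = p ^ (i + 2)) (h1 : K < L) (h2 : L < M) :
    Nat.card L = p ^ (i + 1) := by
  obtain ⟨j, hj⟩ := IsPGroup.iff_card.mp (hX.to_subgroup L)
  have a1 : Nat.card K < Nat.card L := by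
    by_contra hge
    push Not at hge
    exact h1.ne (Subgroup.eq_of_le_of_card_ge h1.le hge)
  have a2 : Nat.card L < Nat.card M := by
    by_contra hge
    push Not at hge
    exact h2.ne (Subgroup.eq_of_le_of_card_ge h2.le hge)
  rw [hK, hj] at a1
  rw [hM, hj] at a2
  have b1 := (Nat.pow_lt_pow_iff_right hp.out.one_lt).mp a1
  have b2 := (Nat.pow_lt_pow_iff_right hp.out.one_lt).mp a2
  have : j = i + 1 := by omega
  rw [hj, this]

theorem main0112 {p : ℕ} [hp : Fact p.Prime] : ∀ n : ℕ, ∀ (X : Type u) [Group X] [Finite X], Nat.card X = p ^ n →
    ∀ A : Subgroup X, Nat.card A = p ^ 2 → Subgroup.centralizer (A : Set X) = A → Group.nilpotencyClass X = n - 1 := by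
  intro n
  induction n with
  | zero =>
    intro X _ _ hX A hA hC
    exfalso
    have := Subgroup.card_le_card_group A
    rw [hA, hX] at this
    have := hp.out.two_le
    nlinarith
  | succ n ih =>
    intro X _ _ hX A hA hC
    have hpp := hp.out
    have hXp : IsPGroup p X := IsPGroup.of_card hX
    haveI : Group.IsNilpotent X := hXp.isNilpotent
    have hAne : A ≠ ⊥ := by
      rintro rfl
      rw [Subgroup.card_bot] at hA
      have := hpp.two_le
      nlinarith
    haveI : Nontrivial X := by
      by_contra hnt
      rw [not_nontrivial_iff_subsingleton] at hnt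
      exact hAne (Subsingleton.elim _ _)
    rw [Group.nilpotencyClass_eq_quotient_center_plus_one]
    have hZA : Subgroup.center X ≤ A := by
      rw [← hC]
      exact Subgroup.center_le_centralizer _
    have hAc : IsMulCommutative A := IsPGroup.isMulCommutative_of_card_eq_prime_sq hA
    by_cases hZ : Subgroup.center X = A
    · -- abelian case
      have h1 : A = ⊤ := by
        rw [← hC, ← hZ]
        rw [Subgroup.centralizer_eq_top_iff_subset]
      have h2 : Subsingleton (X ⧸ Subgroup.center X) := by
        rw [hZ, h1]
        exact QuotientGroup.subsingleton_quotient_top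
      have h3 : Group.nilpotencyClass (X ⧸ Subgroup.center X) = 0 :=
        Group.nilpotencyClass_zero_iff_subsingleton.mpr h2
      rw [h3]
      have h4 : p ^ (n + 1) = p ^ 2 := by
        rw [← hX, ← hA, h1, Subgroup.card_top]
      have := Nat.pow_right_injective hpp.two_le h4
      omega
    · have hZlt : Subgroup.center X < A := lt_of_le_of_ne hZA hZ
      have hZbot : (⊥ : Subgroup X) < Subgroup.center X := by
        rw [bot_lt_iff_ne_bot]
        haveI := hXp.center_nontrivial
        exact (Subgroup.nontrivial_iff_ne_bot _).mp inferInstance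
      have hZc : Nat.card (Subgroup.center X) = p ^ (0 + 1) :=
        card_of_lt_lt hXp (K := ⊥) (by rw [Subgroup.card_bot, pow_zero]) (by simpa using hA) hZbot hZlt
      rw [zero_add, pow_one] at hZc
      obtain ⟨a, haA, haZ⟩ := SetLike.exists_of_lt hZlt
      have hsup : Subgroup.center X ⊔ Subgroup.zpowers a = A := by
        by_contra hne
        have h1 : Subgroup.center X ⊔ Subgroup.zpowers a < A :=
          lt_of_le_of_ne (sup_le hZA (Subgroup.zpowers_le.mpr haA)) hne
        have h2 : (⊥ : Subgroup X) < Subgroup.center X ⊔ Subgroup.zpowers a := lt_of_lt_of_le hZbot le_sup_left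
        have h3 := card_of_lt_lt hXp (K := ⊥) (by rw [Subgroup.card_bot, pow_zero]) (by simpa using hA) h2 h1
        rw [zero_add, pow_one] at h3
        have h4 := Subgroup.eq_of_le_of_card_ge (le_sup_left : Subgroup.center X ≤ Subgroup.center X ⊔ Subgroup.zpowers a)
          (by rw [h3, hZc])
        apply haZ
        rw [h4]
        exact (le_sup_right : Subgroup.zpowers a ≤ _) (Subgroup.mem_zpowers a)
      have hCa : Subgroup.centralizer ({a} : Set X) = A := by
        apply le_antisymm
        · intro g hg
          rw [Subgroup.mem_centralizer_singleton_iff] at hg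
          rw [← hC, Subgroup.mem_centralizer_iff]
          have hle : A ≤ Subgroup.centralizer ({g} : Set X) := by
            rw [← hsup, sup_le_iff]
            constructor
            · intro z hz
              rw [Subgroup.mem_centralizer_singleton_iff]
              exact (Subgroup.mem_center_iff.mp hz g).symm
            · rw [Subgroup.zpowers_le, Subgroup.mem_centralizer_singleton_iff]
              exact hg.symm
          intro b hb
          exact Subgroup.mem_centralizer_singleton_iff.mp (hle hb)
        · intro b hb
          rw [Subgroup.mem_centralizer_singleton_iff]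
          exact congrArg Subtype.val (hAc.is_comm.comm ⟨b, hb⟩ ⟨a, haA⟩)
      set Q := X ⧸ Subgroup.center X with hQ
      have hQcard : Nat.card Q = p ^ n := by
        have h1 := Subgroup.card_eq_card_quotient_mul_card_subgroup (Subgroup.center X)
        rw [hX, hZc, pow_succ] at h1
        exact (Nat.eq_of_mul_eq_mul_right hpp.pos h1).symm
      have hQp : IsPGroup p Q := IsPGroup.of_card hQcard
      set a' : Q := QuotientGroup.mk a with ha'
      have ha'1 : a' ≠ 1 := by
        intro h
        exact haZ ((QuotientGroup.eq_one_iff a).mp h)
      set B := Subgroup.centralizer ({a'} : Set Q) with hB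
      have ha'B : a' ∈ B := by
        rw [hB, Subgroup.mem_centralizer_singleton_iff]
      have hBle : Nat.card B ≤ p ^ 2 := by
        have h1 := Cfsg.Agent.S4142.key (Subgroup.center X) a
        rw [hCa, hA] at h1
        have h2 : Nat.card {n : X // n ∈ Subgroup.center X ∧ ∃ x : X, x * a * x⁻¹ = a * n} ≤ Nat.card (Subgroup.center X) :=
          Nat.card_le_card_of_injective (fun n => (⟨n.1, n.2.1⟩ : Subgroup.center X)) (fun a b h => Subtype.ext (congrArg (fun z : Subgroup.center X => z.1) h))
        have h3 : Nat.card (Subgroup.center X) * Nat.card B ≤ Nat.card (Subgroup.center X) * p ^ 2 := by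
          rw [h1]; exact Nat.mul_le_mul_right _ h2
        exact Nat.le_of_mul_le_mul_left h3 Nat.card_pos
      obtain ⟨j, hj⟩ := IsPGroup.iff_card.mp (hQp.to_subgroup B)
      have hj2 : j ≤ 2 := by
        rw [hj] at hBle
        exact (Nat.pow_le_pow_iff_right hpp.one_lt).mp hBle
      have hj0 : j ≠ 0 := by
        rintro rfl
        rw [pow_zero] at hj
        have : B = ⊥ := Subgroup.card_eq_one.mp hj
        rw [this, Subgroup.mem_bot] at ha'B
        exact ha'1 ha'B
      haveI : Nontrivial Q := ⟨⟨a', 1, ha'1⟩⟩
      have hj1 : j ≠ 1 := by
        rintro rfl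
        rw [pow_one] at hj
        have hcB : Subgroup.center Q ≤ B := Subgroup.center_le_centralizer _
        haveI := hQp.center_nontrivial
        have hcne : Subgroup.center Q ≠ ⊥ := (Subgroup.nontrivial_iff_ne_bot _).mp inferInstance
        have hcc : Nat.card (Subgroup.center Q) = p := by
          have h1 := Subgroup.card_dvd_of_le hcB
          rw [hj] at h1
          rcases (Nat.dvd_prime hpp).mp h1 with h2 | h2
          · exact absurd (Subgroup.card_eq_one.mp h2) hcne
          · exact h2
        have hceq : Subgroup.center Q = B := Subgroup.eq_of_le_of_card_ge hcB (by rw [hj, hcc])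
        have hBtop : B = ⊤ := by
          rw [hB, Subgroup.centralizer_eq_top_iff_subset, Set.singleton_subset_iff, SetLike.mem_coe, hceq]
          exact ha'B
        have hQp' : Nat.card Q = p := by
          rw [← Subgroup.card_top (G := Q), ← hBtop, hj]
        haveI : IsCyclic (X ⧸ Subgroup.center X) := isCyclic_of_prime_card hQp'
        have hcomm : IsMulCommutative X := isMulCommutative_of_isCyclic_quotient_center_self X
        apply haZ
        rw [Subgroup.mem_center_iff]
        intro g
        exact hcomm.is_comm.comm g a
      have hj' : j = 2 := by omega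
      rw [hj'] at hj
      have hBc : IsMulCommutative B := IsPGroup.isMulCommutative_of_card_eq_prime_sq hj
      have hCB : Subgroup.centralizer (B : Set Q) = B := by
        apply le_antisymm
        · intro g hg
          rw [hB, Subgroup.mem_centralizer_singleton_iff]
          exact (Subgroup.mem_centralizer_iff.mp hg a' ha'B).symm
        · intro g hg
          rw [Subgroup.mem_centralizer_iff]
          intro b hb
          exact congrArg Subtype.val (hBc.is_comm.comm ⟨b, hb⟩ ⟨g, hg⟩)
      have := ih Q hQcard B hj hCB
      rw [this]
      have h5 : p ^ 2 ∣ p ^ n := by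
        rw [← hj, ← hQcard]; exact Subgroup.card_subgroup_dvd_card B
      have h6 : 2 ≤ n := (Nat.pow_dvd_pow_iff_le_right hpp.one_lt).mp h5
      omega

/-- A p-group with a self-centralizing subgroup of order p^2 is of maximal class. -/
theorem result {X : Type*} [Group X] [Finite X] {p : ℕ} [Fact p.Prime] (n : ℕ) (hX : Nat.card X = p ^ n) (A : Subgroup X) (hA : Nat.card A = p ^ 2) (hC : Subgroup.centralizer (A : Set X) = A) : Group.nilpotencyClass X = n - 1 := by
  exact main0112 n X hX A hA hC

end Cfsg.Agent.S0112
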