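import Cfsg.Statements.S0132
import Cfsg.Agent.Lib.Helper1.NilMax

set_option autoImplicit false
open Cfsg

namespace Cfsg.Agent.S0132

open Cfsg.Agent.Lib.Helper1

/-- A minimal non-p-nilpotent finite group is a minimal non-nilpotent group with a normal Sylow p-subgroup. -/
theorem result {G : Type*} [Group G] [Finite G] {p : ℕ} [Fact p.Prime] (h1 : ¬ Cfsg.HasNormalPComplement p G) (h2 : ∀ H : Subgroup G, H ≠ ⊤ → Cfsg.HasNormalPComplement p H) : (∀ H : Subgroup G, H ≠ ⊤ → Group.IsNilpotent H) ∧ ¬ Group.IsNilpotent G ∧ ∀ P : Sylow p G, (P : Subgroup G).Normal := by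
  have hF : ¬ FrobHyp p G := fun h => h1 (pn_iff_frobHyp.mpr h)
  unfold FrobHyp at hF
  push Not at hF
  obtain ⟨Q, hQ, g, hgN, hcop, hgC⟩ := hF
  -- the subgroup generated
  have htop : Q ⊔ Subgroup.zpowers g = ⊤ := by
    by_contra hne
    have h3 := (pn_subgroup_iff (Q ⊔ Subgroup.zpowers g)).mp (h2 _ hne) Q le_sup_left hQ g
      (le_sup_right (a := Q) (Subgroup.mem_zpowers g)) hgN hcop
    exact hgC h3
  have hQn : Q.Normal := by
    rw [← Subgroup.normalizer_eq_top_iff, eq_top_iff, ← htop, sup_le_iff]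
    exact ⟨Subgroup.le_normalizer, by rw [Subgroup.zpowers_le]; exact hgN⟩
  -- quotient is cyclic
  have hcyc : ∀ x : G ⧸ Q, x ∈ Subgroup.zpowers (QuotientGroup.mk' Q g) := by
    intro x
    obtain ⟨y, rfl⟩ := QuotientGroup.mk'_surjective Q x
    have hy : y ∈ Q ⊔ Subgroup.zpowers g := by rw [htop]; trivial
    have h4 : Q ⊔ Subgroup.zpowers g ≤ (Subgroup.zpowers (QuotientGroup.mk' Q g)).comap (QuotientGroup.mk' Q) := by
      rw [sup_le_iff]
      constructor
      · intro a ha
        rw [Subgroup.mem_comap]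
        have : QuotientGroup.mk' Q a = 1 := (QuotientGroup.eq_one_iff a).mpr ha
        rw [this]; exact Subgroup.one_mem _
      · rw [Subgroup.zpowers_le, Subgroup.mem_comap]; exact Subgroup.mem_zpowers _
    exact h4 hy
  have hcomm : ∀ a b : G ⧸ Q, a * b = b * a := by
    intro a b
    obtain ⟨i, rfl⟩ := Subgroup.mem_zpowers_iff.mp (hcyc a)
    obtain ⟨j, rfl⟩ := Subgroup.mem_zpowers_iff.mp (hcyc b)
    rw [← zpow_add, ← zpow_add, add_comm]
  have hnilQ : Group.IsNilpotent (G ⧸ Q) := by
    let _ : CommGroup (G ⧸ Q) := { (inferInstance : Group (G ⧸ Q)) with mul_comm := hcomm }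
    exact CommGroup.isNilpotent
  -- the quotient has order prime to p
  have hcopQ : (Nat.card (G ⧸ Q)).Coprime p := by
    have h5 : Nat.card (G ⧸ Q) = orderOf (QuotientGroup.mk' Q g) := by
      rw [← Nat.card_zpowers]
      have : Subgroup.zpowers (QuotientGroup.mk' Q g) = ⊤ := by
        rw [eq_top_iff]; intro x _; exact hcyc x
      rw [this, Subgroup.card_top]
    rw [h5]
    exact Nat.Coprime.coprime_dvd_left (orderOf_map_dvd _ g) hcop
  refine ⟨?_, fun h => h1 (pn_of_nilpotent h), ?_⟩
  · intro H hH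
    obtain ⟨P, K, hK, hc⟩ := h2 H hH
    have hqK : IsPGroup p (H ⧸ K) := by
      obtain ⟨k, hk⟩ := IsPGroup.iff_card.mp P.isPGroup'
      apply IsPGroup.of_card (n := k)
      rw [← Subgroup.index_eq_card]
      have h6 := hc.card_mul_card
      exact Nat.eq_of_mul_eq_mul_left Nat.card_pos (K.card_mul_index.trans (h6.symm.trans (by rw [hk])))
    have hKcop : (Nat.card K).Coprime p := by
      have h6 := hc.card_mul_card
      rw [mul_comm] at h6
      have h7 : Nat.card K = (P : Subgroup H).index :=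
        Nat.eq_of_mul_eq_mul_left Nat.card_pos (h6.trans (P : Subgroup H).card_mul_index.symm)
      rw [h7]
      exact ((Nat.Prime.coprime_iff_not_dvd (Fact.out)).mpr P.not_dvd_index).symm
    have hnilK : Group.IsNilpotent (H ⧸ K) := hqK.isNilpotent
    let f : H →* (G ⧸ Q) × (H ⧸ K) := ((QuotientGroup.mk' Q).comp H.subtype).prod (QuotientGroup.mk' K)
    have hf : Function.Injective f := by
      rw [injective_iff_map_eq_one]
      intro x hx
      have hx1 : QuotientGroup.mk' Q (x : G) = 1 := congrArg Prod.fst hx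
      have hx2 : QuotientGroup.mk' K x = 1 := congrArg Prod.snd hx
      have hxQ : (x : G) ∈ Q := (QuotientGroup.eq_one_iff _).mp hx1
      have hxK : x ∈ K := (QuotientGroup.eq_one_iff _).mp hx2
      have h8 : (orderOf (x : G)).Coprime p := by
        rw [Subgroup.orderOf_coe]
        have := orderOf_dvd_natCard (⟨x, hxK⟩ : K)
        rw [Subgroup.orderOf_mk] at this
        exact Nat.Coprime.coprime_dvd_left this hKcop
      have := eq_one_of_coprime_of_mem_pgroup hQ hxQ h8
      exact Subtype.ext this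
    have : Group.IsNilpotent ((G ⧸ Q) × (H ⧸ K)) := inferInstance
    exact Subgroup.isNilpotent_of_ker_le_center f (by rw [(MonoidHom.ker_eq_bot_iff f).mpr hf]; exact bot_le)
  · intro P
    have hle : Q ≤ (P : Subgroup G) := by
      obtain ⟨P', hP'⟩ := hQ.exists_le_sylow
      obtain ⟨a, ha⟩ := MulAction.exists_smul_eq G P' P
      rw [← ha]
      intro x hx
      rw [Sylow.coe_subgroup_smul, Subgroup.mem_smul_pointwise_iff_exists]
      refine ⟨a⁻¹ * x * a, hP' ?_, ?_⟩
      · have := hQn.conj_mem x hx a⁻¹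
        rwa [inv_inv] at this
      · rw [MulAut.smul_def, MulAut.conj_apply]; group
    have hge : (P : Subgroup G) ≤ Q := by
      intro x hx
      rw [← QuotientGroup.eq_one_iff]
      have h9 : IsPGroup p (Subgroup.zpowers x) := P.isPGroup'.to_le (by rw [Subgroup.zpowers_le]; exact hx)
      obtain ⟨k, hk⟩ := h9 ⟨x, Subgroup.mem_zpowers x⟩
      have hk' : x ^ p ^ k = 1 := by simpa using congrArg Subtype.val hk
      have h10 : ((x : G ⧸ Q)) ^ p ^ k = 1 := by
        rw [← QuotientGroup.mk_pow, hk']; rfl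
      have h11 : ((x : G ⧸ Q)) ^ Nat.card (G ⧸ Q) = 1 := pow_card_eq_one'
      have h12 : (p ^ k).Coprime (Nat.card (G ⧸ Q)) := (Nat.Coprime.pow_right k hcopQ).symm
      have := pow_gcd_eq_one.mpr ⟨h10, h11⟩
      rwa [h12, pow_one] at this
    rw [le_antisymm hge hle]
    exact hQn

end Cfsg.Agent.S0132
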