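import Cfsg.Statements.S0214
import Cfsg.Agent.Lib.Helper3.StrEmb2
open Cfsg.Agent.Lib.Helper3.Invol

set_option autoImplicit false
open Cfsg

namespace Cfsg.Agent.S0214

/-- Let H be a proper subgroup of the finite group G and P a nontrivial Sylow 2-subgroup of H. Then H is strongly embedded in G if and only if N_G(X) ≤ H for every nontrivial subgroup X of P. -/
theorem result {G : Type*} [Group G] [Finite G] (H : Subgroup G) (hH : H ≠ ⊤) (P : Sylow 2 ↥H) (hP : (P : Subgroup ↥H) ≠ ⊥) : Cfsg.IsStronglyEmbedded H ↔ (∀ X : Subgroup ↥H, X ≤ (P : Subgroup ↥H) → X ≠ ⊥ → Subgroup.normalizer ((X.map H.subtype : Subgroup G) : Set G) ≤ H) := by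
  constructor
  · intro hSE X hXP hXne g hg
    obtain ⟨-, -, h⟩ := (se_iff H).1 hSE
    have hXp : IsPGroup 2 X := P.2.to_le hXP
    have h2 : 2 ∣ Nat.card X := by
      rcases hXp.card_eq_or_dvd with h1 | h1
      · exact absurd ((Subgroup.card_eq_one).1 h1) hXne
      · exact h1
    obtain ⟨x, hx⟩ := exists_prime_orderOf_dvd_card' (G := X) 2 h2
    have hx' : orderOf (x.1.1 : G) = 2 := by
      rw [Subgroup.orderOf_coe, Subgroup.orderOf_coe, hx]
    have hmem : (x.1.1 : G) ∈ X.map H.subtype := ⟨x.1, x.2, rfl⟩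
    have h3 := ((Subgroup.mem_normalizer_iff).1 hg _).1 hmem
    exact h g x.1.1 x.1.2 hx' (Subgroup.map_subtype_le _ h3)
  · exact strongly_embedded_of_normalizers H hH P hP

end Cfsg.Agent.S0214
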