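import Cfsg.Statements.S0224
import Cfsg.Agent.Lib.Helper3.StrEmb
open Cfsg.Agent.Lib.Helper3.Invol

set_option autoImplicit false
open Cfsg

namespace Cfsg.Agent.S0224

/-- Let H be a proper subgroup of even order of the finite group G. Then H is strongly embedded if and only if each involution of H fixes exactly one point (namely the coset H) in the action of G on the cosets of H. -/
theorem result {G : Type*} [Group G] [Finite G] (H : Subgroup G) (hH : H ≠ ⊤) (heven : Even (Nat.card H)) : Cfsg.IsStronglyEmbedded H ↔ ∀ t ∈ H, orderOf t = 2 → Nat.card {c : G ⧸ H // t • c = c} = 1 := by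
  rw [se_iff]
  have key : ∀ (t g : G), t • (QuotientGroup.mk g : G ⧸ H) = QuotientGroup.mk g ↔
      g⁻¹ * t * g ∈ H := by
    intro t g
    rw [MulAction.Quotient.smul_mk, eq_comm, QuotientGroup.eq, smul_eq_mul, mul_assoc]
  constructor
  · rintro ⟨-, -, h⟩ t ht h2
    rw [Nat.card_eq_one_iff_unique]
    constructor
    · constructor
      have hall : ∀ c : {c : G ⧸ H // t • c = c}, c.1 = QuotientGroup.mk 1 := by
        rintro ⟨c, hc⟩
        obtain ⟨g, rfl⟩ := QuotientGroup.mk_surjective c
        rw [key] at hc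
        have := h g⁻¹ t ht h2 (by rwa [inv_inv])
        simp only
        rw [eq_comm, QuotientGroup.eq, inv_one, one_mul]
        exact (inv_mem_iff).1 this
      intro a b
      exact Subtype.ext ((hall a).trans (hall b).symm)
    · exact ⟨⟨QuotientGroup.mk 1, by rw [key]; simpa using ht⟩⟩
  · intro h
    refine ⟨hH, heven, fun g t ht ho hg => ?_⟩
    obtain ⟨hs, -⟩ := Nat.card_eq_one_iff_unique.1 (h t ht ho)
    have h1 : t • (QuotientGroup.mk g⁻¹ : G ⧸ H) = QuotientGroup.mk g⁻¹ := by
      rw [key, inv_inv]; exact hg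
    have h2 : t • (QuotientGroup.mk 1 : G ⧸ H) = QuotientGroup.mk 1 := by
      rw [key]; simpa using ht
    have := congrArg Subtype.val (hs.elim (⟨_, h1⟩ : {c : G ⧸ H // t • c = c}) ⟨_, h2⟩)
    simp only at this
    rw [QuotientGroup.eq, inv_inv, mul_one] at this
    exact this

end Cfsg.Agent.S0224
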