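import Cfsg.Statements.S0261
import Cfsg.Agent.Lib.Helper3.UniqSL

set_option autoImplicit false
open Cfsg

namespace Cfsg.Agent.S0261

/-- For q odd, the Sylow 2-subgroups of SL_2(q) are generalised quaternion. -/
theorem result {F : Type*} [Field F] [Fintype F] (hF : Odd (Fintype.card F)) (P : Sylow 2 (Matrix.SpecialLinearGroup (Fin 2) F)) : ∃ k : ℕ, 1 ≤ k ∧ Nonempty ((P : Subgroup (Matrix.SpecialLinearGroup (Fin 2) F)) ≃* QuaternionGroup (2 ^ k)) := by
  have hchar : ringChar F ≠ 2 := by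
    intro h
    have := FiniteField.even_card_iff_char_two.1 h
    rw [Nat.odd_iff] at hF
    omega
  have h2 : (2 : F) ≠ 0 := Ring.two_ne_zero hchar
  obtain ⟨p, hp⟩ := CharP.exists F
  haveI := hp
  haveI : Fact p.Prime := ⟨CharP.char_is_prime F p⟩
  obtain ⟨a, b, hab⟩ := CharP.sq_add_sq F p (-1)
  obtain ⟨i, j, hi, hj, hinv, hne⟩ := Cfsg.Agent.Lib.Helper3.UniqP.sl2_exists_q8 h2
    (α := (a : F)) (β := (b : F)) (by rw [hab]; simp)
  apply Cfsg.Agent.Lib.Helper3.UniqP.quat_of_unique_invol P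
    (Cfsg.Agent.Lib.Helper3.UniqP.sl2_unique_invol h2)
  exact Cfsg.Agent.Lib.Helper3.UniqP.exists_noncomm_sylow P _
    (Cfsg.Agent.Lib.Helper3.UniqP.two_group_of_invert hi hj hinv)
    (Subgroup.mem_sup_right (Subgroup.mem_zpowers i)) (Subgroup.mem_sup_left (Subgroup.mem_zpowers j))
    hne

end Cfsg.Agent.S0261
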