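import Cfsg.Statements.S0275
import Cfsg.Agent.Lib.Helper3.UniqSL
import Cfsg.Agent.Lib.Helper3.SL2Sub
import Cfsg.Agent.Lib.Helper3.QuadSL
import Cfsg.Agent.Lib.Helper3.BaerSuzuki
import Cfsg.Agent.Lib.Helper3.ZJ2
import Cfsg.Agent.Lib.Helper3.CN3

set_option autoImplicit false
open Cfsg

namespace Cfsg.Agent.S0275

theorem pow_char_eq_one {F : Type*} [Field F] (p : ℕ) [Fact p.Prime] [CharP F p]
    {A : Matrix (Fin 2) (Fin 2) F} (hd : A.det = 1) {k : ℕ} (hA : A ^ p ^ k = 1) : A ^ p = 1 := by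
  have h1 : (A - 1) ^ p ^ k = 0 := by
    rw [sub_pow_char_pow_of_commute _ _ (Commute.one_right A), hA, one_pow, sub_self]
  have h2 : (A - 1).det = 0 := by
    have := congrArg Matrix.det h1
    rw [Matrix.det_pow, Matrix.det_zero] at this
    exact pow_eq_zero_iff (pow_ne_zero _ (Fact.out : p.Prime).ne_zero) |>.1 this
  have ht : A.trace = 2 := by
    rw [Matrix.det_fin_two] at h2 hd
    rw [Matrix.trace_fin_two]
    simp only [Matrix.sub_apply, Matrix.one_apply_eq, ne_eq, zero_ne_one, not_false_eq_true,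
      Matrix.one_apply_ne, one_ne_zero, sub_zero] at h2
    linear_combination hd - h2
  have hsq : (A - 1) * (A - 1) = 0 := by
    have e : (A - 1) * (A - 1) = A * A - (2 : F) • A + 1 := by
      rw [two_smul]; noncomm_ring
    rw [e, Cfsg.Agent.Lib.Helper3.SL2Sub.cayley_hamilton_two, ht, hd, one_smul]
    abel
  rw [Cfsg.Agent.Lib.Helper3.SL2Sub.pow_of_sq_zero hsq, ← Nat.cast_smul_eq_nsmul F,
    CharP.cast_eq_zero F p, zero_smul, add_zero]

/-- If p is odd and H is a subgroup of SL_2(q), q a power of p, with more than one Sylow p-subgroup, then the Sylow 2-subgroups of H are generalised quaternion. -/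
theorem result {F : Type*} [Field F] [Fintype F] (p : ℕ) [Fact p.Prime] [CharP F p] (hp : p ≠ 2) (H : Subgroup (Matrix.SpecialLinearGroup (Fin 2) F)) (hH : 1 < Nat.card (Sylow p H)) (S : Sylow 2 H) : ∃ k : ℕ, 1 ≤ k ∧ Nonempty ((S : Subgroup H) ≃* QuaternionGroup (2 ^ k)) := by
  have h2 : (2 : F) ≠ 0 := Cfsg.Agent.Lib.Helper3.SL2Sub.two_ne_zero' (p := p) hp
  apply Cfsg.Agent.Lib.Helper3.UniqP.quat_of_unique_invol S
  · intro g h hg hh
    apply Subtype.ext
    exact Cfsg.Agent.Lib.Helper3.UniqP.sl2_unique_invol h2 _ _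
      (by rw [Subgroup.orderOf_coe, hg]) (by rw [Subgroup.orderOf_coe, hh])
  by_contra hab
  push Not at hab
  have hQc : ∀ Q : Subgroup H, IsPGroup 2 Q → ∀ a ∈ Q, ∀ b ∈ Q, a * b = b * a := by
    intro Q hQ a ha b hb
    by_contra hne
    obtain ⟨a', ha', b', hb', hne'⟩ :=
      Cfsg.Agent.Lib.Helper3.UniqP.exists_noncomm_sylow S Q hQ ha hb hne
    exact hne' (hab a' ha' b' hb')
  have hpair : ∀ u v : H, u ^ p = 1 → v ^ p = 1 →
      IsPGroup p (Subgroup.closure ({u, v} : Set H)) := by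
    intro u v hu hv
    have hι : Function.Injective
        (H.subtype.comp (Subgroup.closure ({u, v} : Set H)).subtype) := by
      intro a b h
      exact Subtype.ext (Subtype.ext h)
    obtain ⟨T⟩ : Nonempty (Sylow 2 (Subgroup.closure ({u, v} : Set H))) := inferInstance
    refine Cfsg.Agent.Lib.Helper3.SL2Sub.isPGroup_of_gen hι hp
      (Cfsg.Agent.Lib.Helper3.QuadSL.closure_pair_top u v) (Subtype.ext hu) (Subtype.ext hv) T ?_
    intro a ha b hb
    apply Subtype.ext
    exact hQc ((T : Subgroup (Subgroup.closure ({u, v} : Set H))).map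
      (Subgroup.closure ({u, v} : Set H)).subtype) (T.2.map _) a ⟨a, ha, rfl⟩ b ⟨b, hb, rfl⟩
  have hpow : ∀ (x : H) (k : ℕ), x ^ p ^ k = 1 → x ^ p = 1 := by
    intro x k hx
    apply Subtype.ext
    apply Subtype.ext
    have h1 : ((x : Matrix.SpecialLinearGroup (Fin 2) F) : Matrix (Fin 2) (Fin 2) F) ^ p ^ k = 1 := by
      have := congrArg (fun y : H => ((y : Matrix.SpecialLinearGroup (Fin 2) F) :
        Matrix (Fin 2) (Fin 2) F)) hx
      simpa using this
    have h3 := pow_char_eq_one p (x : Matrix.SpecialLinearGroup (Fin 2) F).2 h1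
    simpa using h3
  have hall : ∀ (x : H), x ^ p = 1 → ∀ P : Sylow p H, x ∈ P := by
    intro x hx P
    have hX : IsPGroup p (Subgroup.zpowers x) :=
      Cfsg.Agent.Lib.Helper3.CN.isPGroup_zpowers_of_pow (a := 1) (by rw [pow_one]; exact hx)
    obtain ⟨N, hN, hNp, hXN⟩ := Cfsg.Agent.Lib.Helper3.BaerSuzuki.baer_suzuki
      (Subgroup.zpowers x) hX (by
        intro g
        have e : Subgroup.zpowers x ⊔ Cfsg.Agent.Lib.Helper3.BaerSuzuki.cj g (Subgroup.zpowers x) =
            Subgroup.closure ({x, g * x * g⁻¹} : Set H) := by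
          rw [Cfsg.Agent.Lib.Helper3.BaerSuzuki.cj, MonoidHom.map_zpowers, Set.insert_eq,
            Subgroup.closure_union, Subgroup.zpowers_eq_closure, Subgroup.zpowers_eq_closure]
          rfl
        rw [e]
        apply hpair x _ hx
        rw [conj_pow, hx]; group)
    exact Cfsg.Agent.Lib.Helper3.PLocal.normal_pgroup_le_sylow P hN hNp
      (hXN (Subgroup.mem_zpowers x))
  have hsub : Subsingleton (Sylow p H) := by
    constructor
    intro P P'
    have hle : (P : Subgroup H) ≤ P' := by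
      intro x hx
      obtain ⟨k, hk⟩ := P.2 ⟨x, hx⟩
      exact hall x (hpow x k (congrArg Subtype.val hk)) P'
    exact Sylow.ext (P.is_maximal' P'.2 hle).symm
  have := Finite.card_le_one_iff_subsingleton.2 hsub
  omega

end Cfsg.Agent.S0275
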