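import Mathlib
import Cfsg.Statements.S0338
import Cfsg.Agent.Lib.Lead.Zass

set_option autoImplicit false
open Cfsg

namespace Cfsg.Agent.S0338

open MulAction

theorem swap_pow {G Ω : Type*} [Group G] [MulAction G Ω] (t : G) (a b : Ω) (hta : t • a = b)
    (htb : t • b = a) (k : ℕ) : t ^ (2 * k) • a = a ∧ t ^ (2 * k + 1) • a = b := by
  induction k with
  | zero => simp [hta]
  | succ k ih =>
    have h1 : t ^ (2 * (k + 1)) • a = a := by
      rw [show 2 * (k + 1) = (2 * k + 1) + 1 by ring, pow_succ', mul_smul, ih.2, htb]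
    refine ⟨h1, ?_⟩
    rw [pow_succ', mul_smul, h1, hta]

/-- an involution on a set of odd size in which non-identity elements fix at most two points has
exactly one fixed point -/
theorem unique_fixed {G Ω : Type*} [Group G] [MulAction G Ω] [Fintype Ω]
    (h3 : ∀ g : G, ∀ a b c : Ω, a ≠ b → b ≠ c → a ≠ c → g • a = a → g • b = b → g • c = c → g = 1)
    (hodd : Odd (Fintype.card Ω)) (τ : G) (hτ : orderOf τ = 2) :
    ∃ c : Ω, τ • c = c ∧ ∀ d : Ω, τ • d = d → d = c := by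
  have hp : IsPGroup 2 (Subgroup.zpowers τ) := by
    apply IsPGroup.of_card (n := 1)
    rw [Nat.card_zpowers, hτ, pow_one]
  haveI : Fact (Nat.Prime 2) := ⟨Nat.prime_two⟩
  have hmod := hp.card_modEq_card_fixedPoints Ω
  have hmem : ∀ c : Ω, c ∈ fixedPoints (Subgroup.zpowers τ) Ω ↔ τ • c = c := by
    intro c
    rw [mem_fixedPoints]
    constructor
    · intro h
      exact h ⟨τ, Subgroup.mem_zpowers τ⟩
    · intro h z
      have : Subgroup.zpowers τ ≤ stabilizer G c := Subgroup.zpowers_le.mpr h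
      exact this z.2
  have hoddF : Odd (fixedPoints (Subgroup.zpowers τ) Ω).ncard := by
    rw [Nat.card_eq_fintype_card] at hmod
    rw [Nat.odd_iff] at hodd ⊢
    have : (fixedPoints (Subgroup.zpowers τ) Ω).ncard = Nat.card (fixedPoints (Subgroup.zpowers τ) Ω) := rfl
    rw [this]
    exact (show _ % 2 = _ % 2 from hmod.symm).trans hodd
  have hτ1 : τ ≠ 1 := by
    rintro rfl
    rw [orderOf_one] at hτ
    omega
  have hle : ¬ 2 < (fixedPoints (Subgroup.zpowers τ) Ω).ncard := by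
    intro h
    rw [Set.two_lt_ncard_iff] at h
    obtain ⟨x, y, z, hx, hy, hz, hxy, hxz, hyz⟩ := h
    exact hτ1 (h3 τ x y z hxy hyz hxz ((hmem x).mp hx) ((hmem y).mp hy) ((hmem z).mp hz))
  have h1 : (fixedPoints (Subgroup.zpowers τ) Ω).ncard = 1 := by
    obtain ⟨k, hk⟩ := hoddF
    omega
  rw [Set.ncard_eq_one] at h1
  obtain ⟨c, hc⟩ := h1
  refine ⟨c, (hmem c).mp (by rw [hc]; rfl), fun d hd => ?_⟩
  have : d ∈ fixedPoints (Subgroup.zpowers τ) Ω := (hmem d).mpr hd
  rw [hc] at this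
  exact this

/-- A Zassenhaus group of odd degree is a simple group. -/
theorem result {G Ω : Type*} [Group G] [MulAction G Ω] [Fintype Ω]
    (hZ : Cfsg.IsZassenhausGroup G Ω) (hodd : Odd (Fintype.card Ω)) : IsSimpleGroup G := by
  haveI := Zass.finite_of hZ
  have hZ' := hZ
  obtain ⟨hfaith, h2t, h3, ⟨g₀, hg1, a, b, hab, ha', hb'⟩, hnoreg⟩ := hZ'
  haveI : Nontrivial G := ⟨⟨g₀, 1, hg1⟩⟩
  refine ⟨fun N hNn => ?_⟩
  by_cases hN : N = ⊥
  · exact Or.inl hN
  right
  have hN2 := Zass.normal_two_trans hZ N hN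
  have hN2' : ∀ {a b c d : Ω}, a ≠ b → c ≠ d → ∃ g : N, g • a = c ∧ g • b = d :=
    is_two_pretransitive_iff.mp hN2
  obtain ⟨t, hta, htb⟩ := hN2' hab hab.symm
  -- an involution in N
  have heven : 2 ∣ orderOf t := by
    by_contra hcon
    obtain ⟨k, hk⟩ : Odd (orderOf t) := Nat.odd_iff.mpr (by omega)
    have := (swap_pow t a b hta htb k).2
    rw [← hk, pow_orderOf_eq_one, one_smul] at this
    exact hab this
  obtain ⟨s, hs⟩ : ∃ s : N, orderOf s = 2 :=
    ⟨_, orderOf_pow_orderOf_div (orderOf_pos t).ne' heven⟩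
  have hs1 : s ≠ 1 := by
    rintro rfl
    rw [orderOf_one] at hs
    omega
  obtain ⟨c, hc⟩ : ∃ c : Ω, s • c ≠ c := by
    by_contra hcon
    push Not at hcon
    apply hs1
    apply Subtype.ext
    apply hfaith.eq_of_smul_eq_smul
    intro c
    rw [show (s : G) • c = c from hcon c]
    exact (one_smul _ _).symm
  have hss : s • (s • c) = c := by
    rw [← mul_smul, ← pow_two, ← hs, pow_orderOf_eq_one, one_smul]
  obtain ⟨g, hgc, hgd⟩ := hN2' (Ne.symm hc) hab
  obtain ⟨τ, hτN, hτo, hτa, hτb⟩ : ∃ τ : G, τ ∈ N ∧ orderOf τ = 2 ∧ τ • a = b ∧ τ • b = a := by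
    refine ⟨((g * s * g⁻¹ : N) : G), (g * s * g⁻¹).2, ?_, ?_, ?_⟩
    · rw [Subgroup.orderOf_coe, ← hs]
      exact (MulAut.conj g).orderOf_eq s
    · show (g * s * g⁻¹) • a = b
      rw [← hgc, mul_smul, mul_smul, inv_smul_smul, hgd]
    · show (g * s * g⁻¹) • b = a
      rw [← hgd, mul_smul, mul_smul, inv_smul_smul, hss, hgc]
  obtain ⟨e, hτe, huniq⟩ := unique_fixed h3 hodd τ hτo
  have hea : e ≠ a := by
    rintro rfl
    exact hab (hτe.symm.trans hτa)
  have heb : e ≠ b := by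
    rintro rfl
    exact hab (hτb.symm.trans hτe)
  have hτinv : τ⁻¹ = τ := by
    rw [inv_eq_iff_mul_eq_one, ← pow_two, ← hτo, pow_orderOf_eq_one]
  -- the two point stabiliser lies in N
  have hE : stabilizer G a ⊓ stabilizer G b ≤ N := by
    let f : ↥(stabilizer G a ⊓ stabilizer G b) → ↥(stabilizer G a ⊓ stabilizer G b) := fun h =>
      ⟨h.1⁻¹ * (τ * h.1 * τ⁻¹), by
        have h1 : h.1 • a = a := h.2.1
        have h2 : h.1 • b = b := h.2.2
        constructor
        · show _ • a = a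
          rw [hτinv, mul_smul, mul_smul, mul_smul, hτa, h2, hτb, inv_smul_eq_iff, h1]
        · show _ • b = b
          rw [hτinv, mul_smul, mul_smul, mul_smul, hτb, h1, hτa, inv_smul_eq_iff, h2]⟩
    have hinj : Function.Injective f := by
      intro h h' hff
      have h1 : h.1⁻¹ * (τ * h.1 * τ⁻¹) = h'.1⁻¹ * (τ * h'.1 * τ⁻¹) := congrArg Subtype.val hff
      have h2 : (h'.1 * h.1⁻¹) * τ = τ * (h'.1 * h.1⁻¹) := by
        have h5 : h'.1 * (h.1⁻¹ * (τ * h.1 * τ⁻¹)) * τ * h.1⁻¹ =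
            h'.1 * (h'.1⁻¹ * (τ * h'.1 * τ⁻¹)) * τ * h.1⁻¹ := by rw [h1]
        simpa [mul_assoc] using h5
      have h4 : (h'.1 * h.1⁻¹) • e = e := by
        apply huniq
        rw [← mul_smul, ← h2, mul_smul, hτe]
      have hxa : (h'.1 * h.1⁻¹) • a = a := by
        rw [mul_smul, inv_smul_eq_iff.mpr h.2.1.symm]
        exact h'.2.1
      have hxb : (h'.1 * h.1⁻¹) • b = b := by
        rw [mul_smul, inv_smul_eq_iff.mpr h.2.2.symm]
        exact h'.2.2
      have h6 := h3 _ a b e hab heb.symm hea.symm hxa hxb h4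
      apply Subtype.ext
      exact (mul_inv_eq_one.mp h6).symm
    have hsurj := Finite.injective_iff_surjective.mp hinj
    intro h hh
    obtain ⟨h₁, hh₁⟩ := hsurj ⟨h, hh⟩
    have h7 : h₁.1⁻¹ * (τ * h₁.1 * τ⁻¹) = h := congrArg Subtype.val hh₁
    rw [← h7]
    have h8 : h₁.1⁻¹ * (τ * h₁.1 * τ⁻¹) = (h₁.1⁻¹ * τ * h₁.1⁻¹⁻¹) * τ⁻¹ := by group
    rw [h8]
    exact N.mul_mem (hNn.conj_mem τ hτN _) (N.inv_mem hτN)
  rw [eq_top_iff]
  intro x _
  have hne : x • a ≠ x • b := fun h => hab (smul_left_cancel x h)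
  obtain ⟨n, hna, hnb⟩ := hN2' hab hne
  have h9 : n.1⁻¹ * x ∈ stabilizer G a ⊓ stabilizer G b := by
    constructor
    · show _ • a = a
      rw [mul_smul, inv_smul_eq_iff]; exact hna.symm
    · show _ • b = b
      rw [mul_smul, inv_smul_eq_iff]; exact hnb.symm
  have : x = n.1 * (n.1⁻¹ * x) := by group
  rw [this]
  exact N.mul_mem n.2 (hE h9)

end Cfsg.Agent.S0338
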