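import Mathlib
import Cfsg.Statements.S0339
import Cfsg.Agent.Lib.Lead.Zass

set_option autoImplicit false
open Cfsg

namespace Cfsg.Agent.S0339

open MulAction Cfsg.Agent.Lib.Helper1

/-- A non-trivial normal subgroup of a Zassenhaus group is itself a Zassenhaus group on the same set. -/
theorem result {G Ω : Type*} [Group G] [MulAction G Ω] [Finite Ω]
    (hZ : Cfsg.IsZassenhausGroup G Ω) (N : Subgroup G) [N.Normal] (hN : N ≠ ⊥) :
    Cfsg.IsZassenhausGroup N Ω := by
  haveI := Zass.finite_of hZ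
  have hZ' := hZ
  obtain ⟨hfaith, h2t, h3, ⟨g₀, hg1, a, b, hab, ha', hb'⟩, hnoreg⟩ := hZ'
  refine ⟨⟨fun h => Subtype.ext (hfaith.eq_of_smul_eq_smul h)⟩, Zass.normal_two_trans hZ N hN, ?_, ?_, ?_⟩
  · intro g x y z hxy hyz hxz hx hy hz
    exact Subtype.ext (h3 g.1 x y z hxy hyz hxz hx hy hz)
  · obtain ⟨n, hn, hn1, x, y, hxy, hx, hy⟩ := Zass.exists_two_fixed hZ N hN
    exact ⟨⟨n, hn⟩, fun h => hn1 (congrArg Subtype.val h), x, y, hxy, hx, hy⟩
  · intro M hMn hMt
    by_contra hcon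
    push Not at hcon
    obtain ⟨K, hKa, -, hKt, hKs, -, hKN⟩ := Zass.kernel hZ hab
    have hKleN : K ≤ N := hKN N inferInstance (Zass.exists_two_fixed' hZ N hN hab)
    have hmove : ∀ m : N, m ∈ M → m ≠ 1 → m • a ≠ a := by
      intro m hm hm1 hfix
      have : (⟨m, hm⟩ : M) ∈ stabilizer M a := hfix
      rw [hcon, Subgroup.mem_bot] at this
      exact hm1 (congrArg Subtype.val this)
    have hord : ∀ m m' : N, m ∈ M → m' ∈ M → m ≠ 1 → m' ≠ 1 → orderOf m = orderOf m' := by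
      intro m m' hm hm' hm1 hm'1
      obtain ⟨k₁, hk₁, hk₁b⟩ := hKt (m • a) (hmove m hm hm1)
      obtain ⟨k₂, hk₂, hk₂b⟩ := hKt (m' • a) (hmove m' hm' hm'1)
      have hk : k₂ * k₁⁻¹ ∈ K := K.mul_mem hk₂ (K.inv_mem hk₁)
      obtain ⟨k, hkK, hkdef⟩ : ∃ k : N, k.1 ∈ K ∧ k.1 = k₂ * k₁⁻¹ := ⟨⟨_, hKleN hk⟩, hk, rfl⟩
      have hka : k⁻¹ • a = a := by
        rw [inv_smul_eq_iff]
        exact (hKa hkK).symm
      have hkm : k • (m • a) = m' • a := by
        show k.1 • (m • a) = m' • a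
        rw [hkdef, mul_smul, ← hk₁b, inv_smul_smul, hk₂b]
      have hconj : k * m * k⁻¹ ∈ M := hMn.conj_mem m hm k
      have h1 : (⟨m'⁻¹ * (k * m * k⁻¹), M.mul_mem (M.inv_mem hm') hconj⟩ : M) ∈ stabilizer M a := by
        show (m'⁻¹ * (k * m * k⁻¹)) • a = a
        rw [mul_smul, mul_smul, mul_smul, hka, hkm, inv_smul_smul]
      rw [hcon, Subgroup.mem_bot] at h1
      have h2 : m'⁻¹ * (k * m * k⁻¹) = 1 := congrArg Subtype.val h1
      have h4 : m' = k * m * k⁻¹ := by
        rw [inv_mul_eq_one] at h2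
        exact h2
      rw [h4]
      exact ((MulAut.conj k).orderOf_eq m).symm
    -- M is nontrivial
    have hcardM : Nat.card M = Nat.card Ω := by
      rw [← index_stabilizer_of_transitive M a, hcon, Subgroup.index_bot]
    have hΩ : 1 < Nat.card Ω := by
      rw [Finite.one_lt_card_iff_nontrivial]
      exact ⟨⟨a, b, hab⟩⟩
    obtain ⟨p, hp, hpd⟩ := Nat.exists_prime_and_dvd (hcardM ▸ hΩ.ne' : Nat.card M ≠ 1)
    haveI := Fact.mk hp
    obtain ⟨m₀, hm₀⟩ := exists_prime_orderOf_dvd_card' p hpd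
    have hm₀1 : m₀.1 ≠ 1 := by
      intro h
      have : m₀ = 1 := Subtype.ext h
      rw [this, orderOf_one] at hm₀
      exact hp.one_lt.ne hm₀
    have hMp : IsPGroup p M := by
      intro m
      refine ⟨1, ?_⟩
      by_cases hm1 : m = 1
      · rw [hm1, one_pow]
      · have h5 : orderOf m.1 = orderOf m₀.1 :=
          hord m.1 m₀.1 m.2 m₀.2 (fun h => hm1 (Subtype.ext h)) hm₀1
        rw [Subgroup.orderOf_coe, Subgroup.orderOf_coe, hm₀] at h5
        rw [pow_one, ← h5, pow_orderOf_eq_one]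
    have hMP : M ≤ Cfsg.pCore p N := le_pCore hMn hMp
    haveI := pCore_characteristic (G := N) p
    have hPn : ((Cfsg.pCore p N).map N.subtype).Normal := map_characteristic_normal _
    have hPne : (Cfsg.pCore p N).map N.subtype ≠ ⊥ := by
      intro h
      have : m₀.1.1 ∈ (Cfsg.pCore p N).map N.subtype := ⟨m₀.1, hMP m₀.2, rfl⟩
      rw [h, Subgroup.mem_bot] at this
      exact hm₀1 (Subtype.ext this)
    have hKP : K ≤ (Cfsg.pCore p N).map N.subtype :=
      hKN _ hPn (@Zass.exists_two_fixed' _ _ _ _ _ hZ _ hPn hPne _ _ hab)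
    have hPp : IsPGroup p ((Cfsg.pCore p N).map N.subtype) := (pCore_isPGroup p).map _
    have hKp : IsPGroup p K := hPp.to_le hKP
    have hmod := hKp.card_modEq_card_fixedPoints Ω
    -- third point
    obtain ⟨c₀, hc₀⟩ : ∃ c : Ω, g₀ • c ≠ c := by
      by_contra hcon'
      push Not at hcon'
      apply hg1
      apply hfaith.eq_of_smul_eq_smul
      intro c
      rw [hcon', one_smul]
    have hc₀a : c₀ ≠ a := by rintro rfl; exact hc₀ ha'
    have hc₀b : c₀ ≠ b := by rintro rfl; exact hc₀ hb'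
    obtain ⟨k, hk, hkb⟩ := hKt c₀ hc₀a
    have hk1 : k ≠ 1 := by
      rintro rfl
      rw [one_smul] at hkb
      exact hc₀b hkb.symm
    have hfp : fixedPoints K Ω = {a} := by
      ext c
      rw [Set.mem_singleton_iff, mem_fixedPoints]
      constructor
      · intro h
        by_contra hca
        exact hk1 (hKs k hk c hca (h ⟨k, hk⟩))
      · rintro rfl x
        exact hKa x.2
    rw [hfp, ← hcardM, show Nat.card ({a} : Set Ω) = 1 from Nat.card_unique] at hmod
    have h0 : Nat.card M ≡ 0 [MOD p] := (Nat.modEq_zero_iff_dvd).mpr hpd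
    have h10 : 1 ≡ 0 [MOD p] := hmod.symm.trans h0
    rw [Nat.modEq_zero_iff_dvd, Nat.dvd_one] at h10
    exact hp.one_lt.ne' h10

end Cfsg.Agent.S0339
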