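import Cfsg.Statements.S0514
import Cfsg.Agent.Lib.Helper3.Dih
import Cfsg.Agent.Lib.Helper1.PNil
import Cfsg.Agent.Lib.Helper3.CN

set_option autoImplicit false
open Cfsg

namespace Cfsg.Agent.S0514

/-- In a finite group whose Sylow 2-subgroups are dihedral of order at least 4, the centralizer of any involution has a
normal subgroup of odd order whose index in the centralizer is a power of 2. -/
theorem result {X : Type*} [Group X] [Finite X]
    (S : Sylow 2 X) (n : ℕ) (hn : 2 ≤ n) (hS : Nonempty ((S : Subgroup X) ≃* DihedralGroup n)) (t : X)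
    (ht : orderOf t = 2) :
    ∃ N : Subgroup (Subgroup.centralizer ({t} : Set X)), N.Normal ∧ Odd (Nat.card N) ∧ ∃ k : ℕ, N.index = 2 ^ k := by
  obtain ⟨e⟩ := hS
  haveI : Fact (Nat.Prime 2) := ⟨Nat.prime_two⟩
  have ht1 : t ≠ 1 := by
    rintro rfl
    rw [orderOf_one] at ht
    norm_num at ht
  have hpn : Cfsg.HasNormalPComplement 2 (Subgroup.centralizer ({t} : Set X)) := by
    rw [Cfsg.Agent.Lib.Helper1.pn_subgroup_iff]
    intro Q hQC hQ g hgC hgN hcop
    have hodd : Odd (orderOf g) := Nat.Coprime.odd_of_right hcop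
    have hgt : g * t * g⁻¹ = t := by
      have h1 := Subgroup.mem_centralizer_iff.1 hgC t rfl
      rw [← h1]; group
    have hQt : ∀ q ∈ Q, q * t * q⁻¹ = t := by
      intro q hq
      have h1 := Subgroup.mem_centralizer_iff.1 (hQC hq) t rfl
      rw [← h1]; group
    have hnorm : ∀ q : X, q * t * q⁻¹ = t → q ∈ Subgroup.normalizer (Subgroup.zpowers t : Set X) := by
      intro q hq
      have hq' : q⁻¹ * t * q = t := by
        nth_rewrite 1 [← hq]; group
      rw [Subgroup.mem_normalizer_iff]
      intro x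
      constructor
      · intro hx
        obtain ⟨i, rfl⟩ := Subgroup.mem_zpowers_iff.1 hx
        rw [← conj_zpow, hq]
        exact Subgroup.zpow_mem _ (Subgroup.mem_zpowers t) i
      · intro hx
        obtain ⟨i, hi⟩ := Subgroup.mem_zpowers_iff.1 hx
        have e1 : x = (q⁻¹ * t * q) ^ i := by
          have e2 := conj_zpow (a := q⁻¹) (b := t) (i := i)
          rw [inv_inv] at e2
          rw [e2, hi]; group
        rw [e1, hq']
        exact Subgroup.zpow_mem _ (Subgroup.mem_zpowers t) i
    have ht2 : IsPGroup 2 (Subgroup.zpowers t) :=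
      Cfsg.Agent.Lib.Helper3.CN.isPGroup_zpowers ht
    have hQ1 : IsPGroup 2 (Q ⊔ Subgroup.zpowers t : Subgroup X) :=
      IsPGroup.to_sup_of_normal_right' hQ ht2 (fun q hq => hnorm q (hQt q hq))
    have hgN1 : g ∈ Subgroup.normalizer ((Q ⊔ Subgroup.zpowers t : Subgroup X) : Set X) := by
      have h1 : g ∈ Subgroup.normalizer (Q : Set X) ⊓
          Subgroup.normalizer (Subgroup.zpowers t : Set X) := ⟨hgN, hnorm g hgt⟩
      rw [Subgroup.mem_normalizer_iff_map_conj_eq] at hgN ⊢
      have h2 := (Subgroup.mem_normalizer_iff_map_conj_eq).1 (hnorm g hgt)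
      rw [Subgroup.map_sup, hgN, h2]
    have hfin : g ∈ Subgroup.centralizer ((Q ⊔ Subgroup.zpowers t : Subgroup X) : Set X) := by
      rcases Cfsg.Agent.Lib.Helper3.Dih.lemmaD' S e hQ1 hgN1 hodd with h | h
      · exact h
      · exact Cfsg.Agent.Lib.Helper3.Dih.klein_fix h hgN1 hodd
          (Subgroup.mem_sup_right (Subgroup.mem_zpowers t)) ht1 hgt
    exact Subgroup.centralizer_le (by exact_mod_cast (le_sup_left : Q ≤ Q ⊔ Subgroup.zpowers t)) hfin
  obtain ⟨P, N, hN, hc⟩ := hpn
  refine ⟨N, hN, ?_, ?_⟩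
  · have hcard : Nat.card N = P.toSubgroup.index := by
      have h1 := hc.card_mul_card
      rw [mul_comm] at h1
      exact Nat.eq_of_mul_eq_mul_left Nat.card_pos (h1.trans P.toSubgroup.card_mul_index.symm)
    rw [hcard]
    have := P.not_dvd_index
    exact Nat.odd_iff.2 (by omega)
  · obtain ⟨k, hk⟩ := IsPGroup.iff_card.mp P.isPGroup'
    refine ⟨k, ?_⟩
    rw [← hk]
    have h1 := hc.card_mul_card
    exact Nat.eq_of_mul_eq_mul_left Nat.card_pos (N.card_mul_index.trans h1.symm)

end Cfsg.Agent.S0514
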