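import Cfsg.Statements.S0579
import Mathlib
import Cfsg.Agent.Lib.Helper9.Hup
import Cfsg.Agent.Lib.Helper9.Tower
import Cfsg.Agent.Lib.Helper1.Coprime
import Cfsg.Agent.Lib.Helper1.SZQuot
import Cfsg.Agent.S0065
import Cfsg.Agent.S0092

set_option autoImplicit false
open Cfsg

namespace Cfsg.Agent.S0579

open Cfsg.Agent.Lib.Helper9.Hup Cfsg.Agent.Lib.Helper2.Supersolvable Cfsg.Agent.Lib.Helper1 Pointwise

universe u

theorem main : ∀ (n : ℕ) (G : Type u) [Group G] [Finite G], Nat.card G = n →
    (∀ M : Subgroup G, IsCoatom M → M.index.Prime) → Cfsg.IsSupersolvable G := by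
  intro n
  induction n using Nat.strong_induction_on with
  | _ n ih =>
  intro G _ _ hn h
  rcases subsingleton_or_nontrivial G with hs | hnt
  · exact isSupersolvable_of_subsingleton
  have hquot : ∀ (K : Subgroup G) [K.Normal], K ≠ ⊥ → Cfsg.IsSupersolvable (G ⧸ K) := by
    intro K _ hK
    refine ih _ ?_ (G ⧸ K) rfl (hyp_quotient h K)
    rw [← hn]
    exact card_quotient_lt K (K.one_lt_card_iff_ne_bot.mpr hK)
  obtain ⟨p, hp, hpd, hmax⟩ := Cfsg.Agent.Lib.Helper9.Tower.exists_max_prime (X := G)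
  haveI : Fact p.Prime := ⟨hp⟩
  obtain ⟨P⟩ : Nonempty (Sylow p G) := inferInstance
  have hPn : (P : Subgroup G).Normal := sylow_normal h hmax P
  have hPne : (P : Subgroup G) ≠ ⊥ := P.ne_bot_of_dvd_card hpd
  obtain ⟨N, ⟨hNn, hNne, hNP⟩, hNmin⟩ : ∃ N : Subgroup G, (N.Normal ∧ N ≠ ⊥ ∧ N ≤ P) ∧
      ∀ K : Subgroup G, K.Normal → K ≠ ⊥ → K ≤ N → K = N := by
    obtain ⟨N, hN, hmin⟩ := Set.exists_min_image
      {K : Subgroup G | K.Normal ∧ K ≠ ⊥ ∧ K ≤ P} (fun K => Nat.card K) (Set.toFinite _)
      ⟨P, hPn, hPne, le_rfl⟩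
    refine ⟨N, hN, fun K hK1 hK2 hK3 => ?_⟩
    exact Subgroup.eq_of_le_of_card_ge hK3 (hmin K ⟨hK1, hK2, hK3.trans hN.2.2⟩)
  have hNp : IsPGroup p N := P.2.to_le hNP
  -- `P` centralizes `N`
  have hPN : ∀ x ∈ (P : Subgroup G), ∀ y ∈ N, x * y = y * x := by
    have hK : N ⊓ Subgroup.centralizer ((P : Subgroup G) : Set G) = N := by
      apply hNmin _ inferInstance _ inf_le_left
      haveI : Group.IsNilpotent (P : Subgroup G) := P.2.isNilpotent
      have hne : N.subgroupOf P ≠ ⊥ := by
        intro he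
        rw [Subgroup.subgroupOf_eq_bot, disjoint_iff, inf_eq_left.mpr hNP] at he
        exact hNne he
      have h65 := Cfsg.Agent.S0065.result (N.subgroupOf P) hne
      obtain ⟨⟨z, hz⟩, hz1⟩ := (Subgroup.ne_bot_iff_exists_ne_one).mp h65
      intro hbot
      apply hz1
      have hzm : (z : G) ∈ N ⊓ Subgroup.centralizer ((P : Subgroup G) : Set G) := by
        refine ⟨hz.1, ?_⟩
        apply Subgroup.mem_centralizer_iff.mpr
        intro x hx
        have := Subgroup.mem_center_iff.mp hz.2 ⟨x, hx⟩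
        exact congrArg Subtype.val this
      rw [hbot, Subgroup.mem_bot] at hzm
      exact Subtype.ext (Subtype.ext hzm)
    intro x hx y hy
    have hy' : y ∈ N ⊓ Subgroup.centralizer ((P : Subgroup G) : Set G) := by rw [hK]; exact hy
    exact Subgroup.mem_centralizer_iff.mp hy'.2 x hx
  have hNab : ∀ x ∈ N, ∀ y ∈ N, x * y = y * x := fun x hx y hy => hPN x (hNP hx) y hy
  -- `N` has exponent `p`
  have hNexp : ∀ y ∈ N, y ^ p = 1 := by
    let K : Subgroup G :=
      { carrier := {y | y ∈ N ∧ y ^ p = 1}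
        one_mem' := ⟨N.one_mem, one_pow _⟩
        mul_mem' := by
          rintro a b ⟨ha, ha'⟩ ⟨hb, hb'⟩
          refine ⟨N.mul_mem ha hb, ?_⟩
          rw [(show Commute a b from hNab a ha b hb).mul_pow, ha', hb', one_mul]
        inv_mem' := by
          rintro a ⟨ha, ha'⟩
          exact ⟨N.inv_mem ha, by rw [inv_pow, ha', inv_one]⟩ }
    have hKn : K.Normal := ⟨fun y hy g => ⟨hNn.conj_mem y hy.1 g, by
      rw [conj_pow, hy.2]; group⟩⟩
    have hKne : K ≠ ⊥ := by
      have hd : p ∣ Nat.card N := by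
        obtain ⟨k, hk⟩ := IsPGroup.iff_card.mp hNp
        have h1 := N.one_lt_card_iff_ne_bot.mpr hNne
        rw [hk] at h1 ⊢
        rcases k with _ | k
        · simp at h1
        · exact dvd_pow_self p (Nat.succ_ne_zero k)
      obtain ⟨y, hy⟩ := exists_prime_orderOf_dvd_card' p hd
      intro hbot
      have hyK : (y : G) ∈ K := ⟨y.2, by
        have := pow_orderOf_eq_one y
        rw [hy] at this
        exact congrArg Subtype.val this⟩
      rw [hbot, Subgroup.mem_bot] at hyK
      have : y = 1 := Subtype.ext hyK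
      rw [this, orderOf_one] at hy
      exact hp.one_lt.ne hy
    have hKN : K = N := hNmin K hKn hKne (fun y hy => hy.1)
    intro y hy
    have : y ∈ K := hKN ▸ hy
    exact this.2
  by_cases hcase : ∃ M : Subgroup G, IsCoatom M ∧ ¬ N ≤ M
  · -- a maximal subgroup complements `N`
    obtain ⟨M, hM, hNM⟩ := hcase
    have hsup : M ⊔ N = ⊤ := by
      apply hM.2
      apply lt_of_le_of_ne le_sup_left
      intro he
      apply hNM
      rw [he]; exact le_sup_right
    have hKn : (M ⊓ N).Normal := by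
      apply normal_of_gens (M ⊓ N) M N hsup
      · intro g hg w hw
        exact ⟨M.mul_mem (M.mul_mem hg hw.1) (M.inv_mem hg), hNn.conj_mem w hw.2 g⟩
      · intro g hg w hw
        rw [hNab g hg w hw.2, mul_inv_cancel_right]
        exact hw
    have hbot : M ⊓ N = ⊥ := by
      by_contra hne
      apply hNM
      have := hNmin _ hKn hne inf_le_right
      rw [← this]; exact inf_le_left
    have hcard := card_sup_mul_card_inf' M N (Subgroup.le_normalizer_of_normal)
    rw [hsup, hbot, Subgroup.card_bot, mul_one, Subgroup.card_top, ← M.card_mul_index] at hcard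
    have hidx : M.index = Nat.card N := Nat.eq_of_mul_eq_mul_left Nat.card_pos hcard
    haveI : Fact (M.index).Prime := ⟨h M hM⟩
    haveI : IsCyclic N := isCyclic_of_prime_card hidx.symm
    exact isSupersolvable_of_quotient_cyclic N (hquot N hNne)
  · push Not at hcase
    have hfrat : ∀ H : Subgroup G, N ⊔ H = ⊤ → H = ⊤ := by
      intro H hH
      by_contra hne
      obtain ⟨M, hM, hle⟩ := (eq_top_or_exists_le_coatom H).resolve_left hne
      apply hM.1
      rw [eq_top_iff, ← hH]
      exact sup_le (hcase M hM) hle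
    obtain ⟨A, hA⟩ := Subgroup.exists_right_complement'_of_coprime (N := (P : Subgroup G))
      P.card_coprime_index
    have hPA : (P : Subgroup G) ⊔ A = ⊤ := hA.sup_eq_top
    have hAcard : Nat.card A = (P : Subgroup G).index := by
      have h2 := hA.card_mul_card
      exact Nat.eq_of_mul_eq_mul_left Nat.card_pos
        (h2.trans (P : Subgroup G).card_mul_index.symm)
    have hAp : (Nat.card A).Coprime p := by
      rw [hAcard]
      exact ((Nat.Prime.coprime_iff_not_dvd hp).mpr P.not_dvd_index).symm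
    obtain ⟨DA, hDA⟩ : ∃ DA : Subgroup G, DA = (DD p ↥A).map A.subtype := ⟨_, rfl⟩
    have hDAA : DA ≤ A := hDA ▸ Subgroup.map_subtype_le _
    have hDAG : ∀ d ∈ DA, d ∈ DD p G := by
      intro d hd
      rw [hDA] at hd
      obtain ⟨d', hd', rfl⟩ := hd
      exact map_mem_DD A.subtype hd'
    have hDAconj : ∀ a ∈ A, ∀ d ∈ DA, a * d * a⁻¹ ∈ DA := by
      intro a ha d hd
      rw [hDA] at hd ⊢
      obtain ⟨d', hd', rfl⟩ := hd
      exact ⟨_, conj_mem_DD hd' ⟨a, ha⟩, rfl⟩
    have hDAcomm : ∀ a ∈ A, ∀ b ∈ A, a * b * a⁻¹ * b⁻¹ ∈ DA := by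
      intro a ha b hb
      rw [hDA]
      exact ⟨_, comm_mem_DD p (⟨a, ha⟩ : A) ⟨b, hb⟩, rfl⟩
    have hDApow : ∀ a ∈ A, a ^ (p - 1) ∈ DA := by
      intro a ha
      rw [hDA]
      exact ⟨_, pow_mem_DD p (⟨a, ha⟩ : A), rfl⟩
    have hDAord : ∀ d ∈ DA, (orderOf d).Coprime p := by
      intro d hd
      exact Nat.Coprime.coprime_dvd_left (Subgroup.orderOf_dvd_natCard A (hDAA hd)) hAp
    have hstar : ∀ d ∈ DA, ∀ x ∈ (P : Subgroup G), d * x * d⁻¹ * x⁻¹ ∈ N := by
      intro d hd x hx
      have hq := DD_centralizes hp _ (G ⧸ N) rfl (hquot N hNne)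
        ((P : Subgroup G).map (QuotientGroup.mk' N)) (hPn.map _ (QuotientGroup.mk'_surjective N))
        (P.2.map _) (QuotientGroup.mk' N x) (Subgroup.mem_map_of_mem _ hx)
        (QuotientGroup.mk' N d) (map_mem_DD _ (hDAG d hd))
        (Nat.Coprime.coprime_dvd_left (orderOf_map_dvd _ d) (hDAord d hd))
      rw [← QuotientGroup.eq_one_iff, ← QuotientGroup.mk'_apply, map_mul, map_mul, map_mul, hq,
        map_inv, map_inv]
      group
    have hWn : (N ⊔ DA).Normal := by
      apply normal_of_gens (N ⊔ DA) P A hPA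
      · intro g hg w hw
        obtain ⟨y, hy, d, hd, rfl⟩ := Subgroup.mem_sup_of_normal_left.mp hw
        have h1 : g * (y * d) * g⁻¹ = (g * y * g⁻¹) * (d * g * d⁻¹ * g⁻¹)⁻¹ * d := by group
        rw [h1]
        exact Subgroup.mul_mem _ (Subgroup.mem_sup_left (N.mul_mem (hNn.conj_mem y hy g)
          (N.inv_mem (hstar d hd g hg)))) (Subgroup.mem_sup_right hd)
      · intro g hg w hw
        obtain ⟨y, hy, d, hd, rfl⟩ := Subgroup.mem_sup_of_normal_left.mp hw
        have h1 : g * (y * d) * g⁻¹ = (g * y * g⁻¹) * (g * d * g⁻¹) := by group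
        rw [h1]
        exact Subgroup.mul_mem _ (Subgroup.mem_sup_left (hNn.conj_mem y hy g))
          (Subgroup.mem_sup_right (hDAconj g hg d hd))
    have hcopN : (Nat.card N).Coprime (Nat.card DA) := by
      obtain ⟨k, hk⟩ := IsPGroup.iff_card.mp hNp
      rw [hk]
      exact Nat.Coprime.pow_left k
        (Nat.Coprime.coprime_dvd_right (Subgroup.card_dvd_of_le hDAA) hAp.symm)
    have hNDA : N ⊓ DA = ⊥ := (Subgroup.disjoint_of_coprime_natCard hcopN).eq_bot
    have hWcard : Nat.card (N ⊔ DA : Subgroup G) = Nat.card N * Nat.card DA := by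
      have := card_sup_mul_card_inf' DA N Subgroup.le_normalizer_of_normal
      rw [sup_comm, inf_comm, hNDA, Subgroup.card_bot, mul_one] at this
      rw [this, mul_comm]
    have hDAn : DA.Normal := by
      rw [← Subgroup.normalizer_eq_top_iff]
      apply hfrat
      rw [eq_top_iff]
      intro g _
      have hB : MulAut.conj g • DA ≤ N ⊔ DA := by
        rintro _ ⟨d, hd, rfl⟩
        exact hWn.conj_mem d (Subgroup.mem_sup_right hd) g
      obtain ⟨w, hw, hwe⟩ := Cfsg.Agent.S0092.sz_conj_mem (N ⊔ DA) N DA (MulAut.conj g • DA)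
        le_sup_left Subgroup.le_normalizer_of_normal le_sup_right hB hcopN hWcard
        (card_conj_smul g DA)
        (Group.isSolvable_of_comm (fun a b => Subtype.ext (hNab a a.2 b b.2)))
      have h2 : w⁻¹ * g ∈ Subgroup.normalizer (DA : Set G) := by
        apply mem_normalizer_of_conj_smul_eq
        rw [map_mul, mul_smul, ← hwe, ← mul_smul, ← map_mul, inv_mul_cancel, map_one, one_smul]
      obtain ⟨y, hy, d, hd, rfl⟩ := Subgroup.mem_sup_of_normal_left.mp hw
      have : g = y * (d * ((y * d)⁻¹ * g)) := by group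
      rw [this]
      exact Subgroup.mul_mem _ (Subgroup.mem_sup_left hy)
        (Subgroup.mem_sup_right (Subgroup.mul_mem _ (Subgroup.le_normalizer hd) h2))
    have hDAN : ∀ d ∈ DA, ∀ y ∈ N, d * y = y * d := by
      intro d hd y hy
      have h1 : d * y * d⁻¹ * y⁻¹ ∈ N ⊓ DA := by
        refine ⟨N.mul_mem (hNn.conj_mem y hy d) (N.inv_mem hy), ?_⟩
        have : d * y * d⁻¹ * y⁻¹ = d * (y * d⁻¹ * y⁻¹) := by group
        rw [this]
        exact DA.mul_mem hd (hDAn.conj_mem _ (DA.inv_mem hd) y)
      rw [hNDA, Subgroup.mem_bot] at h1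
      have := congrArg (fun t => t * (y * d)) h1
      simpa [mul_assoc] using this
    have hpowmap : ∀ a ∈ A, ∃ k : ℕ, ∀ y ∈ N, a * y * a⁻¹ = y ^ k := by
      intro a ha
      haveI : Nontrivial N := (Subgroup.nontrivial_iff_ne_bot N).mpr hNne
      let T : ↥N →* ↥N := (MulAut.conjNormal a : MulAut N).toMonoidHom
      have hTval : ∀ y : ↥N, ((T y : ↥N) : G) = a * y * a⁻¹ := fun y => by simp [T]
      have hTit : ∀ (k : ℕ) (y : ↥N), ((T^[k] y : ↥N) : G) = a ^ k * y * (a ^ k)⁻¹ := by
        intro k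
        induction k with
        | zero => intro y; simp
        | succ k ihk =>
          intro y
          rw [Function.iterate_succ_apply', hTval, ihk, pow_succ']; group
      have hTp : ∀ y, T^[p] y = T y := by
        intro y
        apply Subtype.ext
        rw [hTit, hTval]
        have hpp : a ^ p = a ^ (p - 1) * a := by
          rw [← pow_succ]; congr 1; have := hp.pos; omega
        have hc := hDAN _ (hDApow a ha) (a * y * a⁻¹) (hNn.conj_mem y y.2 a)
        rw [hpp]
        calc a ^ (p - 1) * a * ↑y * (a ^ (p - 1) * a)⁻¹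
            = (a ^ (p - 1) * (a * y * a⁻¹)) * (a ^ (p - 1))⁻¹ := by group
          _ = a * y * a⁻¹ := by rw [hc]; group
      obtain ⟨v, hv, k, hk⟩ := eigen' (p := p) (fun x y => Subtype.ext (hNab x x.2 y y.2))
        (fun y => Subtype.ext (hNexp y y.2)) T hTp
      refine ⟨k, ?_⟩
      let E : Subgroup G :=
        { carrier := {y | y ∈ N ∧ a * y * a⁻¹ = y ^ k}
          one_mem' := ⟨N.one_mem, by simp⟩
          mul_mem' := by
            rintro x y ⟨hx, hx'⟩ ⟨hy, hy'⟩
            refine ⟨N.mul_mem hx hy, ?_⟩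
            rw [(show Commute x y from hNab x hx y hy).mul_pow, ← hx', ← hy']; group
          inv_mem' := by
            rintro x ⟨hx, hx'⟩
            refine ⟨N.inv_mem hx, ?_⟩
            rw [inv_pow, ← hx']; group }
      have hEn : E.Normal := by
        apply normal_of_gens E P A hPA
        · intro g hg w hw
          rw [hPN g hg w hw.1, mul_inv_cancel_right]
          exact hw
        · intro g hg w hw
          refine ⟨hNn.conj_mem w hw.1 g, ?_⟩
          rw [conj_pow, ← hw.2]
          have hc : a * g * a⁻¹ * g⁻¹ ∈ DA := hDAcomm a ha g hg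
          have hm : g * (a * w * a⁻¹) * g⁻¹ ∈ N := hNn.conj_mem _ (hNn.conj_mem w hw.1 a) g
          have hcc := hDAN _ hc _ hm
          calc a * (g * w * g⁻¹) * a⁻¹
              = (a * g * a⁻¹ * g⁻¹) * (g * (a * w * a⁻¹) * g⁻¹) * (a * g * a⁻¹ * g⁻¹)⁻¹ := by
                group
            _ = g * (a * w * a⁻¹) * g⁻¹ := by rw [hcc]; group
      have hEne : E ≠ ⊥ := by
        intro hbot
        have hvE : (v : G) ∈ E := ⟨v.2, by
          have := congrArg Subtype.val hk
          rw [hTval] at this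
          simpa using this⟩
        rw [hbot, Subgroup.mem_bot] at hvE
        exact hv (Subtype.ext hvE)
      have hEN : E = N := hNmin E hEn hEne (fun y hy => hy.1)
      intro y hy
      have : y ∈ E := hEN ▸ hy
      exact this.2
    obtain ⟨⟨v, hvN⟩, hv1⟩ := (Subgroup.ne_bot_iff_exists_ne_one).mp hNne
    have hv1' : v ≠ 1 := fun h => hv1 (Subtype.ext h)
    have hCN : Subgroup.zpowers v ≤ N := by rw [Subgroup.zpowers_le]; exact hvN
    haveI hCn : (Subgroup.zpowers v).Normal := by
      refine normal_of_gens (Subgroup.zpowers v) (P : Subgroup G) A hPA ?_ ?_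
      · intro g hg w hw
        rw [hPN g hg w (hCN hw), mul_inv_cancel_right]
        exact hw
      · intro g hg w hw
        obtain ⟨k, hk⟩ := hpowmap g hg
        rw [hk w (hCN hw)]
        exact Subgroup.pow_mem _ hw k
    apply isSupersolvable_of_quotient_zpowers v
    apply hquot
    intro hbot
    apply hv1'
    have : v ∈ Subgroup.zpowers v := Subgroup.mem_zpowers v
    rwa [hbot, Subgroup.mem_bot] at this


/-- Huppert's supersolvability criterion: if every maximal subgroup of a finite group has prime index, then the group is supersolvable. -/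
theorem result {G : Type*} [Group G] [Finite G] (h : ∀ M : Subgroup G, IsCoatom M → M.index.Prime) : Cfsg.IsSupersolvable G := by
  exact main _ G rfl h

end Cfsg.Agent.S0579
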