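import Cfsg.Statements.S0533
import Mathlib
import Cfsg.Agent.S0579
import Cfsg.Agent.Lib.Helper9.SylowIn
import Cfsg.Agent.Lib.Helper1.FixedCount

set_option autoImplicit false
open Cfsg

namespace Cfsg.Agent.S0533

open Cfsg.Agent.Lib.Helper9.Hup Cfsg.Agent.Lib.Helper2.Supersolvable Cfsg.Agent.Lib.Helper1
  Cfsg.Agent.Lib.Helper9.Tower

universe u

variable {X : Type u} [Group X]

/-- hereditary converse of Lagrange, internal form -/
def HC (X : Type u) [Group X] : Prop :=
  ∀ (H : Subgroup X) (d : ℕ), d ∣ Nat.card H → ∃ L : Subgroup X, L ≤ H ∧ Nat.card L = d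

theorem hc_of (h : ∀ H : Subgroup X, Cfsg.HasSubgroupOfEveryOrder H) : HC X := by
  intro H d hd
  obtain ⟨L, hL⟩ := h H d hd
  refine ⟨L.map H.subtype, ?_, ?_⟩
  · rintro _ ⟨x, -, rfl⟩
    exact x.2
  · rw [Subgroup.card_map_of_injective H.subtype_injective]
    exact hL

theorem HC.subgroup (h : HC X) (N : Subgroup X) : HC N := by
  intro H d hd
  obtain ⟨L, hL, hc⟩ := h (H.map N.subtype) d
    (by rwa [Subgroup.card_map_of_injective N.subtype_injective])
  refine ⟨L.subgroupOf N, ?_, ?_⟩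
  · intro x hx
    obtain ⟨y, hy, hxy⟩ := hL (Subgroup.mem_subgroupOf.mp hx)
    have : y = x := N.subtype_injective hxy
    rwa [← this]
  · have hLN : L ≤ N := hL.trans (by rintro _ ⟨x, -, rfl⟩; exact x.2)
    rw [← hc]
    exact card_subgroupOf hLN

theorem HC.quotient [Finite X] (h : HC X) (Q : Subgroup X) [Q.Normal]
    (hQ : (Nat.card Q).Coprime Q.index) : HC (X ⧸ Q) := by
  intro H d hd
  have hsurj := QuotientGroup.mk'_surjective Q
  have h1 : Nat.card H ∣ Nat.card (H.comap (QuotientGroup.mk' Q)) := by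
    have := Subgroup.card_map_dvd (H := H.comap (QuotientGroup.mk' Q)) (QuotientGroup.mk' Q)
    rwa [Subgroup.map_comap_eq_self_of_surjective hsurj] at this
  obtain ⟨L, hL, hc⟩ := h _ d (hd.trans h1)
  refine ⟨L.map (QuotientGroup.mk' Q), ?_, ?_⟩
  · rw [Subgroup.map_le_iff_le_comap]
    exact hL
  · have hcop : (Nat.card Q).Coprime (Nat.card L) := by
      rw [hc]
      apply Nat.Coprime.coprime_dvd_right _ hQ
      rw [Subgroup.index_eq_card]
      exact hd.trans (Subgroup.card_subgroup_dvd_card H)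
    have hbot : Q ⊓ L = ⊥ := (Subgroup.disjoint_of_coprime_natCard hcop).eq_bot
    rw [← Subgroup.relIndex_ker, QuotientGroup.ker_mk', ← Subgroup.inf_relIndex_right, hbot,
      Subgroup.relIndex_bot_left, hc]

theorem relIndex_mul_card' {H K : Subgroup X} (h : H ≤ K) :
    H.relIndex K * Nat.card H = Nat.card K := by
  have := Subgroup.index_mul_card (H.subgroupOf K)
  rwa [card_subgroupOf h] at this

theorem index_of_not_le [Finite X] {q : ℕ} [hq : Fact q.Prime] (h : HC X) (Q : Sylow q X)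
    [hQn : (Q : Subgroup X).Normal] (M : Subgroup X) (hM : IsCoatom M)
    (hQM : ¬ (Q : Subgroup X) ≤ M) : M.index = q := by
  have hNQ : ∀ A : Subgroup X, A ≤ Subgroup.normalizer ((Q : Subgroup X) : Set X) := fun A => by
    rw [Subgroup.normalizer_eq_top]; exact le_top
  have hDQ : (Q : Subgroup X) ⊓ M < Q :=
    lt_of_le_of_ne inf_le_left (fun he => hQM (inf_eq_left.mp he))
  have hDn : ((Q : Subgroup X) ⊓ M).Normal := by
    rw [← Subgroup.normalizer_eq_top_iff]
    by_contra hne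
    have hMN : M ≤ Subgroup.normalizer (((Q : Subgroup X) ⊓ M : Subgroup X) : Set X) :=
      le_normalizer_inf (hNQ M) Subgroup.le_normalizer
    have hEq : Subgroup.normalizer (((Q : Subgroup X) ⊓ M : Subgroup X) : Set X) = M := by
      by_contra hne2
      exact hne (hM.2 _ (lt_of_le_of_ne hMN (Ne.symm hne2)))
    obtain ⟨x, hxQ, hxD, hxN⟩ :=
      Cfsg.Agent.Lib.Helper9.SylowIn.exists_normalizer_of_lt Q.isPGroup' hDQ
    rw [hEq] at hxN
    exact hxD ⟨hxQ, hxN⟩
  obtain ⟨H, hH, hmin⟩ := Set.exists_min_image {H : Subgroup X | H ⊔ ((Q : Subgroup X) ⊓ M) = ⊤}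
    (fun H => Nat.card H) (Set.toFinite _) ⟨⊤, top_sup_eq _⟩
  have hH' : H ⊔ ((Q : Subgroup X) ⊓ M) = ⊤ := hH
  have hND : ∀ A : Subgroup X,
      A ≤ Subgroup.normalizer (((Q : Subgroup X) ⊓ M : Subgroup X) : Set X) := fun A => by
    rw [Subgroup.normalizer_eq_top]; exact le_top
  have c1 := card_sup_mul_card_inf' H _ (hND H)
  rw [hH', Subgroup.card_top] at c1
  have hqH : q ∣ Nat.card H := by
    by_contra hnd
    have h1 : Nat.card (Q : Subgroup X) ∣ Nat.card H * Nat.card ((Q : Subgroup X) ⊓ M : Subgroup X) :=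
      (Subgroup.card_subgroup_dvd_card _).trans (Dvd.intro _ c1)
    obtain ⟨a, ha⟩ := IsPGroup.iff_card.mp Q.isPGroup'
    have h2 : (Nat.card (Q : Subgroup X)).Coprime (Nat.card H) := by
      rw [ha]
      exact Nat.Coprime.pow_left _ ((Nat.Prime.coprime_iff_not_dvd hq.out).mpr hnd)
    have h3 := h2.dvd_of_dvd_mul_left h1
    have h4 := Nat.le_of_dvd Nat.card_pos h3
    exact absurd (Subgroup.eq_of_le_of_card_ge hDQ.le h4) hDQ.ne
  obtain ⟨L, hLH, hLc⟩ := h H (Nat.card H / q) (Nat.div_dvd_of_dvd hqH)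
  have hLc' : Nat.card H = q * Nat.card L := by
    rw [hLc]; exact (Nat.mul_div_cancel' hqH).symm
  have hLD : L ⊔ ((Q : Subgroup X) ⊓ M) ≠ ⊤ := by
    intro he
    have h1 : Nat.card H ≤ Nat.card L := hmin L he
    have hpos : 0 < Nat.card L := Nat.card_pos
    have h2 := hq.out.two_le
    nlinarith
  have c2 := card_sup_mul_card_inf' L _ (hND L)
  have hidx : (L ⊔ ((Q : Subgroup X) ⊓ M)).index = q := by
    have c3 := Subgroup.index_mul_card (L ⊔ ((Q : Subgroup X) ⊓ M))
    have c4 := relIndex_mul_card' (inf_le_inf_right ((Q : Subgroup X) ⊓ M) hLH)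
    have c5 : (L ⊔ ((Q : Subgroup X) ⊓ M)).index *
        (L ⊓ ((Q : Subgroup X) ⊓ M)).relIndex (H ⊓ ((Q : Subgroup X) ⊓ M)) = q := by
      apply Nat.eq_of_mul_eq_mul_right (show 0 < Nat.card (L ⊔ ((Q : Subgroup X) ⊓ M) : Subgroup X) *
        Nat.card (L ⊓ ((Q : Subgroup X) ⊓ M) : Subgroup X) from
          Nat.mul_pos Nat.card_pos Nat.card_pos)
      calc (L ⊔ ((Q : Subgroup X) ⊓ M)).index *
            (L ⊓ ((Q : Subgroup X) ⊓ M)).relIndex (H ⊓ ((Q : Subgroup X) ⊓ M)) *
            (Nat.card (L ⊔ ((Q : Subgroup X) ⊓ M) : Subgroup X) *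
              Nat.card (L ⊓ ((Q : Subgroup X) ⊓ M) : Subgroup X))
          = ((L ⊔ ((Q : Subgroup X) ⊓ M)).index *
              Nat.card (L ⊔ ((Q : Subgroup X) ⊓ M) : Subgroup X)) *
            ((L ⊓ ((Q : Subgroup X) ⊓ M)).relIndex (H ⊓ ((Q : Subgroup X) ⊓ M)) *
              Nat.card (L ⊓ ((Q : Subgroup X) ⊓ M) : Subgroup X)) := by ring
        _ = Nat.card X * Nat.card (H ⊓ ((Q : Subgroup X) ⊓ M) : Subgroup X) := by rw [c3, c4]
        _ = Nat.card H * Nat.card ((Q : Subgroup X) ⊓ M : Subgroup X) := c1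
        _ = q * (Nat.card L * Nat.card ((Q : Subgroup X) ⊓ M : Subgroup X)) := by
            rw [hLc']; ring
        _ = q * (Nat.card (L ⊔ ((Q : Subgroup X) ⊓ M) : Subgroup X) *
              Nat.card (L ⊓ ((Q : Subgroup X) ⊓ M) : Subgroup X)) := by rw [c2]
    rcases (Nat.dvd_prime hq.out).mp (Dvd.intro _ c5) with h1 | h1
    · exact absurd (Subgroup.index_eq_one.mp h1) hLD
    · exact h1
  generalize hM' : L ⊔ ((Q : Subgroup X) ⊓ M) = M' at hidx
  have hDM' : (Q : Subgroup X) ⊓ M ≤ M' := hM' ▸ le_sup_right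
  have hQM' : ¬ (Q : Subgroup X) ≤ M' := by
    intro hle
    have h1 : M'.index ∣ (Q : Subgroup X).index := Subgroup.index_dvd_of_le hle
    rw [hidx] at h1
    have h2 := Q.card_coprime_index
    obtain ⟨a, ha⟩ := IsPGroup.iff_card.mp Q.isPGroup'
    have ha0 : a ≠ 0 := by
      rintro rfl
      rw [pow_zero] at ha
      have : (Q : Subgroup X) = ⊥ := Subgroup.card_eq_one.mp ha
      exact hQM (this ▸ bot_le)
    have h3 : q ∣ Nat.card (Q : Subgroup X) := ha ▸ dvd_pow_self q ha0
    exact hq.out.one_lt.ne' (Nat.eq_one_of_dvd_coprimes h2 h3 h1)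
  have hsup : M' ⊔ Q = ⊤ := by
    have h1 := Subgroup.relIndex_mul_index (le_sup_left : M' ≤ M' ⊔ Q)
    rw [hidx] at h1
    rcases (Nat.dvd_prime hq.out).mp (Dvd.intro_left _ h1) with h2 | h2
    · exact Subgroup.index_eq_one.mp h2
    · exfalso
      rw [h2] at h1
      have h3 : M'.relIndex (M' ⊔ Q) = 1 :=
        Nat.eq_of_mul_eq_mul_right hq.out.pos (by rw [h1, one_mul])
      exact hQM' (le_sup_right.trans (Subgroup.relIndex_eq_one.mp h3))
  have c6 := card_sup_mul_card_inf' M' Q (hNQ M')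
  have hEc : Nat.card (Q : Subgroup X) = q * Nat.card (M' ⊓ Q : Subgroup X) := by
    rw [hsup, Subgroup.card_top, ← Subgroup.index_mul_card M', hidx] at c6
    apply Nat.eq_of_mul_eq_mul_left (show 0 < Nat.card M' from Nat.card_pos)
    rw [← c6]; ring
  have hEQ : (Q : Subgroup X) ≤ Subgroup.normalizer ((M' ⊓ Q : Subgroup X) : Set X) := by
    rw [← Subgroup.normal_subgroupOf_iff_le_normalizer inf_le_right]
    apply Subgroup.normal_of_index_eq_minFac_card
    have e1 := relIndex_mul_card' (inf_le_right : M' ⊓ (Q : Subgroup X) ≤ Q)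
    have e2 : (M' ⊓ (Q : Subgroup X)).relIndex Q = q := by
      apply Nat.eq_of_mul_eq_mul_right (show 0 < Nat.card (M' ⊓ Q : Subgroup X) from Nat.card_pos)
      rw [e1, hEc]
    obtain ⟨a, ha⟩ := IsPGroup.iff_card.mp Q.isPGroup'
    have ha0 : a ≠ 0 := by
      rintro rfl
      rw [pow_zero] at ha
      have : (Q : Subgroup X) = ⊥ := Subgroup.card_eq_one.mp ha
      exact hQM (this ▸ bot_le)
    rw [ha, hq.out.pow_minFac ha0]
    exact e2
  have hEn : (M' ⊓ (Q : Subgroup X)).Normal := by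
    rw [← Subgroup.normalizer_eq_top_iff, eq_top_iff, ← hsup]
    exact sup_le (le_normalizer_inf Subgroup.le_normalizer (hNQ M')) hEQ
  have hDE : (Q : Subgroup X) ⊓ M ≤ M' ⊓ Q := le_inf hDM' inf_le_left
  have hEM : M' ⊓ (Q : Subgroup X) ≤ M := by
    by_contra hnle
    have htop : M ⊔ (M' ⊓ (Q : Subgroup X)) = ⊤ :=
      hM.2 _ (lt_of_le_of_ne le_sup_left (fun he => hnle (sup_eq_left.mp he.symm)))
    apply hQM'
    intro x hx
    have hx' : x ∈ M ⊔ (M' ⊓ (Q : Subgroup X)) := htop ▸ Subgroup.mem_top x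
    obtain ⟨m, hm, e, he, rfl⟩ := Subgroup.mem_sup_of_normal_right.mp hx'
    have hmQ : m ∈ (Q : Subgroup X) := by
      have := (Q : Subgroup X).mul_mem hx ((Q : Subgroup X).inv_mem he.2)
      simpa using this
    exact M'.mul_mem (hDE ⟨hmQ, hm⟩).1 he.1
  have hED : M' ⊓ (Q : Subgroup X) = (Q : Subgroup X) ⊓ M :=
    le_antisymm (le_inf inf_le_right hEM) hDE
  have hMQ : M ⊔ Q = ⊤ :=
    hM.2 _ (lt_of_le_of_ne le_sup_left (fun he => hQM (sup_eq_left.mp he.symm)))
  have c7 := card_sup_mul_card_inf' M Q (hNQ M)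
  rw [hMQ, Subgroup.card_top, inf_comm, ← hED, hEc, ← Subgroup.index_mul_card M] at c7
  apply Nat.eq_of_mul_eq_mul_right (show 0 < Nat.card M * Nat.card (M' ⊓ Q : Subgroup X) from
    Nat.mul_pos Nat.card_pos Nat.card_pos)
  rw [← mul_assoc, c7]; ring

theorem sylow_normal_of_hc [Finite X] [Nontrivial X] {q : ℕ} [hq : Fact q.Prime] (h : HC X)
    (hsub : ∀ N : Subgroup X, N ≠ ⊤ → Cfsg.IsSupersolvable N)
    (hmax : ∀ r : ℕ, r.Prime → r ∣ Nat.card X → r ≤ q) (Q : Sylow q X) :
    (Q : Subgroup X).Normal := by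
  have hc1 : Nat.card X ≠ 1 := Finite.one_lt_card.ne'
  have hp := Nat.minFac_prime hc1
  have hpd := Nat.minFac_dvd (Nat.card X)
  by_cases hpq : (Nat.card X).minFac = q
  · have hcard : Nat.card X = q ^ (Nat.card X).primeFactorsList.length := by
      apply Nat.eq_prime_pow_of_unique_prime_dvd Nat.card_pos.ne'
      intro r hr hrd
      have h1 := hmax r hr hrd
      have h2 := Nat.minFac_le_of_dvd hr.two_le hrd
      omega
    have hX : IsPGroup q X := IsPGroup.of_card hcard
    have htop : (Q : Subgroup X) = ⊤ := (Q.is_maximal' (hX.to_subgroup ⊤) le_top).symm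
    rw [htop]
    infer_instance
  · obtain ⟨N, -, hNc⟩ := h ⊤ (Nat.card X / (Nat.card X).minFac)
      (by rw [Subgroup.card_top]; exact Nat.div_dvd_of_dvd hpd)
    have hidx : N.index = (Nat.card X).minFac := by
      have h1 := N.index_mul_card
      rw [hNc] at h1
      apply Nat.eq_of_mul_eq_mul_right (show 0 < Nat.card X / (Nat.card X).minFac from
        Nat.div_pos (Nat.le_of_dvd Nat.card_pos hpd) hp.pos)
      rw [h1]
      exact (Nat.mul_div_cancel' hpd).symm
    have hNn : N.Normal := Subgroup.normal_of_index_eq_minFac_card hidx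
    have hNtop : N ≠ ⊤ := by
      rintro rfl
      rw [Subgroup.index_top] at hidx
      exact hp.one_lt.ne hidx
    have hQN : (Q : Subgroup X) ≤ N := by
      intro x hx
      rw [← QuotientGroup.eq_one_iff]
      obtain ⟨k, hk⟩ := Q.isPGroup' ⟨x, hx⟩
      have hk' : x ^ q ^ k = 1 := congrArg Subtype.val hk
      apply eq_one_of_pow_coprime (m := q ^ k) (n := N.index)
      · rw [← QuotientGroup.mk_pow, hk']; rfl
      · rw [← QuotientGroup.mk_pow, QuotientGroup.eq_one_iff]
        exact N.pow_index_mem x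
      · rw [hidx]
        exact Nat.Coprime.pow_left _ ((Nat.coprime_primes hq.out hp).mpr (Ne.symm hpq))
    have hsN := hsub N hNtop
    have hmaxN : ∀ r : ℕ, r.Prime → r ∣ Nat.card N → r ≤ q := fun r hr hrd =>
      hmax r hr (hrd.trans (Subgroup.card_subgroup_dvd_card N))
    have hn1 := Tw.sylow_normal hmaxN (tw_of_supersolvable _ N rfl hsN) (Q.subtype hQN)
    have hch := Sylow.characteristic_of_normal (Q.subtype hQN) hn1
    have hn2 : (((Q.subtype hQN : Sylow q N) : Subgroup N).map N.subtype).Normal :=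
      ConjAct.normal_of_characteristic_of_normal
    rw [Sylow.coe_subtype, Subgroup.subgroupOf_map_subtype, inf_eq_left.mpr hQN] at hn2
    exact hn2

theorem main : ∀ (n : ℕ) (X : Type u) [Group X] [Finite X], Nat.card X = n → HC X →
    Cfsg.IsSupersolvable X := by
  intro n
  induction n using Nat.strong_induction_on with
  | _ n ih =>
  intro X _ _ hn h
  rcases subsingleton_or_nontrivial X with hs | hnt
  · exact isSupersolvable_of_subsingleton
  obtain ⟨q, hq, hqd, hmax⟩ := exists_max_prime (X := X)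
  have := Fact.mk hq
  have hsub : ∀ N : Subgroup X, N ≠ ⊤ → Cfsg.IsSupersolvable N := by
    intro N hN
    refine ih _ ?_ N rfl (h.subgroup N)
    rw [← hn]
    by_contra hlt
    exact hN (Subgroup.eq_top_of_le_card N (not_lt.mp hlt))
  obtain ⟨Q⟩ : Nonempty (Sylow q X) := inferInstance
  have hQn := sylow_normal_of_hc h hsub hmax Q
  have hQ1 : 1 < Nat.card (Q : Subgroup X) :=
    (Subgroup.one_lt_card_iff_ne_bot _).mpr (Q.ne_bot_of_dvd_card hqd)
  have hquot : Cfsg.IsSupersolvable (X ⧸ (Q : Subgroup X)) :=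
    ih _ (hn ▸ card_quotient_lt _ hQ1) _ rfl (h.quotient _ Q.card_coprime_index)
  apply Cfsg.Agent.S0579.main _ X rfl
  intro M hM
  by_cases hQM : (Q : Subgroup X) ≤ M
  · have h1 := index_prime hquot _ (isCoatom_map_of_le hM hQM)
    rwa [Subgroup.index_map_eq _ (QuotientGroup.mk'_surjective _)
      (by rw [QuotientGroup.ker_mk']; exact hQM)] at h1
  · rw [index_of_not_le h Q M hM hQM]
    exact hq

/-- If every subgroup of a finite group has subgroups of all orders dividing its order, then the group is supersolvable. -/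
theorem result {G : Type*} [Group G] [Finite G] (h : ∀ H : Subgroup G, Cfsg.HasSubgroupOfEveryOrder H) : Cfsg.IsSupersolvable G := by
  exact main _ G rfl (hc_of h)

end Cfsg.Agent.S0533
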