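import Cfsg.Statements.S0589
import Cfsg.Agent.Lib.Helper1.FrobD

set_option autoImplicit false
open Pointwise
open Cfsg

namespace Cfsg.Agent.S0589

/-- Let H be a Frobenius complement in a finite group G and L a subgroup of G whose order divides the order of H. Then L is contained in some conjugate of H. -/
theorem result {G : Type*} [Group G] [Finite G] (H : Subgroup G) (hH : Cfsg.IsFrobeniusComplement H) (L : Subgroup G) (hL : Nat.card L ∣ Nat.card H) : ∃ x : G, L ≤ MulAut.conj x • H := by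
  obtain ⟨N, h1, h2, h3⟩ := Cfsg.Agent.Lib.Helper1.FrobC.frobenius_theorem H hH
  obtain ⟨g, hg⟩ := Cfsg.Agent.Lib.Helper1.FrobD.conj_into hH h3 L hL
  refine ⟨g⁻¹, ?_⟩
  intro x hx
  rw [Cfsg.Agent.Lib.Helper1.mem_conj_smul]
  apply hg
  rw [Cfsg.Agent.Lib.Helper1.mem_conj_smul]
  have : g⁻¹ * (g⁻¹⁻¹ * x * g⁻¹) * g = x := by group
  rw [this]; exact hx

end Cfsg.Agent.S0589
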