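import Cfsg.Statements.S0595
import Cfsg.Agent.Lib.Helper3.PStab2
open Cfsg.Agent.Lib.Helper3.PStab Cfsg.Agent.Lib.Helper1

set_option autoImplicit false
open Cfsg

namespace Cfsg.Agent.S0595

/-- For odd p, a faithful action on an elementary abelian p-group that is not p-stable forces non-abelian Sylow 2-subgroups. -/
theorem result {G : Type*} [Group G] [Finite G] {p : ℕ} [Fact p.Prime] (hp : p ≠ 2) (V H : Subgroup G) (hV : Cfsg.IsElementaryAbelian p V) (hHV : H ≤ Subgroup.normalizer (V : Set G)) (hf : H ⊓ Subgroup.centralizer (V : Set G) = ⊥) (a : G) (haH : a ∈ H) (hq : ⁅⁅V, Subgroup.zpowers a⁆, Subgroup.zpowers a⁆ = ⊥) (hna : a ∉ (Cfsg.pCore p H).map H.subtype) (T : Sylow 2 H) : ¬ IsMulCommutative T := by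
  intro hT
  apply hna
  have hH : Ab2 ↥H := Ab2.of_one T
    (fun x hx y hy => congrArg Subtype.val (hT.is_comm.comm ⟨x, hx⟩ ⟨y, hy⟩))
  obtain ⟨N, hN1, hN2, hN3⟩ := stable_hom hp hH hV H.subtype (fun γ => hHV γ.2)
    (x := ⟨a, haH⟩) hq
  have hNp : IsPGroup p N := by
    intro g
    obtain ⟨k, hk⟩ := hN3 g.1 g.2
    refine ⟨k, Subtype.ext (Subtype.ext ?_)⟩
    have h1 : (g.1.1 : G) ^ p ^ k ∈ H ⊓ Subgroup.centralizer (V : Set G) :=
      Subgroup.mem_inf.2 ⟨H.pow_mem g.1.2 _, hk⟩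
    rw [hf, Subgroup.mem_bot] at h1
    exact h1
  exact ⟨⟨a, haH⟩, le_pCore hN1 hNp hN2, rfl⟩

end Cfsg.Agent.S0595
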