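import Cfsg.Statements.S0600
import Cfsg.Agent.Lib.Helper3.WS
open Cfsg.Agent.Lib.Helper3.WS Cfsg.Agent.Lib.Helper3.PLocal

set_option autoImplicit false
open Cfsg

namespace Cfsg.Agent.S0600

/-- A normal elementary abelian p-subgroup generated by the fixed points of the Sylow p-subgroups admits no nontrivial normal p-subgroup of G modulo its centralizer. -/
theorem result {G : Type*} [Group G] [Finite G] {p : ℕ} [Fact p.Prime] (V : Subgroup G) [V.Normal] (hV : Cfsg.IsElementaryAbelian p V) (hgen : V = ⨆ S : Sylow p G, V ⊓ Subgroup.centralizer ((S : Subgroup G) : Set G)) : Cfsg.pCore p (G ⧸ Subgroup.centralizer (V : Set G)) = ⊥ := by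
  rw [eq_bot_iff]
  intro q hq
  obtain ⟨d, rfl⟩ := QuotientGroup.mk_surjective q
  rw [Subgroup.mem_bot]
  apply (QuotientGroup.eq_one_iff d).2
  have h1 : V ≤ Subgroup.centralizer (Subgroup.zpowers d : Set G) := by
    rw [hgen]
    apply iSup_le
    intro S v hv
    obtain ⟨s, hs, c, hc, rfl⟩ := exists_sylow_rep S _ hq
    rw [mem_centralizer_zpowers_iff]
    have h2 : s * v = v * s := (Subgroup.mem_centralizer_iff.1 hv.2) s hs
    have h3 : v * c = c * v := (Subgroup.mem_centralizer_iff.1 hc) v hv.1
    calc v * (s * c) = (v * s) * c := by group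
      _ = (s * v) * c := by rw [h2]
      _ = s * (v * c) := by group
      _ = s * (c * v) := by rw [h3]
      _ = s * c * v := by group
  rw [Subgroup.mem_centralizer_iff]
  intro v hv
  exact mem_centralizer_zpowers_iff.1 (h1 hv)

end Cfsg.Agent.S0600
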