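import Cfsg.Statements.S0601
import Cfsg.Agent.Lib.Helper3.WS
import Cfsg.Agent.S0600
open Cfsg.Agent.Lib.Helper3.WS Cfsg.Agent.Lib.Helper3.PLocal Cfsg.Agent.Lib.Helper1

set_option autoImplicit false
open Cfsg

namespace Cfsg.Agent.S0601

/-- When O_p(G) contains its centralizer, the normal closure of Ω₁(Z(S)) is elementary abelian and G has no nontrivial normal p-subgroup modulo its centralizer. -/
theorem result {G : Type*} [Group G] [Finite G] {p : ℕ} [Fact p.Prime] (hc : Subgroup.centralizer (Cfsg.pCore p G : Set G) ≤ Cfsg.pCore p G) : (⨆ S : Sylow p G, Cfsg.omegaOne p (((S : Subgroup G)) ⊓ Subgroup.centralizer ((S : Subgroup G) : Set G))).Normal ∧ Cfsg.IsElementaryAbelian p (⨆ S : Sylow p G, Cfsg.omegaOne p (((S : Subgroup G)) ⊓ Subgroup.centralizer ((S : Subgroup G) : Set G))) ∧ ∀ D : Subgroup G, D.Normal → Subgroup.centralizer ((⨆ S : Sylow p G, Cfsg.omegaOne p (((S : Subgroup G)) ⊓ Subgroup.centralizer ((S : Subgroup G) : Set G)) : Subgroup G) : Set G) ≤ D → (∃ k : ℕ, (Subgroup.centralizer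 ((⨆ S : Sylow p G, Cfsg.omegaOne p (((S : Subgroup G)) ⊓ Subgroup.centralizer ((S : Subgroup G) : Set G)) : Subgroup G) : Set G)).relIndex D = p ^ k) → D = Subgroup.centralizer ((⨆ S : Sylow p G, Cfsg.omegaOne p (((S : Subgroup G)) ⊓ Subgroup.centralizer ((S : Subgroup G) : Set G)) : Subgroup G) : Set G) := by
  set V := ⨆ S : Sylow p G, Cfsg.omegaOne p (((S : Subgroup G)) ⊓ Subgroup.centralizer ((S : Subgroup G) : Set G)) with hVdef
  have hVn : V.Normal := by
    have key : ∀ g : G, V.map (MulAut.conj g).toMonoidHom ≤ V := by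
      intro g
      rw [hVdef, Subgroup.map_iSup]
      apply iSup_le
      intro S
      refine le_trans ?_ (le_iSup _ (g • S))
      rw [omegaOne_map p _ (MulAut.conj g).injective]
      apply omegaOne_mono
      rintro _ ⟨x, hx, rfl⟩
      have e : ((g • S : Sylow p G) : Subgroup G) = (S : Subgroup G).map (MulAut.conj g).toMonoidHom := rfl
      rw [e]
      refine Subgroup.mem_inf.2 ⟨⟨x, hx.1, rfl⟩, ?_⟩
      rw [Subgroup.mem_centralizer_iff]
      rintro _ ⟨y, hy, rfl⟩
      have := (Subgroup.mem_centralizer_iff.1 hx.2) y hy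
      simp only [MulEquiv.coe_toMonoidHom]
      rw [← map_mul, ← map_mul, this]
    constructor
    intro n hn g
    exact key g ⟨n, hn, rfl⟩
  have hVea : Cfsg.IsElementaryAbelian p V := by
    have hE : Cfsg.IsElementaryAbelian p (Cfsg.omegaOne p
        (Cfsg.pCore p G ⊓ Subgroup.centralizer (Cfsg.pCore p G : Set G))) := by
      apply ea_omegaOne
      intro a ha b hb
      exact (Subgroup.mem_centralizer_iff.1 hb.2) a ha.1
    refine ea_mono hE ?_
    apply iSup_le
    intro S
    apply omegaOne_mono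
    intro x hx
    have h1 : x ∈ Subgroup.centralizer (Cfsg.pCore p G : Set G) :=
      Subgroup.centralizer_le (by exact_mod_cast pCore_le_sylow S) hx.2
    exact Subgroup.mem_inf.2 ⟨hc h1, h1⟩
  refine ⟨hVn, hVea, ?_⟩
  intro D hDn hCD ⟨k, hk⟩
  have hgen : V = ⨆ S : Sylow p G, V ⊓ Subgroup.centralizer ((S : Subgroup G) : Set G) := by
    apply le_antisymm
    · conv_lhs => rw [hVdef]
      apply iSup_le
      intro S
      refine le_trans ?_ (le_iSup _ S)
      exact le_inf (le_iSup (fun S : Sylow p G => Cfsg.omegaOne p (((S : Subgroup G)) ⊓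
        Subgroup.centralizer ((S : Subgroup G) : Set G))) S) ((omegaOne_le p _).trans inf_le_right)
    · exact iSup_le fun S => inf_le_left
  have h0 := Cfsg.Agent.S0600.result V hVea hgen
  apply le_antisymm _ hCD
  have h1 : D.map (QuotientGroup.mk' (Subgroup.centralizer (V : Set G))) ≤ Cfsg.pCore p _ := by
    apply le_pCore (hDn.map _ (QuotientGroup.mk'_surjective _))
    apply IsPGroup.of_card (n := k)
    have h2 := Subgroup.relIndex_ker (QuotientGroup.mk' (Subgroup.centralizer (V : Set G))) (K := D)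
    rw [QuotientGroup.ker_mk'] at h2
    rw [← h2, hk]
  rw [h0, le_bot_iff, Subgroup.map_eq_bot_iff, QuotientGroup.ker_mk'] at h1
  exact h1

end Cfsg.Agent.S0601
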