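import Cfsg.Statements.S0626
import Cfsg.Agent.Lib.Helper3.PStab2
open Cfsg.Agent.Lib.Helper3.PStab Cfsg.Agent.Lib.Helper1 Cfsg.Agent.Lib.Helper3.PLocal

set_option autoImplicit false
open Cfsg

namespace Cfsg.Agent.S0626

theorem section_stable {G : Type*} [Group G] [Finite G] {p : ℕ} [Fact p.Prime] (hp : p ≠ 2)
    (hG : Ab2 G) (K N : Subgroup G) [hKn' : K.Normal] [N.Normal] (hK : IsPGroup p K) :
    Cfsg.IsPStableOnSection p K N := by
  intro a ha
  have hsurj := QuotientGroup.mk'_surjective N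
  have hKn : (K.map (QuotientGroup.mk' N)).Normal := hKn'.map _ hsurj
  have hKp : IsPGroup p (K.map (QuotientGroup.mk' N)) := hK.map _
  have hst := pStableOn_of_ab2 hp (hG.of_surjective _ hsurj) _ hKp
  refine ⟨(stabL p (K.map (QuotientGroup.mk' N))).comap (QuotientGroup.mk' N),
    inferInstance, ?_, ?_, ?_⟩
  · exact Subgroup.comap_mono (centralizer_le_stabL p _)
  · obtain ⟨k, hk⟩ := IsPGroup.iff_card.1 (pCore_isPGroup (G := (G ⧸ N) ⧸ Subgroup.centralizer
      ((K.map (QuotientGroup.mk' N) : Subgroup (G ⧸ N)) : Set (G ⧸ N))) p)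
    refine ⟨k, ?_⟩
    unfold Cfsg.sectionKernel
    rw [Subgroup.relIndex_comap, Subgroup.map_comap_eq_self_of_surjective hsurj, ← hk]
    have h1 := Subgroup.relIndex_ker (QuotientGroup.mk' (Subgroup.centralizer
      ((K.map (QuotientGroup.mk' N) : Subgroup (G ⧸ N)) : Set (G ⧸ N))))
      (K := stabL p (K.map (QuotientGroup.mk' N)))
    rw [QuotientGroup.ker_mk'] at h1
    rw [h1]
    unfold stabL
    rw [Subgroup.map_comap_eq_self_of_surjective (QuotientGroup.mk'_surjective _)]
  · apply hst (QuotientGroup.mk' N a)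
    rw [← MonoidHom.map_zpowers, ← Subgroup.map_commutator, ← Subgroup.map_commutator,
      Subgroup.map_eq_bot_iff, QuotientGroup.ker_mk']
    exact ha

/-- For odd p, groups whose Sylow 2-subgroups are abelian are p-stable in the action sense. -/
theorem result {G : Type*} [Group G] [Finite G] {p : ℕ} [Fact p.Prime] (hp : p ≠ 2) (hab : ∀ T : Sylow 2 G, IsMulCommutative T) : Cfsg.IsActionPStable p G := by
  have hG : Ab2 G := ab2_of_forall hab
  refine ⟨?_, ?_, ?_⟩
  · intro V _ hV
    exact pStableOn_of_ab2 hp hG V (Cfsg.Agent.Lib.Helper6.Trace.ea_iff.1 hV).isPGroup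
  · exact section_stable hp hG _ _ (pCore_isPGroup p)
  · intro S V _ hV
    apply pStableOn_of_ab2 hp (hG.subgroup _) V
    have h1 : IsPGroup p (V.map (Subgroup.normalizer
        (Cfsg.thompsonSubgroupOf p (S : Subgroup G) : Set G)).subtype) :=
      S.2.to_le (hV.trans (Subgroup.map_subtype_le _))
    exact h1.of_equiv (V.equivMapOfInjective _ (Subgroup.subtype_injective _)).symm

end Cfsg.Agent.S0626
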