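import Cfsg.Statements.S0628
import Cfsg.Agent.Lib.Helper3.WS2
import Cfsg.Agent.S0626
import Cfsg.Agent.Lib.Helper1.FunctZJ
open Cfsg.Agent.Lib.Helper3.WS Cfsg.Agent.Lib.Helper1 Cfsg.Agent.Lib.Helper3.PStab Cfsg.Agent.Lib.Helper3.PLocal

set_option autoImplicit false
open Cfsg

namespace Cfsg.Agent.S0628

theorem stable_of_ab2 {G : Type*} [Group G] [Finite G] {p : ℕ} [Fact p.Prime] (hp : p ≠ 2)
    (hG : Ab2 G) : Cfsg.IsActionPStable p G := by
  refine ⟨?_, ?_, ?_⟩
  · intro V _ hV
    exact pStableOn_of_ab2 hp hG V (Cfsg.Agent.Lib.Helper6.Trace.ea_iff.1 hV).isPGroup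
  · exact Cfsg.Agent.S0626.section_stable hp hG _ _ (pCore_isPGroup p)
  · intro S V _ hV
    apply pStableOn_of_ab2 hp (hG.subgroup _) V
    have h1 : IsPGroup p (V.map (Subgroup.normalizer
        (Cfsg.thompsonSubgroupOf p (S : Subgroup G) : Set G)).subtype) :=
      S.2.to_le (hV.trans (Subgroup.map_subtype_le _))
    exact h1.of_equiv (V.equivMapOfInjective _ (Subgroup.subtype_injective _)).symm

/-- The normal p-complement Theorem of Thompson in the form with W(S): for odd p, G has a normal p-complement as soon as the normalizer of the characteristic subgroup W(S) of a Sylow p-subgroup S has one. -/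
theorem result {G : Type*} [Group G] [Finite G] {p : ℕ} [Fact p.Prime] (hp : p ≠ 2) (S : Sylow p G) (hN : Cfsg.HasNormalPComplement p ↥(Subgroup.normalizer (((Cfsg.stableNormalClosure p ↥(S : Subgroup G)).map (S : Subgroup G).subtype) : Set G))) : Cfsg.HasNormalPComplement p G := by
  refine functor_main (ι := Unit) (W := fun _ => Cfsg.stableNormalClosure p) (fun _ => charP_W p)
    (fun X _ => True) (fun X _ _ L => trivial) (fun X _ _ N _ => trivial) ?_ _ G rfl trivial
    ⟨S, fun _ => hN⟩
  intro X _ _ _ _ _ h1 h2 h3 hHyp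
  obtain ⟨S⟩ : Nonempty (Sylow p X) := inferInstance
  have hab := ab2_final hp h2 S (h3 S)
  have h4 : (WG p (S : Subgroup X)).Normal := WG_normal (stable_of_ab2 hp hab) h1 S
  have h5 := hHyp.all (fun _ => charP_W p) S ()
  change Cfsg.HasNormalPComplement p ↥(Subgroup.normalizer ((WG p (S : Subgroup X) : Subgroup X) : Set X)) at h5
  rw [Subgroup.normalizer_eq_top_iff.mpr h4] at h5
  exact pn_top_iff.mp h5

end Cfsg.Agent.S0628
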