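import Cfsg.Statements.S0629
import Cfsg.Agent.Lib.Helper3.PLen
open Cfsg.Agent.Lib.Helper3.PLocal Cfsg.Agent.Lib.Helper1 Cfsg.Agent.Lib.Helper6.Ores Cfsg.Agent.Lib.Helper6.Basic
  Cfsg.Agent.Lib.Helper6.Subn Cfsg.Agent.Lib.Helper6.Quasi Cfsg.Agent.Lib.Helper6.FStar Cfsg.Agent.Lib.Helper6.Rad Cfsg.Agent.Lib.Helper6.PAct Cfsg.Agent.Lib.Helper6.CharP Cfsg.Agent.Lib.Helper9.PSolv

set_option autoImplicit false
open Cfsg

namespace Cfsg.Agent.S0629

/-- A group in which the centralizer of a Sylow p-subgroup of O_{p',p}(G) is p-solvable is p-constrained. -/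
theorem result {G : Type*} [Group G] [Finite G] {p : ℕ} [Fact p.Prime] (P : Sylow p ↥(Cfsg.pPrimePCore p G)) (hsol : Cfsg.IsPSolvable p ↥(Subgroup.centralizer (((P : Subgroup ↥(Cfsg.pPrimePCore p G)).map (Cfsg.pPrimePCore p G).subtype : Subgroup G) : Set G))) : Cfsg.IsPConstrained p G := by
  rw [pConstrained_iff]
  have hP₁ := syl_of_sylow' P
  have e := map_syl_pPrimePCore hP₁
  have eC := map_centralizer_bar hP₁.2.1
  rw [e] at eC
  have hsolC : Cfsg.IsPSolvable p ↥(Cz (Cfsg.pCore p (G ⧸ Cfsg.pPrimeCore p G))) := by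
    rw [← eC]
    exact of_surjective (Fact.out : p.Prime) ((QuotientGroup.mk' (Cfsg.pPrimeCore p G)).subgroupMap _)
      (MonoidHom.subgroupMap_surjective _ _) hsol
  have hsn : SN (Cz (Cfsg.pCore p (G ⧸ Cfsg.pPrimeCore p G))) ⊤ :=
    SN.of_normal_top inferInstance
  have hbot : Cfsg.pPrimeCore p ↥(Cz (Cfsg.pCore p (G ⧸ Cfsg.pPrimeCore p G))) = ⊥ := by
    have h1 := map_pPrimeCore p (Cz (Cfsg.pCore p (G ⧸ Cfsg.pPrimeCore p G)))
    rw [Op'_eq_inf_of_sn hsn, ← pPrimeCore_eq, pPrimeCore_quotient_eq_bot p _ rfl, bot_inf_eq] at h1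
    exact (Subgroup.map_eq_bot_iff_of_injective _ (Subgroup.subtype_injective _)).1 h1
  have hch : ChP p (Cz (Cfsg.pCore p (G ⧸ Cfsg.pPrimeCore p G))) :=
    (chP_bridge p _).1 (hall_higman hsolC hbot)
  have hOp : Op p (Cz (Cfsg.pCore p (G ⧸ Cfsg.pPrimeCore p G))) ≤
      Cfsg.pCore p (G ⧸ Cfsg.pPrimeCore p G) := by
    rw [Op_eq_inf_of_sn hsn, ← pCore_eq]; exact inf_le_left
  intro x hx
  apply hOp
  apply hch
  exact Subgroup.mem_inf.2 ⟨hx, Subgroup.centralizer_le (by exact_mod_cast hOp) hx⟩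

end Cfsg.Agent.S0629
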