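import Cfsg.Statements.S0632
import Cfsg.Agent.Lib.Helper3.Bar6
open scoped commutatorElement
open Cfsg.Agent.Lib.Helper3.PLocal Cfsg.Agent.Lib.Helper1

set_option autoImplicit false
open Cfsg

namespace Cfsg.Agent.S0632

/-- For a group with a nontrivial normal p-subgroup, p-stability passes to and from the quotient by the largest normal subgroup of order prime to p. -/
theorem result {G : Type*} [Group G] [Finite G] {p : ℕ} [Fact p.Prime] (hO : Cfsg.pCore p G ≠ ⊥) : Cfsg.IsPStable p G ↔ Cfsg.IsPStable p (G ⧸ Cfsg.pPrimeCore p G) := by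
  have hOc := pPrimeCore_coprime (G := G) p
  have hsurj := QuotientGroup.mk'_surjective (Cfsg.pPrimeCore p G)
  have hbot : Cfsg.pPrimeCore p (G ⧸ Cfsg.pPrimeCore p G) = ⊥ :=
    Cfsg.Agent.Lib.Helper1.pPrimeCore_quotient_eq_bot p _ rfl
  have hker : (QuotientGroup.mk' (Cfsg.pPrimeCore p G)).ker = Cfsg.pPrimeCore p G :=
    QuotientGroup.ker_mk' _
  have hle : Cfsg.pCore p (G ⧸ Cfsg.pPrimeCore p G) ≤
      Cfsg.pPrimePCore p (G ⧸ Cfsg.pPrimeCore p G) := by
    intro y hy
    rw [mem_pPrimePCore]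
    exact map_pCore_le_of_surjective p _ (QuotientGroup.mk'_surjective _) ⟨y, hy, rfl⟩
  have hObar : Cfsg.pCore p (G ⧸ Cfsg.pPrimeCore p G) ≠ ⊥ := by
    intro h
    apply hO
    have h1 := map_pCore_le_of_surjective p _ hsurj
    rw [h, le_bot_iff, Subgroup.map_eq_bot_iff, hker] at h1
    rw [eq_bot_iff, ← pgroup_inf_p' (pCore_isPGroup p) hOc]
    exact le_inf le_rfl h1
  constructor
  · intro hs
    refine ⟨hs.1, hObar, ?_⟩
    intro Ab Bb hAp hBp hnormb hBK hsupn hquadb
    rw [hbot, bot_sup_eq] at hsupn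
    have hAN : Ab ≤ Subgroup.normalizer (Bb : Set (G ⧸ Cfsg.pPrimeCore p G)) := by
      rw [Subgroup.normalizer_eq_top]; exact le_top
    -- a Sylow subgroup containing both
    have hABp : IsPGroup p (Ab ⊔ Bb : Subgroup (G ⧸ Cfsg.pPrimeCore p G)) :=
      IsPGroup.to_sup_of_normal_right hAp hBp
    obtain ⟨Sb, hSb⟩ := hABp.exists_le_sylow
    obtain ⟨S0⟩ : Nonempty (Sylow p G) := inferInstance
    obtain ⟨gb, hgb⟩ := MulAction.exists_smul_eq (G ⧸ Cfsg.pPrimeCore p G)
      (S0.mapSurjective hsurj) Sb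
    obtain ⟨g, rfl⟩ := hsurj gb
    have hSbeq : (Sb : Subgroup (G ⧸ Cfsg.pPrimeCore p G)) =
        ((g • S0 : Sylow p G) : Subgroup G).map (QuotientGroup.mk' (Cfsg.pPrimeCore p G)) := by
      rw [← hgb, Sylow.coe_subgroup_smul, Sylow.coe_mapSurjective, Sylow.coe_subgroup_smul]
      ext y
      constructor
      · rintro ⟨_, ⟨s, hs, rfl⟩, rfl⟩
        exact ⟨g * s * g⁻¹, ⟨s, hs, rfl⟩, by simp [MulAut.smul_def]⟩
      · rintro ⟨_, ⟨s, hs, rfl⟩, rfl⟩
        exact ⟨_, ⟨s, hs, rfl⟩, by simp [MulAut.smul_def]⟩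
    generalize (g • S0 : Sylow p G) = S at hSbeq
    have hAS : Ab ≤ (S : Subgroup G).map (QuotientGroup.mk' (Cfsg.pPrimeCore p G)) := by
      rw [← hSbeq]; exact le_sup_left.trans hSb
    have hBS : Bb ≤ (S : Subgroup G).map (QuotientGroup.mk' (Cfsg.pPrimeCore p G)) := by
      rw [← hSbeq]; exact le_sup_right.trans hSb
    generalize hπ : QuotientGroup.mk' (Cfsg.pPrimeCore p G) = π at *
    have hmapB : ((S : Subgroup G) ⊓ Bb.comap π).map π = Bb := by
      apply le_antisymm
      · rintro _ ⟨x, hx, rfl⟩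
        exact hx.2
      · intro y hy
        obtain ⟨s, hs, rfl⟩ := hBS hy
        exact ⟨s, Subgroup.mem_inf.2 ⟨hs, hy⟩, rfl⟩
    have hmapA : ((S : Subgroup G) ⊓ Ab.comap π).map π = Ab := by
      apply le_antisymm
      · rintro _ ⟨x, hx, rfl⟩
        exact hx.2
      · intro y hy
        obtain ⟨s, hs, rfl⟩ := hAS hy
        exact ⟨s, Subgroup.mem_inf.2 ⟨hs, hy⟩, rfl⟩
    generalize hB : (S : Subgroup G) ⊓ Bb.comap π = B at *
    generalize hA : (S : Subgroup G) ⊓ Ab.comap π = A at *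
    have hBS' : B ≤ S := by rw [← hB]; exact inf_le_left
    have hAS' : A ≤ S := by rw [← hA]; exact inf_le_left
    have hBp' : IsPGroup p B := S.2.to_le hBS'
    have hAp' : IsPGroup p A := S.2.to_le hAS'
    have hnorm : ∀ a ∈ A, ∀ x ∈ B, a * x * a⁻¹ ∈ B := by
      intro a ha x hx
      rw [← hB] at hx ⊢
      refine Subgroup.mem_inf.2 ⟨Subgroup.mul_mem _ (Subgroup.mul_mem _ (hAS' ha) hx.1)
        (Subgroup.inv_mem _ (hAS' ha)), ?_⟩
      change π (a * x * a⁻¹) ∈ Bb
      rw [map_mul, map_mul, map_inv]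
      exact hsupn.conj_mem _ hx.2 _
    have hBK' : B ≤ Cfsg.pPrimePCore p G := by
      intro x hx
      rw [mem_pPrimePCore, hπ]
      apply le_pCore hsupn hBp
      rw [← hmapB]
      exact ⟨x, hx, rfl⟩
    have hsup : Cfsg.pPrimeCore p G ⊔ B = Bb.comap π := by
      rw [← hmapB, Subgroup.comap_map_eq, hker, sup_comm]
    have hsupn' : (Cfsg.pPrimeCore p G ⊔ B).Normal := by
      rw [hsup]; exact hsupn.comap π
    have hquad : ⁅⁅B, A⁆, A⁆ = ⊥ := by
      have h1 : ⁅⁅B, A⁆, A⁆ ≤ S := by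
        refine (Subgroup.commutator_mono (Subgroup.commutator_mono hBS' hAS') hAS').trans ?_
        exact (Subgroup.commutator_mono (Subgroup.commutator_le_self _) le_rfl).trans
          (Subgroup.commutator_le_self _)
      have h2 : ⁅⁅B, A⁆, A⁆ ≤ Cfsg.pPrimeCore p G := by
        rw [← hker, ← Subgroup.map_eq_bot_iff, Subgroup.map_commutator, Subgroup.map_commutator,
          hmapA, hmapB, hquadb]
      rw [eq_bot_iff, ← pgroup_inf_p' S.2 hOc]
      exact le_inf h1 h2
    have key := hs.2.2 A B hAp' hBp' hnorm hBK' hsupn' hquad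
    have hAN' : A ≤ Subgroup.normalizer (B : Set G) := by
      intro a ha
      apply Subgroup.mem_normalizer_fintype
      intro x hx
      exact hnorm a ha x hx
    have := (stabC_transfer hOc hBp' hAN').1 key
    rw [hπ, hmapA, hmapB] at this
    exact this
  · intro hs
    refine ⟨hs.1, hO, ?_⟩
    intro A B hAp hBp hnorm hBK hsupn hquad
    have hAN' : A ≤ Subgroup.normalizer (B : Set G) := by
      intro a ha
      apply Subgroup.mem_normalizer_fintype
      intro x hx
      exact hnorm a ha x hx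
    apply (stabC_transfer hOc hBp hAN').2
    have hBn : (B.map (QuotientGroup.mk' (Cfsg.pPrimeCore p G))).Normal := by
      have h1 : B.map (QuotientGroup.mk' (Cfsg.pPrimeCore p G)) =
          (Cfsg.pPrimeCore p G ⊔ B).map (QuotientGroup.mk' (Cfsg.pPrimeCore p G)) := by
        rw [Subgroup.map_sup, (Subgroup.map_eq_bot_iff _).2 hker.ge, bot_sup_eq]
      rw [h1]
      exact hsupn.map _ hsurj
    apply hs.2.2 _ _ (hAp.map _) (hBp.map _)
    · intro a _ x hx
      exact hBn.conj_mem x hx a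
    · exact (le_pCore hBn (hBp.map _)).trans hle
    · rw [hbot, bot_sup_eq]; exact hBn
    · rw [← Subgroup.map_commutator, ← Subgroup.map_commutator, hquad, Subgroup.map_bot]

end Cfsg.Agent.S0632
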