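import Cfsg.Statements.S0648
import Cfsg.Agent.Lib.Helper3.Repl
open Cfsg.Agent.Lib.Helper3.PLocal Cfsg.Agent.Lib.Helper1
open scoped commutatorElement

set_option autoImplicit false
open Cfsg

namespace Cfsg.Agent.S0648

/-- If A acts on B centralizing [B, B], then [B, A] has derived subgroup central in B, and for abelian A and b ∈ B with [[b, A], A, A] = 1 the derived subgroup of the subgroup [b, A] generated by the commutators of b with A has exponent dividing 2. -/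
theorem result {G : Type*} [Group G] [Finite G] (A B : Subgroup G) (hAB : A ≤ Subgroup.normalizer (B : Set G)) (hc : ⁅⁅B, B⁆, A⁆ = ⊥) : ⁅⁅B, A⁆, ⁅B, A⁆⁆ ≤ B ⊓ Subgroup.centralizer (B : Set G) ∧ (IsMulCommutative A → ∀ b ∈ B, ⁅⁅(Subgroup.closure {g : G | ∃ a ∈ A, g = b⁻¹ * a * b * a⁻¹}), A⁆, A⁆ = ⊥ → ∀ w ∈ ⁅(Subgroup.closure {g : G | ∃ a ∈ A, g = b⁻¹ * a * b * a⁻¹}), (Subgroup.closure {g : G | ∃ a ∈ A, g = b⁻¹ * a * b * a⁻¹})⁆, w ^ 2 = 1) := by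
  have hK : ⁅B, A⁆ ≤ B := commutator_le_of_le_normalizer hAB
  have h2 := repl_center2 hAB hc
  refine ⟨le_inf ((Subgroup.commutator_le_self _).trans hK)
    (Subgroup.commutator_eq_bot_iff_le_centralizer.1 h2), ?_⟩
  intro hA b hb hq
  have hAc : ∀ a ∈ A, ∀ a₁ ∈ A, a * a₁ = a₁ * a := fun a ha a₁ ha₁ =>
    congrArg Subtype.val (hA.is_comm.comm ⟨a, ha⟩ ⟨a₁, ha₁⟩)
  have hgen : ∀ a : G, b⁻¹ * a * b * a⁻¹ = ⁅b⁻¹, a⁆ := by
    intro a
    rw [commutatorElement_def, inv_inv]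
  have hT : {g : G | ∃ a ∈ A, g = b⁻¹ * a * b * a⁻¹} ⊆ (⁅B, A⁆ : Subgroup G) := by
    rintro g ⟨a, ha, rfl⟩
    rw [hgen]
    exact Subgroup.commutator_mem_commutator (B.inv_mem hb) ha
  apply sq_eq_one_of_gen (K := ⁅B, A⁆)
    (fun z hz x hx => comm_of_commutator_bot h2 hz (hK hx)) hT
  rintro x ⟨a, ha, rfl⟩ y ⟨a₁, ha₁, rfl⟩
  rw [hgen, hgen]
  refine repl_sq_gen hAB hc hAc (B.inv_mem hb)
    (X := Subgroup.closure {g : G | ∃ a ∈ A, g = b⁻¹ * a * b * a⁻¹}) ?_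
    ((Subgroup.closure_le _).2 hT) hq ha ha₁
  intro a ha
  exact Subgroup.subset_closure ⟨a, ha, (hgen a).symm⟩

end Cfsg.Agent.S0648
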