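import Cfsg.Statements.S0649

set_option autoImplicit false
open Cfsg

namespace Cfsg.Agent.S0649

/-- In the Glauberman replacement situation, if B does not normalize A then some element of B normalizes N_S(A) without normalizing A. -/
theorem result {S : Type*} [Group S] [Finite S] {p : ℕ} [Fact p.Prime] (hS : IsPGroup p S) (B : Subgroup S) [B.Normal] (hB2 : p = 2 → IsMulCommutative B) (A : Subgroup S) (hA : IsMulCommutative A) (hBA : ⁅B, B⁆ ≤ A) (hnot : ¬ B ≤ Subgroup.normalizer (A : Set S)) : ∃ b ∈ B, b ∈ Subgroup.normalizer ((Subgroup.normalizer (A : Set S)) : Set S) ∧ b ∉ Subgroup.normalizer (A : Set S) := by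
  classical
  have : Group.IsNilpotent S := hS.isNilpotent
  obtain ⟨n, hn⟩ := Group.IsNilpotent.nilpotent (G := S)
  have hex : ∃ n, ¬ B ⊓ Subgroup.upperCentralSeries S n ≤ Subgroup.normalizer (A : Set S) :=
    ⟨n, by rw [hn, inf_top_eq]; exact hnot⟩
  have hmin : ∀ k, k < Nat.find hex → ¬ ¬ B ⊓ Subgroup.upperCentralSeries S k ≤
      Subgroup.normalizer (A : Set S) := fun k hk => Nat.find_min hex hk
  have hspec := Nat.find_spec hex
  generalize Nat.find hex = m at hmin hspec
  cases m with
  | zero =>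
    exfalso
    apply hspec
    rw [Subgroup.upperCentralSeries_zero, inf_bot_eq]
    exact bot_le
  | succ m =>
    have hm : B ⊓ Subgroup.upperCentralSeries S m ≤ Subgroup.normalizer (A : Set S) := by
      exact not_not.1 (hmin m (Nat.lt_succ_self m))
    obtain ⟨b, hb, hbN⟩ := SetLike.not_le_iff_exists.1 hspec
    refine ⟨b, hb.1, ?_, hbN⟩
    apply Subgroup.mem_normalizer_fintype
    intro x hx
    have h1 : b * x * b⁻¹ * x⁻¹ ∈ Subgroup.upperCentralSeries S m := by
      have := (Subgroup.mem_upperCentralSeries_succ_iff).1 hb.2 x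
      rwa [commutatorElement_def] at this
    have h2 : b * x * b⁻¹ * x⁻¹ ∈ B := by
      have : b * x * b⁻¹ * x⁻¹ = b * (x * b⁻¹ * x⁻¹) := by group
      rw [this]
      exact B.mul_mem hb.1 (‹B.Normal›.conj_mem _ (B.inv_mem hb.1) x)
    have h3 := hm (Subgroup.mem_inf.2 ⟨h2, h1⟩)
    have h4 : b * x * b⁻¹ = (b * x * b⁻¹ * x⁻¹) * x := by group
    rw [h4]
    exact Subgroup.mul_mem _ h3 hx

end Cfsg.Agent.S0649
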