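import Mathlib
import Cfsg.Statements.S0740
import Cfsg.Agent.S0338
import Cfsg.Agent.S0738

set_option autoImplicit false
open Cfsg

namespace Cfsg.Agent.S0740

open MulAction

theorem card_fixedBy_modEq {G Ω : Type*} [Group G] [MulAction G Ω] [Fintype Ω] (s : G)
    (hs : orderOf s = 2) : Fintype.card Ω ≡ Nat.card (fixedBy Ω s) [MOD 2] := by
  have hp : IsPGroup 2 (Subgroup.zpowers s) := by
    apply IsPGroup.of_card (n := 1)
    rw [Nat.card_zpowers, hs, pow_one]
  haveI : Fact (Nat.Prime 2) := ⟨Nat.prime_two⟩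
  have hmod := hp.card_modEq_card_fixedPoints Ω
  have : fixedPoints (Subgroup.zpowers s) Ω = fixedBy Ω s := by
    ext c
    rw [mem_fixedPoints, mem_fixedBy]
    constructor
    · intro h
      exact h ⟨s, Subgroup.mem_zpowers s⟩
    · intro h z
      have : Subgroup.zpowers s ≤ stabilizer G c := Subgroup.zpowers_le.mpr h
      exact this z.2
  rw [this, Nat.card_eq_fintype_card] at hmod
  exact hmod

theorem card_fixedBy_le {G Ω : Type*} [Group G] [MulAction G Ω] [Fintype Ω]
    (h3 : ∀ g : G, ∀ a b c : Ω, a ≠ b → b ≠ c → a ≠ c → g • a = a → g • b = b → g • c = c → g = 1)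
    (s : G) (hs : s ≠ 1) : Nat.card (fixedBy Ω s) ≤ 2 := by
  by_contra hcon
  push Not at hcon
  have h : 2 < (fixedBy Ω s).ncard := hcon
  rw [Set.two_lt_ncard_iff] at h
  obtain ⟨x, y, z, hx, hy, hz, hxy, hxz, hyz⟩ := h
  exact hs (h3 s x y z hxy hyz hxz hx hy hz)

/-- In a finite Zassenhaus group any two points `a ≠ b` are swapped by an involution; every such involution has exactly one fixed point when the degree is odd and 0 or 2 fixed points when the degree is even; and if the two-point stabiliser has even order, some such involution has exactly 2 fixed points. -/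
theorem result {G Ω : Type*} [Group G] [Finite G] [MulAction G Ω] [Fintype Ω] (hZ : Cfsg.IsZassenhausGroup G Ω) {a b : Ω} (hab : a ≠ b) : (∃ s : G, orderOf s = 2 ∧ s • a = b ∧ s • b = a) ∧ (∀ s : G, orderOf s = 2 → s • a = b → s • b = a → (Odd (Fintype.card Ω) → Nat.card (MulAction.fixedBy Ω s) = 1) ∧ (Even (Fintype.card Ω) → Nat.card (MulAction.fixedBy Ω s) = 0 ∨ Nat.card (MulAction.fixedBy Ω s) = 2)) ∧ (Even (Fintype.card Ω) → Even (Nat.card ↥(MulAction.stabilizer G a ⊓ MulAction.stabilizer G b)) → ∃ s : G, orderOf s = 2 ∧ s • a = b ∧ s • b = a ∧ Nat.card (MulAction.fixedBy Ω s) = 2) := by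
  classical
  have h3c := S0738.three_le_card hZ
  obtain ⟨hfaith, h2t, h3, -, -⟩ := hZ
  have h2 : ∀ {a b c d : Ω}, a ≠ b → c ≠ d → ∃ g : G, g • a = c ∧ g • b = d :=
    is_two_pretransitive_iff.mp h2t
  have hne1 : ∀ s : G, orderOf s = 2 → s ≠ 1 := by
    rintro s hs rfl
    rw [orderOf_one] at hs
    omega
  -- conjugating an involution moving c
  have conj : ∀ (z : G) (c : Ω), orderOf z = 2 → z • c ≠ c →
      ∃ g : G, orderOf (g * z * g⁻¹) = 2 ∧ (g * z * g⁻¹) • a = b ∧ (g * z * g⁻¹) • b = a := by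
    intro z c hz hc
    have hzz : z • (z • c) = c := by
      rw [← mul_smul, ← pow_two, ← hz, pow_orderOf_eq_one, one_smul]
    obtain ⟨g, hgc, hgd⟩ := h2 (Ne.symm hc) hab
    refine ⟨g, ?_, ?_, ?_⟩
    · rw [← hz]; exact (MulAut.conj g).orderOf_eq z
    · rw [← hgc, mul_smul, mul_smul, inv_smul_smul, hgd]
    · rw [← hgd, mul_smul, mul_smul, inv_smul_smul, hzz, hgc]
  have part2 : ∀ s : G, orderOf s = 2 →
      (Odd (Fintype.card Ω) → Nat.card (MulAction.fixedBy Ω s) = 1) ∧ (Even (Fintype.card Ω) → Nat.card (MulAction.fixedBy Ω s) = 0 ∨ Nat.card (MulAction.fixedBy Ω s) = 2) := by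
    intro s hs
    have hmod := card_fixedBy_modEq (Ω := Ω) s hs
    have hle := card_fixedBy_le h3 s (hne1 s hs)
    have hmod' : Fintype.card Ω % 2 = Nat.card (fixedBy Ω s) % 2 := hmod
    constructor
    · intro hodd
      rw [Nat.odd_iff] at hodd
      omega
    · intro heven
      rw [Nat.even_iff] at heven
      omega
  refine ⟨?_, fun s hs _ _ => part2 s hs, ?_⟩
  · obtain ⟨t, hta, htb⟩ := h2 hab hab.symm
    have heven : 2 ∣ orderOf t := by
      by_contra hcon
      obtain ⟨k, hk⟩ : Odd (orderOf t) := Nat.odd_iff.mpr (by omega)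
      have := (S0338.swap_pow t a b hta htb k).2
      rw [← hk, pow_orderOf_eq_one, one_smul] at this
      exact hab this
    obtain ⟨s, hs⟩ : ∃ s : G, orderOf s = 2 :=
      ⟨_, orderOf_pow_orderOf_div (orderOf_pos t).ne' heven⟩
    obtain ⟨c, hc⟩ : ∃ c : Ω, s • c ≠ c := by
      by_contra hcon
      push Not at hcon
      apply hne1 s hs
      apply hfaith.eq_of_smul_eq_smul
      intro c
      rw [hcon c, one_smul]
    obtain ⟨g, h⟩ := conj s c hs hc
    exact ⟨_, h⟩
  · intro hn hE
    haveI : Fact (Nat.Prime 2) := ⟨Nat.prime_two⟩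
    obtain ⟨z, hz⟩ := exists_prime_orderOf_dvd_card' (G := ↥(stabilizer G a ⊓ stabilizer G b)) 2
      hE.two_dvd
    rw [← Subgroup.orderOf_coe] at hz
    obtain ⟨c, hca, hcb⟩ : ∃ c : Ω, c ≠ a ∧ c ≠ b := by
      by_contra hcon
      push Not at hcon
      have : (Finset.univ : Finset Ω) ⊆ {a, b} := by
        intro c _
        by_cases hc : c = a
        · simp [hc]
        · simp [hcon c hc]
      have h5 := Finset.card_le_card this
      have h6 : ({a, b} : Finset Ω).card ≤ 2 := Finset.card_le_two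
      rw [Finset.card_univ] at h5
      omega
    have hzc : z.1 • c ≠ c := by
      intro h
      exact hne1 _ hz (h3 z.1 a b c hab hcb.symm hca.symm z.2.1 z.2.2 h)
    obtain ⟨g, h1, h4, h5⟩ := conj z.1 c hz hzc
    refine ⟨_, h1, h4, h5, ?_⟩
    rcases (part2 _ h1).2 hn with h | h
    · exfalso
      have hmemf : g • a ∈ fixedBy Ω (g * z.1 * g⁻¹) := by
        rw [mem_fixedBy, mul_smul, mul_smul, inv_smul_smul, show z.1 • a = a from z.2.1]
      have : (fixedBy Ω (g * z.1 * g⁻¹)).ncard = 0 := h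
      rw [Set.ncard_eq_zero] at this
      rw [this] at hmemf
      exact hmemf
    · exact h

end Cfsg.Agent.S0740
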