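import Cfsg.Statements.S0842
import Cfsg.Agent.Lib.Helper3.Quat
import Cfsg.Agent.Lib.Helper3.CN

set_option autoImplicit false
open Cfsg

namespace Cfsg.Agent.S0842

theorem pres_map {G : Type*} [Group G] (L : Subgroup G) :
    (Cfsg.pResidual 2 ↥L).map L.subtype =
      Subgroup.closure {g : G | g ∈ L ∧ (orderOf g).Coprime 2} := by
  unfold Cfsg.pResidual
  rw [MonoidHom.map_closure]
  congr 1
  ext g
  constructor
  · rintro ⟨x, hx, rfl⟩
    refine ⟨x.2, ?_⟩
    have hx' : (orderOf x).Coprime 2 := hx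
    rw [← Subgroup.orderOf_coe] at hx'
    exact hx'
  · rintro ⟨hg, hgo⟩
    refine ⟨⟨g, hg⟩, ?_, rfl⟩
    change (orderOf (⟨g, hg⟩ : L)).Coprime 2
    rw [Subgroup.orderOf_mk]
    exact hgo

theorem norm_zpowers {X : Type*} [Group X] {t q : X} (hq : q * t * q⁻¹ = t) :
    q ∈ Subgroup.normalizer (Subgroup.zpowers t : Set X) := by
  have hq' : q⁻¹ * t * q = t := by
    nth_rewrite 1 [← hq]; group
  rw [Subgroup.mem_normalizer_iff]
  intro x
  constructor
  · intro hx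
    obtain ⟨i, rfl⟩ := Subgroup.mem_zpowers_iff.1 hx
    rw [← conj_zpow, hq]
    exact Subgroup.zpow_mem _ (Subgroup.mem_zpowers t) i
  · intro hx
    obtain ⟨i, hi⟩ := Subgroup.mem_zpowers_iff.1 hx
    have e1 : x = (q⁻¹ * t * q) ^ i := by
      have e2 := conj_zpow (a := q⁻¹) (b := t) (i := i)
      rw [inv_inv] at e2
      rw [e2, hi]; group
    rw [e1, hq']
    exact Subgroup.zpow_mem _ (Subgroup.mem_zpowers t) i

/-- Suppose a Sylow 2-subgroup S of the finite group G is generalized quaternion of order at least 16, and let D be the commutator subgroup of S, C its centralizer and N its normalizer in G. Then there is a subgroup K of odd order, contained in C and normalized by N, with K ⊔ S = N and K ⊔ (S ⊓ C) = C, and C has index 2 in N. -/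
theorem result {G : Type*} [Group G] [Finite G] (S : Sylow 2 G) (n : ℕ) (e : (S : Subgroup G) ≃* QuaternionGroup (2 ^ (n + 2))) (D : Subgroup G) (hD : D = ⁅(S : Subgroup G), (S : Subgroup G)⁆) : ∃ K : Subgroup G, Odd (Nat.card K) ∧ K ≤ Subgroup.centralizer (D : Set G) ∧ Subgroup.normalizer (D : Set G) ≤ Subgroup.normalizer (K : Set G) ∧ K ⊔ (S : Subgroup G) = Subgroup.normalizer (D : Set G) ∧ K ⊔ ((S : Subgroup G) ⊓ Subgroup.centralizer (D : Set G)) = Subgroup.centralizer (D : Set G) ∧ ((Subgroup.centralizer (D : Set G)).subgroupOf (Subgroup.normalizer (D : Set G))).index = 2 := by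
  haveI : Fact (Nat.Prime 2) := ⟨Nat.prime_two⟩
  haveI : NeZero (2 ^ (n + 2)) := ⟨by positivity⟩
  have hDS : D ≤ (S : Subgroup G) := hD ▸ Subgroup.commutator_le_self _
  have hDR : D ≤ Cfsg.Agent.Lib.Helper3.Quat.Rot e := hD ▸ Cfsg.Agent.Lib.Helper3.Quat.comm_le_Rot e
  have hA2 : Cfsg.Agent.Lib.Helper3.Quat.A e 2 ∈ D := hD ▸ Cfsg.Agent.Lib.Helper3.Quat.A_two_mem e
  have h4 : (4 : ZMod (2 * 2 ^ (n + 2))) ≠ 0 := by
    intro h
    have h' : ((4 : ℕ) : ZMod (2 * 2 ^ (n + 2))) = 0 := by exact_mod_cast h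
    rw [ZMod.natCast_eq_zero_iff] at h'
    have h5 := Nat.le_of_dvd (by norm_num) h'
    have h6 : 4 ≤ 2 ^ (n + 2) := by
      rw [pow_add]
      have : 1 ≤ 2 ^ n := Nat.one_le_two_pow
      omega
    omega
  have hSC : ∀ s ∈ (S : Subgroup G), (s ∈ Subgroup.centralizer (D : Set G) ↔
      ∃ i, s = Cfsg.Agent.Lib.Helper3.Quat.A e i) := by
    intro s hs
    constructor
    · intro hsC
      rcases Cfsg.Agent.Lib.Helper3.Quat.cases_mem e hs with h | ⟨i, rfl⟩
      · exact h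
      · exfalso
        have h5 := Subgroup.mem_centralizer_iff.1 hsC _ hA2
        rw [Cfsg.Agent.Lib.Helper3.Quat.A_mul_B, Cfsg.Agent.Lib.Helper3.Quat.B_mul_A] at h5
        exact h4 (by linear_combination -(Cfsg.Agent.Lib.Helper3.Quat.B_inj e h5))
    · rintro ⟨i, rfl⟩
      rw [Subgroup.mem_centralizer_iff]
      intro d hd
      obtain ⟨j, rfl⟩ := hDR hd
      rw [Cfsg.Agent.Lib.Helper3.Quat.A_mul_A, Cfsg.Agent.Lib.Helper3.Quat.A_mul_A, add_comm j i]
  have hSN : (S : Subgroup G) ≤ Subgroup.normalizer (D : Set G) := by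
    intro s hs
    rw [Subgroup.mem_normalizer_iff_map_conj_eq, hD, Subgroup.map_commutator]
    have h5 := (Subgroup.mem_normalizer_iff_map_conj_eq).1 (Subgroup.le_normalizer hs)
    rw [h5]
  have hinvS : ∀ a b : G, a ∈ (S : Subgroup G) → b ∈ (S : Subgroup G) → orderOf a = 2 →
      orderOf b = 2 → a = b := fun a b ha hb hao hbo =>
    (Cfsg.Agent.Lib.Helper3.Quat.uniq_invol e ha hao).trans
      (Cfsg.Agent.Lib.Helper3.Quat.uniq_invol e hb hbo).symm
  have claim1 : ∀ g ∈ Subgroup.normalizer (D : Set G), Odd (orderOf g) →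
      g ∈ Subgroup.centralizer (D : Set G) := by
    intro g hg hodd
    apply Cfsg.Agent.Lib.Helper3.Dih.mem_centralizer_of_conj
    apply Cfsg.Agent.Lib.Helper3.Dih.odd_centralizes_abelian (S.isPGroup'.to_le hDS) _ hg hodd
    · intro a ha hao
      exact hinvS _ _ (hDS ((Subgroup.mem_normalizer_iff.1 hg a).1 ha)) (hDS ha)
        (by rw [Cfsg.Agent.Lib.Helper3.Dih.conj_order, hao]) hao
    · intro a ha b hb
      obtain ⟨i, rfl⟩ := hDR ha
      obtain ⟨j, rfl⟩ := hDR hb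
      rw [Cfsg.Agent.Lib.Helper3.Quat.A_mul_A, Cfsg.Agent.Lib.Helper3.Quat.A_mul_A, add_comm i j]
  have hpnC : Cfsg.HasNormalPComplement 2 (Subgroup.centralizer (D : Set G)) := by
    rw [Cfsg.Agent.Lib.Helper1.pn_subgroup_iff]
    intro Q hQC hQ g hgC hgN hcop
    have hodd : Odd (orderOf g) := Nat.Coprime.odd_of_right hcop
    have hQy' : ∀ q ∈ Q, Cfsg.Agent.Lib.Helper3.Quat.A e 2 * q =
        q * Cfsg.Agent.Lib.Helper3.Quat.A e 2 := fun q hq =>
      Subgroup.mem_centralizer_iff.1 (hQC hq) _ hA2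
    have hQy : ∀ q ∈ Q, q * Cfsg.Agent.Lib.Helper3.Quat.A e 2 * q⁻¹ =
        Cfsg.Agent.Lib.Helper3.Quat.A e 2 := by
      intro q hq
      rw [← hQy' q hq]; group
    have hy2 : IsPGroup 2 (Subgroup.zpowers (Cfsg.Agent.Lib.Helper3.Quat.A e 2)) :=
      S.isPGroup'.to_le (Subgroup.zpowers_le.2 (Cfsg.Agent.Lib.Helper3.Quat.A_mem e 2))
    have hQ1 : IsPGroup 2 (Q ⊔ Subgroup.zpowers (Cfsg.Agent.Lib.Helper3.Quat.A e 2) : Subgroup G) :=
      IsPGroup.to_sup_of_normal_right' hQ hy2 (fun q hq => norm_zpowers (hQy q hq))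
    obtain ⟨h, hh⟩ := Cfsg.Agent.Lib.Helper3.Invol.exists_conj_mem_sylow S hQ1
    have hyS := hh _ (Subgroup.mem_sup_right (Subgroup.mem_zpowers
      (Cfsg.Agent.Lib.Helper3.Quat.A e 2)))
    have hyy : (h * Cfsg.Agent.Lib.Helper3.Quat.A e 2 * h⁻¹) *
        (h * Cfsg.Agent.Lib.Helper3.Quat.A e 2 * h⁻¹) ≠ 1 := by
      intro h5
      have h6 : Cfsg.Agent.Lib.Helper3.Quat.A e 2 * Cfsg.Agent.Lib.Helper3.Quat.A e 2 = 1 := by
        have e1 : Cfsg.Agent.Lib.Helper3.Quat.A e 2 * Cfsg.Agent.Lib.Helper3.Quat.A e 2 =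
            h⁻¹ * ((h * Cfsg.Agent.Lib.Helper3.Quat.A e 2 * h⁻¹) *
            (h * Cfsg.Agent.Lib.Helper3.Quat.A e 2 * h⁻¹)) * h := by group
        rw [e1, h5]; group
      rw [Cfsg.Agent.Lib.Helper3.Quat.A_mul_A, ← Cfsg.Agent.Lib.Helper3.Quat.A_zero e] at h6
      exact h4 (by linear_combination Cfsg.Agent.Lib.Helper3.Quat.A_inj e h6)
    have hcy : ∀ q ∈ Q, (h * q * h⁻¹) * (h * Cfsg.Agent.Lib.Helper3.Quat.A e 2 * h⁻¹) =
        (h * Cfsg.Agent.Lib.Helper3.Quat.A e 2 * h⁻¹) * (h * q * h⁻¹) := by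
      intro q hq
      have e1 : (h * q * h⁻¹) * (h * Cfsg.Agent.Lib.Helper3.Quat.A e 2 * h⁻¹) =
          h * (q * Cfsg.Agent.Lib.Helper3.Quat.A e 2) * h⁻¹ := by group
      have e2 : (h * Cfsg.Agent.Lib.Helper3.Quat.A e 2 * h⁻¹) * (h * q * h⁻¹) =
          h * (Cfsg.Agent.Lib.Helper3.Quat.A e 2 * q) * h⁻¹ := by group
      rw [e1, e2, hQy' q hq]
    apply Cfsg.Agent.Lib.Helper3.Dih.mem_centralizer_of_conj
    apply Cfsg.Agent.Lib.Helper3.Dih.odd_centralizes_abelian hQ _ hgN hodd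
    · intro a ha hao
      have h6 := hinvS _ _ (hh _ (Subgroup.mem_sup_left ((Subgroup.mem_normalizer_iff.1 hgN a).1 ha)))
        (hh _ (Subgroup.mem_sup_left ha))
        (by rw [Cfsg.Agent.Lib.Helper3.Dih.conj_order, Cfsg.Agent.Lib.Helper3.Dih.conj_order, hao])
        (by rw [Cfsg.Agent.Lib.Helper3.Dih.conj_order, hao])
      exact mul_left_cancel (mul_right_cancel h6)
    · intro a ha b hb
      have h7 := Cfsg.Agent.Lib.Helper3.Quat.comm_of_comm e hyS (hh a (Subgroup.mem_sup_left ha))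
        (hh b (Subgroup.mem_sup_left hb)) hyy (hcy a ha) (hcy b hb)
      have e1 : a * b = h⁻¹ * ((h * a * h⁻¹) * (h * b * h⁻¹)) * h := by group
      rw [e1, h7]; group
  have hCN : Subgroup.centralizer (D : Set G) ≤ Subgroup.normalizer (D : Set G) :=
    Subgroup.centralizer_le_normalizer _
  obtain ⟨K, hKdef⟩ : ∃ K : Subgroup G, K = Subgroup.closure
      {g : G | g ∈ Subgroup.centralizer (D : Set G) ∧ (orderOf g).Coprime 2} := ⟨_, rfl⟩
  have hKC : K = (Cfsg.pResidual 2 ↥(Subgroup.centralizer (D : Set G))).map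
      (Subgroup.centralizer (D : Set G)).subtype := by rw [pres_map, hKdef]
  have hKN : K = (Cfsg.pResidual 2 ↥(Subgroup.normalizer (D : Set G))).map
      (Subgroup.normalizer (D : Set G)).subtype := by
    rw [pres_map, hKdef]
    congr 1
    ext g
    constructor
    · rintro ⟨hg, ho⟩
      exact ⟨hCN hg, ho⟩
    · rintro ⟨hg, ho⟩
      exact ⟨claim1 g hg (Nat.Coprime.odd_of_right ho), ho⟩
  have hcopC := Cfsg.Agent.Lib.Helper1.hasNormalPComplement_iff.1 hpnC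
  have hcardK : Nat.card K = Nat.card (Cfsg.pResidual 2 ↥(Subgroup.centralizer (D : Set G))) := by
    rw [hKC, Subgroup.card_map_of_injective (Subgroup.subtype_injective _)]
  have hcopN : (Nat.card (Cfsg.pResidual 2 ↥(Subgroup.normalizer (D : Set G)))).Coprime 2 := by
    rw [← Subgroup.card_map_of_injective (Subgroup.subtype_injective
      (Subgroup.normalizer (D : Set G))), ← hKN, hcardK]
    exact hcopC
  have hcompl := Cfsg.Agent.Lib.Helper1.isComplement'_pResidual hcopN (S.subtype hSN)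
  haveI hnN := Cfsg.Agent.Lib.Helper1.pResidual_normal (G := ↥(Subgroup.normalizer (D : Set G))) 2
  have hKleC : K ≤ Subgroup.centralizer (D : Set G) := by
    rw [hKdef, Subgroup.closure_le]
    exact fun g hg => hg.1
  have decomp : ∀ x ∈ Subgroup.normalizer (D : Set G), ∃ k ∈ K, ∃ s ∈ (S : Subgroup G),
      x = k * s := by
    intro x hx
    have hmem : (⟨x, hx⟩ : Subgroup.normalizer (D : Set G)) ∈
        ((Cfsg.pResidual 2 ↥(Subgroup.normalizer (D : Set G)) ⊔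
          ((S.subtype hSN : Sylow 2 _) : Subgroup _) : Subgroup _) : Set _) := by
      rw [hcompl.sup_eq_top]; trivial
    rw [Subgroup.normal_mul] at hmem
    obtain ⟨k, hk, s, hs, hks⟩ := hmem
    refine ⟨k, by rw [hKN]; exact ⟨k, hk, rfl⟩, s, hs, ?_⟩
    exact (congrArg Subtype.val hks).symm
  refine ⟨K, ?_, hKleC, ?_, ?_, ?_, ?_⟩
  · rw [hcardK]; exact Nat.Coprime.odd_of_right hcopC
  · intro x hx
    rw [hKN]
    have htop : (⟨x, hx⟩ : Subgroup.normalizer (D : Set G)) ∈ Subgroup.normalizer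
        ((Cfsg.pResidual 2 ↥(Subgroup.normalizer (D : Set G)) : Subgroup _) : Set _) :=
      (Subgroup.normalizer_eq_top (H := Cfsg.pResidual 2 ↥(Subgroup.normalizer (D : Set G)))) ▸
        Subgroup.mem_top _
    exact Subgroup.le_normalizer_map _ ⟨⟨x, hx⟩, htop, rfl⟩
  · apply le_antisymm (sup_le (hKleC.trans hCN) hSN)
    intro x hx
    obtain ⟨k, hk, s, hs, rfl⟩ := decomp x hx
    exact mul_mem (Subgroup.mem_sup_left hk) (Subgroup.mem_sup_right hs)
  · apply le_antisymm (sup_le hKleC inf_le_right)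
    intro c hc
    obtain ⟨k, hk, s, hs, rfl⟩ := decomp c (hCN hc)
    have hsC : s ∈ Subgroup.centralizer (D : Set G) :=
      (Subgroup.mul_mem_cancel_left _ (hKleC hk)).1 hc
    exact mul_mem (Subgroup.mem_sup_left hk) (Subgroup.mem_sup_right ⟨hs, hsC⟩)
  · rw [Subgroup.index_eq_two_iff]
    refine ⟨⟨Cfsg.Agent.Lib.Helper3.Quat.B e 0, hSN (Cfsg.Agent.Lib.Helper3.Quat.B_mem e 0)⟩, ?_⟩
    rintro ⟨b, hb⟩
    rw [Subgroup.mem_subgroupOf, Subgroup.mem_subgroupOf]
    change Xor (b * Cfsg.Agent.Lib.Helper3.Quat.B e 0 ∈ Subgroup.centralizer (D : Set G))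
      (b ∈ Subgroup.centralizer (D : Set G))
    obtain ⟨k, hk, s, hs, rfl⟩ := decomp b hb
    have hBn : ∀ i, Cfsg.Agent.Lib.Helper3.Quat.B e i ∉ Subgroup.centralizer (D : Set G) := by
      intro i hi
      obtain ⟨j, hj⟩ := (hSC _ (Cfsg.Agent.Lib.Helper3.Quat.B_mem e i)).1 hi
      exact Cfsg.Agent.Lib.Helper3.Quat.A_ne_B e _ _ hj.symm
    have hAy : ∀ i, Cfsg.Agent.Lib.Helper3.Quat.A e i ∈ Subgroup.centralizer (D : Set G) :=
      fun i => (hSC _ (Cfsg.Agent.Lib.Helper3.Quat.A_mem e i)).2 ⟨i, rfl⟩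
    rw [mul_assoc, Subgroup.mul_mem_cancel_left _ (hKleC hk),
      Subgroup.mul_mem_cancel_left _ (hKleC hk)]
    rcases Cfsg.Agent.Lib.Helper3.Quat.cases_mem e hs with ⟨i, rfl⟩ | ⟨i, rfl⟩
    · rw [Cfsg.Agent.Lib.Helper3.Quat.A_mul_B]
      exact Or.inr ⟨hAy i, hBn _⟩
    · rw [Cfsg.Agent.Lib.Helper3.Quat.B_mul_B]
      exact Or.inl ⟨hAy _, hBn i⟩

end Cfsg.Agent.S0842
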