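import Cfsg.Statements.S0843
import Cfsg.Agent.Lib.Helper3.Quat2

set_option autoImplicit false
open Cfsg

namespace Cfsg.Agent.S0843

/-- Suppose a Sylow 2-subgroup S of the finite group G is generalized quaternion of order at least 16; let D be the commutator subgroup of S and X the set of elements of the centralizer of D whose order is divisible by the order of D. Then D is contained in the cyclic subgroup generated by any element of X; an element of G conjugating some element of X into the centralizer of D normalizes D; and the normalizer of D maps X to itself under conjugation. -/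
theorem result {G : Type*} [Group G] [Finite G] (S : Sylow 2 G) (n : ℕ) (e : (S : Subgroup G) ≃* QuaternionGroup (2 ^ (n + 2))) (D : Subgroup G) (hD : D = ⁅(S : Subgroup G), (S : Subgroup G)⁆) : (∀ y : G, y ∈ Subgroup.centralizer (D : Set G) → Nat.card D ∣ orderOf y → D ≤ Subgroup.zpowers y) ∧ (∀ g y : G, y ∈ Subgroup.centralizer (D : Set G) → Nat.card D ∣ orderOf y → g * y * g⁻¹ ∈ Subgroup.centralizer (D : Set G) → g ∈ Subgroup.normalizer (D : Set G)) ∧ (∀ g y : G, g ∈ Subgroup.normalizer (D : Set G) → y ∈ Subgroup.centralizer (D : Set G) → Nat.card D ∣ orderOf y → g * y * g⁻¹ ∈ Subgroup.centralizer (D : Set G) ∧ Nat.card D ∣ orderOf (g * y * g⁻¹)) := by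
  haveI : Fact (Nat.Prime 2) := ⟨Nat.prime_two⟩
  haveI : NeZero (2 ^ (n + 2)) := ⟨by positivity⟩
  have hDS : D ≤ (S : Subgroup G) := hD ▸ Subgroup.commutator_le_self _
  have hDR : D ≤ Cfsg.Agent.Lib.Helper3.Quat.Rot e := hD ▸ Cfsg.Agent.Lib.Helper3.Quat.comm_le_Rot e
  have hA2 : Cfsg.Agent.Lib.Helper3.Quat.A e 2 ∈ D := hD ▸ Cfsg.Agent.Lib.Helper3.Quat.A_two_mem e
  have h4 : (4 : ZMod (2 * 2 ^ (n + 2))) ≠ 0 := by
    intro h
    have h' : ((4 : ℕ) : ZMod (2 * 2 ^ (n + 2))) = 0 := by exact_mod_cast h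
    rw [ZMod.natCast_eq_zero_iff] at h'
    have h5 := Nat.le_of_dvd (by norm_num) h'
    have h6 : 4 ≤ 2 ^ (n + 2) := by
      rw [pow_add]
      have : 1 ≤ 2 ^ n := Nat.one_le_two_pow
      omega
    omega
  have hDD : D ≤ Subgroup.centralizer (D : Set G) := by
    intro a ha
    rw [Subgroup.mem_centralizer_iff]
    intro b hb
    obtain ⟨i, rfl⟩ := hDR ha
    obtain ⟨j, rfl⟩ := hDR hb
    rw [Cfsg.Agent.Lib.Helper3.Quat.A_mul_A, Cfsg.Agent.Lib.Helper3.Quat.A_mul_A, add_comm j i]
  have hD2 : IsPGroup 2 D := S.isPGroup'.to_le hDS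
  have key : ∀ y : G, y ∈ Subgroup.centralizer (D : Set G) → Nat.card D ∣ orderOf y →
      D = Subgroup.zpowers (y ^ (orderOf y / Nat.card D)) := by
    intro y hy hdvd
    have hyo : orderOf (y ^ (orderOf y / Nat.card D)) = Nat.card D :=
      orderOf_pow_orderOf_div (orderOf_pos y).ne' hdvd
    have hy2C : y ^ (orderOf y / Nat.card D) ∈ Subgroup.centralizer (D : Set G) := pow_mem hy _
    obtain ⟨b, hb⟩ := IsPGroup.iff_card.1 hD2
    have hz2 : IsPGroup 2 (Subgroup.zpowers (y ^ (orderOf y / Nat.card D))) :=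
      IsPGroup.of_card (n := b) (by rw [Nat.card_zpowers, hyo, hb])
    have hE2 : IsPGroup 2 (Subgroup.zpowers (y ^ (orderOf y / Nat.card D)) ⊔ D : Subgroup G) :=
      IsPGroup.to_sup_of_normal_right' hz2 hD2
        (Subgroup.zpowers_le.2 (Subgroup.centralizer_le_normalizer _ hy2C))
    have hEC : (Subgroup.zpowers (y ^ (orderOf y / Nat.card D)) ⊔ D : Subgroup G) ≤
        Subgroup.centralizer (D : Set G) := sup_le (Subgroup.zpowers_le.2 hy2C) hDD
    haveI hcyc := Cfsg.Agent.Lib.Helper3.Quat.Q_cyclic S e h4 hE2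
      (fun q hq => Subgroup.mem_centralizer_iff.1 (hEC hq) _ hA2)
    have hle : D ≤ Subgroup.zpowers (y ^ (orderOf y / Nat.card D)) := by
      intro d hd
      have h5 := Cfsg.Agent.Lib.Helper3.UniqP.mem_zpowers_of_cyclic
        (C := (Subgroup.zpowers (y ^ (orderOf y / Nat.card D)) ⊔ D : Subgroup G))
        (p := Nat.card D) Nat.card_pos
        (z := ⟨y ^ (orderOf y / Nat.card D), Subgroup.mem_sup_left (Subgroup.mem_zpowers _)⟩)
        (x := ⟨d, Subgroup.mem_sup_right hd⟩)
        (by rw [Subgroup.orderOf_mk]; exact hyo)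
        (by
          apply Subtype.ext
          have h6 : (⟨d, hd⟩ : D) ^ Nat.card D = 1 := pow_card_eq_one'
          have h7 : d ^ Nat.card D = 1 := congrArg Subtype.val h6
          exact h7)
      obtain ⟨i, hi⟩ := Subgroup.mem_zpowers_iff.1 h5
      exact Subgroup.mem_zpowers_iff.2 ⟨i, congrArg Subtype.val hi⟩
    exact Subgroup.eq_of_le_of_card_ge hle (by rw [Nat.card_zpowers, hyo])
  refine ⟨?_, ?_, ?_⟩
  · intro y hy hdvd
    rw [key y hy hdvd]
    exact Subgroup.zpowers_le.2 (pow_mem (Subgroup.mem_zpowers y) _)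
  · intro g y hy hdvd hgy
    have ho : orderOf (g * y * g⁻¹) = orderOf y := Cfsg.Agent.Lib.Helper3.Dih.conj_order g y
    have h1 := key y hy hdvd
    have h2 := key (g * y * g⁻¹) hgy (by rw [ho]; exact hdvd)
    rw [ho, conj_pow] at h2
    rw [Subgroup.mem_normalizer_iff_map_conj_eq]
    calc D.map (MulAut.conj g).toMonoidHom
        = (Subgroup.zpowers (y ^ (orderOf y / Nat.card D))).map (MulAut.conj g).toMonoidHom := by
          rw [← h1]
      _ = Subgroup.zpowers ((MulAut.conj g).toMonoidHom (y ^ (orderOf y / Nat.card D))) :=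
          MonoidHom.map_zpowers _ _
      _ = D := h2.symm
  · intro g y hg hy hdvd
    refine ⟨?_, by rw [Cfsg.Agent.Lib.Helper3.Dih.conj_order]; exact hdvd⟩
    rw [Subgroup.mem_centralizer_iff]
    intro d hd
    have h1 : g⁻¹ * d * g⁻¹⁻¹ ∈ D := (Subgroup.mem_normalizer_iff.1 (inv_mem hg) d).1 hd
    have h2 := Subgroup.mem_centralizer_iff.1 hy _ h1
    have e1 : d * (g * y * g⁻¹) = g * ((g⁻¹ * d * g⁻¹⁻¹) * y) * g⁻¹ := by group
    rw [e1, h2]; group

end Cfsg.Agent.S0843
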