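import Mathlib
import Cfsg.Statements.S0878
import Cfsg.Agent.Lib.Lead.Zass
import Cfsg.Agent.S0738

set_option autoImplicit false
open Cfsg

namespace Cfsg.Agent.S0878

open MulAction

/-- Let G be a Zassenhaus group on the finite set Ω, a a point, and let H be the subgroup of the stabilizer of a consisting of the identity and the elements fixing no point other than a (given here as a subgroup of the stabilizer of order one less than the number of points whose non-identity elements fix only a; it is the Frobenius kernel of the stabilizer). Then an element outside the stabilizer of a conjugates no non-identity element of H into H, and the normalizer of H is exactly the stabilizer of a. -/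
theorem result {G Ω : Type*} [Group G] [Finite G] [MulAction G Ω] [Fintype Ω] (hZ : Cfsg.IsZassenhausGroup G Ω) (a : Ω) (H : Subgroup G) (hHa : H ≤ MulAction.stabilizer G a) (hHcard : Nat.card H + 1 = Fintype.card Ω) (hHfix : ∀ u ∈ H, u ≠ 1 → ∀ c : Ω, u • c = c → c = a) : (∀ g : G, g ∉ MulAction.stabilizer G a → ∀ u ∈ H, g * u * g⁻¹ ∈ H → u = 1) ∧ Subgroup.normalizer (H : Set G) = MulAction.stabilizer G a := by
  classical
  have h3c := S0738.three_le_card hZ
  have hi : ∀ g : G, g ∉ MulAction.stabilizer G a → ∀ u ∈ H, g * u * g⁻¹ ∈ H → u = 1 := by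
    intro g hg u hu hgu
    by_contra hu1
    apply hg
    apply hHfix _ hgu
    · intro h
      apply hu1
      have : u = g⁻¹ * (g * u * g⁻¹) * g := by group
      rw [this, h]; group
    · rw [mul_smul, mul_smul, inv_smul_smul, show u • a = a from hHa hu]
  refine ⟨hi, ?_⟩
  obtain ⟨b, hb⟩ : ∃ b : Ω, a ≠ b := by
    by_contra hcon
    push Not at hcon
    have : Fintype.card Ω ≤ 1 := Fintype.card_le_one_iff.mpr (fun x y => (hcon x).symm.trans (hcon y))
    omega
  obtain ⟨K, hKa, hKn, hKt, hKs, hKin, -⟩ := Zass.kernel hZ hb
  have hHK : H ≤ K := by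
    intro u hu
    by_cases hu1 : u = 1
    · rw [hu1]; exact K.one_mem
    · exact hKin u (hHa hu) (fun c hc hfix => hc (hHfix u hu hu1 c hfix))
  have hKcard : Nat.card K + 1 ≤ Fintype.card Ω := by
    have hinj : Function.Injective (fun k : K => (⟨k.1 • b, by
        intro h
        have h5 : k.1 • a = a := hKa k.2
        exact hb (smul_left_cancel k.1 (h5.trans h.symm))⟩ : {c : Ω // c ≠ a})) := by
      intro k k' hkk
      have h1 : k.1 • b = k'.1 • b := congrArg Subtype.val hkk
      have h2 : (k'.1⁻¹ * k.1) • b = b := by rw [mul_smul, h1, inv_smul_smul]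
      have h4 := hKs _ (K.mul_mem (K.inv_mem k'.2) k.2) b hb.symm h2
      apply Subtype.ext
      exact (inv_mul_eq_one.mp h4).symm
    have h6 := Nat.card_le_card_of_injective _ hinj
    rw [Nat.card_eq_fintype_card (α := {c : Ω // c ≠ a}), Fintype.card_subtype_compl,
      Fintype.card_subtype_eq] at h6
    omega
  have hHeq : H = K := by
    apply Subgroup.eq_of_le_of_card_ge hHK
    omega
  ext g
  constructor
  · intro hg
    by_contra hga
    obtain ⟨u, hu1⟩ : ∃ u : H, u ≠ 1 := by
      have : 1 < Nat.card H := by omega
      rw [Finite.one_lt_card_iff_nontrivial] at this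
      exact exists_ne 1
    exact hu1 (Subtype.ext (hi g hga u.1 u.2 ((Subgroup.mem_normalizer_iff.mp hg u.1).mp u.2)))
  · intro hg
    apply Subgroup.mem_normalizer_fintype
    intro h hh
    have hh' : h ∈ H := hh
    rw [hHeq] at hh'
    show g * h * g⁻¹ ∈ H
    rw [hHeq]
    exact hKn g hg h hh'

end Cfsg.Agent.S0878
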