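import Cfsg.Statements.S0994
import Mathlib
import Cfsg.Agent.Lib.Helper6.NS

set_option autoImplicit false
open Cfsg

namespace Cfsg.Agent.S0994

/-- No finite simple group has order 1188 = 2^2 * 3^3 * 11. -/
theorem result {G : Type*} [Group G] [Finite G] [IsSimpleGroup G] : Nat.card G ≠ 1188 := by
  intro hG
  haveI : Fact (Nat.Prime 11) := ⟨by norm_num⟩
  obtain ⟨P⟩ : Nonempty (Sylow 11 G) := inferInstance
  obtain ⟨hP, hnc, hn1, hmod, hN, hd1, hd2, hne⟩ :=
    Cfsg.Agent.Lib.Helper6.NS.prime_sylow 11 (by rw [hG]; norm_num) (by rw [hG]; norm_num)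
      (by rw [hG]; norm_num) P
  rw [hG] at hN
  set n := Nat.card (Sylow 11 G) with hn
  set m := Nat.card (Subgroup.normalizer ((P : Subgroup G) : Set G)) with hm
  set r := (Subgroup.centralizer ((P : Subgroup G) : Set G)).relIndex
      (Subgroup.normalizer ((P : Subgroup G) : Set G)) with hr
  have h11 : 11 ∣ m := by
    have : Nat.card (P : Subgroup G) ∣ m := Subgroup.card_dvd_of_le Subgroup.le_normalizer
    rwa [show Nat.card (P : Subgroup G) = 11 from hP] at this
  obtain ⟨m', hm'⟩ := h11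
  have hnm : m' * n = 108 := by
    rw [hm'] at hN
    nlinarith
  have hnle : n ≤ 108 := Nat.le_of_dvd (by norm_num) ⟨m', by rw [← hnm, mul_comm]⟩
  unfold Nat.ModEq at hmod
  have hcases : n = 12 ∨ n = 23 ∨ n = 34 ∨ n = 45 ∨ n = 56 ∨ n = 67 ∨ n = 78 ∨ n = 89 ∨ n = 100 := by
    omega
  have hn12 : n = 12 := by
    rcases hcases with h | h | h | h | h | h | h | h | h
    · exact h
    all_goals (rw [h] at hnm; omega)
  have hm9 : m = 99 := by
    rw [hn12] at hnm
    omega
  rw [hm9] at hd2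
  have : r ∣ Nat.gcd 10 99 := Nat.dvd_gcd hd1 hd2
  norm_num at this
  exact hne this

end Cfsg.Agent.S0994
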