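import Cfsg.Statements.S1014
import Mathlib
import Cfsg.Agent.Lib.Helper6.NS

set_option autoImplicit false
open Cfsg

namespace Cfsg.Agent.S1014

/-- No finite simple group has order 1104 = 2^4 * 3 * 23. -/
theorem result {G : Type*} [Group G] [Finite G] [IsSimpleGroup G] : Nat.card G ≠ 1104 := by
  intro hG
  haveI : Fact (Nat.Prime 23) := ⟨by norm_num⟩
  haveI : Fact (Nat.Prime 2) := ⟨by norm_num⟩
  obtain ⟨P⟩ : Nonempty (Sylow 23 G) := inferInstance
  obtain ⟨hP, hnc, hn1, hmod, hN, hd1, hd2, hne⟩ :=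
    Cfsg.Agent.Lib.Helper6.NS.prime_sylow 23 (by rw [hG]; norm_num) (by rw [hG]; norm_num)
      (by rw [hG]; norm_num) P
  rw [hG] at hN
  have hCN := Subgroup.relIndex_mul_relIndex ⊥ _ _ bot_le
      (Subgroup.centralizer_le_normalizer ((P : Subgroup G) : Set G))
  rw [Subgroup.relIndex_bot_left, Subgroup.relIndex_bot_left] at hCN
  set n := Nat.card (Sylow 23 G) with hn
  set m := Nat.card (Subgroup.normalizer ((P : Subgroup G) : Set G)) with hm
  set r := (Subgroup.centralizer ((P : Subgroup G) : Set G)).relIndex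
      (Subgroup.normalizer ((P : Subgroup G) : Set G)) with hr
  have h23 : 23 ∣ m := by
    have : Nat.card (P : Subgroup G) ∣ m := Subgroup.card_dvd_of_le Subgroup.le_normalizer
    rwa [show Nat.card (P : Subgroup G) = 23 from hP] at this
  obtain ⟨m', hm'⟩ := h23
  have hnm : m' * n = 48 := by
    rw [hm'] at hN
    nlinarith
  have hnle : n ≤ 48 := Nat.le_of_dvd (by norm_num) ⟨m', by rw [← hnm, mul_comm]⟩
  unfold Nat.ModEq at hmod
  have hcases : n = 24 ∨ n = 47 := by omega
  have hn24 : n = 24 := by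
    rcases hcases with h | h
    · exact h
    · rw [h] at hnm; omega
  have hm46 : m = 46 := by
    rw [hn24] at hnm
    omega
  rw [hm46] at hd2
  have hr2 : r ∣ Nat.gcd 22 46 := Nat.dvd_gcd hd1 hd2
  have hr2' : r ∣ 2 := by
    have : Nat.gcd 22 46 = 2 := by norm_num
    rwa [this] at hr2
  have hr : r = 2 := by
    rcases (Nat.dvd_prime Nat.prime_two).mp hr2' with h | h
    · exact absurd h hne
    · exact h
  rw [hr, hm46] at hCN
  have hC23 : Nat.card (Subgroup.centralizer ((P : Subgroup G) : Set G)) = 23 := by omega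
  obtain ⟨t, ht⟩ := exists_prime_orderOf_dvd_card' (G := Subgroup.normalizer ((P : Subgroup G) : Set G)) 2
    (by rw [← hm, hm46]; norm_num)
  have hto : orderOf (t : G) = 2 := by rw [Subgroup.orderOf_coe]; exact ht
  refine Cfsg.Agent.Lib.Helper6.NS.invol_sign hnc 23 P hP hn24 11 (by decide) (by norm_num)
    (t : G) hto t.2 ?_
  intro htC
  have h1 : orderOf (⟨(t : G), htC⟩ : Subgroup.centralizer ((P : Subgroup G) : Set G)) ∣ 23 := by
    have := orderOf_dvd_natCard (⟨(t : G), htC⟩ : Subgroup.centralizer ((P : Subgroup G) : Set G))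
    rwa [hC23] at this
  rw [Subgroup.orderOf_mk, hto] at h1
  norm_num at h1

end Cfsg.Agent.S1014
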