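import Cfsg.Statements.S1249
import Mathlib
import Cfsg.Agent.Lib.Helper6.Basic

set_option autoImplicit false
open Cfsg

namespace Cfsg.Agent.S1249

open Cfsg.Agent.Lib.Helper6.Basic

/-- Let P and Q be Sylow p-subgroups of the finite group G both containing the subgroup A. If A is strongly closed in P, then A is strongly closed in Q. -/
theorem result {G : Type*} [Group G] [Finite G] {p : ℕ} [Fact p.Prime] (P Q : Sylow p G) (A : Subgroup G) (hAQ : A ≤ Q) (hA : Cfsg.IsStronglyClosed A (P : Subgroup G)) : Cfsg.IsStronglyClosed A (Q : Subgroup G) := by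
  obtain ⟨hAP, hsc⟩ := hA
  obtain ⟨h, hh⟩ := sylow_conj P Q
  have h1 : cj h⁻¹ A ≤ A := by
    intro x hx
    rw [mem_cj, inv_inv] at hx
    have hxQ : h * x * h⁻¹ ∈ cj h (P : Subgroup G) := hh ▸ hAQ hx
    have hxP : x ∈ (P : Subgroup G) := conj_mem_cj_iff.mp hxQ
    have := hsc _ hx h⁻¹ (by simpa [mul_assoc] using hxP)
    simpa [mul_assoc] using this
  have h2 : cj h⁻¹ A = A := by
    apply Subgroup.eq_of_le_of_card_ge h1
    rw [card_cj]
  have h3 : cj h A = A := by
    rw [cj_eq_iff]; exact h2.symm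
  refine ⟨hAQ, ?_⟩
  intro x hx g hg
  rw [hh, mem_cj] at hg
  have := hsc x hx (h⁻¹ * g) (by simpa [mul_assoc] using hg)
  rw [← h3, mem_cj]
  simpa [mul_assoc] using this

end Cfsg.Agent.S1249
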