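import Cfsg.Statements.S1254
import Cfsg.Agent.Lib.Helper3.Dih
import Cfsg.Agent.Lib.Helper1.PNil
import Cfsg.Agent.Lib.Helper3.Invol2

set_option autoImplicit false
open Cfsg

namespace Cfsg.Agent.S1254

theorem sup_act {X : Type*} [Group X] {U S : Subgroup X} {x : X}
    (hx : x ∈ Subgroup.centralizer (U : Set X) ⊔ (S ⊓ Subgroup.normalizer (U : Set X))) :
    ∃ s ∈ S ⊓ Subgroup.normalizer (U : Set X), ∀ u ∈ U, x * u * x⁻¹ = s * u * s⁻¹ := by
  rw [Subgroup.sup_eq_closure] at hx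
  induction hx using Subgroup.closure_induction with
  | mem x hx =>
    rcases hx with hx | hx
    · refine ⟨1, one_mem _, fun u hu => ?_⟩
      have h1 := Subgroup.mem_centralizer_iff.1 hx u hu
      rw [← h1]; group
    · exact ⟨x, hx, fun u _ => rfl⟩
  | one => exact ⟨1, one_mem _, fun u _ => rfl⟩
  | mul x y _ _ ihx ihy =>
    obtain ⟨s, hs, hsx⟩ := ihx
    obtain ⟨r, hr, hry⟩ := ihy
    refine ⟨s * r, mul_mem hs hr, fun u hu => ?_⟩
    have h1 : r * u * r⁻¹ ∈ U := (Subgroup.mem_normalizer_iff.1 hr.2 u).1 hu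
    have h2 := hsx _ h1
    rw [← hry u hu] at h2
    have e1 : x * y * u * (x * y)⁻¹ = x * (y * u * y⁻¹) * x⁻¹ := by group
    rw [e1, h2, hry u hu]; group
  | inv x _ ihx =>
    obtain ⟨s, hs, hsx⟩ := ihx
    refine ⟨s⁻¹, inv_mem hs, fun u hu => ?_⟩
    have h1 : s⁻¹ * u * s⁻¹⁻¹ ∈ U := (Subgroup.mem_normalizer_iff.1 (inv_mem hs.2) u).1 hu
    have h2 := hsx _ h1
    have e1 : s * (s⁻¹ * u * s⁻¹⁻¹) * s⁻¹ = u := by group
    rw [e1] at h2
    nth_rewrite 1 [← h2]
    group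

theorem pow_act {X : Type*} [Group X] {U : Subgroup X} {x s : X}
    (hs : s ∈ Subgroup.normalizer (U : Set X)) (h : ∀ u ∈ U, x * u * x⁻¹ = s * u * s⁻¹) (i : ℕ) :
    ∀ u ∈ U, x ^ i * u * (x ^ i)⁻¹ = s ^ i * u * (s ^ i)⁻¹ := by
  induction i with
  | zero => intro u _; simp
  | succ i ih =>
    intro u hu
    have h1 : s ^ i * u * (s ^ i)⁻¹ ∈ U :=
      (Subgroup.mem_normalizer_iff.1 (pow_mem hs i) u).1 hu
    have e1 : x ^ (i + 1) * u * (x ^ (i + 1))⁻¹ = x * (x ^ i * u * (x ^ i)⁻¹) * x⁻¹ := by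
      rw [pow_succ']; group
    have e2 : s ^ (i + 1) * u * (s ^ (i + 1))⁻¹ = s * (s ^ i * u * (s ^ i)⁻¹) * s⁻¹ := by
      rw [pow_succ']; group
    rw [e1, e2, ih u hu, h _ h1]

/-- Let X be a finite group whose Sylow 2-subgroup S is dihedral (of order at least 4). Then X has a normal 2-complement if and only if, for every Klein four-subgroup U ≤ S, the normalizer N_X(U) is generated by C_X(U) and N_S(U). -/
theorem result {X : Type*} [Group X] [Finite X] (S : Sylow 2 X) (m : ℕ) (hm : 2 ≤ m) (eS : (S : Subgroup X) ≃* DihedralGroup m) : Cfsg.HasNormalPComplement 2 X ↔ ∀ U : Subgroup X, U ≤ S → IsKleinFour U → Subgroup.normalizer (U : Set X) = Subgroup.centralizer (U : Set X) ⊔ ((S : Subgroup X) ⊓ Subgroup.normalizer (U : Set X)) := by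
  haveI : Fact (Nat.Prime 2) := ⟨Nat.prime_two⟩
  constructor
  · intro hpn U hUS _
    rw [Cfsg.Agent.Lib.Helper1.hasNormalPComplement_iff] at hpn
    have hc := Cfsg.Agent.Lib.Helper1.isComplement'_pResidual hpn S
    haveI hn := Cfsg.Agent.Lib.Helper1.pResidual_normal (G := X) 2
    apply le_antisymm
    · intro n hnU
      have hmem : n ∈ ((Cfsg.pResidual 2 X ⊔ (S : Subgroup X) : Subgroup X) : Set X) := by
        rw [hc.sup_eq_top]; trivial
      rw [Subgroup.normal_mul] at hmem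
      obtain ⟨k, hk, s, hs, rfl⟩ := hmem
      have hk : k ∈ Cfsg.pResidual 2 X := hk
      have hs : s ∈ (S : Subgroup X) := hs
      have hact : ∀ u ∈ U, s * u * s⁻¹ = (k * s) * u * (k * s)⁻¹ := by
        intro u hu
        have h1 : (k * s) * u * (k * s)⁻¹ ∈ U := (Subgroup.mem_normalizer_iff.1 hnU u).1 hu
        have h2 : s * u * s⁻¹ ∈ (S : Subgroup X) := mul_mem (mul_mem hs (hUS hu)) (inv_mem hs)
        have h3 : (k * s) * u * (k * s)⁻¹ * (s * u * s⁻¹)⁻¹ ∈ (S : Subgroup X) :=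
          mul_mem (hUS h1) (inv_mem h2)
        have h4 : (k * s) * u * (k * s)⁻¹ * (s * u * s⁻¹)⁻¹ ∈ Cfsg.pResidual 2 X := by
          have e1 : (k * s) * u * (k * s)⁻¹ * (s * u * s⁻¹)⁻¹ =
              k * ((s * u * s⁻¹) * k⁻¹ * (s * u * s⁻¹)⁻¹) := by group
          rw [e1]
          exact mul_mem hk (hn.conj_mem _ (inv_mem hk) _)
        have h5 : (k * s) * u * (k * s)⁻¹ * (s * u * s⁻¹)⁻¹ ∈
            (Cfsg.pResidual 2 X ⊓ (S : Subgroup X) : Subgroup X) := ⟨h4, h3⟩
        rw [hc.disjoint.eq_bot, Subgroup.mem_bot] at h5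
        exact (mul_inv_eq_one.1 h5).symm
      have hsN : s ∈ Subgroup.normalizer (U : Set X) := by
        rw [Subgroup.mem_normalizer_iff]
        intro x
        constructor
        · intro hx
          rw [hact x hx]
          exact (Subgroup.mem_normalizer_iff.1 hnU x).1 hx
        · intro hx
          have h1 : (k * s)⁻¹ * (s * x * s⁻¹) * (k * s)⁻¹⁻¹ ∈ U :=
            (Subgroup.mem_normalizer_iff.1 (inv_mem hnU) _).1 hx
          have h2 := hact _ h1
          have e1 : (k * s) * ((k * s)⁻¹ * (s * x * s⁻¹) * (k * s)⁻¹⁻¹) * (k * s)⁻¹ =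
              s * x * s⁻¹ := by group
          rw [e1] at h2
          have h3 := mul_left_cancel (mul_right_cancel h2)
          rw [← h3]; exact h1
      have hkC : k ∈ Subgroup.centralizer (U : Set X) := by
        apply Cfsg.Agent.Lib.Helper3.Dih.mem_centralizer_of_conj
        intro u hu
        have h1 : s⁻¹ * u * s⁻¹⁻¹ ∈ U := (Subgroup.mem_normalizer_iff.1 (inv_mem hsN) u).1 hu
        have h2 := hact _ h1
        have e1 : s * (s⁻¹ * u * s⁻¹⁻¹) * s⁻¹ = u := by group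
        have e2 : (k * s) * (s⁻¹ * u * s⁻¹⁻¹) * (k * s)⁻¹ = k * u * k⁻¹ := by group
        rw [e1, e2] at h2
        exact h2.symm
      exact mul_mem (Subgroup.mem_sup_left hkC) (Subgroup.mem_sup_right ⟨hs, hsN⟩)
    · exact sup_le (Subgroup.centralizer_le_normalizer _) inf_le_right
  · intro hU
    rw [Cfsg.Agent.Lib.Helper1.pn_iff_frobHyp]
    intro Q hQ g hg hcop
    have hodd : Odd (orderOf g) := Nat.Coprime.odd_of_right hcop
    rcases Cfsg.Agent.Lib.Helper3.Dih.lemmaD' S eS hQ hg hodd with h | hK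
    · exact h
    obtain ⟨h, hh⟩ := Cfsg.Agent.Lib.Helper3.Invol.exists_conj_mem_sylow S hQ
    have hmemU : ∀ x, x ∈ Q.map (MulAut.conj h).toMonoidHom ↔ h⁻¹ * x * h ∈ Q := by
      intro x
      constructor
      · rintro ⟨q, hq, rfl⟩
        have e1 : h⁻¹ * (MulAut.conj h).toMonoidHom q * h = q := by
          change h⁻¹ * (h * q * h⁻¹) * h = q
          group
        rw [e1]; exact hq
      · intro hx
        refine ⟨_, hx, ?_⟩
        change h * (h⁻¹ * x * h) * h⁻¹ = x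
        group
    have hUS : Q.map (MulAut.conj h).toMonoidHom ≤ S := by
      rintro _ ⟨q, hq, rfl⟩
      exact hh q hq
    have hUK : IsKleinFour (Q.map (MulAut.conj h).toMonoidHom) := by
      have e := Q.equivMapOfInjective (MulAut.conj h).toMonoidHom (MulAut.conj h).injective
      exact ⟨by rw [← Nat.card_congr e.toEquiv]; exact hK.card_four,
        by rw [← Monoid.exponent_eq_of_mulEquiv e]; exact hK.exponent_two⟩
    have hgN : h * g * h⁻¹ ∈ Subgroup.normalizer
        ((Q.map (MulAut.conj h).toMonoidHom : Subgroup X) : Set X) := by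
      rw [Subgroup.mem_normalizer_iff]
      intro x
      rw [hmemU, hmemU, Subgroup.mem_normalizer_iff.1 hg]
      have e1 : h⁻¹ * (h * g * h⁻¹ * x * (h * g * h⁻¹)⁻¹) * h = g * (h⁻¹ * x * h) * g⁻¹ := by group
      rw [e1]
    have hgN' := hgN
    rw [hU _ hUS hUK] at hgN'
    obtain ⟨s, hs, hact⟩ := sup_act hgN'
    obtain ⟨j, hj⟩ := S.isPGroup' ⟨s, hs.1⟩
    have hj' : s ^ 2 ^ j = 1 := congrArg Subtype.val hj
    have hpw := pow_act hs.2 hact (2 ^ j)
    have hord : orderOf (h * g * h⁻¹) = orderOf g := Cfsg.Agent.Lib.Helper3.Dih.conj_order h g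
    obtain ⟨m', hm'⟩ := exists_pow_eq_self_of_coprime (x := h * g * h⁻¹) (n := 2 ^ j)
      (by rw [hord]; exact (Nat.Coprime.pow_right j hcop).symm)
    have hcen : (h * g * h⁻¹) ^ 2 ^ j ∈ Subgroup.centralizer
        ((Q.map (MulAut.conj h).toMonoidHom : Subgroup X) : Set X) := by
      apply Cfsg.Agent.Lib.Helper3.Dih.mem_centralizer_of_conj
      intro u hu
      rw [hpw u hu, hj']; group
    have hcen2 := pow_mem hcen m'
    rw [hm'] at hcen2
    apply Cfsg.Agent.Lib.Helper3.Dih.mem_centralizer_of_conj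
    intro q hq
    have h1 := Subgroup.mem_centralizer_iff.1 hcen2 (h * q * h⁻¹) ⟨q, hq, rfl⟩
    have e1 : g * q * g⁻¹ = h⁻¹ * ((h * g * h⁻¹) * (h * q * h⁻¹)) * h * g⁻¹ := by group
    rw [e1, ← h1]; group

end Cfsg.Agent.S1254
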