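import Cfsg.Statements.S3864
import Cfsg.Agent.Lib.Helper3.Dih2
import Cfsg.Agent.Lib.Helper3.CN
import Cfsg.Agent.S0107

set_option autoImplicit false
open Cfsg

namespace Cfsg.Agent.S3864

open Cfsg.Agent.Lib.Helper3.Dih in
theorem no_index_two_of_all_conj {G : Type*} [Group G] [Finite G] (P : Sylow 2 G) {k : ℕ}
    (e : (P : Subgroup G) ≃* DihedralGroup (2 * 2 ^ (k + 1)))
    (h0 : IsConj (R e ((2 ^ (k + 1) : ℕ) : ZMod (2 * 2 ^ (k + 1)))) (T e 0))
    (h1 : IsConj (R e ((2 ^ (k + 1) : ℕ) : ZMod (2 * 2 ^ (k + 1)))) (T e 1))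
    (N : Subgroup G) (hNn : N.Normal) (hNi : N.index = 2) : False := by
  haveI : Fact (Nat.Prime 2) := ⟨Nat.prime_two⟩
  haveI : NeZero (2 ^ (k + 1)) := ⟨by positivity⟩
  have hzN : R e ((2 ^ (k + 1) : ℕ) : ZMod (2 * 2 ^ (k + 1))) ∈ N := by
    have h2 := Subgroup.mul_self_mem_of_index_two hNi (R e ((2 ^ k : ℕ) : ZMod (2 * 2 ^ (k + 1))))
    rw [R_mul_R, ← Nat.cast_add] at h2
    have e1 : 2 ^ k + 2 ^ k = 2 ^ (k + 1) := by rw [pow_succ]; ring
    rw [e1] at h2
    exact h2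
  have hconjN : ∀ a b : G, a ∈ N → IsConj a b → b ∈ N := by
    intro a b ha hab
    obtain ⟨c, rfl⟩ := isConj_iff.1 hab
    exact hNn.conj_mem a ha c
  have ht0 := hconjN _ _ hzN h0
  have ht1 := hconjN _ _ hzN h1
  have hT : ∀ i, T e i ∈ N := by
    intro i
    rcases T_conj e i with h | h
    · exact hconjN _ _ ht0 h.symm
    · exact hconjN _ _ ht1 h.symm
  have hPN : (P : Subgroup G) ≤ N := by
    intro x hx
    rcases cases_mem e hx with ⟨i, rfl⟩ | ⟨i, rfl⟩
    · have h2 := mul_mem (hT 0) (hT i)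
      rw [T_mul_T, sub_zero] at h2
      exact h2
    · exact hT i
  have h3 := Subgroup.index_dvd_of_le hPN
  rw [hNi] at h3
  exact P.not_dvd_index h3

open Cfsg.Agent.Lib.Helper3.Dih in
theorem no_index_four {G : Type*} [Group G] [Finite G] (P : Sylow 2 G) {k : ℕ}
    (e : (P : Subgroup G) ≃* DihedralGroup (2 * 2 ^ (k + 1))) (i : ZMod (2 * 2 ^ (k + 1)))
    (h0 : IsConj (R e ((2 ^ (k + 1) : ℕ) : ZMod (2 * 2 ^ (k + 1)))) (T e i))
    (M : Subgroup G) (hMn : M.Normal) (hMi : M.index = 4) : False := by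
  haveI : Fact (Nat.Prime 2) := ⟨Nat.prime_two⟩
  haveI : NeZero (2 ^ (k + 1)) := ⟨by positivity⟩
  have hcard : Nat.card (G ⧸ M) = 2 ^ 2 := by rw [← Subgroup.index_eq_card, hMi]; norm_num
  have hcomm : IsMulCommutative (G ⧸ M) := IsPGroup.isMulCommutative_of_card_eq_prime_sq hcard
  have hle := Subgroup.Normal.quotient_commutative_iff_commutator_le.1 hcomm
  have hR2 : ∀ a, R e (a + a) ∈ M := by
    intro a
    apply hle
    have h3 : T e 0 * R e (-a) * (T e 0)⁻¹ * (R e (-a))⁻¹ ∈ commutator G := by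
      rw [commutator_def]
      exact Subgroup.commutator_mem_commutator (Subgroup.mem_top _) (Subgroup.mem_top _)
    rw [T_inv, R_inv, T_mul_R, T_mul_T, R_mul_R] at h3
    have e1 : (0 : ZMod (2 * 2 ^ (k + 1))) - (0 + -a) + - -a = a + a := by ring
    rw [e1] at h3
    exact h3
  have hzM : R e ((2 ^ (k + 1) : ℕ) : ZMod (2 * 2 ^ (k + 1))) ∈ M := by
    have h2 := hR2 ((2 ^ k : ℕ) : ZMod (2 * 2 ^ (k + 1)))
    rw [← Nat.cast_add] at h2
    have e1 : 2 ^ k + 2 ^ k = 2 ^ (k + 1) := by rw [pow_succ]; ring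
    rw [e1] at h2
    exact h2
  have hTi : T e i ∈ M := by
    obtain ⟨c, hc⟩ := isConj_iff.1 h0
    rw [← hc]
    exact hMn.conj_mem _ hzM c
  have hker : ∀ x ∈ M, (QuotientGroup.mk' M) x = 1 := fun x hx =>
    (QuotientGroup.eq_one_iff x).2 hx
  have hRL : ∀ a, (QuotientGroup.mk' M) (R e a) ∈ Subgroup.zpowers ((QuotientGroup.mk' M) (R e 1)) := by
    intro a
    obtain ⟨q, rfl | rfl⟩ := even_or_odd a
    · rw [hker _ (hR2 q)]
      exact one_mem _
    · rw [← R_mul_R, map_mul, hker _ (hR2 q), mul_one]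
      exact Subgroup.mem_zpowers _
  have hPL : (P : Subgroup G) ≤
      (Subgroup.zpowers ((QuotientGroup.mk' M) (R e 1))).comap (QuotientGroup.mk' M) := by
    intro x hx
    rw [Subgroup.mem_comap]
    rcases cases_mem e hx with ⟨a, rfl⟩ | ⟨a, rfl⟩
    · exact hRL a
    · have e1 : T e a = T e i * R e (a - i) := by
        rw [T_mul_R]; congr 1; ring
      rw [e1, map_mul, hker _ hTi, one_mul]
      exact hRL _
  have h3 := Subgroup.index_dvd_of_le hPL
  rw [Subgroup.index_comap_of_surjective _ (QuotientGroup.mk'_surjective M)] at h3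
  have h4 := (Subgroup.zpowers ((QuotientGroup.mk' M) (R e 1))).card_mul_index
  rw [hcard, Nat.card_zpowers] at h4
  have h5 : orderOf ((QuotientGroup.mk' M) (R e 1)) ∣ 2 := by
    apply orderOf_dvd_of_pow_eq_one
    rw [← map_pow, pow_two, R_mul_R]
    exact hker _ (hR2 1)
  apply P.not_dvd_index
  apply Dvd.dvd.trans _ h3
  rcases (Nat.dvd_prime Nat.prime_two).1 h5 with h6 | h6
  · rw [h6] at h4
    exact ⟨2, by omega⟩
  · rw [h6] at h4
    exact ⟨1, by omega⟩

theorem pres_top {G : Type*} [Group G] [Finite G]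
    (h2 : ∀ N : Subgroup G, N.Normal → N.index ≠ 2) : Cfsg.pResidual 2 G = ⊤ := by
  haveI : Fact (Nat.Prime 2) := ⟨Nat.prime_two⟩
  by_contra hne
  haveI hn := Cfsg.Agent.Lib.Helper1.pResidual_normal (G := G) 2
  have hp := Cfsg.Agent.Lib.Helper1.isPGroup_quotient_pResidual (p := 2) (Cfsg.pResidual 2 G) le_rfl
  obtain ⟨j, hj⟩ := IsPGroup.iff_card.1 hp
  have hj0 : j ≠ 0 := by
    rintro rfl
    apply hne
    rw [← Subgroup.index_eq_one, Subgroup.index_eq_card, hj, pow_zero]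
  obtain ⟨K, hK⟩ := Sylow.exists_subgroup_card_pow_prime (G := G ⧸ Cfsg.pResidual 2 G) 2 (n := j - 1)
    (by rw [hj]; exact pow_dvd_pow 2 (by omega))
  have hKi : K.index = 2 := by
    have h3 := K.card_mul_index
    rw [hK, hj] at h3
    have e1 : 2 ^ j = 2 ^ (j - 1) * 2 := by
      rw [← pow_succ]; congr 1; omega
    rw [e1] at h3
    exact Nat.eq_of_mul_eq_mul_left (by positivity) h3
  haveI := Subgroup.normal_of_index_eq_two hKi
  apply h2 (K.comap (QuotientGroup.mk' (Cfsg.pResidual 2 G))) (Subgroup.Normal.comap inferInstance _)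
  rw [Subgroup.index_comap_of_surjective _ (QuotientGroup.mk'_surjective _), hKi]

/-- Let G be a finite group whose Sylow 2-subgroups are dihedral of order 2 ^ n with n ≥ 3, and count the conjugacy classes of involutions of G. Then exactly one of the following holds: there is one class of involutions and no normal subgroup of index 2; there are two classes of involutions, a normal subgroup of index 2 and none of index 4; there are three classes of involutions and G has a normal 2-complement. -/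
theorem result {G : Type*} [Group G] [Finite G] (P : Sylow 2 G) (n : ℕ) (hn : 3 ≤ n) (hdih : Nonempty (↥(P : Subgroup G) ≃* DihedralGroup (2 ^ (n - 1)))) : (Nat.card {C : ConjClasses G // ∃ g : G, ConjClasses.mk g = C ∧ orderOf g = 2} = 1 ∧ ∀ N : Subgroup G, N.Normal → N.index ≠ 2) ∨ (Nat.card {C : ConjClasses G // ∃ g : G, ConjClasses.mk g = C ∧ orderOf g = 2} = 2 ∧ (∃ N : Subgroup G, N.Normal ∧ N.index = 2) ∧ ∀ N : Subgroup G, N.Normal → N.index ≠ 4) ∨ (Nat.card {C : ConjClasses G // ∃ g : G, ConjClasses.mk g = C ∧ orderOf g = 2} = 3 ∧ Cfsg.HasNormalPComplement 2 G) := by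
  haveI : Fact (Nat.Prime 2) := ⟨Nat.prime_two⟩
  obtain ⟨k, rfl⟩ : ∃ k, n = k + 3 := ⟨n - 3, by omega⟩
  have hN : 2 ^ (k + 3 - 1) = 2 * 2 ^ (k + 1) := by
    rw [show k + 3 - 1 = (k + 1) + 1 by omega, pow_succ']
  have hdih0 := hdih
  rw [hN] at hdih
  obtain ⟨e⟩ := hdih
  haveI : NeZero (2 ^ (k + 1)) := ⟨by positivity⟩
  have hclasses : ∀ C : ConjClasses G, (∃ g : G, ConjClasses.mk g = C ∧ orderOf g = 2) ↔
      C ∈ ({ConjClasses.mk (Cfsg.Agent.Lib.Helper3.Dih.R e ((2 ^ (k + 1) : ℕ) : ZMod (2 * 2 ^ (k + 1)))),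
        ConjClasses.mk (Cfsg.Agent.Lib.Helper3.Dih.T e 0),
        ConjClasses.mk (Cfsg.Agent.Lib.Helper3.Dih.T e 1)} : Set (ConjClasses G)) := by
    intro C
    constructor
    · rintro ⟨g, rfl, hg⟩
      obtain ⟨h, hh⟩ := Cfsg.Agent.Lib.Helper3.Invol.exists_conj_mem_sylow P
        (Cfsg.Agent.Lib.Helper3.CN.isPGroup_zpowers hg)
      have hx := hh g (Subgroup.mem_zpowers g)
      have hxo : orderOf (h * g * h⁻¹) = 2 := by
        rw [Cfsg.Agent.Lib.Helper3.Dih.conj_order, hg]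
      have hgx : IsConj g (h * g * h⁻¹) := isConj_iff.2 ⟨h, rfl⟩
      rcases Cfsg.Agent.Lib.Helper3.Dih.invol_cases e hx hxo with h1 | ⟨i, h1⟩
      · left
        rw [ConjClasses.mk_eq_mk_iff_isConj, ← h1]
        exact hgx
      · rw [h1] at hgx
        rcases Cfsg.Agent.Lib.Helper3.Dih.T_conj e i with h2 | h2
        · right; left
          exact ConjClasses.mk_eq_mk_iff_isConj.2 (hgx.trans h2)
        · right; right
          exact ConjClasses.mk_eq_mk_iff_isConj.2 (hgx.trans h2)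
    · rintro (rfl | rfl | rfl)
      · exact ⟨_, rfl, Cfsg.Agent.Lib.Helper3.Dih.orderOf_z e⟩
      · exact ⟨_, rfl, Cfsg.Agent.Lib.Helper3.Dih.orderOf_T e 0⟩
      · exact ⟨_, rfl, Cfsg.Agent.Lib.Helper3.Dih.orderOf_T e 1⟩
  have hcount : Nat.card {C : ConjClasses G // ∃ g : G, ConjClasses.mk g = C ∧ orderOf g = 2} =
      ({ConjClasses.mk (Cfsg.Agent.Lib.Helper3.Dih.R e ((2 ^ (k + 1) : ℕ) : ZMod (2 * 2 ^ (k + 1)))),
        ConjClasses.mk (Cfsg.Agent.Lib.Helper3.Dih.T e 0),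
        ConjClasses.mk (Cfsg.Agent.Lib.Helper3.Dih.T e 1)} : Set (ConjClasses G)).ncard := by
    rw [← Nat.card_coe_set_eq]
    exact Nat.card_congr (Equiv.subtypeEquivRight hclasses)
  rw [hcount]
  by_cases hpn : Cfsg.HasNormalPComplement 2 G
  · right; right
    refine ⟨?_, hpn⟩
    have h01 : ConjClasses.mk (Cfsg.Agent.Lib.Helper3.Dih.T e 0) ≠
        ConjClasses.mk (Cfsg.Agent.Lib.Helper3.Dih.T e 1) := by
      intro h
      rw [ConjClasses.mk_eq_mk_iff_isConj] at h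
      obtain ⟨s, hs, hst⟩ := Cfsg.Agent.Lib.Helper3.Dih.control P hpn
        (Cfsg.Agent.Lib.Helper3.Dih.T_mem e 0) (Cfsg.Agent.Lib.Helper3.Dih.T_mem e 1) h
      exact Cfsg.Agent.Lib.Helper3.Dih.T0_not_conj_T1 e hs hst
    have hz : ∀ i, ConjClasses.mk (Cfsg.Agent.Lib.Helper3.Dih.R e
        ((2 ^ (k + 1) : ℕ) : ZMod (2 * 2 ^ (k + 1)))) ≠
        ConjClasses.mk (Cfsg.Agent.Lib.Helper3.Dih.T e i) := by
      intro i h
      rw [ConjClasses.mk_eq_mk_iff_isConj] at h
      obtain ⟨s, hs, hst⟩ := Cfsg.Agent.Lib.Helper3.Dih.control P hpn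
        (Cfsg.Agent.Lib.Helper3.Dih.R_mem e _) (Cfsg.Agent.Lib.Helper3.Dih.T_mem e i) h
      rw [Cfsg.Agent.Lib.Helper3.Dih.z_central e hs] at hst
      exact Cfsg.Agent.Lib.Helper3.Dih.R_ne_T e _ _ hst
    rw [Set.ncard_insert_of_notMem (by
      intro h
      rcases h with h | h
      · exact hz 0 h
      · exact hz 1 h), Set.ncard_pair h01]
  · obtain ⟨i, hi⟩ := Cfsg.Agent.Lib.Helper3.Dih.z_fused P e hpn
    have hz01 : IsConj (Cfsg.Agent.Lib.Helper3.Dih.R e ((2 ^ (k + 1) : ℕ) : ZMod (2 * 2 ^ (k + 1))))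
        (Cfsg.Agent.Lib.Helper3.Dih.T e 0) ∨
        IsConj (Cfsg.Agent.Lib.Helper3.Dih.R e ((2 ^ (k + 1) : ℕ) : ZMod (2 * 2 ^ (k + 1))))
        (Cfsg.Agent.Lib.Helper3.Dih.T e 1) := by
      rcases Cfsg.Agent.Lib.Helper3.Dih.T_conj e i with h | h
      · exact Or.inl (hi.trans h)
      · exact Or.inr (hi.trans h)
    by_cases h2 : ∃ N : Subgroup G, N.Normal ∧ N.index = 2
    · right; left
      refine ⟨?_, h2, fun M hMn hMi => no_index_four P e i hi M hMn hMi⟩
      obtain ⟨N, hNn, hNi⟩ := h2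
      rcases hz01 with h | h
      · have h' : ConjClasses.mk (Cfsg.Agent.Lib.Helper3.Dih.R e
            ((2 ^ (k + 1) : ℕ) : ZMod (2 * 2 ^ (k + 1)))) ≠
            ConjClasses.mk (Cfsg.Agent.Lib.Helper3.Dih.T e 1) := by
          intro h1
          exact no_index_two_of_all_conj P e h (ConjClasses.mk_eq_mk_iff_isConj.1 h1) N hNn hNi
        rw [← ConjClasses.mk_eq_mk_iff_isConj.2 h, Set.insert_eq_of_mem (Set.mem_insert _ _),
          Set.ncard_pair h']
      · have h' : ConjClasses.mk (Cfsg.Agent.Lib.Helper3.Dih.R e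
            ((2 ^ (k + 1) : ℕ) : ZMod (2 * 2 ^ (k + 1)))) ≠
            ConjClasses.mk (Cfsg.Agent.Lib.Helper3.Dih.T e 0) := by
          intro h1
          exact no_index_two_of_all_conj P e (ConjClasses.mk_eq_mk_iff_isConj.1 h1) h N hNn hNi
        rw [← ConjClasses.mk_eq_mk_iff_isConj.2 h, Set.insert_comm,
          Set.insert_eq_of_mem (Set.mem_singleton _), Set.ncard_pair h'.symm]
    · left
      push Not at h2
      refine ⟨?_, h2⟩
      have hO := pres_top h2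
      have hall := Cfsg.Agent.S0107.result P (k + 3 - 1) (by omega) hdih0 hO
      have c0 : ConjClasses.mk (Cfsg.Agent.Lib.Helper3.Dih.T e 0) =
          ConjClasses.mk (Cfsg.Agent.Lib.Helper3.Dih.R e
            ((2 ^ (k + 1) : ℕ) : ZMod (2 * 2 ^ (k + 1)))) := by
        rw [ConjClasses.mk_eq_mk_iff_isConj, isConj_iff]
        exact hall _ _ (Cfsg.Agent.Lib.Helper3.Dih.orderOf_T e 0)
          (Cfsg.Agent.Lib.Helper3.Dih.orderOf_z e)
      have c1 : ConjClasses.mk (Cfsg.Agent.Lib.Helper3.Dih.T e 1) =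
          ConjClasses.mk (Cfsg.Agent.Lib.Helper3.Dih.R e
            ((2 ^ (k + 1) : ℕ) : ZMod (2 * 2 ^ (k + 1)))) := by
        rw [ConjClasses.mk_eq_mk_iff_isConj, isConj_iff]
        exact hall _ _ (Cfsg.Agent.Lib.Helper3.Dih.orderOf_T e 1)
          (Cfsg.Agent.Lib.Helper3.Dih.orderOf_z e)
      rw [c0, c1, Set.insert_eq_of_mem (Set.mem_insert _ _),
        Set.insert_eq_of_mem (Set.mem_singleton _), Set.ncard_singleton]

end Cfsg.Agent.S3864
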