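import Cfsg.Statements.S1255
import Cfsg.Agent.Lib.Helper3.Dih3
import Cfsg.Agent.S3864

set_option autoImplicit false
open Cfsg

namespace Cfsg.Agent.S1255

/-- Let X be a finite group whose Sylow 2-subgroup S is dihedral of order 2m ≥ 4. Then X has no subgroup of index 2 and no isolated involution if and only if either all involutions of X are conjugate, or for every Klein four-subgroup U ≤ S the index |N_X(U) : C_X(U)| equals 3 when |S| = 4 and equals 6 when |S| > 4. -/
theorem result {X : Type*} [Group X] [Finite X] (S : Sylow 2 X) (m : ℕ) (hm : 2 ≤ m) (eS : (S : Subgroup X) ≃* DihedralGroup m) : ((∀ H : Subgroup X, H.index ≠ 2) ∧ (∀ z : X, ¬ Cfsg.IsIsolatedInvolution z)) ↔ ((∀ a b : X, orderOf a = 2 → orderOf b = 2 → IsConj a b) ∨ (∀ U : Subgroup X, U ≤ S → IsKleinFour U → (Subgroup.centralizer (U : Set X)).relIndex (Subgroup.normalizer (U : Set X)) = (if Nat.card S = 4 then 3 else 6))) := by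
  haveI : Fact (Nat.Prime 2) := ⟨Nat.prime_two⟩
  obtain ⟨a, ha⟩ := IsPGroup.iff_card.1 S.isPGroup'
  have hcard : Nat.card (S : Subgroup X) = 2 * m := by
    rw [Nat.card_congr eS.toEquiv, DihedralGroup.nat_card]
  obtain ⟨j, rfl⟩ : ∃ j, m = 2 * 2 ^ j := by
    have h1 : 2 ^ a = 2 * m := ha.symm.trans hcard
    have ha2 : 2 ≤ a := by
      by_contra h
      have : a = 0 ∨ a = 1 := by omega
      rcases this with rfl | rfl
      · norm_num at h1; omega
      · norm_num at h1; omega
    obtain ⟨b, rfl⟩ : ∃ b, a = b + 2 := ⟨a - 2, by omega⟩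
    refine ⟨b, ?_⟩
    rw [pow_succ, pow_succ] at h1
    generalize 2 ^ b = t at h1 ⊢
    omega
  haveI : NeZero (2 ^ j) := ⟨by positivity⟩
  have hback : (∀ a b : X, orderOf a = 2 → orderOf b = 2 → IsConj a b) →
      ((∀ H : Subgroup X, H.index ≠ 2) ∧ ∀ z : X, ¬ Cfsg.IsIsolatedInvolution z) := fun h =>
    ⟨Cfsg.Agent.Lib.Helper3.Dih.no_index_two S eS h, Cfsg.Agent.Lib.Helper3.Dih.no_isolated S eS h⟩
  constructor
  · rintro ⟨h2, _⟩
    left
    have hO := Cfsg.Agent.S3864.pres_top (fun N _ => h2 N)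
    rcases Nat.eq_zero_or_pos j with rfl | hj
    · have hnpn : ¬ Cfsg.HasNormalPComplement 2 X := by
        intro hpn
        rw [Cfsg.Agent.Lib.Helper1.hasNormalPComplement_iff, hO, Subgroup.card_top] at hpn
        have h1 : 2 ∣ Nat.card X :=
          (Dvd.intro _ rfl : 2 ∣ 2 * (2 * 2 ^ 0)).trans (hcard ▸ Subgroup.card_subgroup_dvd_card _)
        exact Nat.not_coprime_of_dvd_of_dvd (by norm_num) h1 (dvd_refl 2) hpn
      obtain ⟨x1, x2, h1, h2', o1, o2, o12, c12, c3⟩ :=
        Cfsg.Agent.Lib.Helper3.Dih.exists_fused S eS hnpn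
      have hK : IsKleinFour (S : Subgroup X) := ⟨by rw [hcard]; norm_num, by
        rw [Monoid.exponent_eq_of_mulEquiv eS]
        exact IsKleinFour.exponent_two (G := DihedralGroup 2)⟩
      have hne1 : ∀ t : X, orderOf t = 2 → t ≠ 1 := by
        rintro t ht rfl
        rw [orderOf_one] at ht
        norm_num at ht
      have hx12 : x1 ≠ x2 := by
        rintro rfl
        have h3 : x1 * x1 = 1 := by
          have := pow_orderOf_eq_one x1
          rwa [o1, pow_two] at this
        exact hne1 _ o12 h3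
      have key : ∀ t ∈ S, orderOf t = 2 → IsConj x1 t := by
        intro t ht hto
        by_cases h8 : t = x1
        · rw [h8]
        by_cases h9 : t = x2
        · rw [h9]; exact c12
        have h10 : (⟨t, ht⟩ : (S : Subgroup X)) = ⟨x1, h1⟩ * ⟨x2, h2'⟩ :=
          IsKleinFour.eq_mul_of_ne_all (fun h => hne1 _ o1 (congrArg Subtype.val h))
            (fun h => hne1 _ o2 (congrArg Subtype.val h)) (fun h => hx12 (congrArg Subtype.val h))
            (fun h => hne1 _ hto (congrArg Subtype.val h)) (fun h => h8 (congrArg Subtype.val h))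
            (fun h => h9 (congrArg Subtype.val h))
        have h11 : t = x1 * x2 := congrArg Subtype.val h10
        rw [h11]; exact c3
      intro a b ha hb
      obtain ⟨t, ht, hto, hat⟩ := Cfsg.Agent.Lib.Helper3.Dih.conj_to_S S ha
      obtain ⟨t', ht', hto', hbt⟩ := Cfsg.Agent.Lib.Helper3.Dih.conj_to_S S hb
      exact (hat.trans (key t ht hto).symm).trans ((key t' ht' hto').trans hbt.symm)
    · have hd : Nonempty ((S : Subgroup X) ≃* DihedralGroup (2 ^ (j + 1))) := by
        rw [pow_succ']; exact ⟨eS⟩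
      intro a b ha hb
      exact isConj_iff.2 (Cfsg.Agent.S0107.result S (j + 1) (by omega) hd hO a b ha hb)
  · rintro (h | h)
    · exact hback h
    · apply hback
      apply Cfsg.Agent.Lib.Helper3.Dih.all_conj_of S eS
      intro i
      have hK := Cfsg.Agent.Lib.Helper3.Dih.klein_of_commute
        (Cfsg.Agent.Lib.Helper3.Dih.orderOf_T eS i) (Cfsg.Agent.Lib.Helper3.Dih.orderOf_z eS)
        (Cfsg.Agent.Lib.Helper3.Dih.T_comm_z S eS i) (Cfsg.Agent.Lib.Helper3.Dih.T_not_mem S eS i)
      have hle : Subgroup.zpowers (Cfsg.Agent.Lib.Helper3.Dih.T eS i) ⊔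
          Subgroup.zpowers (Cfsg.Agent.Lib.Helper3.Dih.R eS ((2 ^ j : ℕ) : ZMod (2 * 2 ^ j))) ≤
          (S : Subgroup X) :=
        sup_le (Subgroup.zpowers_le.2 (Cfsg.Agent.Lib.Helper3.Dih.T_mem eS i))
          (Subgroup.zpowers_le.2 (Cfsg.Agent.Lib.Helper3.Dih.R_mem eS _))
      have h3 := h _ hle hK
      have h3' : 3 ∣ (Subgroup.centralizer ((Subgroup.zpowers (Cfsg.Agent.Lib.Helper3.Dih.T eS i) ⊔
          Subgroup.zpowers (Cfsg.Agent.Lib.Helper3.Dih.R eS ((2 ^ j : ℕ) : ZMod (2 * 2 ^ j))) :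
          Subgroup X) : Set X)).relIndex (Subgroup.normalizer
          ((Subgroup.zpowers (Cfsg.Agent.Lib.Helper3.Dih.T eS i) ⊔
          Subgroup.zpowers (Cfsg.Agent.Lib.Helper3.Dih.R eS ((2 ^ j : ℕ) : ZMod (2 * 2 ^ j))) :
          Subgroup X) : Set X)) := by
        rw [h3]; split_ifs <;> norm_num
      have hne1 : ∀ t : X, orderOf t = 2 → t ≠ 1 := by
        rintro t ht rfl
        rw [orderOf_one] at ht
        norm_num at ht
      exact Cfsg.Agent.Lib.Helper3.Dih.fused_of_three hK h3' _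
        (Subgroup.mem_sup_right (Subgroup.mem_zpowers _)) _
        (Subgroup.mem_sup_left (Subgroup.mem_zpowers _))
        (hne1 _ (Cfsg.Agent.Lib.Helper3.Dih.orderOf_z eS))
        (hne1 _ (Cfsg.Agent.Lib.Helper3.Dih.orderOf_T eS i))

end Cfsg.Agent.S1255
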