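import Cfsg.Statements.S1279
import Cfsg.Agent.Lib.Helper9.Bal

set_option autoImplicit false
open Cfsg

namespace Cfsg.Agent.S1279

open Cfsg.Agent.Lib.Helper9.Sig Cfsg.Agent.Lib.Helper9.Bal Cfsg.Agent.Lib.Helper6.FStar

/-- Let A be a noncyclic elementary abelian p-subgroup of the finite group G such that C_G(a) is solvable for every non-identity a ∈ A. Then a ↦ O_{p'}(C_G(a)) is a solvable A-signalizer functor on G. -/
theorem result {G : Type*} [Group G] [Finite G] (p : ℕ) [Fact p.Prime] (A : Subgroup G) (hA : Cfsg.IsElementaryAbelian p A) (hA2 : p ^ 2 ≤ Nat.card ↥A) (hsolv : ∀ a ∈ A, a ≠ 1 → Group.IsSolvable ↥(Subgroup.centralizer ({a} : Set G))) : Cfsg.IsSolvableSignalizerFunctor p A (fun a => Cfsg.centralizerPPrimeCore p a) := by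
  have hAC : ∀ a ∈ A, A ≤ Subgroup.centralizer ({a} : Set G) := by
    intro a ha b hb
    rw [Subgroup.mem_centralizer_iff]
    intro z hz
    rw [show z = a from hz]
    exact ea_comm hA ha hb
  rw [sf_iff]
  refine ⟨?_, ?_, ?_, ?_, ?_⟩
  · intro a _ _
    exact Subgroup.map_subtype_le _
  · intro a _ _ hd
    have h1 := Op'_coprime p (Subgroup.centralizer ({a} : Set G))
    rw [← cpc_eq] at h1
    exact (Nat.Prime.coprime_iff_not_dvd Fact.out).mp h1.symm hd
  · intro a ha _
    rw [cpc_eq]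
    exact (hAC a ha).trans (le_Nz_Op' p _)
  · intro a ha _ b hb hb1
    apply core_bal (ea_comm hA ha hb)
    · exact (ea_pGroup hA).to_le (Subgroup.zpowers_le.mpr ha)
    · exact pConstrained_of_solvable (hsolv b hb hb1)
  · intro a ha ha1
    exact Cfsg.Agent.Lib.Helper1.isSolvable_of_le (Subgroup.map_subtype_le _) (hsolv a ha ha1)

end Cfsg.Agent.S1279
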