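import Cfsg.Statements.S1292
import Mathlib
import Cfsg.Agent.Lib.Helper6.PAct

set_option autoImplicit false
open Cfsg

namespace Cfsg.Agent.S1292

open Cfsg.Agent.Lib.Helper6.Basic Cfsg.Agent.Lib.Helper6.Subn Cfsg.Agent.Lib.Helper6.Quasi Cfsg.Agent.Lib.Helper6.Comp Cfsg.Agent.Lib.Helper6.Rad Cfsg.Agent.Lib.Helper6.Nil Cfsg.Agent.Lib.Helper6.FStar Cfsg.Agent.Lib.Helper6.FStar2 Cfsg.Agent.Lib.Helper6.PAct

/-- Let G be a finite group such that F*(C_G(t)) = O_2(C_G(t)) for every involution t. Then F*(N_G(T)) = O_2(N_G(T)) for every nontrivial 2-subgroup T of G. -/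
theorem result {G : Type*} [Group G] [Finite G] (h : ∀ t : G, orderOf t = 2 → Cfsg.generalizedFittingSubgroup ↥(Subgroup.centralizer ({t} : Set G)) = Cfsg.pCore 2 ↥(Subgroup.centralizer ({t} : Set G))) (T : Subgroup G) (hT : IsPGroup 2 ↥T) (hT1 : T ≠ ⊥) : Cfsg.generalizedFittingSubgroup ↥(Subgroup.normalizer (T : Set G)) = Cfsg.pCore 2 ↥(Subgroup.normalizer (T : Set G)) := by
  apply Subgroup.map_injective (Subgroup.normalizer ((T : Subgroup G) : Set G)).subtype_injective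
  rw [map_gfit, map_pCore, Fs_eq_Op_iff]
  set N := Nz T with hN
  set Q := Op 2 N with hQ
  have hTQ : T ≤ Q := le_Rd Subgroup.le_normalizer le_rfl hT
  have hQ2 : IsPGroup 2 ↥Q := Op_isPGroup 2 N
  have hQ1 : Q ≠ ⊥ := fun hb => hT1 (le_bot_iff.mp (hb ▸ hTQ))
  -- an involution in the centre of Q
  obtain ⟨t, htQ, htC, ht2⟩ : ∃ t : G, t ∈ Q ∧ t ∈ Cz Q ∧ orderOf t = 2 := by
    have hnt : Nontrivial ↥Q := (Subgroup.nontrivial_iff_ne_bot Q).mpr hQ1
    have hcn : Nontrivial (Subgroup.center ↥Q) := hQ2.center_nontrivial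
    have hcp : IsPGroup 2 ↥(Subgroup.center ↥Q) := hQ2.to_subgroup _
    obtain ⟨n, hn0, hn⟩ := hcp.nontrivial_iff_card.mp hcn
    have hdvd : 2 ∣ Nat.card ↥(Subgroup.center ↥Q) := by rw [hn]; exact dvd_pow_self 2 hn0.ne'
    obtain ⟨z, hz⟩ := exists_prime_orderOf_dvd_card' 2 hdvd
    have hz' : ((z : ↥Q) : G) ∈ Q ⊓ Cz Q := by
      rw [← map_center_subtype]
      exact ⟨z.1, z.2, rfl⟩
    refine ⟨((z : ↥Q) : G), hz'.1, hz'.2, ?_⟩
    rw [Subgroup.orderOf_coe, Subgroup.orderOf_coe]; exact hz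
  have ht := h t ht2
  have ht' : Fs (Subgroup.centralizer ({t} : Set G)) = Op 2 (Subgroup.centralizer ({t} : Set G)) := by
    rw [← map_gfit, ← map_pCore, ht]
  set C := Subgroup.centralizer ({t} : Set G) with hC
  have hQC : Q ≤ C := by
    intro q hq
    rw [hC, Subgroup.mem_centralizer_singleton_iff]
    exact Subgroup.mem_centralizer_iff.mp htC q hq
  have hCzQ : Cz Q ≤ C := by
    intro y hy
    rw [hC, Subgroup.mem_centralizer_singleton_iff]
    exact (Subgroup.mem_centralizer_iff.mp hy t htQ).symm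
  have hCzQN : Cz Q ≤ N := (Cz_anti hTQ).trans (Cz_le_Nz T)
  have hXn : N ≤ Nz (N ⊓ Cz Q) :=
    le_Nz_inf Subgroup.le_normalizer ((le_Nz_Op 2 N).trans (Nz_le_Nz_Cz _))
  apply le_Rd inf_le_left hXn
  apply isPGroup_of_p'_trivial
  intro x hx hxc
  -- the normal 2-subgroup  of  lies in 
  have h1 : Op 2 C ⊓ Cz Q ≤ Q := by
    apply le_Op_of_sn _ ((Op_isPGroup 2 C).to_le inf_le_left)
    have hsn1 : SN (Op 2 C ⊓ Cz Q) (N ⊓ Cz Q) := by
      apply SN.of_normal (le_inf (inf_le_right.trans hCzQN) inf_le_right)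
      exact le_Nz_inf ((inf_le_right.trans hCzQ).trans (le_Nz_Op 2 C))
        (inf_le_right.trans Subgroup.le_normalizer)
    exact hsn1.trans (SN.of_normal inf_le_left hXn)
  have h2 : x ∈ Cz (Op 2 C) := by
    apply thompson_AxB (Op_isPGroup 2 C) hQ2 (hQC.trans (le_Nz_Op 2 C))
      (le_Nz_Op 2 C (hCzQ hx.2)) hx.2 hxc
    exact Cz_anti h1 hx.2
  exact eq_one_of_pGroup_of_coprime (Op_isPGroup 2 C)
    ((Fs_eq_Op_iff C).mp ht' ⟨hCzQ hx.2, h2⟩) hxc

end Cfsg.Agent.S1292
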