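import Cfsg.Statements.S1386
import Mathlib
import Cfsg.Agent.Lib.Helper1.Coprime
import Cfsg.Agent.Lib.Helper1.FrobF

set_option autoImplicit false
open Cfsg

namespace Cfsg.Agent.S1386


/-- Let G be a finite group, W₁, W₂ subgroups forming a self-normalizing cyclic pair, S a subgroup with W₂ ≤ S and W₁ a complement to S' in S, and (W₁, U, W₂') type-P data for S. Then W₂' = W₂ (that is, C_{S'}(W₁) = W₂). -/
theorem result {G : Type*} [Group G] [Finite G] (W₁ W₂ S U W₂' : Subgroup G) (hW : Cfsg.IsSelfNormalizingCyclic W₁ W₂)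
    (hSW : Cfsg.IsComplIn ⁅S, S⁆ W₁ S) (hW₂S : W₂ ≤ S) (hP : Cfsg.IsTypePWith S W₁ U W₂') :
    W₂' = W₂ := by
  obtain ⟨hW1ne, hW2ne, hW12, hcomm, hcyc, hnorm⟩ := hW
  obtain ⟨hS'S, hW1S, hS'W1, hdec⟩ := hSW
  obtain ⟨-, hW2'ne, hW12', hcomm', hcyc', hnorm'⟩ := hP.selfNormalizing
  obtain ⟨⟨w₁, hw₁⟩, hne1⟩ := (Subgroup.ne_bot_iff_exists_ne_one).mp hW1ne
  have hw₁ne : w₁ ≠ 1 := fun h => hne1 (Subtype.ext h)
  obtain ⟨⟨w₂, hw₂⟩, hne2⟩ := (Subgroup.ne_bot_iff_exists_ne_one).mp hW2ne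
  have hw₂ne : w₂ ≠ 1 := fun h => hne2 (Subtype.ext h)
  have hN : W₁ ≤ Subgroup.normalizer (W₂ : Set G) := by
    refine le_trans ?_ (Subgroup.centralizer_le_normalizer _)
    intro a ha
    rw [Subgroup.mem_centralizer_iff]
    intro b hb
    exact (hcomm a ha b hb).symm
  have hcard := Cfsg.Agent.Lib.Helper1.card_sup_mul_card_inf' W₁ W₂ hN
  rw [hW12, Subgroup.card_bot, mul_one] at hcard
  have hle : W₁ ⊔ W₂ ≤ S := sup_le hW1S hW₂S
  have hdvd : Nat.card W₂ ∣ W₁.relIndex S := by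
    have h1 := Subgroup.card_dvd_of_le hle
    have h2 := Subgroup.relIndex_mul_relIndex ⊥ W₁ S bot_le hW1S
    rw [Subgroup.relIndex_bot_left, Subgroup.relIndex_bot_left] at h2
    rw [hcard, ← h2] at h1
    exact Nat.dvd_of_mul_dvd_mul_left (Nat.card_pos) h1
  have hcop : (Nat.card W₁).Coprime (Nat.card W₂) := Nat.Coprime.coprime_dvd_right hdvd hP.W₁_hall
  have hW2le : W₂ ≤ W₂' := by
    intro w hw
    obtain ⟨a, ha, b, hb, hab⟩ := hdec w (hW₂S hw)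
    have hbw : b * w = w * b := hcomm b hb w hw
    have hba : Commute a b := by
      have ha' : a = w * b⁻¹ := by rw [hab, mul_inv_cancel_right]
      show a * b = b * a
      rw [ha', inv_mul_cancel_right, ← mul_assoc, hbw, mul_inv_cancel_right]
    have h1 : a ^ Nat.card W₂ * b ^ Nat.card W₂ = 1 := by
      rw [← hba.mul_pow, ← hab]
      have := pow_card_eq_one' (G := W₂) (x := ⟨w, hw⟩)
      exact congrArg Subtype.val this
    have h2 : b ^ Nat.card W₂ ∈ ⁅S, S⁆ ⊓ W₁ := by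
      refine ⟨?_, W₁.pow_mem hb _⟩
      rw [eq_inv_of_mul_eq_one_right h1]
      exact Subgroup.inv_mem _ (Subgroup.pow_mem _ ha _)
    rw [hS'W1, Subgroup.mem_bot] at h2
    have h3 : b ^ Nat.card W₁ = 1 := by
      have := pow_card_eq_one' (G := W₁) (x := ⟨b, hb⟩)
      exact congrArg Subtype.val this
    have hb1 : b = 1 := by
      have o1 := orderOf_dvd_of_pow_eq_one h2
      have o2 := orderOf_dvd_of_pow_eq_one h3
      have h := Nat.dvd_gcd o2 o1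
      rw [Nat.Coprime.gcd_eq_one hcop] at h
      exact orderOf_eq_one_iff.mp (Nat.dvd_one.mp h)
    rw [hb1, mul_one] at hab
    rw [← hP.W₂_centralizer w₁ hw₁ hw₁ne]
    refine Subgroup.mem_inf.mpr ⟨hab ▸ ha, ?_⟩
    rw [Subgroup.mem_centralizer_iff]
    intro h hh
    rw [Set.mem_singleton_iff] at hh
    subst hh
    exact hcomm _ hw₁ w hw
  apply le_antisymm _ hW2le
  intro v hv
  have hX : ({w₁ * w₂} : Set G) ⊆ (↑(W₁ ⊔ W₂) : Set G) \ (↑W₁ ∪ ↑W₂) := by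
    rintro _ rfl
    refine ⟨Subgroup.mul_mem _ ((le_sup_left : W₁ ≤ W₁ ⊔ W₂) hw₁)
      ((le_sup_right : W₂ ≤ W₁ ⊔ W₂) hw₂), ?_⟩
    rintro (h | h)
    · have : w₂ ∈ W₁ ⊓ W₂ := ⟨by simpa using W₁.mul_mem (W₁.inv_mem hw₁) h, hw₂⟩
      rw [hW12, Subgroup.mem_bot] at this
      exact hw₂ne this
    · have : w₁ ∈ W₁ ⊓ W₂ := ⟨hw₁, by simpa using W₂.mul_mem h (W₂.inv_mem hw₂)⟩
      rw [hW12, Subgroup.mem_bot] at this
      exact hw₁ne this
  have hNX := hnorm _ hX (Set.singleton_nonempty _)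
  have hvw₁ : w₁ * v = v * w₁ := hcomm' w₁ hw₁ v hv
  have hvw₂ : w₂ * v = v * w₂ := by
    have hc : IsMulCommutative ↥(W₁ ⊔ W₂') := IsCyclic.isMulCommutative
    have := hc.is_comm.comm ⟨w₂, (le_sup_right : W₂' ≤ W₁ ⊔ W₂') (hW2le hw₂)⟩
      ⟨v, (le_sup_right : W₂' ≤ W₁ ⊔ W₂') hv⟩
    exact congrArg Subtype.val this
  have hvN : v ∈ Subgroup.normalizer ({w₁ * w₂} : Set G) := by
    apply Subgroup.centralizer_le_normalizer
    rw [Subgroup.mem_centralizer_iff]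
    intro h hh
    rw [Set.mem_singleton_iff] at hh
    subst hh
    rw [mul_assoc, hvw₂, ← mul_assoc, hvw₁, mul_assoc]
  rw [hNX] at hvN
  obtain ⟨u, hu, t, ht, hvt⟩ := Cfsg.Agent.Lib.Helper1.FrobF.mem_sup_of_le_normalizer hN hvN
  have hu' : u ∈ W₁ ⊓ W₂' := ⟨hu, by
    have : u = v * t⁻¹ := by rw [hvt, mul_inv_cancel_right]
    rw [this]
    exact W₂'.mul_mem hv (W₂'.inv_mem (hW2le ht))⟩
  rw [hW12', Subgroup.mem_bot] at hu'
  rw [hvt, hu', one_mul]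
  exact ht

end Cfsg.Agent.S1386
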