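import Mathlib
import Cfsg.Statements.S3736
import Cfsg.Agent.S3803
import Cfsg.Agent.Lib.Helper1.Coprime2
import Cfsg.Agent.Lib.Helper1.Transfer1
import Cfsg.Agent.Lib.Helper2.Frattini2
import Cfsg.Agent.Lib.Helper9.SylowIn

set_option autoImplicit false
open Cfsg
open scoped commutatorElement

namespace Cfsg.Agent.S3736

open Cfsg.Agent.Lib.Helper1 Cfsg.Agent.Lib.Helper6.Basic

variable {X : Type*} [Group X]

theorem pow_mem_frattini {G : Type*} [Group G] [Finite G] {p : ℕ} [hp : Fact p.Prime]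
    (hG : IsPGroup p G) (x : G) : x ^ p ∈ frattini G := by
  rw [mem_frattini_iff]
  intro M hM
  obtain ⟨hn, hi⟩ := coatom_of_pgroup hG M hM
  haveI := hn
  rw [← hi]
  exact M.pow_index_mem x

theorem comm_comm [Finite X] (A P : Subgroup X) (hAP : A ≤ Subgroup.normalizer (P : Set X))
    (hcop : (Nat.card A).Coprime (Nat.card P)) (hsol : Group.IsSolvable P) :
    ⁅P, A⁆ ≤ ⁅⁅P, A⁆, A⁆ := by
  rw [Subgroup.commutator_le]
  intro k hk a ha
  obtain ⟨y, hy, c, hc, rfl⟩ := exists_commutator_mul_fixed A P hAP hcop (Or.inr hsol) k hk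
  have hca : a * c = c * a := Subgroup.mem_centralizer_iff.1 hc.2 a ha
  have e : ⁅y * c, a⁆ = ⁅y, a⁆ := by
    rw [commutatorElement_def, commutatorElement_def]
    calc y * c * a * (y * c)⁻¹ * a⁻¹ = y * (c * a) * c⁻¹ * y⁻¹ * a⁻¹ := by group
      _ = y * (a * c) * c⁻¹ * y⁻¹ * a⁻¹ := by rw [hca]
      _ = y * a * y⁻¹ * a⁻¹ := by group
  rw [e]
  exact Subgroup.commutator_mem_commutator hy ha

/-- normal subgroups of `P` centralized by `A` are central. -/
theorem central_of (A P U : Subgroup X) (hPA : ⁅P, A⁆ = P)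
    (hPU : P ≤ Subgroup.normalizer (U : Set X)) (hUA : ⁅U, A⁆ = ⊥) : ⁅P, U⁆ = ⊥ := by
  have h1 : ⁅⁅A, U⁆, P⁆ = ⊥ := by
    rw [Subgroup.commutator_comm A U, hUA, Subgroup.commutator_bot_left]
  have h2 : ⁅⁅U, P⁆, A⁆ = ⊥ := by
    rw [eq_bot_iff, ← hUA]
    exact Subgroup.commutator_mono (commutator_le_of_le_normalizer hPU) le_rfl
  have := Subgroup.commutator_commutator_eq_bot_of_rotate h1 h2
  rwa [hPA] at this

/-- transfer: central elements of `P` fixed by `A` lie in `P'`. -/
theorem mem_derived [Finite X] {p : ℕ} [hp : Fact p.Prime] (A P : Subgroup X) (hP : IsPGroup p P)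
    (hAP : A ≤ Subgroup.normalizer (P : Set X)) (hAp : (Nat.card A).Coprime p)
    (hPA : ⁅P, A⁆ = P) (u : X) (huP : u ∈ P) (hu1 : u ∈ Subgroup.centralizer (P : Set X))
    (hu2 : u ∈ Subgroup.centralizer (A : Set X)) : u ∈ ⁅P, P⁆ := by
  obtain ⟨n, hn⟩ := IsPGroup.iff_card.1 hP
  have hcop : (Nat.card A).Coprime (Nat.card P) := by rw [hn]; exact Nat.Coprime.pow_right n hAp
  have huS : u ∈ P ⊔ A := (le_sup_left : P ≤ P ⊔ A) huP
  have hcen : P ⊔ A ≤ Subgroup.centralizer ({u} : Set X) := by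
    apply sup_le
    · intro g hg
      rw [Subgroup.mem_centralizer_singleton_iff]
      exact (Subgroup.mem_centralizer_iff.1 hu1 g hg)
    · intro g hg
      rw [Subgroup.mem_centralizer_singleton_iff]
      exact (Subgroup.mem_centralizer_iff.1 hu2 g hg)
  have hzc : (⟨u, huS⟩ : ↥(P ⊔ A)) ∈ Subgroup.center ↥(P ⊔ A) := by
    rw [Subgroup.mem_center_iff]
    intro g
    apply Subtype.ext
    exact (Subgroup.mem_centralizer_singleton_iff.1 (hcen g.2))
  have hzG : (⟨u, huS⟩ : ↥(P ⊔ A)) ∈ commutator ↥(P ⊔ A) := by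
    have h1 : u ∈ ⁅P ⊔ A, P ⊔ A⁆ := by
      have : ⁅P, A⁆ ≤ ⁅P ⊔ A, P ⊔ A⁆ := Subgroup.commutator_mono le_sup_left le_sup_right
      apply this; rw [hPA]; exact huP
    rw [← Subgroup.map_subtype_commutator] at h1
    obtain ⟨w, hw, hwe⟩ := h1
    have : w = ⟨u, huS⟩ := Subtype.ext hwe
    rwa [this] at hw
  have h3 := center_commutator_pow (P.subgroupOf (P ⊔ A)) _ hzc hzG
  have hidx : (P.subgroupOf (P ⊔ A)).index = Nat.card A := by
    have h4 := S3744.card_mul_relIndex (le_sup_left : P ≤ P ⊔ A)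
    have h5 := card_sup_of_coprime A P hAP hcop
    rw [sup_comm] at h5
    rw [h5, mul_comm] at h4
    have hpos : 0 < Nat.card P := Nat.card_pos
    exact Nat.eq_of_mul_eq_mul_right hpos h4
  rw [hidx] at h3
  have h6 : u ^ Nat.card A ∈ ⁅P, P⁆ := by
    have h7 : (⁅P.subgroupOf (P ⊔ A), P.subgroupOf (P ⊔ A)⁆).map (P ⊔ A).subtype = ⁅P, P⁆ := by
      rw [Subgroup.map_commutator, Subgroup.subgroupOf_map_subtype, inf_eq_left.2 le_sup_left]
    rw [← h7]
    exact ⟨_, h3, rfl⟩
  have hou : (Nat.card A).Coprime (orderOf u) := by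
    have : orderOf u ∣ Nat.card P := by
      have := orderOf_dvd_natCard (⟨u, huP⟩ : P)
      rwa [Subgroup.orderOf_mk] at this
    exact Nat.Coprime.coprime_dvd_right this hcop
  obtain ⟨m, hm⟩ := exists_pow_eq_self_of_coprime hou
  rw [← hm]
  exact Subgroup.pow_mem _ h6 m

theorem result {X : Type*} [Group X] [Finite X] {p : ℕ} [Fact p.Prime] (B A P : Subgroup X) (hP : IsPGroup p P) (hBP : B ≤ Subgroup.normalizer (P : Set X)) (hAB : A ≤ B) (hAn : B ≤ Subgroup.normalizer (A : Set X)) (hAp : (Nat.card A).Coprime p) (hnt : ⁅P, A⁆ ≠ ⊥) (hmin : ∀ U : Subgroup X, U < P → B ≤ Subgroup.normalizer (U : Set X) → ⁅U, A⁆ = ⊥) : ⁅P, A⁆ = P ∧ (Cfsg.IsElementaryAbelian p P ∨ Cfsg.IsSpecial p ↥P) ∧ (∀ U : Subgroup X, (frattini ↥P).map P.subtype ≤ U → U ≤ P → B ≤ Subgroup.normalizer (U : Set X) → U = (frattini ↥P).map P.subtype ∨ U = P) ∧ (p ≠ 2 → ∀ x ∈ P, x ^ p = 1) := by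
  have hpp : p.Prime := Fact.out
  have hAP : A ≤ Subgroup.normalizer (P : Set X) := hAB.trans hBP
  obtain ⟨n, hn⟩ := IsPGroup.iff_card.1 hP
  have hcop : (Nat.card A).Coprime (Nat.card P) := by rw [hn]; exact Nat.Coprime.pow_right n hAp
  haveI hnil : Group.IsNilpotent P := hP.isNilpotent
  have hsol : Group.IsSolvable P := inferInstance
  -- C1
  have hKP : ⁅P, A⁆ ≤ P := commutator_le_of_le_normalizer hAP
  have hC1 : ⁅P, A⁆ = P := by
    by_contra hne
    have hlt : ⁅P, A⁆ < P := lt_of_le_of_ne hKP hne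
    have hBK : B ≤ Subgroup.normalizer ((⁅P, A⁆ : Subgroup X) : Set X) := by
      intro b hb
      rw [← cj_eq_self_iff]
      show (⁅P, A⁆).map (MulAut.conj b).toMonoidHom = _
      rw [Subgroup.map_commutator]
      have h1 : P.map (MulAut.conj b).toMonoidHom = P := cj_eq_self_iff.2 (hBP hb)
      have h2 : A.map (MulAut.conj b).toMonoidHom = A := cj_eq_self_iff.2 (hAn hb)
      rw [h1, h2]
    have h1 := hmin _ hlt hBK
    apply hnt
    rw [eq_bot_iff, ← h1]
    exact comm_comm A P hAP hcop hsol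
  have hPne : P ≠ ⊥ := by
    rintro rfl
    exact hnt (by rw [Subgroup.commutator_bot_left])
  haveI : Nontrivial P := (Subgroup.nontrivial_iff_ne_bot P).2 hPne
  -- characteristic subgroups
  have hchar : ∀ (C : Subgroup P) [C.Characteristic], C ≠ ⊤ →
      ⁅C.map P.subtype, A⁆ = ⊥ ∧ ⁅P, C.map P.subtype⁆ = ⊥ := by
    intro C _ hC
    have hlt : C.map P.subtype < P := by
      refine lt_of_le_of_ne (Subgroup.map_subtype_le C) ?_
      intro h
      apply hC
      rw [eq_top_iff]
      intro x _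
      have : (x : X) ∈ C.map P.subtype := by rw [h]; exact x.2
      obtain ⟨y, hy, hye⟩ := this
      have : y = x := Subtype.ext hye
      rwa [this] at hy
    have h1 := hmin _ hlt (hBP.trans (normalizer_le_normalizer_map_of_characteristic C))
    exact ⟨h1, central_of A P _ hC1
      (Subgroup.le_normalizer.trans (normalizer_le_normalizer_map_of_characteristic C)) h1⟩
  obtain ⟨hΦA, hΦZ⟩ := hchar (frattini P) frattini_lt_top.ne
  have hP'Φ : ⁅P, P⁆ ≤ (frattini P).map P.subtype := by
    rw [← Subgroup.map_subtype_commutator]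
    exact Subgroup.map_mono Cfsg.Agent.Lib.Helper2.Frattini.commutator_le_frattini
  have hΦcent : ∀ f ∈ (frattini P).map P.subtype, ∀ x ∈ P, Commute f x := by
    intro f hf x hx
    have := (Subgroup.commutator_eq_bot_iff_le_centralizer.1 hΦZ) hx
    exact Subgroup.mem_centralizer_iff.1 this f hf
  have hT := mem_derived A P hP hAP hAp hC1
  -- closed-under-multiplication Ω
  have hOmega : (∀ x ∈ P, ∀ y ∈ P, x ^ p = 1 → y ^ p = 1 → (x * y) ^ p = 1) →
      (∃ x ∈ P, x ^ p ≠ 1) →
      ∃ Ω : Subgroup X, (∀ x, x ∈ Ω ↔ x ∈ P ∧ x ^ p = 1) ∧ ⁅Ω, A⁆ = ⊥ ∧ ⁅P, Ω⁆ = ⊥ := by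
    intro hmul hex
    let Ω : Subgroup X :=
      { carrier := {x | x ∈ P ∧ x ^ p = 1}
        mul_mem' := fun {x y} hx hy => ⟨P.mul_mem hx.1 hy.1, hmul x hx.1 y hy.1 hx.2 hy.2⟩
        one_mem' := ⟨P.one_mem, one_pow _⟩
        inv_mem' := fun {x} hx => ⟨P.inv_mem hx.1, by rw [inv_pow, hx.2, inv_one]⟩ }
    have hmem : ∀ x, x ∈ Ω ↔ x ∈ P ∧ x ^ p = 1 := fun x => Iff.rfl
    have hnorm : Subgroup.normalizer (P : Set X) ≤ Subgroup.normalizer (Ω : Set X) := by
      rw [Subgroup.le_normalizer_iff]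
      intro g hg x hx
      rw [hmem] at hx ⊢
      exact ⟨(Subgroup.mem_normalizer_iff.1 hg x).1 hx.1, by rw [conj_pow, hx.2]; group⟩
    have hlt : Ω < P := by
      refine lt_of_le_of_ne (fun x hx => hx.1) ?_
      intro h
      obtain ⟨x, hx, hx1⟩ := hex
      rw [← h] at hx
      exact hx1 hx.2
    have h1 := hmin Ω hlt (hBP.trans hnorm)
    exact ⟨Ω, hmem, h1, central_of A P Ω hC1 (Subgroup.le_normalizer.trans hnorm) h1⟩
  refine ⟨hC1, ?_, ?_, ?_⟩
  · -- C2
    by_cases hab : ⁅P, P⁆ = ⊥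
    · left
      have hcomm : ∀ x ∈ P, ∀ y ∈ P, x * y = y * x := by
        intro x hx y hy
        have := (Subgroup.commutator_eq_bot_iff_le_centralizer.1 hab) hy
        exact Subgroup.mem_centralizer_iff.1 this x hx
      refine ⟨⟨⟨fun a b => Subtype.ext (hcomm a a.2 b b.2)⟩⟩, ?_⟩
      by_contra hcon
      push Not at hcon
      obtain ⟨Ω, hmem, hΩA, hΩZ⟩ := hOmega (by
        intro x hx y hy hx1 hy1
        rw [(show Commute x y from hcomm x hx y hy).mul_pow, hx1, hy1, one_mul]) hcon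
      have hdvd : p ∣ Nat.card P := by
        rw [hn]
        rcases n with _ | n
        · exfalso
          rw [pow_zero] at hn
          exact hPne ((Subgroup.card_eq_one).1 hn)
        · exact dvd_pow_self p (Nat.succ_ne_zero n)
      obtain ⟨a, haP, hao⟩ := Cfsg.Agent.Lib.Helper9.SylowIn.exists_order_p hdvd
      have haΩ : a ∈ Ω := (hmem a).2 ⟨haP, by rw [← hao]; exact pow_orderOf_eq_one a⟩
      have h1 := hT a haP
        (by
          have := (Subgroup.commutator_eq_bot_iff_le_centralizer.1 hab) haP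
          exact this)
        ((Subgroup.commutator_eq_bot_iff_le_centralizer.1 hΩA) haΩ)
      rw [hab, Subgroup.mem_bot] at h1
      rw [h1, orderOf_one] at hao
      exact hpp.one_lt.ne hao
    · right
      have hZne : Subgroup.center P ≠ ⊤ := by
        intro h
        apply hab
        rw [Subgroup.commutator_eq_bot_iff_le_centralizer]
        intro x hx y hy
        have : (⟨x, hx⟩ : P) ∈ Subgroup.center P := by rw [h]; exact Subgroup.mem_top _
        have h2 := Subgroup.mem_center_iff.1 this ⟨y, hy⟩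
        exact congrArg Subtype.val h2
      obtain ⟨hZA, hZZ⟩ := hchar (Subgroup.center P) hZne
      have h1 : Subgroup.center P ≤ commutator P := by
        intro z hz
        have hzm : (z : X) ∈ (Subgroup.center P).map P.subtype := ⟨z, hz, rfl⟩
        have h2 := hT z z.2
          (by
            rw [Subgroup.mem_centralizer_iff]
            intro y hy
            have := Subgroup.mem_center_iff.1 hz ⟨y, hy⟩
            exact congrArg Subtype.val this)
          ((Subgroup.commutator_eq_bot_iff_le_centralizer.1 hZA) hzm)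
        rw [← Subgroup.map_subtype_commutator] at h2
        obtain ⟨w, hw, hwe⟩ := h2
        have : w = z := Subtype.ext hwe
        rwa [this] at hw
      have h2 : commutator P ≤ frattini P := Cfsg.Agent.Lib.Helper2.Frattini.commutator_le_frattini
      have h3 : frattini P ≤ Subgroup.center P := by
        intro f hf
        rw [Subgroup.mem_center_iff]
        intro g
        apply Subtype.ext
        exact (hΦcent f ⟨f, hf, rfl⟩ g g.2).symm
      exact ⟨hP, le_antisymm h3 (h1.trans h2), le_antisymm (h2.trans h3) h1⟩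
  · -- C3
    intro U hΦU hUP hBU
    by_cases hU : U = P
    · right; exact hU
    · left
      have hUA := hmin U (lt_of_le_of_ne hUP hU) hBU
      have hPU : P ≤ Subgroup.normalizer (U : Set X) := by
        rw [Subgroup.le_normalizer_iff]
        intro g hg u hu
        have : g * u * g⁻¹ = ⁅g, u⁆ * u := by rw [commutatorElement_def]; group
        rw [this]
        exact U.mul_mem (hΦU (hP'Φ (Subgroup.commutator_mem_commutator hg (hUP hu)))) hu
      have hUZ := central_of A P U hC1 hPU hUA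
      apply le_antisymm _ hΦU
      intro u hu
      apply hP'Φ
      apply hT u (hUP hu)
      · rw [Subgroup.commutator_comm] at hUZ
        exact (Subgroup.commutator_eq_bot_iff_le_centralizer.1 hUZ) hu
      · exact (Subgroup.commutator_eq_bot_iff_le_centralizer.1 hUA) hu
  · -- C4
    intro hp2
    by_contra hcon
    push Not at hcon
    have hchoose : p ∣ p.choose 2 :=
      hpp.dvd_choose_self (by norm_num) (lt_of_le_of_ne hpp.two_le (Ne.symm hp2))
    obtain ⟨Ω, hmem, hΩA, -⟩ := hOmega (by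
      intro x hx y hy hx1 hy1
      have hc : ⁅y, x⁆ ∈ (frattini P).map P.subtype :=
        hP'Φ (Subgroup.commutator_mem_commutator hy hx)
      rw [mul_pow_of_class_two (hΦcent _ hc x hx) (hΦcent _ hc y hy), hx1, hy1, one_mul, one_mul]
      have h1 : ⁅y, x⁆ ^ p = 1 := by
        rw [← commutatorElement_pow_left (hΦcent _ hc y hy), hy1, commutatorElement_one_left]
      obtain ⟨t, ht⟩ := hchoose
      rw [ht, pow_mul, h1, one_pow]) hcon
    apply hnt
    rw [Subgroup.commutator_comm, Subgroup.commutator_eq_bot_iff_le_centralizer]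
    intro a ha
    apply S3803.mem_centralizer_of_hom_eq_one P a (hAP ha)
    apply aut_trivial (p := p) (m := Nat.card A) (e := p) hP _ hAp
      (S3803.hom_pow_card A P a ha (hAP ha)) dvd_rfl hchoose
    intro x hx
    have hxp : (x : X) ^ p = 1 := by
      have := congrArg Subtype.val hx
      rwa [Subgroup.coe_pow, Subgroup.coe_one] at this
    have hxΩ : (x : X) ∈ Ω := (hmem x).2 ⟨x.2, hxp⟩
    have h1 := (Subgroup.commutator_eq_bot_iff_le_centralizer.1 hΩA) hxΩ
    have h2 := Subgroup.mem_centralizer_iff.1 h1 a ha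
    apply Subtype.ext
    show a * (x : X) * a⁻¹ = x
    rw [h2, mul_inv_cancel_right]

end Cfsg.Agent.S3736
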