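import Mathlib
import Cfsg.Statements.S1441
import Cfsg.Agent.S3736

set_option autoImplicit false
open Cfsg

namespace Cfsg.Agent.S1441

open Cfsg.Agent.Lib.Helper1

theorem result {G : Type*} [Group G] [Finite G] (H A : Subgroup G) (hH : Group.IsSolvable H) (hA : (A ≤ Subgroup.normalizer (H : Set G)))
    (n : ℕ) (c : Fin (n + 1) → Subgroup G) (hc0 : c 0 = H) (hcn : c (Fin.last n) = ⊥) (hanti : Antitone c)
    (hcN : ∀ i, H ≤ Subgroup.normalizer ((c i : Subgroup G) : Set G)) (hcA : ∀ i, A ≤ Subgroup.normalizer ((c i : Subgroup G) : Set G))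
    (htriv : ∀ i : Fin n, ⁅c i.castSucc, A⁆ ≤ c i.succ) :
    ∀ p : ℕ, p.Prime → p ∣ (A ⊓ Subgroup.centralizer (H : Set G)).relIndex A → p ∣ Nat.card H := by
  intro p hp hdvd
  by_contra hpH
  haveI : Fact p.Prime := ⟨hp⟩
  obtain ⟨P⟩ : Nonempty (Sylow p A) := inferInstance
  set Q : Subgroup G := (P : Subgroup A).map A.subtype with hQ
  have hQA : Q ≤ A := Subgroup.map_subtype_le _
  have hQp : IsPGroup p Q := P.isPGroup'.map _
  obtain ⟨k, hk⟩ := IsPGroup.iff_card.1 hQp
  have hcop : (Nat.card Q).Coprime (Nat.card H) := by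
    rw [hk]; exact Nat.Coprime.pow_left k ((Nat.Prime.coprime_iff_not_dvd hp).2 hpH)
  have hQH : Q ≤ Subgroup.normalizer (H : Set G) := hQA.trans hA
  have hcc := S3736.comm_comm Q H hQH hcop hH
  have key : ∀ i : ℕ, ∀ hi : i < n + 1, ⁅H, Q⁆ ≤ c ⟨i, hi⟩ := by
    intro i
    induction i with
    | zero =>
      intro hi
      have : (⟨0, hi⟩ : Fin (n + 1)) = 0 := rfl
      rw [this, hc0]
      exact commutator_le_of_le_normalizer hQH
    | succ i ih =>
      intro hi
      have h1 := ih (by omega)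
      have h2 := htriv ⟨i, by omega⟩
      refine hcc.trans ((Subgroup.commutator_mono h1 hQA).trans ?_)
      exact h2
  have hbot : ⁅H, Q⁆ = ⊥ := by
    rw [eq_bot_iff, ← hcn]
    exact key n (by omega)
  have hQC : Q ≤ A ⊓ Subgroup.centralizer (H : Set G) :=
    le_inf hQA (Subgroup.le_centralizer_iff.1 (Subgroup.commutator_eq_bot_iff_le_centralizer.1 hbot))
  have h3 : (A ⊓ Subgroup.centralizer (H : Set G)).relIndex A ∣ Q.relIndex A :=
    Subgroup.relIndex_dvd_of_le_left A hQC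
  have h4 : Q.relIndex A = (P : Subgroup A).index := by
    rw [Subgroup.relIndex, hQ]
    congr 1
    ext x
    simp [Subgroup.mem_subgroupOf]
  rw [h4] at h3
  exact P.not_dvd_index (hdvd.trans h3)

end Cfsg.Agent.S1441
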