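import Mathlib
import Cfsg.Statements.S1442
import Cfsg.Agent.S3736

set_option autoImplicit false
open Cfsg

namespace Cfsg.Agent.S1442

open Cfsg.Agent.Lib.Helper1

theorem result {G : Type*} [Group G] [Finite G] (H A : Subgroup G) (hH : Group.IsNilpotent H) (hA : (A ≤ Subgroup.normalizer (H : Set G))) (hcop : (Nat.card A).Coprime (Nat.card H))
    (hC : H ⊓ Subgroup.centralizer (((H ⊓ Subgroup.centralizer (A : Set G)) : Subgroup G) : Set G) ≤ (H ⊓ Subgroup.centralizer (A : Set G))) :
    A ≤ Subgroup.centralizer (H : Set G) := by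
  set C := H ⊓ Subgroup.centralizer (A : Set G) with hCdef
  have hCH : C ≤ H := inf_le_left
  have hAC : A ≤ Subgroup.centralizer (C : Set G) := Subgroup.le_centralizer_iff.1 inf_le_right
  have hCA : ⁅C, A⁆ = ⊥ := Subgroup.commutator_eq_bot_iff_le_centralizer.2 inf_le_right
  suffices h : C = H by
    rw [Subgroup.le_centralizer_iff, ← h]; exact inf_le_right
  by_contra hne
  set N := H ⊓ Subgroup.normalizer (C : Set G) with hNdef
  have hAN : A ≤ Subgroup.normalizer (N : Set G) := by
    refine le_trans (le_inf hA ?_) Subgroup.inf_normalizer_le_normalizer_inf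
    exact (hAC.trans (Subgroup.centralizer_le_normalizer _)).trans Subgroup.le_normalizer
  have hNH : N ≤ H := inf_le_left
  have hsolH : Group.IsSolvable H := inferInstance
  have h1 : ⁅⁅A, C⁆, N⁆ = ⊥ := by
    rw [Subgroup.commutator_comm A C, hCA, Subgroup.commutator_bot_left]
  have h2 : ⁅⁅C, N⁆, A⁆ = ⊥ := by
    rw [eq_bot_iff, ← hCA]
    exact Subgroup.commutator_mono (commutator_le_of_le_normalizer inf_le_right) le_rfl
  have h3 := Subgroup.commutator_commutator_eq_bot_of_rotate h1 h2
  have h4 : ⁅N, A⁆ ≤ C := by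
    apply le_trans _ hC
    exact le_inf ((commutator_le_of_le_normalizer hAN).trans hNH)
      (Subgroup.commutator_eq_bot_iff_le_centralizer.1 h3)
  have h5 : ⁅N, A⁆ = ⊥ := by
    rw [eq_bot_iff]
    refine (S3736.comm_comm A N hAN
      (Nat.Coprime.coprime_dvd_right (Subgroup.card_dvd_of_le hNH) hcop)
      (isSolvable_of_le hNH hsolH)).trans ?_
    rw [← hCA]
    exact Subgroup.commutator_mono h4 le_rfl
  have hNC : N ≤ C := le_inf hNH (Subgroup.commutator_eq_bot_iff_le_centralizer.1 h5)
  -- normalizer condition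
  have hlt : C.subgroupOf H < ⊤ := by
    rw [lt_top_iff_ne_top]
    intro h
    rw [Subgroup.subgroupOf_eq_top] at h
    exact hne (le_antisymm hCH h)
  have h6 := Group.normalizerCondition_of_isNilpotent (G := H) _ hlt
  obtain ⟨y, hy1, hy2⟩ := SetLike.exists_of_lt h6
  rw [← Subgroup.subgroupOf_normalizer_eq hCH] at hy1
  exact hy2 (Subgroup.mem_subgroupOf.2 (hNC ⟨y.2, Subgroup.mem_subgroupOf.1 hy1⟩))

end Cfsg.Agent.S1442
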