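import Cfsg.Statements.S1457
import Cfsg.Agent.Lib.Helper9.OddStab
import Cfsg.Agent.Lib.Helper1.FunctStab

set_option autoImplicit false
open Cfsg

namespace Cfsg.Agent.S1457

open Cfsg.Agent.Lib.Helper9.OddStab Cfsg.Agent.Lib.Helper3.PStab

/-- Let G be a solvable group of odd order, p a prime, S a Sylow p-subgroup of G and A an abelian subgroup of S normal in S. Then A ≤ O_{p',p}(G). -/
theorem result {G : Type*} [Group G] [Finite G] [Group.IsSolvable G] (hodd : Odd (Nat.card G)) (p : ℕ) [Fact p.Prime] (S : Sylow p G) (A : Subgroup G) (hA : A ≤ (S : Subgroup G)) (hAc : IsMulCommutative A)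
    (hAn : (S : Subgroup G) ≤ Subgroup.normalizer (A : Set G)) :
    A ≤ Cfsg.pPrimePCore p G := by
  by_cases hp2 : p = 2
  · subst hp2
    have h1 : Nat.card (S : Subgroup G) = 1 := by
      rw [S.card_eq_multiplicity, Nat.factorization_eq_zero_of_not_dvd, pow_zero]
      exact fun h => (Nat.not_even_iff_odd.mpr hodd) (even_iff_two_dvd.mpr h)
    rw [Subgroup.card_eq_one] at h1
    rw [h1] at hA
    exact hA.trans bot_le
  · have hNn : (Cfsg.pPrimeCore p G).Normal := Cfsg.Agent.Lib.Helper1.pPrimeCore_normal p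
    have hoddq : Odd (Nat.card (G ⧸ Cfsg.pPrimeCore p G)) :=
      Odd.of_dvd_nat hodd (Subgroup.card_quotient_dvd_card _)
    have hPn : (Cfsg.pCore p (G ⧸ Cfsg.pPrimeCore p G)).Normal := Cfsg.Agent.Lib.Helper1.pCore_normal p
    have h1 := (stab_family (G := G ⧸ Cfsg.pPrimeCore p G) inferInstance (Ab2.of_odd hoddq) hp2
      (Cfsg.pCore p (G ⧸ Cfsg.pPrimeCore p G)) (Cfsg.Agent.Lib.Helper1.pCore_isPGroup p)
      {A.map (QuotientGroup.mk' (Cfsg.pPrimeCore p G))} (by
        intro B hB
        rw [Set.mem_singleton_iff] at hB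
        subst hB
        refine ⟨?_, (S.isPGroup'.to_le hA).map _, ?_⟩
        · refine ⟨⟨?_⟩⟩
          rintro ⟨_, x, hx, rfl⟩ ⟨_, y, hy, rfl⟩
          apply Subtype.ext
          change QuotientGroup.mk' _ x * QuotientGroup.mk' _ y = QuotientGroup.mk' _ y * QuotientGroup.mk' _ x
          rw [← map_mul, ← map_mul]
          exact congrArg _ (congrArg Subtype.val (hAc.is_comm.comm ⟨x, hx⟩ ⟨y, hy⟩))
        · refine (Cfsg.Agent.Lib.Helper1.pCore_le_sylow
            (S.mapSurjective (QuotientGroup.mk'_surjective (Cfsg.pPrimeCore p G)))).trans ?_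
          rw [Sylow.coe_mapSurjective]
          exact (Subgroup.map_mono hAn).trans (Subgroup.le_normalizer_map _))).2
      (Cfsg.Agent.Lib.Helper1.pPrimeCore_quotient_eq_bot p _ rfl) inf_le_left
    rw [sSup_singleton, Subgroup.map_le_iff_le_comap] at h1
    exact h1

end Cfsg.Agent.S1457
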