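import Mathlib
import Cfsg.Statements.S1460
import Cfsg.Agent.S4039
import Cfsg.Agent.Lib.Helper1.Coprime
import Cfsg.Agent.Lib.Helper6.Basic

set_option autoImplicit false
open Cfsg
open scoped Pointwise commutatorElement

namespace Cfsg.Agent.S1460

open Cfsg.Agent.Lib.Helper6.Basic Cfsg.Agent.Lib.Helper1

theorem result {G : Type*} [Group G] [Finite G] [Group.IsSolvable G] (K U H : Subgroup G) [K.Normal] (hKU : K ⊔ U = ⊤) (hH : H ≤ U) (hcop : (Nat.card H).Coprime (Nat.card K)) :
    H ⊓ commutator G = H ⊓ ⁅U, U⁆ ∧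
      Subgroup.normalizer (H : Set G) = (K ⊓ Subgroup.centralizer (H : Set G)) ⊔ (U ⊓ Subgroup.normalizer (H : Set G)) ∧
      ∀ g : G, H.map (MulAut.conj g).toMonoidHom ≤ U → ∃ u ∈ U, ∃ c ∈ K ⊓ Subgroup.centralizer (H : Set G), g = u * c := by
  have hT : ∀ g : G, g ∈ U ⊔ K := fun g => by rw [sup_comm, hKU]; trivial
  have part3 : ∀ g : G, cj g H ≤ U →
      ∃ u ∈ U, ∃ c ∈ K ⊓ Subgroup.centralizer (H : Set G), g = u * c := by
    intro g hg
    obtain ⟨u, hu, k, hk, rfl⟩ := Subgroup.mem_sup_of_normal_right.1 (hT g)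
    have hkU : ∀ h ∈ H, k * h * k⁻¹ ∈ U := by
      intro h hh
      have h1 : (u * k) * h * (u * k)⁻¹ ∈ U := hg (conj_mem_cj hh)
      have e : k * h * k⁻¹ = u⁻¹ * ((u * k) * h * (u * k)⁻¹) * u := by group
      rw [e]
      exact U.mul_mem (U.mul_mem (U.inv_mem hu) h1) hu
    have hHD : H ≤ Subgroup.normalizer ((K ⊓ U : Subgroup G) : Set G) := by
      intro a ha
      apply S4039.mem_normalizer_of_conj_mem
      intro y hy
      exact ⟨‹K.Normal›.conj_mem y hy.1 a, U.mul_mem (U.mul_mem (hH ha) hy.2) (U.inv_mem (hH ha))⟩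
    obtain ⟨d, hd, hdc⟩ := exists_fixed_in_coset H (K ⊓ U) hHD
      (Nat.Coprime.coprime_dvd_right (Subgroup.card_dvd_of_le inf_le_left) hcop)
      (Or.inl inferInstance) k⁻¹ (by
        intro a ha
        rw [inv_inv]
        refine ⟨K.mul_mem hk (‹K.Normal›.conj_mem _ (K.inv_mem hk) a), ?_⟩
        have e : k * (a * k⁻¹ * a⁻¹) = (k * a * k⁻¹) * a⁻¹ := by group
        show k * (a * k⁻¹ * a⁻¹) ∈ U
        rw [e]
        exact U.mul_mem (hkU a ha) (U.inv_mem (hH ha)))
    exact ⟨u * d, U.mul_mem hu hd.2, (k⁻¹ * d)⁻¹,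
      ⟨K.inv_mem (K.mul_mem (K.inv_mem hk) hd.1), Subgroup.inv_mem _ hdc⟩, by group⟩
  refine ⟨?_, ?_, part3⟩
  · have hUU : ⁅U, U⁆ ≤ U := by
      rw [Subgroup.commutator_le]
      intro a ha b hb
      exact U.mul_mem (U.mul_mem (U.mul_mem ha hb) (U.inv_mem ha)) (U.inv_mem hb)
    have hG' : commutator G ≤ ⁅U, U⁆ ⊔ K := by
      rw [commutator_def, Subgroup.commutator_le]
      intro a _ b _
      obtain ⟨u1, hu1, k1, hk1, rfl⟩ := Subgroup.mem_sup_of_normal_right.1 (hT a)
      obtain ⟨u2, hu2, k2, hk2, rfl⟩ := Subgroup.mem_sup_of_normal_right.1 (hT b)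
      have hmem : ⁅u1, u2⁆⁻¹ * ⁅u1 * k1, u2 * k2⁆ ∈ K := by
        rw [← QuotientGroup.eq]
        have e1 : QuotientGroup.mk' K (u1 * k1) = QuotientGroup.mk' K u1 := by
          have : QuotientGroup.mk' K k1 = 1 := (QuotientGroup.eq_one_iff k1).2 hk1
          rw [map_mul, this, mul_one]
        have e2 : QuotientGroup.mk' K (u2 * k2) = QuotientGroup.mk' K u2 := by
          have : QuotientGroup.mk' K k2 = 1 := (QuotientGroup.eq_one_iff k2).2 hk2
          rw [map_mul, this, mul_one]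
        show QuotientGroup.mk' K ⁅u1, u2⁆ = QuotientGroup.mk' K ⁅u1 * k1, u2 * k2⁆
        rw [map_commutatorElement, map_commutatorElement, e1, e2]
      have e : ⁅u1 * k1, u2 * k2⁆ = ⁅u1, u2⁆ * (⁅u1, u2⁆⁻¹ * ⁅u1 * k1, u2 * k2⁆) := by group
      rw [e]
      exact Subgroup.mul_mem _
        (Subgroup.mem_sup_left (Subgroup.commutator_mem_commutator hu1 hu2))
        (Subgroup.mem_sup_right hmem)
    apply le_antisymm
    · rintro x ⟨hxH, hxG⟩
      refine ⟨hxH, ?_⟩
      obtain ⟨w, hw, k, hk, hwk⟩ := Subgroup.mem_sup_of_normal_right.1 (hG' hxG)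
      have hwU : w ∈ U := hUU hw
      have hkU : k ∈ U := by
        have e : k = w⁻¹ * x := by rw [← hwk]; group
        rw [e]
        exact U.mul_mem (U.inv_mem hwU) (hH hxH)
      have hker : ∀ y : U, Abelianization.of y = 1 ↔ y ∈ commutator U := by
        intro y
        rw [← Abelianization.ker_of, MonoidHom.mem_ker]
      have hw' : (⟨w, hwU⟩ : U) ∈ commutator U := by
        rw [← Subgroup.map_subtype_commutator] at hw
        obtain ⟨w', hw', e⟩ := hw
        have : w' = ⟨w, hwU⟩ := Subtype.ext e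
        rwa [← this]
      have e1 : (Abelianization.of (⟨x, hH hxH⟩ : U)) = Abelianization.of (⟨k, hkU⟩ : U) := by
        have : (⟨x, hH hxH⟩ : U) = ⟨w, hwU⟩ * ⟨k, hkU⟩ := Subtype.ext hwk.symm
        rw [this, map_mul, (hker _).2 hw', one_mul]
      have o1 : orderOf (Abelianization.of (⟨x, hH hxH⟩ : U)) ∣ Nat.card K := by
        apply orderOf_dvd_of_pow_eq_one
        rw [e1, ← map_pow]
        have : (⟨k, hkU⟩ : U) ^ Nat.card K = 1 := by
          apply Subtype.ext
          have h9 := pow_card_eq_one' (x := (⟨k, hk⟩ : K))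
          have h10 : k ^ Nat.card K = 1 := congrArg Subtype.val h9
          simpa using h10
        rw [this, map_one]
      have o2 : orderOf (Abelianization.of (⟨x, hH hxH⟩ : U)) ∣ Nat.card H := by
        apply orderOf_dvd_of_pow_eq_one
        rw [← map_pow]
        have : (⟨x, hH hxH⟩ : U) ^ Nat.card H = 1 := by
          apply Subtype.ext
          have h9 := pow_card_eq_one' (x := (⟨x, hxH⟩ : H))
          have h10 : x ^ Nat.card H = 1 := congrArg Subtype.val h9
          simpa using h10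
        rw [this, map_one]
      have o3 : orderOf (Abelianization.of (⟨x, hH hxH⟩ : U)) = 1 :=
        Nat.dvd_one.1 (hcop ▸ Nat.dvd_gcd o2 o1)
      rw [orderOf_eq_one_iff, hker] at o3
      show x ∈ ⁅U, U⁆
      rw [← Subgroup.map_subtype_commutator]
      exact ⟨_, o3, rfl⟩
    · rw [commutator_def]
      exact inf_le_inf_left _ (Subgroup.commutator_mono le_top le_top)
  · apply le_antisymm
    · intro g hg
      obtain ⟨u, hu, c, hc, rfl⟩ := part3 g (by rw [cj_eq_self_iff.2 hg]; exact hH)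
      have hcN : c ∈ Subgroup.normalizer (H : Set G) := Subgroup.centralizer_le_normalizer _ hc.2
      have huN : u ∈ Subgroup.normalizer (H : Set G) := by
        have := Subgroup.mul_mem _ hg (Subgroup.inv_mem _ hcN)
        simpa using this
      exact Subgroup.mul_mem _ (Subgroup.mem_sup_right ⟨hu, huN⟩) (Subgroup.mem_sup_left hc)
    · exact sup_le (inf_le_right.trans (Subgroup.centralizer_le_normalizer _)) inf_le_right

end Cfsg.Agent.S1460
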