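import Cfsg.Statements.S1461
import Cfsg.Agent.Lib.Helper9.PLen1

set_option autoImplicit false
open Cfsg
open scoped commutatorElement
open Pointwise

namespace Cfsg.Agent.S1461

open Cfsg.Agent.Lib.Helper1 Cfsg.Agent.Lib.Helper9.PLen1

/-- Let G be a finite solvable group, p a prime with G = O_{p',p,p'}(G), and S a Sylow p-subgroup. Then: if S ≤ G' then S ≤ [N_G(S), N_G(S)]; if Y ⊆ S and xYx⁻¹ ⊆ S then x = g c for some g ∈ N_G(S) and c centralizing Y; and for every p-subgroup Q there is x ∈ C_G(Q ∩ S) with xQx⁻¹ ≤ S. -/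
theorem result {G : Type*} [Group G] [Finite G] [Group.IsSolvable G] (p : ℕ) [Fact p.Prime] (hpl : Cfsg.PLengthLE p 1 G) (S : Sylow p G) :
    ((S : Subgroup G) ≤ commutator G → (S : Subgroup G) ≤ ⁅Subgroup.normalizer ((S : Subgroup G) : Set G), Subgroup.normalizer ((S : Subgroup G) : Set G)⁆) ∧
      (∀ (Y : Set G) (x : G), Y ⊆ (S : Subgroup G) → (fun y => x * y * x⁻¹) '' Y ⊆ (S : Subgroup G) →
        ∃ g ∈ Subgroup.normalizer ((S : Subgroup G) : Set G), ∃ c ∈ Subgroup.centralizer Y, g * c = x) ∧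
      ∀ Q : Subgroup G, IsPGroup p Q → ∃ x ∈ Subgroup.centralizer ((Q ⊓ (S : Subgroup G) : Subgroup G) : Set G), Q.map (MulAut.conj x).toMonoidHom ≤ (S : Subgroup G) := by
  obtain ⟨K, M, hK, hM, hKM, hKc, hp1, hp2⟩ := struct hpl
  -- Frattini decomposition
  have hfr : ∀ x : G, ∃ n ∈ Subgroup.normalizer ((S : Subgroup G) : Set G), ∃ k ∈ K, n * k = x := by
    intro x
    obtain ⟨k, hk, hc⟩ := sylow_conj hKM hKc hp1 hp2 S (x⁻¹ • S)
    rw [Sylow.coe_subgroup_smul] at hc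
    have h1 : x * k ∈ Subgroup.normalizer ((S : Subgroup G) : Set G) := by
      apply mem_normalizer_of_conj_smul_eq
      rw [map_mul, mul_smul, hc, ← mul_smul, ← map_mul]
      simp
    exact ⟨x * k, h1, k⁻¹, K.inv_mem hk, by group⟩
  refine ⟨?_, ?_, ?_⟩
  · intro hS
    set N := Subgroup.normalizer ((S : Subgroup G) : Set G) with hN
    have hcomm : commutator G ≤ ⁅N, N⁆ ⊔ K := by
      rw [commutator_def, Subgroup.commutator_le]
      intro a _ b _
      obtain ⟨n1, hn1, k1, hk1, rfl⟩ := hfr a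
      obtain ⟨n2, hn2, k2, hk2, rfl⟩ := hfr b
      have h1 : ⁅n1, n2⁆⁻¹ * ⁅n1 * k1, n2 * k2⁆ ∈ K := by
        rw [← QuotientGroup.eq_one_iff, ← QuotientGroup.mk'_apply]
        have e1 : QuotientGroup.mk' K k1 = 1 := (QuotientGroup.eq_one_iff _).2 hk1
        have e2 : QuotientGroup.mk' K k2 = 1 := (QuotientGroup.eq_one_iff _).2 hk2
        simp only [map_mul, map_inv, map_commutatorElement, e1, e2, mul_one, inv_mul_cancel]
      have h2 : ⁅n1 * k1, n2 * k2⁆ = ⁅n1, n2⁆ * (⁅n1, n2⁆⁻¹ * ⁅n1 * k1, n2 * k2⁆) := by group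
      rw [h2]
      exact Subgroup.mul_mem_sup (Subgroup.commutator_mem_commutator hn1 hn2) h1
    intro s hs
    obtain ⟨c, hc, k, hk, hck⟩ := Subgroup.mem_sup_of_normal_right.1 (hcomm (hS hs))
    have hcN : c ∈ N := Subgroup.commutator_le_self N hc
    have hsN : s ∈ N := Subgroup.le_normalizer hs
    have hkN : k ∈ N := by
      have : k = c⁻¹ * s := by rw [← hck]; group
      rw [this]; exact N.mul_mem (N.inv_mem hcN) hsN
    -- pass to the abelianization of `N`
    have hker : ∀ z : N, Abelianization.of z = 1 ↔ (z : G) ∈ ⁅N, N⁆ := by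
      intro z
      rw [← Subgroup.map_subtype_commutator, ← MonoidHom.mem_ker, Abelianization.ker_of]
      constructor
      · intro h; exact ⟨z, h, rfl⟩
      · rintro ⟨w, hw, hwz⟩
        have : w = z := Subtype.ext hwz
        rwa [← this]
    have e1 : Abelianization.of (⟨s, hsN⟩ : N) = Abelianization.of (⟨k, hkN⟩ : N) := by
      have : (⟨s, hsN⟩ : N) = ⟨c, hcN⟩ * ⟨k, hkN⟩ := Subtype.ext hck.symm
      rw [this, map_mul, (hker ⟨c, hcN⟩).2 hc, one_mul]
    have o1 : orderOf (Abelianization.of (⟨s, hsN⟩ : N)) ∣ orderOf s := by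
      have := orderOf_map_dvd (Abelianization.of (G := N)) (⟨s, hsN⟩ : N)
      rwa [Subgroup.orderOf_mk] at this
    have o2 : orderOf (Abelianization.of (⟨k, hkN⟩ : N)) ∣ Nat.card K := by
      have := orderOf_map_dvd (Abelianization.of (G := N)) (⟨k, hkN⟩ : N)
      rw [Subgroup.orderOf_mk] at this
      have h3 : orderOf k ∣ Nat.card K := by
        have := orderOf_dvd_natCard (⟨k, hk⟩ : K)
        rwa [Subgroup.orderOf_mk] at this
      exact this.trans h3
    obtain ⟨a, ha⟩ := (IsPGroup.iff_orderOf.1 S.2) ⟨s, hs⟩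
    rw [Subgroup.orderOf_mk] at ha
    rw [ha] at o1
    rw [← e1] at o2
    have o3 : orderOf (Abelianization.of (⟨s, hsN⟩ : N)) = 1 :=
      Nat.Coprime.eq_one_of_dvd ((Nat.Coprime.pow_right a hKc).symm.coprime_dvd_left o1) o2
    exact (hker ⟨s, hsN⟩).1 (orderOf_eq_one_iff.1 o3)
  · intro Y x hY hx
    obtain ⟨n, hn, k, hk, rfl⟩ := hfr x
    refine ⟨n, hn, k, ?_, rfl⟩
    rw [Subgroup.mem_centralizer_iff]
    intro y hy
    apply comm_of_mem hKc S.2 hk (hY hy)
    have h1 : n * k * y * (n * k)⁻¹ ∈ (S : Subgroup G) := hx ⟨y, hy, rfl⟩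
    have h2 := (Subgroup.mem_normalizer_iff.1 hn (k * y * k⁻¹)).2
    apply h2
    have : n * (k * y * k⁻¹) * n⁻¹ = n * k * y * (n * k)⁻¹ := by group
    rw [this]; exact h1
  · intro Q hQ
    obtain ⟨T, hT⟩ := hQ.exists_le_sylow
    obtain ⟨k, hk, hc⟩ := sylow_conj hKM hKc hp1 hp2 T S
    have hmem : ∀ y ∈ Q, k * y * k⁻¹ ∈ (S : Subgroup G) := by
      intro y hy
      rw [← hc]
      exact mem_conj_smul.2 (by simpa [mul_assoc] using hT hy)
    refine ⟨k, ?_, ?_⟩
    · rw [Subgroup.mem_centralizer_iff]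
      intro y hy
      exact comm_of_mem hKc S.2 hk hy.2 (hmem y hy.1)
    · rintro _ ⟨y, hy, rfl⟩
      exact hmem y hy

end Cfsg.Agent.S1461
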