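import Cfsg.Statements.S1462
import Cfsg.Agent.Lib.Helper9.Omega1
import Cfsg.Agent.Lib.Helper9.PLen1

set_option autoImplicit false
open Cfsg
open Pointwise

namespace Cfsg.Agent.S1462

open Cfsg.Agent.Lib.Helper1 Cfsg.Agent.Lib.Helper9.Omega1 Cfsg.Agent.Lib.Helper9.PLen1
  Cfsg.Agent.Lib.Helper9.PSolv Cfsg.Agent.Lib.Helper3.PLocal

/-- Let G be a finite solvable group, p an odd prime with G = O_{p',p,p'}(G), E an elementary abelian p-subgroup contained in no larger elementary abelian p-subgroup of G, and L a subgroup of order coprime to p normalized by E. Then L ≤ O_{p'}(G). -/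
theorem result {G : Type*} [Group G] [Finite G] [Group.IsSolvable G] (p : ℕ) [Fact p.Prime] (hp : p ≠ 2) (hpl : Cfsg.PLengthLE p 1 G) (E L : Subgroup G) (hE : Cfsg.IsElementaryAbelian p E)
    (hEmax : ∀ B : Subgroup G, Cfsg.IsElementaryAbelian p B → E ≤ B → B = E) (hL : (Nat.card L).Coprime p) (hEL : E ≤ Subgroup.normalizer (L : Set G)) :
    L ≤ Cfsg.pPrimeCore p G := by
  have hpp : p.Prime := Fact.out
  obtain ⟨K, M, hK, hM, hKM, hKc, hp1, hp2⟩ := struct hpl
  have hsol : Cfsg.IsPSolvable p G :=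
    of_chain3 K M hK hM hKM (Or.inr (by rwa [Subgroup.relIndex_bot_left])) (Or.inl hp1)
      (Or.inr (by rwa [Subgroup.relIndex_top_right]))
  set O := Cfsg.pPrimeCore p G with hO
  have hOn : O.Normal := Cfsg.Agent.Lib.Helper1.pPrimeCore_normal p
  have hOc : (Nat.card O).Coprime p := pPrimeCore_coprime p
  have hKO : K ≤ O := le_pPrimeCore hK hKc
  obtain ⟨S, hES⟩ := (ea_isPGroup hE).exists_le_sylow
  have hSO : (S : Subgroup G) ⊓ O = ⊥ := by
    have : (Nat.card (S : Subgroup G)).Coprime (Nat.card O) := by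
      obtain ⟨a, ha⟩ := IsPGroup.iff_card.1 S.2
      rw [ha]
      exact (Nat.Coprime.pow_right a hOc).symm
    exact (Subgroup.disjoint_of_coprime_natCard this).eq_bot
  -- `O ⊔ S` is normal
  have hnorm : (O ⊔ (S : Subgroup G)).Normal := by
    rw [← Subgroup.normalizer_eq_top_iff, eq_top_iff]
    intro g _
    apply mem_normalizer_of_conj_smul_eq
    obtain ⟨k, hk, hc⟩ := sylow_conj hKM hKc hp1 hp2 S (g • S)
    rw [Sylow.coe_subgroup_smul] at hc
    have e1 : MulAut.conj g • O = O := Subgroup.Normal.conj_smul_eq_self g O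
    have e2 : MulAut.conj k • O = O := Subgroup.Normal.conj_smul_eq_self k O
    rw [Subgroup.smul_sup, ← hc, e1]
    nth_rewrite 1 [← e2]
    rw [← Subgroup.smul_sup]
    exact Subgroup.conj_smul_eq_self_of_mem ((le_sup_left : O ≤ O ⊔ (S : Subgroup G)) (hKO hk))
  let π := QuotientGroup.mk' O
  have hπ : Function.Surjective π := QuotientGroup.mk'_surjective O
  have hker : ∀ z : G, π z = 1 ↔ z ∈ O := fun z => QuotientGroup.eq_one_iff z
  set Sb : Subgroup (G ⧸ O) := (S : Subgroup G).map π with hSb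
  have hSbn : Sb.Normal := by
    have h1 : (O ⊔ (S : Subgroup G)).map π = Sb := by
      rw [Subgroup.map_sup]
      have : O.map π = ⊥ := QuotientGroup.map_mk'_self O
      rw [this, bot_sup_eq]
    rw [← h1]
    exact hnorm.map π hπ
  have hSbp : IsPGroup p Sb := S.2.map π
  -- injectivity of `π` on `S`
  have hinj : ∀ s ∈ (S : Subgroup G), π s = 1 → s = 1 := by
    intro s hs h1
    have : s ∈ (S : Subgroup G) ⊓ O := ⟨hs, (hker s).1 h1⟩
    rwa [hSO, Subgroup.mem_bot] at this
  have hcore : Cfsg.pCore p (G ⧸ O) ≤ Sb := by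
    have := normal_pgroup_le_sylow (Cfsg.Agent.Lib.Helper1.pCore_normal p) (pCore_isPGroup (G := G ⧸ O) p) (S.mapSurjective hπ)
    rwa [Sylow.coe_mapSurjective] at this
  have hcore2 : Sb ≤ Cfsg.pCore p (G ⧸ O) := le_pCore hSbn hSbp
  have hcoreq : Cfsg.pCore p (G ⧸ O) = Sb := le_antisymm hcore hcore2
  have hHH : Subgroup.centralizer (Sb : Set (G ⧸ O)) ≤ Sb := by
    have := hall_higman (quotient hpp hsol O) (pPrimeCore_quotient_eq_bot p O rfl)
    rwa [hcoreq] at this
  intro l hl
  have hlo : (orderOf l).Coprime p := by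
    have h1 : orderOf l ∣ Nat.card L := by
      have := orderOf_dvd_natCard (⟨l, hl⟩ : L)
      rwa [Subgroup.orderOf_mk] at this
    exact Nat.Coprime.coprime_dvd_left h1 hL
  have hlbo : (orderOf (π l)).Coprime p := Nat.Coprime.coprime_dvd_left (orderOf_map_dvd π l) hlo
  -- an element of `L` whose image lies in `Sb` lies in `O`
  have htriv : ∀ z ∈ L, π z ∈ Sb → π z = 1 := by
    intro z hz hzS
    have h1 : orderOf z ∣ Nat.card L := by
      have := orderOf_dvd_natCard (⟨z, hz⟩ : L)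
      rwa [Subgroup.orderOf_mk] at this
    have h2 : (orderOf (π z)).Coprime p :=
      Nat.Coprime.coprime_dvd_left ((orderOf_map_dvd π z).trans h1) hL
    obtain ⟨k, hk⟩ := (IsPGroup.iff_orderOf.1 hSbp) ⟨π z, hzS⟩
    rw [Subgroup.orderOf_mk] at hk
    rw [hk] at h2
    have h3 : p ^ k = 1 := by
      have := Nat.Coprime.pow_right k h2
      exact (Nat.coprime_self _).1 this
    rw [h3] at hk
    exact orderOf_eq_one_iff.1 hk
  have hcomm : ∀ e ∈ E, π l * π e = π e * π l := by
    intro e he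
    have h1 : l * (e * l⁻¹ * e⁻¹) ∈ L :=
      L.mul_mem hl ((Subgroup.mem_normalizer_iff.1 (hEL he) l⁻¹).1 (L.inv_mem hl))
    have h2 : π (l * (e * l⁻¹ * e⁻¹)) ∈ Sb := by
      have e1 : π (l * (e * l⁻¹ * e⁻¹)) = (π l * π e * (π l)⁻¹) * (π e)⁻¹ := by
        simp only [map_mul, map_inv, mul_assoc]
      rw [e1]
      have he' : π e ∈ Sb := ⟨e, hES he, rfl⟩
      exact Sb.mul_mem (hSbn.conj_mem _ he' _) (Sb.inv_mem he')
    have h3 := htriv _ h1 h2
    have e1 : π (l * (e * l⁻¹ * e⁻¹)) = (π l * π e) * (π e * π l)⁻¹ := by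
      simp only [map_mul, map_inv, mul_inv_rev, mul_assoc]
    rw [e1] at h3
    exact mul_inv_eq_one.1 h3
  have hcent : π l ∈ Subgroup.centralizer (Sb : Set (G ⧸ O)) := by
    apply mem_centralizer_of_omega hp hSbp (Subgroup.map_mono hES) (ea_map π hE)
      (by rw [Subgroup.normalizer_eq_top]; exact Subgroup.mem_top _) hlbo
    rintro x ⟨⟨s, hs, rfl⟩, hxC⟩ hxo
    have hsp : s ^ p = 1 := by
      apply hinj _ (Subgroup.pow_mem _ hs p)
      rw [map_pow, ← hxo]; exact pow_orderOf_eq_one _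
    have hsE : ∀ e ∈ E, e * s = s * e := by
      intro e he
      have h1 : π e * π s = π s * π e :=
        (Subgroup.mem_centralizer_iff.1 hxC) (π e) ⟨e, he, rfl⟩
      have h2 : e * s * (s * e)⁻¹ = 1 := by
        apply hinj _ (Subgroup.mul_mem _ (Subgroup.mul_mem _ (hES he) hs)
          (Subgroup.inv_mem _ (Subgroup.mul_mem _ hs (hES he))))
        rw [map_mul, map_inv, map_mul, map_mul, h1, mul_inv_cancel]
      exact mul_inv_eq_one.1 h2
    have hB := ea_sup hE (ea_zpowers hsp) (by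
      rintro e he _ ⟨j, rfl⟩
      exact (Commute.zpow_right (show Commute e s from hsE e he) j))
    have hBE := hEmax _ hB le_sup_left
    have hsmem : s ∈ E := by
      rw [← hBE]
      exact (le_sup_right : Subgroup.zpowers s ≤ _) (Subgroup.mem_zpowers s)
    exact hcomm s hsmem
  exact (hker l).1 (htriv l hl (hHH hcent))

end Cfsg.Agent.S1462
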