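import Cfsg.Statements.S1473
import Cfsg.Agent.Lib.Helper3.CN3
open Cfsg.Agent.Lib.Helper3

set_option autoImplicit false
open Cfsg

namespace Cfsg.Agent.S1473

universe u

theorem main : ∀ (n : ℕ) (G : Type u) [Group G] [Finite G], Nat.card G = n → Cfsg.IsCNGroup G →
    ∀ (H : Subgroup G) [H.Normal], Group.IsSolvable H → Cfsg.IsCNGroup (G ⧸ H) := by
  intro n
  induction n using Nat.strong_induction_on with
  | _ n ih =>
  intro G _ _ hn hCN H hHn hH
  by_cases hH1 : H = ⊥
  · subst hH1
    exact CN.cn_of_equiv QuotientGroup.quotientBot.symm hCN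
  haveI : Nontrivial H := (Subgroup.nontrivial_iff_ne_bot H).2 hH1
  haveI := hH
  obtain ⟨D, hDc, hD1, hDab⟩ := Cfsg.Agent.Lib.Helper2.Solvable.exists_abelian_characteristic (G := H)
  have hDn : (D.map H.subtype).Normal := ConjAct.normal_of_characteristic_of_normal
  have hDab' : ∀ x ∈ D.map H.subtype, ∀ y ∈ D.map H.subtype, x * y = y * x := by
    rintro _ ⟨x, hx, rfl⟩ _ ⟨y, hy, rfl⟩
    exact congrArg Subtype.val (hDab x hx y hy)
  have hcard : Nat.card (D.map H.subtype) ≠ 1 := by
    intro h
    have h1 := Subgroup.card_eq_one.1 h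
    rw [Subgroup.map_eq_bot_iff_of_injective _ H.subtype_injective] at h1
    exact hD1 h1
  obtain ⟨p, hp, hpd⟩ := Nat.exists_prime_and_dvd hcard
  haveI : Fact p.Prime := ⟨hp⟩
  obtain ⟨z, hz⟩ := exists_prime_orderOf_dvd_card' p hpd
  set N : Subgroup G := Cfsg.Agent.Lib.Helper2.Solvable.omegaAb (D.map H.subtype) hDab' p with hN
  have hNn : N.Normal := by
    constructor
    intro x hx g
    refine ⟨hDn.conj_mem x hx.1 g, ?_⟩
    rw [conj_pow, hx.2]
    group
  have hN1 : N ≠ ⊥ := by
    intro h
    have hzm : (z : G) ∈ N := by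
      refine ⟨z.2, ?_⟩
      have := pow_orderOf_eq_one z
      rw [hz] at this
      exact congrArg Subtype.val this
    rw [h, Subgroup.mem_bot] at hzm
    have : z = 1 := Subtype.ext hzm
    rw [this, orderOf_one] at hz
    exact hp.one_lt.ne hz
  have hNp : IsPGroup p N :=
    Cfsg.Agent.Lib.Helper2.Solvable.isPGroup_of_pow_eq_one (fun x hx => hx.2)
  have hNH : N ≤ H := fun x hx => Subgroup.map_subtype_le D hx.1
  have hQ := CN.cn_quotient_of_abelian_pgroup hCN N hNp hN1 (fun a ha b hb => hDab' a ha.1 b hb.1)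
  have hlt : Nat.card (G ⧸ N) < n := by
    rw [← hn, Subgroup.card_eq_card_quotient_mul_card_subgroup N]
    have h2 : 1 < Nat.card N := by
      rcases Nat.lt_or_ge 1 (Nat.card N) with h | h
      · exact h
      · exfalso
        have h3 : Nat.card N = 1 := le_antisymm h Nat.card_pos
        exact hN1 (Subgroup.card_eq_one.1 h3)
    have h3 : 0 < Nat.card (G ⧸ N) := Nat.card_pos
    nlinarith
  have hsol : Group.IsSolvable (H.map (QuotientGroup.mk' N)) :=
    solvable_of_surjective ((QuotientGroup.mk' N).subgroupMap_surjective H)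
  have h4 := ih _ hlt (G ⧸ N) rfl hQ (H.map (QuotientGroup.mk' N)) hsol
  exact CN.cn_of_equiv (QuotientGroup.quotientQuotientEquivQuotient N H hNH) h4

/-- Let G be a finite group in which the centralizer of every non-identity element is nilpotent, and H a solvable normal subgroup of G. Then in G/H the centralizer of every non-identity element is nilpotent. -/
theorem result {G : Type*} [Group G] [Finite G] (hCN : Cfsg.IsCNGroup G) (H : Subgroup G) [H.Normal] (hH : Group.IsSolvable H) :
    Cfsg.IsCNGroup (G ⧸ H) := by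
  exact main _ G rfl hCN H hH

end Cfsg.Agent.S1473
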