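import Cfsg.Statements.S1474
import Cfsg.Agent.Lib.Helper3.CN4
open Cfsg.Agent.Lib.Helper3

set_option autoImplicit false
open Cfsg

namespace Cfsg.Agent.S1474

/-- Let G be a finite group in which every non-identity element has nilpotent centralizer, not itself nilpotent, and having a nontrivial normal Sylow p-subgroup for some prime p. Let H be the largest normal nilpotent Hall subgroup of G. Then H is a nontrivial proper normal subgroup with a complement E that is a Frobenius complement in G (no non-identity element of E centralizes a non-identity element of H), and G/H is nilpotent. -/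
theorem result {G : Type*} [Group G] [Finite G] (hCN : Cfsg.IsCNGroup G) (hnn : ¬ Group.IsNilpotent G) (p : ℕ) [Fact p.Prime] (P : Sylow p G)
    (hP1 : (P : Subgroup G) ≠ ⊥) (hPn : (P : Subgroup G).Normal) :
    Cfsg.fittingHall G ≠ ⊥ ∧ Cfsg.fittingHall G ≠ ⊤ ∧
      (∃ E : Subgroup G, Subgroup.IsComplement' (Cfsg.fittingHall G) E ∧ Cfsg.IsFrobeniusComplement E ∧
        ∀ e ∈ E, e ≠ 1 → Cfsg.fittingHall G ⊓ Subgroup.centralizer ({e} : Set G) = ⊥) ∧
      Group.IsNilpotent (G ⧸ Cfsg.fittingHall G) := by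
  classical
  haveI := hPn
  obtain ⟨ZP, hZPdef⟩ : ∃ ZP : Subgroup G,
      ZP = (Subgroup.center (P : Subgroup G)).map (P : Subgroup G).subtype := ⟨_, rfl⟩
  have hZn : ZP.Normal := by
    rw [hZPdef]
    exact ConjAct.normal_of_characteristic_of_normal
  have hZP : ZP ≤ P := by
    rw [hZPdef]
    exact Subgroup.map_subtype_le _
  have hZc : ∀ z ∈ ZP, ∀ b ∈ (P : Subgroup G), b * z = z * b := by
    rw [hZPdef]
    rintro _ ⟨z, hz, rfl⟩ b hb
    exact congrArg Subtype.val ((Subgroup.mem_center_iff.1 hz) ⟨b, hb⟩)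
  obtain ⟨z, hzZ, hz1⟩ : ∃ z ∈ ZP, z ≠ 1 := by
    haveI : Nontrivial (P : Subgroup G) := (Subgroup.nontrivial_iff_ne_bot _).2 hP1
    haveI := P.2.center_nontrivial
    obtain ⟨z, hz⟩ := exists_ne (1 : Subgroup.center (P : Subgroup G))
    refine ⟨((z : (P : Subgroup G)) : G), by rw [hZPdef]; exact ⟨z, z.2, rfl⟩, ?_⟩
    intro h
    exact hz (Subtype.ext (Subtype.ext h))
  have hZ1 : ZP ≠ ⊥ := by
    intro h
    rw [h, Subgroup.mem_bot] at hzZ
    exact hz1 hzZ
  have hZab : IsMulCommutative ZP :=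
    ⟨⟨fun a b => Subtype.ext (hZc b b.2 a (hZP a.2))⟩⟩
  obtain ⟨F, hFdef⟩ : ∃ F : Subgroup G, F = Subgroup.centralizer (ZP : Set G) := ⟨_, rfl⟩
  have hFn : F.Normal := by
    rw [hFdef]
    infer_instance
  have hmemF : ∀ x, x ∈ F ↔ ∀ y ∈ ZP, y * x = x * y := by
    intro x
    rw [hFdef, Subgroup.mem_centralizer_iff]
    rfl
  have hPF : (P : Subgroup G) ≤ F := by
    intro b hb
    rw [hmemF]
    intro y hy
    exact (hZc y hy b hb).symm
  have hFnil : Group.IsNilpotent F := by
    refine Cfsg.Agent.Lib.Helper6.Nil.nilpotent_of_le ?_ (hCN z hz1)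
    intro x hx
    rw [Subgroup.mem_centralizer_singleton_iff]
    exact ((hmemF x).1 hx z hzZ).symm
  have hpsub : ∀ R : Subgroup G, IsPGroup p R → R ≤ P := by
    intro R hR
    obtain ⟨P', hP'⟩ := hR.exists_le_sylow
    haveI := Sylow.unique_of_normal P hPn
    rwa [Subsingleton.elim P' P] at hP'
  have hcent : ∀ x ∈ F, x ≠ 1 → Subgroup.centralizer ({x} : Set G) ≤ F := by
    intro x hx hx1
    apply CN.le_of_pgroups_le
    intro r hr R hRC hR
    haveI : Fact r.Prime := ⟨hr⟩
    by_cases hrp : r = p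
    · subst hrp
      exact (hpsub R hR).trans hPF
    · intro a ha
      rw [hmemF]
      intro y hy
      refine (Cfsg.Agent.Lib.Helper2.Schmidt.commute_of_le_nilpotent (hCN x hx1) hRC
        (B := ZP) ?_ hrp hR (P.2.to_le hZP) a ha y hy).symm
      intro y' hy'
      rw [Subgroup.mem_centralizer_singleton_iff]
      exact (hmemF x).1 hx y' hy'
  have hmax : ∀ L : Subgroup G, Group.IsNilpotent L → F ≤ L → L = F := by
    intro L hL hFL
    apply le_antisymm _ hFL
    have hcard : Nat.card L ≠ 1 := by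
      intro h
      have h1 := Subgroup.card_eq_one.1 h
      have h2 : z ∈ L := hFL (hPF (hZP hzZ))
      rw [h1, Subgroup.mem_bot] at h2
      exact hz1 h2
    obtain ⟨r, hr, hrd⟩ := Nat.exists_prime_and_dvd hcard
    obtain ⟨w, hwL, hwo, hwc⟩ := CN.exists_central hL hr hrd
    have hw1 := CN.ne_one_of_orderOf hr hwo
    have hzF : z ∈ F := hPF (hZP hzZ)
    have hwF : w ∈ F := by
      apply hcent z hzF hz1
      rw [Subgroup.mem_centralizer_singleton_iff]
      exact (hwc z (hFL hzF)).symm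
    refine le_trans ?_ (hcent w hwF hw1)
    intro a ha
    rw [Subgroup.mem_centralizer_singleton_iff]
    exact hwc a ha
  have hHall := CN.hall hCN hFnil hmax
  have hFtop : F ≠ ⊤ := by
    intro h
    apply hnn
    rw [h] at hFnil
    exact Group.nilpotent_of_mulEquiv (_h := hFnil) Subgroup.topEquiv
  have hFbot : F ≠ ⊥ := by
    intro h
    have h2 : z ∈ F := hPF (hZP hzZ)
    rw [h, Subgroup.mem_bot] at h2
    exact hz1 h2
  have hFH : Cfsg.fittingHall G = F := by
    apply le_antisymm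
    · apply sSup_le
      rintro N ⟨hNn, hNnil, _⟩
      have h1 : Group.IsNilpotent (N ⊔ F : Subgroup G) :=
        Cfsg.Agent.Lib.Helper6.Nil.nilpotent_sup hNnil hFnil
          (by
            show F ≤ Subgroup.normalizer (N : Set G)
            rw [Subgroup.normalizer_eq_top]; exact le_top)
          (by
            show N ≤ Subgroup.normalizer (F : Set G)
            rw [Subgroup.normalizer_eq_top]; exact le_top)
      have h2 := hmax _ h1 le_sup_right
      rw [← h2]
      exact le_sup_left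
    · exact le_sSup ⟨hFn, hFnil, hHall⟩
  suffices h : ∀ (F' : Subgroup G) (hn : F'.Normal), F' = F →
      (F' ≠ ⊥ ∧ F' ≠ ⊤ ∧ (∃ E : Subgroup G, Subgroup.IsComplement' F' E ∧
        Cfsg.IsFrobeniusComplement E ∧
        ∀ e ∈ E, e ≠ 1 → F' ⊓ Subgroup.centralizer ({e} : Set G) = ⊥) ∧
      Group.IsNilpotent (G ⧸ F')) from h _ _ hFH
  intro F' hn he
  subst he
  obtain ⟨E, hE⟩ := Subgroup.exists_right_complement'_of_coprime hHall
  have hdisj : ∀ x, x ∈ F' → x ∈ E → x = 1 := by
    intro x h1 h2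
    have := hE.disjoint.le_bot (show x ∈ F' ⊓ E from ⟨h1, h2⟩)
    simpa using this
  have hf : ∀ h ∈ E, h ≠ 1 → ∀ k ∈ F', h * k = k * h → k = 1 := by
    intro h hh hh1 k hk hhk
    by_contra hk1
    apply hh1
    apply hdisj h _ hh
    apply hcent k hk hk1
    rw [Subgroup.mem_centralizer_singleton_iff]
    exact hhk
  have hE1 : E ≠ ⊥ := by
    rintro rfl
    exact hFtop (Subgroup.isComplement'_bot_right.1 hE)
  have hEcard : Nat.card E = F'.index := by
    have h1 := hE.card_mul_card
    rw [← Subgroup.card_mul_index F'] at h1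
    exact Nat.eq_of_mul_eq_mul_left Nat.card_pos h1
  have hEnil : Group.IsNilpotent E := by
    refine CN.nilpotent_of_fpf hCN E ZP hZab hZ1
      (by rw [Subgroup.normalizer_eq_top]; exact le_top) ?_ ?_
    · rw [hEcard]
      exact (Nat.Coprime.of_dvd_left (Subgroup.card_dvd_of_le (hZP.trans hPF)) hHall).symm
    · intro e he he1 v hv hev
      exact hf e he he1 v (hPF (hZP hv)) hev
  refine ⟨hFbot, hFtop, ⟨E, hE, Cfsg.Agent.Lib.Helper1.FrobD.frob_of_fpf F' E hE hFbot hE1 hf, ?_⟩, ?_⟩
  · intro e he he1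
    rw [eq_bot_iff]
    intro k hk
    obtain ⟨hkF, hke⟩ := Subgroup.mem_inf.1 hk
    rw [Subgroup.mem_centralizer_singleton_iff] at hke
    exact Subgroup.mem_bot.2 (hf e he he1 k hkF hke.symm)
  · haveI := hEnil
    refine Group.nilpotent_of_surjective ((QuotientGroup.mk' F').comp E.subtype) ?_
    intro gb
    obtain ⟨g, rfl⟩ := QuotientGroup.mk'_surjective F' gb
    obtain ⟨⟨k, e⟩, hke⟩ := hE.2 g
    refine ⟨e, ?_⟩
    have hke' : (k : G) * (e : G) = g := hke
    rw [← hke', map_mul, (show QuotientGroup.mk' F' (k : G) = 1 from (QuotientGroup.eq_one_iff _).2 k.2),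
      one_mul]
    rfl

end Cfsg.Agent.S1474
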