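import Cfsg.Statements.S1475
import Cfsg.Agent.Lib.Helper3.AvgFrob2
open Cfsg.Agent.Lib.Helper3

set_option autoImplicit false
open Cfsg

namespace Cfsg.Agent.S1475

universe u

theorem main : ∀ (n : ℕ) (G : Type u) [Group G] [Finite G] [Group.IsSolvable G],
    Nat.card G = n → (∀ g : G, IsPrimePow (orderOf g) ∨ g = 1) →
    (Nat.card G).primeFactors.card ≤ 2 := by
  intro n
  induction n using Nat.strong_induction_on with
  | _ n ih =>
  intro G _ _ _ hn h
  classical
  rcases subsingleton_or_nontrivial G with hs | hnt
  · rw [Nat.card_unique]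
    simp
  obtain ⟨p, N, hp, hNn, hN1, hNexp, hNab⟩ :=
    Cfsg.Agent.Lib.Helper2.Solvable.exists_normal_elementary_abelian (G := G)
  haveI : Fact p.Prime := ⟨hp⟩
  have hNp : IsPGroup p N := Cfsg.Agent.Lib.Helper2.Solvable.isPGroup_of_pow_eq_one hNexp
  obtain ⟨k, hk⟩ := hNp.exists_card_eq
  have hk0 : k ≠ 0 := by
    rintro rfl
    rw [pow_zero] at hk
    exact hN1 (Subgroup.card_eq_one.1 hk)
  have hcard : Nat.card G = Nat.card N * Nat.card (G ⧸ N) := by
    rw [mul_comm]
    exact Subgroup.card_eq_card_quotient_mul_card_subgroup N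
  have hQpos : Nat.card (G ⧸ N) ≠ 0 := Nat.card_pos.ne'
  have hNpos : Nat.card N ≠ 0 := Nat.card_pos.ne'
  have hpf : (Nat.card G).primeFactors = {p} ∪ (Nat.card (G ⧸ N)).primeFactors := by
    rw [hcard, Nat.primeFactors_mul hNpos hQpos, hk, Nat.primeFactors_prime_pow hk0 hp]
  by_cases hpq : p ∣ Nat.card (G ⧸ N)
  · have h1 : (Nat.card G).primeFactors = (Nat.card (G ⧸ N)).primeFactors := by
      rw [hpf]
      apply Finset.union_eq_right.2
      rw [Finset.singleton_subset_iff]
      exact Nat.mem_primeFactors.2 ⟨hp, hpq, hQpos⟩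
    rw [h1]
    refine ih (Nat.card (G ⧸ N)) ?_ (G ⧸ N) rfl ?_
    · rw [← hn, hcard]
      have h2 : 1 < Nat.card N := by
        rw [hk]
        exact Nat.one_lt_pow hk0 hp.one_lt
      have h3 : 0 < Nat.card (G ⧸ N) := Nat.card_pos
      nlinarith
    · intro g
      obtain ⟨g, rfl⟩ := QuotientGroup.mk_surjective g
      by_cases hg1 : (QuotientGroup.mk g : G ⧸ N) = 1
      · exact Or.inr hg1
      · left
        have hd : orderOf (QuotientGroup.mk g : G ⧸ N) ∣ orderOf g :=
          orderOf_map_dvd (QuotientGroup.mk' N) g
        rcases h g with h2 | h2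
        · exact h2.dvd hd (fun h3 => hg1 (orderOf_eq_one_iff.1 h3))
        · exact absurd (by rw [h2]; rfl) hg1
  · have hcopN : (Nat.card N).Coprime N.index := by
      rw [hk, Subgroup.index_eq_card]
      exact Nat.Coprime.pow_left k ((Nat.Prime.coprime_iff_not_dvd hp).2 hpq)
    obtain ⟨K, hK⟩ := Subgroup.exists_right_complement'_of_coprime hcopN
    have hKcard : Nat.card K = Nat.card (G ⧸ N) := by
      have h1 := hK.card_mul_card
      rw [hcard] at h1
      exact Nat.eq_of_mul_eq_mul_left Nat.card_pos h1
    have hNab' : IsMulCommutative N := ⟨⟨fun a b => Subtype.ext (hNab a a.2 b b.2)⟩⟩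
    have hKN : K ≤ Subgroup.normalizer (N : Set G) := by
      rw [Subgroup.normalizer_eq_top]
      exact le_top
    letI : CommGroup N := Avg.cg N hNab'
    letI : MulDistribMulAction K N := Avg.act K N hKN
    haveI : Nontrivial N := (Subgroup.nontrivial_iff_ne_bot N).2 hN1
    have hEK : ∀ g : K, IsPrimePow (orderOf g) ∨ g = 1 := by
      intro g
      rcases h (g : G) with h1 | h1
      · left
        rwa [Subgroup.orderOf_coe] at h1
      · right
        exact Subtype.ext h1
    have hcore := Avg.eppo_core (K := K) (M := N) hEK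
      (by rw [hKcard, ← Subgroup.index_eq_card]; exact hcopN.symm)
      (by
        intro x hx m hm
        have h1 : (x : G) * m * (x : G)⁻¹ = m := congrArg Subtype.val hm
        have h2 : Commute (x : G) (m : G) := by
          show (x : G) * m = m * x
          calc (x : G) * m = ((x : G) * m * (x : G)⁻¹) * x := by group
            _ = m * x := by rw [h1]
        have h3 : (orderOf (x : G)).Coprime (orderOf (m : G)) := by
          have h4 : orderOf (x : G) ∣ Nat.card K := by
            rw [Subgroup.orderOf_coe]
            exact orderOf_dvd_natCard x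
          have h5 : orderOf (m : G) ∣ Nat.card N := by
            rw [Subgroup.orderOf_coe]
            exact orderOf_dvd_natCard m
          refine Nat.Coprime.of_dvd h4 h5 ?_
          rw [hKcard, ← Subgroup.index_eq_card]
          exact hcopN.symm
        rcases Avg.eppo_no_commute h h2 h3 with h6 | h6
        · exact absurd (Subtype.ext h6) hx
        · exact Subtype.ext h6)
    rw [hpf, ← hKcard]
    calc (({p} : Finset ℕ) ∪ (Nat.card K).primeFactors).card
        ≤ ({p} : Finset ℕ).card + (Nat.card K).primeFactors.card := Finset.card_union_le _ _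
      _ ≤ 1 + 1 := by
          rw [Finset.card_singleton]
          omega
      _ = 2 := rfl

/-- Let G be a finite solvable group such that the order of every element is a prime power (1 included). Then at most two distinct primes divide the order of G. -/
theorem result {G : Type*} [Group G] [Finite G] [Group.IsSolvable G] (h : ∀ g : G, IsPrimePow (orderOf g) ∨ g = 1) :
    (Nat.card G).primeFactors.card ≤ 2 := by
  exact main _ G rfl h

end Cfsg.Agent.S1475
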