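import Cfsg.Statements.S1510
import Mathlib
import Cfsg.Agent.Lib.Helper1.Coprime
import Cfsg.Agent.Lib.Helper1.FrobF

set_option autoImplicit false
open Cfsg

namespace Cfsg.Agent.S1510


/-- Let L be a finite group with a normal subgroup K and a nontrivial cyclic subgroup W₁ of order coprime to its index, K ⊓ W₁ = ⊥ and K ⊔ W₁ = ⊤; let W₂ ≠ ⊥ be a cyclic subgroup of K with K ⊓ C_L(x) = W₂ for every non-identity x ∈ W₁, and suppose W₁ ⊔ W₂ has odd order. Then (W₁, W₂) is a self-normalising cyclic pair in L. -/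
theorem result {L : Type*} [Group L] [Fintype L] (K W₁ W₂ : Subgroup L) [hK : K.Normal] (hKW₁ : K ⊓ W₁ = ⊥) (hKW₁' : K ⊔ W₁ = ⊤) (hW₁ : W₁ ≠ ⊥) (hW₁c : IsCyclic W₁) (hHall : Nat.Coprime (Nat.card W₁) W₁.index) (hW₂ : W₂ ≠ ⊥) (hW₂c : IsCyclic W₂) (hW₂K : W₂ ≤ K) (hC : ∀ x ∈ W₁, x ≠ 1 → K ⊓ Subgroup.centralizer ({x} : Set L) = W₂) (hodd : Odd (Nat.card ↥(W₁ ⊔ W₂))) : Cfsg.IsSelfNormalizingCyclic W₁ W₂ := by
  have h3 : W₁ ⊓ W₂ = ⊥ := by
    rw [eq_bot_iff, ← hKW₁, inf_comm K W₁]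
    exact inf_le_inf_left _ hW₂K
  have h4 : ∀ a ∈ W₁, ∀ b ∈ W₂, a * b = b * a := by
    intro a ha b hb
    by_cases ha1 : a = 1
    · rw [ha1, one_mul, mul_one]
    · have hb' : b ∈ K ⊓ Subgroup.centralizer ({a} : Set L) := by rw [hC a ha ha1]; exact hb
      exact Subgroup.mem_centralizer_iff.mp (Subgroup.mem_inf.mp hb').2 a rfl
  have hN : W₁ ≤ Subgroup.normalizer (W₂ : Set L) := by
    refine le_trans ?_ (Subgroup.centralizer_le_normalizer _)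
    intro a ha
    rw [Subgroup.mem_centralizer_iff]
    intro b hb
    exact (h4 a ha b hb).symm
  have hcard := Cfsg.Agent.Lib.Helper1.card_sup_mul_card_inf' W₁ W₂ hN
  rw [h3, Subgroup.card_bot, mul_one] at hcard
  have hcardK : Nat.card K = W₁.index := by
    have h1 := Cfsg.Agent.Lib.Helper1.card_sup_mul_card_inf' W₁ K
      (by rw [Subgroup.normalizer_eq_top]; exact le_top)
    rw [sup_comm, hKW₁', inf_comm, hKW₁, Subgroup.card_bot, mul_one, Subgroup.card_top,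
      ← W₁.card_mul_index] at h1
    exact (Nat.eq_of_mul_eq_mul_left Nat.card_pos h1).symm
  have hd : Nat.card W₂ ∣ W₁.index := by
    rw [← hcardK]
    exact Subgroup.card_dvd_of_le hW₂K
  have hcop : (Nat.card W₁).Coprime (Nat.card W₂) := Nat.Coprime.coprime_dvd_right hd hHall
  have h5 : IsCyclic ↥(W₁ ⊔ W₂) := by
    obtain ⟨g₁, hg₁⟩ := hW₁c.exists_generator
    obtain ⟨g₂, hg₂⟩ := hW₂c.exists_generator
    have o1 : orderOf (g₁ : L) = Nat.card W₁ := by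
      rw [Subgroup.orderOf_coe]; exact orderOf_eq_card_of_forall_mem_zpowers hg₁
    have o2 : orderOf (g₂ : L) = Nat.card W₂ := by
      rw [Subgroup.orderOf_coe]; exact orderOf_eq_card_of_forall_mem_zpowers hg₂
    have hc : Commute (g₁ : L) (g₂ : L) := h4 _ g₁.2 _ g₂.2
    have o3 := hc.orderOf_mul_eq_mul_orderOf_of_coprime (by rw [o1, o2]; exact hcop)
    have hmem : (g₁ : L) * g₂ ∈ W₁ ⊔ W₂ :=
      Subgroup.mul_mem _ ((le_sup_left : W₁ ≤ W₁ ⊔ W₂) g₁.2) ((le_sup_right : W₂ ≤ W₁ ⊔ W₂) g₂.2)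
    apply isCyclic_of_orderOf_eq_card (⟨(g₁ : L) * g₂, hmem⟩ : ↥(W₁ ⊔ W₂))
    rw [Subgroup.orderOf_mk, o3, o1, o2, hcard]
  refine ⟨hW₁, hW₂, h3, h4, h5, ?_⟩
  intro X hX hXne
  have hWc : IsMulCommutative ↥(W₁ ⊔ W₂) := IsCyclic.isMulCommutative
  apply le_antisymm
  · intro g hg
    obtain ⟨y, hy⟩ := hXne
    have hy' := hX hy
    have hgy := hX ((Subgroup.mem_set_normalizer_iff.mp hg y).mp hy)
    obtain ⟨w₁, hw₁, w₂, hw₂, rfl⟩ :=
      Cfsg.Agent.Lib.Helper1.FrobF.mem_sup_of_le_normalizer hN hy'.1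
    obtain ⟨v₁, hv₁, v₂, hv₂, hv⟩ :=
      Cfsg.Agent.Lib.Helper1.FrobF.mem_sup_of_le_normalizer hN hgy.1
    have hw₁ne : w₁ ≠ 1 := by
      rintro rfl
      exact hy'.2 (Or.inr (by rw [one_mul]; exact hw₂))
    have hp2 : ∀ w ∈ W₂, w ^ Nat.card W₂ = 1 := fun w hw => by
      have := pow_card_eq_one' (G := W₂) (x := ⟨w, hw⟩)
      exact congrArg Subtype.val this
    have e1 : (w₁ * w₂) ^ Nat.card W₂ = w₁ ^ Nat.card W₂ := by
      rw [(show Commute w₁ w₂ from h4 _ hw₁ _ hw₂).mul_pow, hp2 _ hw₂, mul_one]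
    have e2 : (v₁ * v₂) ^ Nat.card W₂ = v₁ ^ Nat.card W₂ := by
      rw [(show Commute v₁ v₂ from h4 _ hv₁ _ hv₂).mul_pow, hp2 _ hv₂, mul_one]
    have e3 : g * w₁ ^ Nat.card W₂ * g⁻¹ = v₁ ^ Nat.card W₂ := by
      rw [← e1, ← conj_pow, hv, e2]
    have hxne : w₁ ^ Nat.card W₂ ≠ 1 := by
      intro h
      have o1 := orderOf_dvd_of_pow_eq_one h
      have o2 : orderOf w₁ ∣ Nat.card W₁ := by
        rw [← Subgroup.orderOf_mk w₁ hw₁]; exact orderOf_dvd_natCard _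
      have h' := Nat.dvd_gcd o2 o1
      rw [Nat.Coprime.gcd_eq_one hcop] at h'
      exact hw₁ne (orderOf_eq_one_iff.mp (Nat.dvd_one.mp h'))
    have hx : w₁ ^ Nat.card W₂ ∈ W₁ := W₁.pow_mem hw₁ _
    have hgx : g * w₁ ^ Nat.card W₂ * g⁻¹ ∈ W₁ := e3 ▸ W₁.pow_mem hv₁ _
    generalize w₁ ^ Nat.card W₂ = x at hgx hxne hx
    have hgtop : g ∈ K ⊔ W₁ := hKW₁' ▸ Subgroup.mem_top g
    obtain ⟨k, hk, u, hu, hku⟩ := Subgroup.mem_sup_of_normal_left.mp hgtop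
    have hux : u * x * u⁻¹ = x := by
      have hW₁c' : IsMulCommutative W₁ := IsCyclic.isMulCommutative
      have := hW₁c'.is_comm.comm ⟨u, hu⟩ ⟨x, hx⟩
      have h2 : u * x = x * u := congrArg Subtype.val this
      rw [h2, mul_inv_cancel_right]
    have hkx : k * x * k⁻¹ ∈ W₁ := by
      have e : k * u * x * (k * u)⁻¹ = k * (u * x * u⁻¹) * k⁻¹ := by group
      rw [← hku, e, hux] at hgx
      exact hgx
    have hkx2 : k * x * k⁻¹ * x⁻¹ ∈ K ⊓ W₁ := by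
      refine Subgroup.mem_inf.mpr ⟨?_, W₁.mul_mem hkx (W₁.inv_mem hx)⟩
      have e : k * x * k⁻¹ * x⁻¹ = k * (x * k⁻¹ * x⁻¹) := by group
      rw [e]
      exact K.mul_mem hk (hK.conj_mem _ (K.inv_mem hk) x)
    rw [hKW₁, Subgroup.mem_bot] at hkx2
    have hkW₂ : k ∈ W₂ := by
      rw [← hC x hx hxne]
      refine Subgroup.mem_inf.mpr ⟨hk, ?_⟩
      rw [Subgroup.mem_centralizer_iff]
      intro h hh
      rw [Set.mem_singleton_iff] at hh
      rw [hh]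
      have e : k * x * k⁻¹ * x⁻¹ * (x * k) = x * k := by rw [hkx2, one_mul]
      rw [← e]
      group
    rw [← hku]
    exact Subgroup.mul_mem _ ((le_sup_right : W₂ ≤ W₁ ⊔ W₂) hkW₂)
      ((le_sup_left : W₁ ≤ W₁ ⊔ W₂) hu)
  · refine le_trans ?_ (Subgroup.centralizer_le_normalizer _)
    intro w hw
    rw [Subgroup.mem_centralizer_iff]
    intro y hy
    have := hWc.is_comm.comm ⟨y, (hX hy).1⟩ ⟨w, hw⟩
    exact congrArg Subtype.val this

end Cfsg.Agent.S1510
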