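import Cfsg.Statements.S2908
import Cfsg.Agent.S0027
import Cfsg.Agent.Lib.Helper3.PAction
import Cfsg.Agent.Lib.Helper1.FixedCount
open Cfsg.Agent.Lib.Helper1
open scoped commutatorElement Pointwise

set_option autoImplicit false
open Cfsg

namespace Cfsg.Agent.S2908

open Cfsg.Agent.Lib.Helper1 in
theorem norm_comm {G : Type*} [Group G] {X H K : Subgroup G}
    (hH : X ≤ Subgroup.normalizer (H : Set G)) (hK : X ≤ Subgroup.normalizer (K : Set G)) :
    X ≤ Subgroup.normalizer ((⁅H, K⁆ : Subgroup G) : Set G) := by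
  intro a ha
  apply mem_normalizer_of_conj_smul_eq
  rw [conj_smul_commutator, conj_smul_eq_of_mem_normalizer (hH ha),
    conj_smul_eq_of_mem_normalizer (hK ha)]

theorem norm_of_comm_bot {G : Type*} [Group G] {A B : Subgroup G} (h : ⁅A, B⁆ = ⊥) :
    A ≤ Subgroup.normalizer (B : Set G) := by
  intro a ha
  rw [Subgroup.mem_normalizer_iff]
  intro b
  have key : ∀ b ∈ B, a * b * a⁻¹ = b := by
    intro b hb
    have h1 : ⁅a, b⁆ ∈ ⁅A, B⁆ := Subgroup.commutator_mem_commutator ha hb
    rw [h, Subgroup.mem_bot, commutatorElement_eq_one_iff_mul_comm] at h1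
    rw [h1]; group
  constructor
  · intro hb
    rw [key b hb]; exact hb
  · intro hb
    have h2 := key _ hb
    have h3 : a * b * a⁻¹ = b := by
      have : a * (a * b * a⁻¹) * a⁻¹ = a * b * a⁻¹ := h2
      have h4 : a * b * a⁻¹ = a⁻¹ * (a * (a * b * a⁻¹) * a⁻¹) * a := by group
      rw [this] at h4
      rw [h4]; group
    rw [← h3]; exact hb

/-- Let P be a p-subgroup of a finite group, normalized by a p-subgroup A and by a subgroup B of order prime to p that commutes elementwise with A. If [P, B] ≤ [P, A], then B centralizes P. -/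
theorem result {G : Type*} [Group G] [Finite G] {p : ℕ} [Fact p.Prime] (P A B : Subgroup G) (hP : IsPGroup p ↥P) (hA : IsPGroup p ↥A) (hB : ¬ p ∣ Nat.card ↥B) (hnA : A ≤ Subgroup.normalizer (P : Set G)) (hnB : B ≤ Subgroup.normalizer (P : Set G)) (hAB : ⁅A, B⁆ = ⊥) (hcomm : ⁅P, B⁆ ≤ ⁅P, A⁆) : ⁅P, B⁆ = ⊥ := by
  classical
  have hp : p.Prime := Fact.out
  have hcop : (Nat.card B).Coprime (Nat.card P) := by
    obtain ⟨n, hn⟩ := IsPGroup.iff_card.1 hP
    rw [hn]
    exact Nat.Coprime.pow_right _ ((Nat.Prime.coprime_iff_not_dvd hp).2 hB).symm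
  have hsolv : Group.IsSolvable B ∨ Group.IsSolvable P := Or.inr (by
    have := hP.isNilpotent
    infer_instance)
  have hcomm' : ∀ a ∈ A, ∀ b ∈ B, a * b = b * a := by
    intro a ha b hb
    have h1 : ⁅a, b⁆ ∈ ⁅A, B⁆ := Subgroup.commutator_mem_commutator ha hb
    rw [hAB, Subgroup.mem_bot, commutatorElement_eq_one_iff_mul_comm] at h1
    exact h1
  have hAB' : ⁅B, A⁆ = ⊥ := by rw [Subgroup.commutator_comm]; exact hAB
  set U : Subgroup G := ⁅P, B⁆ with hU
  set X : Subgroup G := P ⊔ A with hX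
  have hUP : U ≤ P := commutator_le_of_le_normalizer hnB
  have hXp : IsPGroup p X := by
    rw [hX, sup_comm]
    exact IsPGroup.to_sup_of_normal_right' hA hP hnA
  have hPU : P ≤ Subgroup.normalizer (U : Set G) := le_normalizer_commutator_left P B
  have hAU : A ≤ Subgroup.normalizer (U : Set G) := norm_comm hnA (norm_of_comm_bot hAB)
  have hBU : B ≤ Subgroup.normalizer (U : Set G) := le_normalizer_commutator_right hnB
  have hXU : X ≤ Subgroup.normalizer (U : Set G) := sup_le hPU hAU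
  have hBX : B ≤ Subgroup.normalizer (X : Set G) := le_normalizer_sup hnB (norm_of_comm_bot hAB')
  set N : Subgroup G := ⁅U, X⁆ with hN
  have hNU : N ≤ U := commutator_le_of_le_normalizer hXU
  have hXN : X ≤ Subgroup.normalizer (N : Set G) := le_normalizer_commutator_right hXU
  have hBN : B ≤ Subgroup.normalizer (N : Set G) := norm_comm hBU hBX
  set C : Subgroup G := P ⊓ Subgroup.centralizer (B : Set G) with hC
  have hCX : C ≤ X := inf_le_left.trans le_sup_left
  have h1 : ⁅P, A⁆ ≤ N ⊔ C := by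
    rw [Subgroup.commutator_le]
    intro x hx a ha
    obtain ⟨u, hu, c, hc, rfl⟩ := exists_commutator_mul_fixed B P hnB hcop hsolv x hx
    have e : ⁅u * c, a⁆ = ⁅u, ⁅c, a⁆⁆ * ⁅c, a⁆ * ⁅u, a⁆ := by
      simp only [commutatorElement_def]; group
    rw [e]
    have hca : ⁅c, a⁆ ∈ C := by
      refine Subgroup.mem_inf.2
        ⟨commutator_le_of_le_normalizer hnA (Subgroup.commutator_mem_commutator hc.1 ha), ?_⟩
      rw [Subgroup.mem_centralizer_iff]
      intro b hb
      have e1 : b * c = c * b := (Subgroup.mem_centralizer_iff.1 hc.2) b hb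
      have e2 : a * b = b * a := hcomm' a ha b hb
      have e3 : b * c⁻¹ = c⁻¹ * b := by
        calc b * c⁻¹ = c⁻¹ * (c * b) * c⁻¹ := by group
          _ = c⁻¹ * (b * c) * c⁻¹ := by rw [e1]
          _ = c⁻¹ * b := by group
      have e4 : b * a⁻¹ = a⁻¹ * b := by
        calc b * a⁻¹ = a⁻¹ * (a * b) * a⁻¹ := by group
          _ = a⁻¹ * (b * a) * a⁻¹ := by rw [e2]
          _ = a⁻¹ * b := by group
      rw [commutatorElement_def]
      calc b * (c * a * c⁻¹ * a⁻¹) = (b * c) * a * c⁻¹ * a⁻¹ := by group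
        _ = c * (b * a) * c⁻¹ * a⁻¹ := by rw [e1]; group
        _ = c * a * (b * c⁻¹) * a⁻¹ := by rw [← e2]; group
        _ = c * a * c⁻¹ * (b * a⁻¹) := by rw [e3]; group
        _ = c * a * c⁻¹ * a⁻¹ * b := by rw [e4]; group
    refine Subgroup.mul_mem _ (Subgroup.mul_mem _ ?_ ?_) ?_
    · exact (le_sup_left : N ≤ N ⊔ C) (Subgroup.commutator_mem_commutator hu (hCX hca))
    · exact (le_sup_right : C ≤ N ⊔ C) hca
    · exact (le_sup_left : N ≤ N ⊔ C)
        (Subgroup.commutator_mem_commutator hu ((le_sup_right : A ≤ X) ha))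
  have h2 : ⁅U, B⁆ ≤ N := by
    rw [Subgroup.commutator_le]
    intro u hu b hb
    have h3 : u ∈ N ⊔ C := h1 (hcomm hu)
    have h4 : u ∈ ((N : Set G) * (C : Set G)) := by
      rw [← Subgroup.coe_mul_of_right_le_normalizer_left N C (hCX.trans hXN)]
      exact h3
    obtain ⟨n, hn, c, hc, rfl⟩ := h4
    have e1 : b * c = c * b := (Subgroup.mem_centralizer_iff.1 hc.2) b hb
    have e : ⁅n * c, b⁆ = ⁅n, b⁆ := by
      simp only [commutatorElement_def]
      calc n * c * b * (n * c)⁻¹ * b⁻¹ = n * (c * b) * c⁻¹ * n⁻¹ * b⁻¹ := by group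
        _ = n * b * n⁻¹ * b⁻¹ := by rw [← e1]; group
    rw [e]
    exact commutator_le_of_le_normalizer hBN (Subgroup.commutator_mem_commutator hn hb)
  have h5 : ⁅U, B⁆ = U := Cfsg.Agent.S0027.result B P hnB hcop hsolv
  rw [h5] at h2
  exact Cfsg.Agent.Lib.Helper3.PLocal.eq_bot_of_le_comm_pgroup (hP.to_le hUP) hXp hXU h2

end Cfsg.Agent.S2908
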