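import Cfsg.Statements.S1900
import Cfsg.Agent.S2908
import Cfsg.Agent.Lib.Helper3.KS93
import Cfsg.Agent.Lib.Helper6.Ores
open Cfsg.Agent.Lib.Helper3.PLocal Cfsg.Agent.Lib.Helper3.KS93 Cfsg.Agent.Lib.Helper3.CopGen
open Cfsg.Agent.Lib.Helper6.Basic Cfsg.Agent.Lib.Helper6.Subn Cfsg.Agent.Lib.Helper6.Quasi Cfsg.Agent.Lib.Helper6.PAct Cfsg.Agent.Lib.Helper6.Ores Cfsg.Agent.Lib.Helper6.FStar
open scoped commutatorElement Pointwise

set_option autoImplicit false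
open Cfsg

namespace Cfsg.Agent.S1900

/-- Let S = PQ be a finite group with P a normal Sylow p-subgroup and Q elementary abelian of order q², q a prime different from p. If exactly two subgroups X₁, X₂ of order q in Q have a nontrivial centralizer in P, then P is the internal direct product of C_P(X₁) and C_P(X₂): they commute elementwise, meet trivially and generate P. -/
theorem result {S : Type*} [Group S] [Finite S] {p q : ℕ} [Fact p.Prime] [Fact q.Prime] (hpq : p ≠ q)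
    (P : Sylow p S) [(P : Subgroup S).Normal] (Q : Subgroup S) (hQ : Cfsg.IsElementaryAbelian q Q) (hQc : Nat.card Q = q ^ 2)
    (hS : (P : Subgroup S) ⊔ Q = ⊤)
    (X₁ X₂ : Subgroup S) (h₁ : X₁ ≤ Q) (h₂ : X₂ ≤ Q) (h₁₂ : X₁ ≠ X₂) (hc₁ : Nat.card X₁ = q) (hc₂ : Nat.card X₂ = q)
    (hf₁ : (P : Subgroup S) ⊓ Subgroup.centralizer (X₁ : Set S) ≠ ⊥)
    (hf₂ : (P : Subgroup S) ⊓ Subgroup.centralizer (X₂ : Set S) ≠ ⊥)
    (honly : ∀ X : Subgroup S, X ≤ Q → Nat.card X = q →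
      (P : Subgroup S) ⊓ Subgroup.centralizer (X : Set S) ≠ ⊥ → X = X₁ ∨ X = X₂) :
    ⁅(P : Subgroup S) ⊓ Subgroup.centralizer (X₁ : Set S), (P : Subgroup S) ⊓ Subgroup.centralizer (X₂ : Set S)⁆ = ⊥ ∧
      ((P : Subgroup S) ⊓ Subgroup.centralizer (X₁ : Set S)) ⊓ ((P : Subgroup S) ⊓ Subgroup.centralizer (X₂ : Set S)) = ⊥ ∧
      ((P : Subgroup S) ⊓ Subgroup.centralizer (X₁ : Set S)) ⊔ ((P : Subgroup S) ⊓ Subgroup.centralizer (X₂ : Set S)) = P := by
  classical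
  have hpp : p.Prime := Fact.out
  have hqp : q.Prime := Fact.out
  set PP : Subgroup S := (P : Subgroup S) with hPP
  have hPn : PP.Normal := inferInstance
  have hPp : IsPGroup p PP := P.isPGroup'
  have hNP : ∀ X : Subgroup S, X ≤ Nz PP := fun X => le_Nz_of_normal hPn X
  have hcop : ∀ X N : Subgroup S, X ≤ Q → N ≤ PP → (Nat.card X).Coprime (Nat.card N) := by
    intro X N hX hN
    obtain ⟨n, hn⟩ := IsPGroup.iff_card.1 (hPp.to_le hN)
    obtain ⟨m, hm⟩ := IsPGroup.iff_card.1 ((ea_isPGroup hQ).to_le hX)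
    rw [hn, hm]
    exact Nat.Coprime.pow _ _ ((Nat.coprime_primes hqp hpp).2 hpq.symm)
  have hsolv : ∀ N : Subgroup S, N ≤ PP → Group.IsSolvable N := by
    intro N hN
    have := (hPp.to_le hN).isNilpotent
    infer_instance
  have hex : ∀ X : Subgroup S, Nat.card X = q → ∃ x ∈ X, x ≠ 1 ∧ X = Subgroup.zpowers x := by
    intro X hX
    have hne : X ≠ ⊥ := by
      rintro rfl
      rw [Subgroup.card_bot] at hX
      exact hqp.one_lt.ne hX
    obtain ⟨⟨x, hx⟩, hx1'⟩ := Subgroup.ne_bot_iff_exists_ne_one.1 hne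
    have hx1 : x ≠ 1 := fun h => hx1' (Subtype.ext h)
    exact ⟨x, hx, hx1, eq_zpowers_of_card_prime hX hx hx1⟩
  obtain ⟨x₁, hx₁, hx₁1, hX₁⟩ := hex X₁ hc₁
  obtain ⟨x₂, hx₂, hx₂1, hX₂⟩ := hex X₂ hc₂
  have hx₂X₁ : x₂ ∉ X₁ := by
    intro h
    apply h₁₂
    symm
    apply Subgroup.eq_of_le_of_card_ge
    · rw [hX₂]; exact Subgroup.zpowers_le.2 h
    · rw [hc₁, hc₂]
  have hx₁X₂ : x₁ ∉ X₂ := by
    intro h
    apply h₁₂
    apply Subgroup.eq_of_le_of_card_ge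
    · rw [hX₁]; exact Subgroup.zpowers_le.2 h
    · rw [hc₁, hc₂]
  have hx₃Q : x₁ * x₂ ∈ Q := Q.mul_mem (h₁ hx₁) (h₂ hx₂)
  have hx₃1 : x₁ * x₂ ≠ 1 := by
    intro h
    apply hx₂X₁
    rw [← inv_eq_of_mul_eq_one_right h]
    exact X₁.inv_mem hx₁
  have hC₃ : PP ⊓ Subgroup.centralizer (Subgroup.zpowers (x₁ * x₂) : Set S) = ⊥ := by
    by_contra h
    have hc : Nat.card (Subgroup.zpowers (x₁ * x₂)) = q := by
      rw [Nat.card_zpowers]
      exact orderOf_eq_prime (hQ.2 _ hx₃Q) hx₃1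
    rcases honly _ (Subgroup.zpowers_le.2 hx₃Q) hc h with h' | h'
    · apply hx₂X₁
      have h3 : x₁ * x₂ ∈ X₁ := by rw [← h']; exact Subgroup.mem_zpowers _
      have e : x₂ = x₁⁻¹ * (x₁ * x₂) := by group
      rw [e]
      exact X₁.mul_mem (X₁.inv_mem hx₁) h3
    · apply hx₁X₂
      have h3 : x₁ * x₂ ∈ X₂ := by rw [← h']; exact Subgroup.mem_zpowers _
      have e : x₁ = (x₁ * x₂) * x₂⁻¹ := by group
      rw [e]
      exact X₂.mul_mem h3 (X₂.inv_mem hx₂)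
  set P₁ : Subgroup S := PP ⊓ Subgroup.centralizer (X₁ : Set S) with hP₁
  set P₂ : Subgroup S := PP ⊓ Subgroup.centralizer (X₂ : Set S) with hP₂
  have hinf : P₁ ⊓ P₂ = ⊥ := by
    rw [eq_bot_iff, ← hC₃]
    rintro z ⟨hz1, hz2⟩
    refine ⟨hz1.1, mem_centralizer_zpowers_iff.2 ?_⟩
    have e1 : x₁ * z = z * x₁ := (Subgroup.mem_centralizer_iff.1 hz1.2) x₁ hx₁
    have e2 : x₂ * z = z * x₂ := (Subgroup.mem_centralizer_iff.1 hz2.2) x₂ hx₂
    calc z * (x₁ * x₂) = (z * x₁) * x₂ := by group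
      _ = x₁ * (z * x₂) := by rw [← e1]; group
      _ = x₁ * x₂ * z := by rw [← e2]; group
  have hgen : ∀ N : Subgroup S, N ≤ PP → Q ≤ Nz N →
      N ≤ (N ⊓ Subgroup.centralizer (X₁ : Set S)) ⊔ (N ⊓ Subgroup.centralizer (X₂ : Set S)) := by
    intro N hN hQN
    have h := gen Q N hQ.1 hQN (hcop Q N le_rfl hN)
    conv_lhs => rw [← h]
    apply iSup₂_le
    rintro B ⟨hBQ, a, ha, hsup⟩
    have hBne : B ≠ ⊥ := by
      rintro rfl
      rw [bot_sup_eq] at hsup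
      have h1 : Nat.card Q ≤ q := by
        rw [← hsup, Nat.card_zpowers]
        exact Nat.le_of_dvd hqp.pos (orderOf_dvd_of_pow_eq_one (hQ.2 a ha))
      rw [hQc] at h1
      nlinarith [hqp.two_le]
    obtain ⟨⟨b, hb⟩, hb1'⟩ := Subgroup.ne_bot_iff_exists_ne_one.1 hBne
    have hb1 : b ≠ 1 := fun h => hb1' (Subtype.ext h)
    have hXQ : Subgroup.zpowers b ≤ Q := Subgroup.zpowers_le.2 (hBQ hb)
    have hXc : Nat.card (Subgroup.zpowers b) = q := by
      rw [Nat.card_zpowers]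
      exact orderOf_eq_prime (hQ.2 _ (hBQ hb)) hb1
    have hle : N ⊓ Subgroup.centralizer (B : Set S) ≤
        N ⊓ Subgroup.centralizer (Subgroup.zpowers b : Set S) :=
      inf_le_inf_left _ (Subgroup.centralizer_le (by
        have : Subgroup.zpowers b ≤ B := Subgroup.zpowers_le.2 hb
        exact_mod_cast this))
    by_cases hX : PP ⊓ Subgroup.centralizer (Subgroup.zpowers b : Set S) = ⊥
    · have : N ⊓ Subgroup.centralizer (B : Set S) ≤ ⊥ := by
        rw [← hX]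
        exact hle.trans (inf_le_inf_right _ hN)
      exact this.trans bot_le
    · rcases honly _ hXQ hXc hX with h' | h'
      · rw [h'] at hle; exact hle.trans le_sup_left
      · rw [h'] at hle; exact hle.trans le_sup_right
  have hfpf : ∀ X Y : Subgroup S, X ≤ Q → Y ≤ PP → X ≤ Nz Y →
      Y ⊓ Subgroup.centralizer (X : Set S) = ⊥ → ⁅Y, X⁆ = Y := by
    intro X Y hX hY hXY hfix
    apply le_antisymm (Cfsg.Agent.Lib.Helper1.commutator_le_of_le_normalizer hXY)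
    intro k hk
    obtain ⟨y, hy, c, hc, rfl⟩ := Cfsg.Agent.Lib.Helper1.exists_commutator_mul_fixed X Y hXY
      (hcop X Y hX hY) (Or.inr (hsolv Y hY)) k hk
    rw [hfix, Subgroup.mem_bot] at hc
    rw [hc, mul_one]
    exact hy
  have hQP₁ : Q ≤ Nz P₁ := le_Nz_inf (hNP Q) (norm_centralizer hQ.1 h₁)
  set N : Subgroup S := PP ⊓ Nz P₁ with hN
  have hNPP : N ≤ PP := inf_le_left
  have hQN : Q ≤ Nz N := le_Nz_inf (hNP Q) (hQP₁.trans Subgroup.le_normalizer)
  have hP₁N : P₁ ≤ N := le_inf inf_le_left Subgroup.le_normalizer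
  set R : Subgroup S := N ⊓ Subgroup.centralizer (X₂ : Set S) with hR
  have hNle : N ≤ P₁ ⊔ R :=
    (hgen N hNPP hQN).trans (sup_le_sup_right (inf_le_inf_right _ hNPP) _)
  have hRP₁ : R ≤ Nz P₁ := inf_le_left.trans inf_le_right
  have hQR : Q ≤ Nz R := le_Nz_inf hQN (norm_centralizer hQ.1 h₂)
  have hRP₂ : R ≤ P₂ := inf_le_inf_right _ hNPP
  have hRfix : R ⊓ Subgroup.centralizer (X₁ : Set S) = ⊥ := by
    rw [eq_bot_iff, ← hinf]
    rintro z ⟨hz1, hz2⟩
    exact ⟨⟨hNPP hz1.1, hz2⟩, hRP₂ hz1⟩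
  have hRcomm : ⁅R, X₁⁆ = R := hfpf X₁ R h₁ (inf_le_left.trans hNPP) (h₁.trans hQR) hRfix
  have hRP : ⁅R, P₁⁆ = ⊥ := by
    rw [← hRcomm]
    apply Subgroup.commutator_commutator_eq_bot_of_rotate
    · have : ⁅X₁, P₁⁆ = ⊥ := by
        rw [Subgroup.commutator_eq_bot_iff_le_centralizer, Subgroup.le_centralizer_iff]
        exact inf_le_right
      rw [this, Subgroup.commutator_bot_left]
    · rw [Subgroup.commutator_eq_bot_iff_le_centralizer]
      exact (Cfsg.Agent.Lib.Helper1.commutator_le_of_le_normalizer hRP₁).trans inf_le_right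
  have hcomN : ⁅N, X₂⁆ = P₁ := by
    apply le_antisymm
    · rw [Subgroup.commutator_le]
      intro n hn x hx
      have h1 : n ∈ ((P₁ : Set S) * (R : Set S)) := by
        rw [← Subgroup.coe_mul_of_right_le_normalizer_left _ _ hRP₁]
        exact hNle hn
      obtain ⟨a, ha, r, hr, rfl⟩ := h1
      have e1 : x * r = r * x := (Subgroup.mem_centralizer_iff.1 hr.2) x hx
      have e : ⁅a * r, x⁆ = ⁅a, x⁆ := by
        simp only [commutatorElement_def]
        calc a * r * x * (a * r)⁻¹ * x⁻¹ = a * (r * x) * r⁻¹ * a⁻¹ * x⁻¹ := by group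
          _ = a * x * a⁻¹ * x⁻¹ := by rw [← e1]; group
      change ⁅a * r, x⁆ ∈ P₁
      rw [e]
      exact comm_mem_of_normalizer (hQP₁ (h₂ hx)) ha
    · have h1 : ⁅P₁, X₂⁆ = P₁ := hfpf X₂ P₁ h₂ inf_le_left (h₂.trans hQP₁) (by
        rw [eq_bot_iff, ← hinf]
        rintro z ⟨hz1, hz2⟩
        exact ⟨hz1, ⟨hz1.1, hz2⟩⟩)
      conv_lhs => rw [← h1]
      exact Subgroup.commutator_mono hP₁N le_rfl
  set M : Subgroup S := PP ⊓ Nz N with hM
  have hQM : Q ≤ Nz M := le_Nz_inf (hNP Q) (hQN.trans Subgroup.le_normalizer)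
  have hMN : M ≤ N := by
    refine (hgen M inf_le_left hQM).trans (sup_le ?_ ?_)
    · exact (inf_le_inf_right _ inf_le_left).trans hP₁N
    · rintro g ⟨hg1, hg2⟩
      refine ⟨hg1.1, ?_⟩
      have h1 : Subgroup.zpowers g ≤ Nz ⁅N, X₂⁆ := by
        apply Cfsg.Agent.S2908.norm_comm
        · exact Subgroup.zpowers_le.2 hg1.2
        · exact Subgroup.zpowers_le.2 (Subgroup.centralizer_le_normalizer _ hg2)
      rw [hcomN] at h1
      exact h1 (Subgroup.mem_zpowers g)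
  have hNtop : N = PP := by
    by_contra hne
    obtain ⟨s, hs, hsN, hsn⟩ := exists_mem_Nz_of_lt hPp.isNilpotent (lt_of_le_of_ne hNPP hne)
    exact hsN (hMN ⟨hs, hsn⟩)
  have hRe : R = P₂ := by rw [hR, hNtop]
  rw [hRe] at hRP hNle
  refine ⟨by rw [Subgroup.commutator_comm]; exact hRP, hinf, ?_⟩
  apply le_antisymm (sup_le inf_le_left inf_le_left)
  rw [hNtop] at hNle
  exact hNle

end Cfsg.Agent.S1900
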