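import Cfsg.Statements.S1907
import Cfsg.Agent.Lib.Helper3.Bar2
open Cfsg.Agent.Lib.Helper3.PLocal
open Cfsg.Agent.Lib.Helper6.Basic Cfsg.Agent.Lib.Helper6.Subn Cfsg.Agent.Lib.Helper6.Quasi Cfsg.Agent.Lib.Helper6.PAct Cfsg.Agent.Lib.Helper6.Ores Cfsg.Agent.Lib.Helper6.FStar

set_option autoImplicit false
open Cfsg

namespace Cfsg.Agent.S1907

/-- Let P be a Sylow p-subgroup of a finite group G, H = P ∩ O_{p',p}(G), N = N_G(H) and D = O_{p'}(G). (a) If y is an element of p-power order of N and d ∈ D with d⁻¹ y d ∈ N, then d = d₁ d₂ with d₁ ∈ C_D(y) and d₂ ∈ C_D(H). (b) Two elements of P that are conjugate in G are conjugate in N. -/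
theorem result {G : Type*} [Group G] [Finite G] {p : ℕ} [Fact p.Prime] (P : Sylow p G) :
    (∀ y ∈ Subgroup.normalizer (((P : Subgroup G) ⊓ Cfsg.pPrimePCore p G : Subgroup G) : Set G), (∃ k : ℕ, orderOf y = p ^ k) →
      ∀ d ∈ Cfsg.pPrimeCore p G, d⁻¹ * y * d ∈ Subgroup.normalizer (((P : Subgroup G) ⊓ Cfsg.pPrimePCore p G : Subgroup G) : Set G) →
        ∃ d₁ ∈ Cfsg.pPrimeCore p G ⊓ Subgroup.centralizer ({y} : Set G),
          ∃ d₂ ∈ Cfsg.pPrimeCore p G ⊓ Subgroup.centralizer (((P : Subgroup G) ⊓ Cfsg.pPrimePCore p G : Subgroup G) : Set G), d = d₁ * d₂) ∧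
    ∀ x y : G, x ∈ (P : Subgroup G) → y ∈ (P : Subgroup G) → IsConj x y →
      ∃ n ∈ Subgroup.normalizer (((P : Subgroup G) ⊓ Cfsg.pPrimePCore p G : Subgroup G) : Set G), n * x * n⁻¹ = y := by
  classical
  have hpp : p.Prime := Fact.out
  haveI hKn : (Cfsg.pPrimeCore p G).Normal := Cfsg.Agent.Lib.Helper1.pPrimeCore_normal p
  set K := Cfsg.pPrimeCore p G with hK
  set L := Cfsg.pPrimePCore p G with hL
  set H : Subgroup G := (P : Subgroup G) ⊓ L with hH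
  have hKc : (Nat.card K).Coprime p := Cfsg.Agent.Lib.Helper1.pPrimeCore_coprime p
  have hHp : IsPGroup p H := P.isPGroup'.to_le inf_le_left
  have hHK : ∀ z ∈ H, z ∈ K → z = 1 := by
    intro z hz hzK
    exact eq_one_of_pGroup_of_coprime hHp hz
      (Nat.Coprime.coprime_dvd_left (Subgroup.orderOf_dvd_natCard _ hzK) hKc)
  have hNK : ∀ n ∈ Nz H, n ∈ K → n ∈ Cz H := by
    intro n hn hnK
    rw [Subgroup.mem_centralizer_iff]
    intro h hh
    have h1 : n * h * n⁻¹ * h⁻¹ ∈ H := H.mul_mem (conj_mem_of_normalizer hn hh) (H.inv_mem hh)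
    have h2 : n * h * n⁻¹ * h⁻¹ ∈ K := by
      have e : n * h * n⁻¹ * h⁻¹ = n * (h * n⁻¹ * h⁻¹) := by group
      rw [e]
      exact K.mul_mem hnK (hKn.conj_mem _ (K.inv_mem hnK) h)
    have h3 := hHK _ h1 h2
    calc h * n = (n * h * n⁻¹ * h⁻¹)⁻¹ * (n * h) := by group
      _ = n * h := by rw [h3]; group
  have part1 : ∀ y ∈ Nz H, (∃ k : ℕ, orderOf y = p ^ k) → ∀ d ∈ K, d⁻¹ * y * d ∈ Nz H →
      ∃ d₁ ∈ K ⊓ Subgroup.centralizer ({y} : Set G), ∃ d₂ ∈ K ⊓ Cz H, d = d₁ * d₂ := by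
    rintro y hy ⟨k, hk⟩ d hd hyd
    set C : Subgroup G := K ⊓ Cz H with hC
    have hAC : Subgroup.zpowers y ≤ Nz C := by
      rw [Subgroup.zpowers_le]
      exact le_Nz_inf (le_Nz_of_normal hKn (Nz H)) (Nz_le_Nz_Cz H) hy
    have hcop : (Nat.card (Subgroup.zpowers y)).Coprime (Nat.card C) := by
      rw [Nat.card_zpowers, hk]
      exact Nat.Coprime.pow_left _
        (Nat.Coprime.coprime_dvd_left (Subgroup.card_dvd_of_le inf_le_left) hKc).symm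
    have hsolv : Group.IsSolvable (Subgroup.zpowers y) :=
      Group.isSolvable_of_comm (fun a b => by
        obtain ⟨a, i, rfl⟩ := a
        obtain ⟨b, j, rfl⟩ := b
        apply Subtype.ext
        change y ^ i * y ^ j = y ^ j * y ^ i
        rw [← zpow_add, ← zpow_add, add_comm])
    obtain ⟨c, hc, hdc⟩ := Cfsg.Agent.Lib.Helper1.exists_fixed_in_coset (Subgroup.zpowers y) C hAC
      hcop (Or.inl hsolv) d (by
        rintro _ ⟨j, rfl⟩
        change d⁻¹ * (y ^ j * d * (y ^ j)⁻¹) ∈ C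
        have h1 : d⁻¹ * y ^ j * d ∈ Nz H := by
          have e : d⁻¹ * y ^ j * d = (d⁻¹ * y * d) ^ j := by
            have := conj_zpow (a := d⁻¹) (b := y) (i := j)
            rw [inv_inv] at this
            exact this.symm
          rw [e]
          exact Subgroup.zpow_mem _ hyd j
        have h2 : d⁻¹ * (y ^ j * d * (y ^ j)⁻¹) ∈ Nz H := by
          have e : d⁻¹ * (y ^ j * d * (y ^ j)⁻¹) = (d⁻¹ * y ^ j * d) * (y ^ j)⁻¹ := by group
          rw [e]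
          exact Subgroup.mul_mem _ h1 (Subgroup.inv_mem _ (Subgroup.zpow_mem _ hy j))
        have h3 : d⁻¹ * (y ^ j * d * (y ^ j)⁻¹) ∈ K :=
          K.mul_mem (K.inv_mem hd) (hKn.conj_mem d hd _)
        exact ⟨h3, hNK _ h2 h3⟩)
    refine ⟨d * c, Subgroup.mem_inf.2 ⟨K.mul_mem hd hc.1, ?_⟩, c⁻¹, C.inv_mem hc, by group⟩
    rw [Subgroup.mem_centralizer_singleton_iff]
    exact ((Subgroup.mem_centralizer_iff.1 hdc) y (Subgroup.mem_zpowers y)).symm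
  refine ⟨part1, ?_⟩
  intro x y hx hy hxy
  obtain ⟨g, hg⟩ := isConj_iff.1 hxy
  have hLn : L.Normal := inferInstance
  have hPN : (P : Subgroup G) ≤ Nz H := le_Nz_inf Subgroup.le_normalizer (le_Nz_of_normal hLn _)
  obtain ⟨m, hm, n, hn, rfl⟩ :=
    (syl_inf_pPrimePCore P).frattini (K := ⊤) (top_le_Nz hLn) (Subgroup.mem_top g)
  have h1 : QuotientGroup.mk' K m ∈ H.map (QuotientGroup.mk' K) := by
    rw [hH, hL, map_sylow_inf_pPrimePCore P]
    exact hm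
  obtain ⟨h, hh, hhm⟩ := h1
  have hk : m * h⁻¹ ∈ K := by
    rw [← QuotientGroup.eq_one_iff, ← QuotientGroup.mk'_apply, map_mul, map_inv, hhm,
      mul_inv_cancel]
  set n' : G := h * n with hn'
  have hn'N : n' ∈ Nz H := Subgroup.mul_mem _ (Subgroup.le_normalizer hh) hn
  set x' : G := n' * x * n'⁻¹ with hx'
  have hx'N : x' ∈ Nz H :=
    Subgroup.mul_mem _ (Subgroup.mul_mem _ hn'N (hPN hx)) (Subgroup.inv_mem _ hn'N)
  have hyx' : (m * h⁻¹) * x' * (m * h⁻¹)⁻¹ = y := by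
    rw [← hg, hx', hn']; group
  have hord : ∃ k : ℕ, orderOf x' = p ^ k := by
    rw [hx', Cfsg.Agent.Lib.Helper3.Invol.order_conj]
    obtain ⟨k, hk⟩ := P.isPGroup' ⟨x, hx⟩
    have hk' : x ^ p ^ k = 1 := congrArg Subtype.val hk
    obtain ⟨j, _, hj⟩ := (Nat.dvd_prime_pow hpp).1 (orderOf_dvd_of_pow_eq_one hk')
    exact ⟨j, hj⟩
  obtain ⟨d₁, hd₁, d₂, hd₂, hd⟩ := part1 x' hx'N hord (m * h⁻¹)⁻¹ (K.inv_mem hk) (by
    rw [inv_inv, hyx']; exact hPN hy)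
  refine ⟨d₂⁻¹ * n', Subgroup.mul_mem _ (Subgroup.inv_mem _
    (Subgroup.centralizer_le_normalizer _ hd₂.2)) hn'N, ?_⟩
  have hc : x' * d₁ = d₁ * x' :=
    (Subgroup.mem_centralizer_singleton_iff.1 (Subgroup.mem_inf.1 hd₁).2).symm
  have e1 : m * h⁻¹ = (d₁ * d₂)⁻¹ := by rw [← hd, inv_inv]
  rw [← hyx', e1]
  calc d₂⁻¹ * n' * x * (d₂⁻¹ * n')⁻¹ = d₂⁻¹ * x' * d₂ := by rw [hx']; group
    _ = d₂⁻¹ * (d₁⁻¹ * (d₁ * x')) * d₂ := by group
    _ = d₂⁻¹ * (d₁⁻¹ * (x' * d₁)) * d₂ := by rw [hc]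
    _ = (d₁ * d₂)⁻¹ * x' * (d₁ * d₂)⁻¹⁻¹ := by group

end Cfsg.Agent.S1907
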