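import Cfsg.Statements.S1941
import Cfsg.Agent.Lib.Helper6.FStar
import Cfsg.Agent.Lib.Helper6.Ores
import Cfsg.Agent.Lib.Helper1.FittingSolv
import Cfsg.Agent.Lib.Helper1.FunctStab
import Cfsg.Agent.Lib.Helper9.Cocyc

set_option autoImplicit false
open Cfsg

namespace Cfsg.Agent.S1941

open Cfsg.Agent.Lib.Helper6.Basic Cfsg.Agent.Lib.Helper6.Subn Cfsg.Agent.Lib.Helper6.Quasi Cfsg.Agent.Lib.Helper6.FStar Cfsg.Agent.Lib.Helper6.Ores
open scoped IsMulCommutative

/-- Let G be a finite group with no nontrivial normal subgroup of order prime to p, T a Sylow p-subgroup of G and E(G) the layer of G (the subgroup generated by its components). An automorphism of G of p-power order that fixes T and E(G) elementwise is inner. -/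
theorem result {G : Type*} [Group G] [Finite G] {p : ℕ} [Fact p.Prime] (hcore : Cfsg.pPrimeCore p G = ⊥)
    (T : Sylow p G) (α : MulAut G) (hα : ∃ j : ℕ, orderOf α = p ^ j) (hfixT : ∀ x ∈ (T : Subgroup G), α x = x)
    (hfixE : ∀ x ∈ Cfsg.layer G, α x = x) : ∃ g : G, ∀ x : G, α x = g * x * g⁻¹ := by
  have hFn : (Fs (⊤ : Subgroup G)).Normal := normal_of_top_le_Nz (le_Nz_Fs ⊤)
  have hAn : (Cz (Fs (⊤ : Subgroup G))).Normal := inferInstance
  have hAle : Cz (Fs (⊤ : Subgroup G)) ≤ Fs ⊤ := by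
    have := bender (⊤ : Subgroup G)
    rwa [top_inf_eq] at this
  have hAc : IsMulCommutative ↥(Cz (Fs (⊤ : Subgroup G))) :=
    ⟨⟨fun a b => Subtype.ext (Subgroup.mem_centralizer_iff.mp b.2 a (hAle a.2))⟩⟩
  have hFp : F (⊤ : Subgroup G) = Cfsg.pCore p G := by
    rw [← fitting_eq]
    exact Cfsg.Agent.Lib.Helper1.fitting_eq_pCore_of_pPrimeCore_eq_bot p hcore
  have hfix : ∀ x ∈ Fs (⊤ : Subgroup G), α x = x := by
    have : Fs (⊤ : Subgroup G) ≤ (α.toMonoidHom).eqLocus (MonoidHom.id G) := by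
      apply sup_le
      · rw [← layer_eq]
        intro x hx
        exact hfixE x hx
      · rw [hFp]
        intro x hx
        exact hfixT x (Cfsg.Agent.Lib.Helper1.pCore_le_sylow T hx)
    intro x hx
    exact this hx
  have hAp : IsPGroup p ↥(Cz (Fs (⊤ : Subgroup G))) := by
    have h1 : Cz (Fs (⊤ : Subgroup G)) ≤ Cfsg.pCore p G := by
      rw [← hFp, ← fitting_eq]
      exact Cfsg.Agent.Lib.Helper1.le_fitting hAn inferInstance
    exact (Cfsg.Agent.Lib.Helper1.pCore_isPGroup p).to_le h1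
  have hcop : (Nat.card ↥(Cz (Fs (⊤ : Subgroup G)))).Coprime (T : Subgroup G).index := by
    obtain ⟨k, hk⟩ := IsPGroup.iff_card.mp hAp
    rw [hk]
    exact Nat.Coprime.pow_left k ((Nat.Prime.coprime_iff_not_dvd Fact.out).mpr T.not_dvd_index)
  have g1 : ∀ g, (fun g => α g * g⁻¹) g ∈ Cz (Fs (⊤ : Subgroup G)) := by
    intro g
    rw [Subgroup.mem_centralizer_iff]
    intro y hy
    have hy' : g⁻¹ * y * g ∈ Fs (⊤ : Subgroup G) := by
      have := hFn.conj_mem y hy g⁻¹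
      rwa [inv_inv] at this
    have h1 : α y = y := hfix y hy
    have h2 : α (g⁻¹ * y * g) = g⁻¹ * y * g := hfix _ hy'
    have h3 : y = α g * (g⁻¹ * y * g) * (α g)⁻¹ := by
      rw [← h2, ← map_inv, ← map_mul, ← map_mul]
      rw [← h1]
      congr 1
      rw [h1]; group
    show y * (α g * g⁻¹) = α g * g⁻¹ * y
    calc y * (α g * g⁻¹) = α g * (g⁻¹ * y * g) * (α g)⁻¹ * (α g * g⁻¹) := by rw [← h3]
      _ = α g * g⁻¹ * y := by group
  have g2 : ∀ g h, (fun g => α g * g⁻¹) (g * h) =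
      (fun g => α g * g⁻¹) g * (g * (fun g => α g * g⁻¹) h * g⁻¹) := by
    intro g h
    simp only [map_mul, mul_inv_rev]
    group
  have g3 : ∀ t ∈ (T : Subgroup G), (fun g => α g * g⁻¹) t = 1 := by
    intro t ht
    show α t * t⁻¹ = 1
    rw [hfixT t ht, mul_inv_cancel]
  obtain ⟨a, _, ha⟩ := Cfsg.Agent.Lib.Helper9.Cocyc.cocycle_split (Cz (Fs (⊤ : Subgroup G)))
    (T : Subgroup G) (fun g => α g * g⁻¹) g1 g2 g3 hcop
  refine ⟨a, fun x => ?_⟩
  have h := ha x
  have h' : α x * x⁻¹ = a * (x * a⁻¹ * x⁻¹) := h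
  calc α x = α x * x⁻¹ * x := by group
    _ = a * (x * a⁻¹ * x⁻¹) * x := by rw [h']
    _ = a * x * a⁻¹ := by group

end Cfsg.Agent.S1941
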