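import Cfsg.Statements.S1946
import Cfsg.Agent.Lib.Helper1.ClassTwoB
import Cfsg.Agent.S0027
open Cfsg.Agent.Lib.Helper1

set_option autoImplicit false
open Cfsg

namespace Cfsg.Agent.S1946

open scoped commutatorElement in
theorem aux1946 {G : Type*} [Group G] [Finite G] {p e : ℕ} [Fact p.Prime] (P : Sylow p G)
    (he1 : p ∣ e) (he2 : p ∣ e.choose 2)
    (h : ∀ a ∈ (P : Subgroup G), a ^ e = 1 → ∀ g : G, g * a * g⁻¹ ∈ (P : Subgroup G) →
        ∃ x ∈ (P : Subgroup G), g * a * g⁻¹ = x * a * x⁻¹) : Cfsg.HasNormalPComplement p G := by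
  apply hasNormalPComplement_of_frobHyp
  apply frobHyp_of_sylow P
  intro Q hQP g hg hcop
  apply mem_centralizer_of_small_exponent Q (P.2.to_le hQP) g hg hcop he1 he2
  intro R hRQ hgR hRe
  have hRP : R ≤ (P : Subgroup G) := hRQ.trans hQP
  set A := Subgroup.zpowers g with hA
  have hAR : A ≤ Subgroup.normalizer (R : Set G) := by
    rw [hA, Subgroup.zpowers_le]; exact hgR
  have hRp : IsPGroup p R := P.2.to_le hRP
  have hcop2 : (Nat.card A).Coprime (Nat.card R) := by
    obtain ⟨k, hk⟩ := IsPGroup.iff_card.mp hRp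
    rw [hk, hA, Nat.card_zpowers]
    exact Nat.Coprime.pow_right _ hcop
  have hs : ⁅⁅R, A⁆, A⁆ = ⁅R, A⁆ := Cfsg.Agent.S0027.result A R hAR hcop2 (Or.inl inferInstance)
  let Z : ℕ → Subgroup G := fun i => (Subgroup.upperCentralSeries (P : Subgroup G) i).map (P : Subgroup G).subtype
  have hstep : ∀ i, ⁅R ⊓ Z (i+1), A⁆ ≤ R ⊓ Z i := by
    intro i
    rw [Subgroup.commutator_le]
    intro x hx a ha
    obtain ⟨hxR, hxZ⟩ := Subgroup.mem_inf.mp hx
    have haR := hAR ha
    have h1 : a * x * a⁻¹ ∈ R := (Subgroup.mem_normalizer_iff.mp haR x).mp hxR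
    obtain ⟨y, hy, hyx⟩ := h x (hRP hxR) (hRe x hxR) a (hRP h1)
    have h2 : ⁅x, a⁆ = x * (a * x * a⁻¹)⁻¹ := by rw [commutatorElement_def]; group
    refine Subgroup.mem_inf.mpr ⟨?_, ?_⟩
    · rw [h2]; exact R.mul_mem hxR (R.inv_mem h1)
    · rw [h2, hyx]
      obtain ⟨x', hx', rfl⟩ := hxZ
      refine ⟨⁅x', ⟨y, hy⟩⁆, Subgroup.mem_upperCentralSeries_succ_iff.mp hx' _, ?_⟩
      rw [commutatorElement_def]
      simp only [Subgroup.subtype_apply, Subgroup.coe_mul, Subgroup.coe_inv]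
      group
  haveI : Group.IsNilpotent (P : Subgroup G) := P.2.isNilpotent
  obtain ⟨c, hc⟩ := Group.IsNilpotent.nilpotent (P : Subgroup G)
  have hdesc : ∀ j, j ≤ c → ⁅R, A⁆ ≤ R ⊓ Z (c - j) := by
    intro j
    induction j with
    | zero =>
      intro _
      have h1 : ⁅R, A⁆ ≤ R := commutator_le_of_le_normalizer hAR
      refine le_inf h1 (h1.trans ?_)
      intro x hx
      exact ⟨⟨x, hRP hx⟩, by rw [Nat.sub_zero, hc]; trivial, rfl⟩
    | succ j ih =>
      intro hj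
      have h1 := ih (by omega)
      have h2 : c - j = (c - (j+1)) + 1 := by omega
      rw [← hs]
      calc ⁅⁅R, A⁆, A⁆ ≤ ⁅R ⊓ Z ((c - (j+1)) + 1), A⁆ :=
            Subgroup.commutator_mono (h2 ▸ h1) le_rfl
        _ ≤ _ := hstep _
  have hbot : ⁅R, A⁆ = ⊥ := by
    have := hdesc c le_rfl
    rw [Nat.sub_self] at this
    have h0 : Z 0 = ⊥ := by
      change (Subgroup.upperCentralSeries (P : Subgroup G) 0).map _ = ⊥
      rw [Subgroup.upperCentralSeries_zero, Subgroup.map_bot]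
    rw [h0, inf_bot_eq] at this
    exact le_bot_iff.mp this
  rw [Subgroup.commutator_comm, Subgroup.commutator_eq_bot_iff_le_centralizer] at hbot
  exact hbot (Subgroup.mem_zpowers g)

/-- Let P be a Sylow p-subgroup of the finite group G. Then G has a normal p-complement if and only if P controls the fusion of its elements of order dividing p (dividing 4 when p = 2): whenever such an element a of P has a G-conjugate g a g⁻¹ in P, that conjugate is already x a x⁻¹ for some x in P. -/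
theorem result {G : Type*} [Group G] [Finite G] {p : ℕ} [Fact p.Prime] (P : Sylow p G) :
    Cfsg.HasNormalPComplement p G ↔
      ∀ a ∈ (P : Subgroup G), (a ^ p = 1 ∨ (p = 2 ∧ a ^ 4 = 1)) → ∀ g : G, g * a * g⁻¹ ∈ (P : Subgroup G) →
        ∃ x ∈ (P : Subgroup G), g * a * g⁻¹ = x * a * x⁻¹ := by
  have hpp : p.Prime := Fact.out
  constructor
  · rintro ⟨P', N, hN, hc'⟩ a ha - g hg
    have hc := isComplement'_sylow_of_isComplement' P P' hc'
    obtain ⟨⟨⟨x, hx⟩, ⟨n, hn⟩⟩, hxn⟩ := hc.symm.existsUnique g |>.exists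
    simp only at hxn
    refine ⟨x, hx, ?_⟩
    have h1 : n * a * n⁻¹ ∈ (P : Subgroup G) := by
      have : n * a * n⁻¹ = x⁻¹ * (g * a * g⁻¹) * x := by rw [← hxn]; group
      rw [this]
      exact mul_mem (mul_mem (inv_mem hx) hg) hx
    have h2 : n * a * n⁻¹ * a⁻¹ ∈ N ⊓ (P : Subgroup G) := by
      refine Subgroup.mem_inf.mpr ⟨?_, mul_mem h1 (inv_mem ha)⟩
      have : n * a * n⁻¹ * a⁻¹ = n * (a * n⁻¹ * a⁻¹) := by group
      rw [this]
      exact N.mul_mem hn (hN.conj_mem _ (N.inv_mem hn) a)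
    rw [hc.disjoint.eq_bot, Subgroup.mem_bot] at h2
    have h3 : n * a * n⁻¹ = a := mul_inv_eq_one.mp h2
    rw [← hxn]
    calc x * n * a * (x * n)⁻¹ = x * (n * a * n⁻¹) * x⁻¹ := by group
      _ = _ := by rw [h3]
  · intro h
    by_cases hp2 : p = 2
    · subst hp2
      exact aux1946 (e := 4) P (by norm_num) (by decide) (fun a ha ha4 => h a ha (Or.inr ⟨rfl, ha4⟩))
    · exact aux1946 P (dvd_refl p)
        (hpp.dvd_choose_self (by norm_num) (lt_of_le_of_ne hpp.two_le (Ne.symm hp2))) (fun a ha hap => h a ha (Or.inl hap))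

end Cfsg.Agent.S1946
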