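import Cfsg.Statements.S2010
import Cfsg.Agent.Lib.Helper3.S4Red
import Cfsg.Agent.Lib.Helper3.ZJ5
import Cfsg.Agent.Lib.Helper1.Misc
open Cfsg.Agent.Lib.Helper3.PLocal Cfsg.Agent.Lib.Helper3.S4Rec Cfsg.Agent.Lib.Helper3.S4Red
open Cfsg.Agent.Lib.Helper6.Basic Cfsg.Agent.Lib.Helper6.Subn Cfsg.Agent.Lib.Helper6.Quasi Cfsg.Agent.Lib.Helper6.PAct Cfsg.Agent.Lib.Helper6.Ores
open scoped commutatorElement Pointwise

set_option autoImplicit false
open Cfsg

namespace Cfsg.Agent.S2010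

theorem card_map_of_injOn {G G' : Type*} [Group G] [Group G'] {f : G →* G'} {D : Subgroup G}
    (h : ∀ x ∈ D, f x = 1 → x = 1) : Nat.card (D.map f) = Nat.card D := by
  have hinj : Function.Injective (f.comp D.subtype) := by
    rw [injective_iff_map_eq_one]
    intro x hx
    exact Subtype.ext (h x.1 x.2 hx)
  have h1 : (f.comp D.subtype).range = D.map f := by
    rw [MonoidHom.range_eq_map, ← Subgroup.map_map, ← MonoidHom.range_eq_map, Subgroup.range_subtype]
  rw [← h1]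
  exact (Nat.card_congr (MonoidHom.ofInjective hinj).toEquiv).symm

/-- Let G be a finite solvable group with no section isomorphic to the symmetric group of degree 4, whose Sylow 2-subgroup S has nilpotency class at most 2. Then G = N_G(J_e(S)) · O_{2'}(G), where J_e(S) is the subgroup generated by the elementary abelian subgroups of S of largest order. -/
theorem result {G : Type*} [Group G] [Finite G]
    [Group.IsSolvable G] (hS4 : ¬ Cfsg.Involves (Equiv.Perm (Fin 4)) G) (S : Sylow 2 G)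
    (hcl : Subgroup.lowerCentralSeries (S : Subgroup G) 2 = ⊥) :
    Subgroup.normalizer ((Cfsg.thompsonSubgroupOf 2 (S : Subgroup G)) : Set G) ⊔ Cfsg.pPrimeCore 2 G = ⊤ := by
  classical
  haveI : Fact (Nat.Prime 2) := ⟨Nat.prime_two⟩
  haveI hNn : (Cfsg.pPrimeCore 2 G).Normal := Cfsg.Agent.Lib.Helper1.pPrimeCore_normal 2
  set N := Cfsg.pPrimeCore 2 G with hN
  set π := QuotientGroup.mk' N with hπ
  have hπs : Function.Surjective π := QuotientGroup.mk'_surjective N
  have hker : ∀ x : G, π x = 1 ↔ x ∈ N := fun x => QuotientGroup.eq_one_iff x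
  have hNc : (Nat.card N).Coprime 2 := Cfsg.Agent.Lib.Helper1.pPrimeCore_coprime 2
  have hSN : ∀ x ∈ (S : Subgroup G), x ∈ N → x = 1 := by
    intro x hxS hxN
    exact eq_one_of_pGroup_of_coprime S.isPGroup' hxS
      (Nat.Coprime.coprime_dvd_left (Subgroup.orderOf_dvd_natCard _ hxN) hNc)
  have hinj : ∀ x ∈ (S : Subgroup G), ∀ y ∈ (S : Subgroup G), π x = π y → x = y := by
    intro x hx y hy h
    have h1 : π (x * y⁻¹) = 1 := by rw [map_mul, map_inv, h, mul_inv_cancel]
    have := hSN _ ((S : Subgroup G).mul_mem hx ((S : Subgroup G).inv_mem hy)) ((hker _).1 h1)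
    exact mul_inv_eq_one.1 this
  have hN' : Cfsg.pPrimeCore 2 (G ⧸ N) = ⊥ :=
    Cfsg.Agent.Lib.Helper1.pPrimeCore_quotient_eq_bot 2 N rfl
  have hchar : Subgroup.centralizer (Cfsg.pCore 2 (G ⧸ N) : Set (G ⧸ N)) ≤ Cfsg.pCore 2 (G ⧸ N) := by
    rw [← Cfsg.Agent.Lib.Helper1.fitting_eq_pCore_of_pPrimeCore_eq_bot 2 hN']
    exact Cfsg.Agent.Lib.Helper1.centralizer_fitting_le
  have hS4' : ¬ Cfsg.Involves (Equiv.Perm (Fin 4)) (G ⧸ N) :=
    fun h => hS4 (involves_of_surjective π hπs h)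
  set Sb : Sylow 2 (G ⧸ N) := S.mapSurjective hπs with hSbd
  have hSb : (Sb : Subgroup (G ⧸ N)) = (S : Subgroup G).map π := Sylow.coe_mapSurjective hπs S
  have hclS : ⁅⁅(S : Subgroup G), (S : Subgroup G)⁆, (S : Subgroup G)⁆ = ⊥ := hcl
  have hcl' : ∀ P : Subgroup (G ⧸ N), IsPGroup 2 P → ⁅⁅P, P⁆, P⁆ = ⊥ := by
    intro P hP
    obtain ⟨g, hg⟩ := exists_le_cj_sylow hP Sb
    rw [eq_bot_iff]
    calc ⁅⁅P, P⁆, P⁆ ≤ ⁅⁅cj g (Sb : Subgroup (G ⧸ N)), cj g (Sb : Subgroup (G ⧸ N))⁆,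
          cj g (Sb : Subgroup (G ⧸ N))⁆ :=
          Subgroup.commutator_mono (Subgroup.commutator_mono hg hg) hg
      _ = cj g (⁅⁅(Sb : Subgroup (G ⧸ N)), (Sb : Subgroup (G ⧸ N))⁆, (Sb : Subgroup (G ⧸ N))⁆) := by
          unfold cj
          rw [Subgroup.map_commutator, Subgroup.map_commutator]
      _ = ⊥ := by
          rw [hSb, ← Subgroup.map_commutator, ← Subgroup.map_commutator, hclS, Subgroup.map_bot,
            cj_bot]
  have key : ∀ A ∈ PMax (Pea 2) (S : Subgroup G), A.map π ≤ Cfsg.pCore 2 (G ⧸ N) := by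
    rintro A ⟨hAS, hAe, hAmax⟩
    apply core hS4' hchar hcl' (A.map π) (ea_map π hAe)
    intro Bb hBb
    obtain ⟨g, hg⟩ := exists_le_cj_sylow (ea_isPGroup hBb) Sb
    set B1 := cj g⁻¹ Bb with hB1
    have hB1S : B1 ≤ (Sb : Subgroup (G ⧸ N)) := by
      rw [hB1, cj_le_iff, inv_inv]; exact hg
    have hB1e : Cfsg.IsElementaryAbelian 2 B1 := ea_map _ hBb
    set B' := (S : Subgroup G) ⊓ B1.comap π with hB'
    have hB'e : Cfsg.IsElementaryAbelian 2 B' := by
      rw [ea_iff]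
      constructor
      · intro x hx y hy
        apply hinj _ ((S : Subgroup G).mul_mem hx.1 hy.1) _ ((S : Subgroup G).mul_mem hy.1 hx.1)
        rw [map_mul, map_mul]
        exact ea_comm hB1e hx.2 hy.2
      · intro x hx
        apply hinj _ ((S : Subgroup G).pow_mem hx.1 2) _ (S : Subgroup G).one_mem
        rw [map_pow, map_one]
        exact hB1e.2 _ hx.2
    have h1 := hAmax B' inf_le_left hB'e
    have h2 : B'.map π = B1 := by
      apply le_antisymm
      · rintro _ ⟨x, hx, rfl⟩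
        exact hx.2
      · intro z hz
        have hz' := hB1S hz
        rw [hSb] at hz'
        obtain ⟨s, hs, rfl⟩ := hz'
        exact ⟨s, ⟨hs, hz⟩, rfl⟩
    have h3 : Nat.card (B'.map π) = Nat.card B' :=
      card_map_of_injOn (fun x hx h => hSN x hx.1 ((hker x).1 h))
    have h4 : Nat.card (A.map π) = Nat.card A :=
      card_map_of_injOn (fun x hx h => hSN x (hAS hx) ((hker x).1 h))
    have h5 : Nat.card B1 = Nat.card Bb := card_cj _ _
    rw [h4, ← h5, ← h2, h3]
    exact h1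
  set Ob := Cfsg.pCore 2 (G ⧸ N) with hOb
  have hObn : Ob.Normal := Cfsg.Agent.Lib.Helper1.pCore_normal 2
  set L := Ob.comap π with hL
  haveI hLn : L.Normal := hObn.comap π
  have hLN : (⊤ : Subgroup G) ≤ Nz L := top_le_Nz hLn
  set P := (S : Subgroup G) ⊓ L with hP
  have hsyl : Syl 2 P L := Syl.inf_normal (syl_of_sylow S) le_top hLN
  have hNP : Nz P ≤ Nz (Cfsg.thompsonSubgroupOf 2 (S : Subgroup G)) := by
    rw [thompsonOf_eq']
    intro g hg
    apply Subgroup.mem_normalizer_fintype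
    intro x hx
    have h1 : sSup (PMax (Pea 2) (S : Subgroup G)) ≤
        (sSup (PMax (Pea 2) (S : Subgroup G))).comap (MulAut.conj g).toMonoidHom := by
      apply sSup_le
      intro A hA y hy
      have hAP : A ≤ P := le_inf hA.1 (fun z hz => key A hA ⟨z, hz, rfl⟩)
      have hmem : cj g A ∈ PMax (Pea 2) (S : Subgroup G) := by
        refine ⟨?_, ea_map _ hA.2.1, fun C hC hCe => ?_⟩
        · calc cj g A ≤ cj g P := cj_mono hAP
            _ = P := cj_eq_self_iff.2 hg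
            _ ≤ S := inf_le_left
        · rw [card_cj]; exact hA.2.2 C hC hCe
      exact le_sSup hmem (conj_mem_cj hy)
    exact h1 hx
  rw [eq_top_iff]
  intro g _
  obtain ⟨m, hm, n, hn, rfl⟩ := hsyl.frattini hLN (Subgroup.mem_top g)
  have h1 : π m ∈ (Sb : Subgroup (G ⧸ N)) :=
    normal_pgroup_le_sylow Sb hObn (Cfsg.Agent.Lib.Helper1.pCore_isPGroup 2) hm
  rw [hSb] at h1
  obtain ⟨s, hs, hsm⟩ := h1
  have hsP : s ∈ P := ⟨hs, by change π s ∈ Ob; rw [hsm]; exact hm⟩
  have hν : m * s⁻¹ ∈ N := (hker _).1 (by rw [map_mul, map_inv, hsm, mul_inv_cancel])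
  have e : m * n = (m * s⁻¹) * (s * n) := by group
  rw [e]
  exact Subgroup.mul_mem _ ((le_sup_right : N ≤ _) hν)
    ((le_sup_left : Subgroup.normalizer _ ≤ _)
      (hNP (Subgroup.mul_mem _ (Subgroup.le_normalizer hsP) hn)))

end Cfsg.Agent.S2010
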