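import Cfsg.Statements.S2521
import Mathlib
import Cfsg.Agent.Lib.Helper1.FrobD

set_option autoImplicit false
open Cfsg

namespace Cfsg.Agent.S2521

open Cfsg
open Cfsg.Agent.Lib.Helper1

/-- Let B be a finite group that is the semidirect product of a nilpotent normal subgroup U by an abelian subgroup T (U ∩ T = 1, UT = B), and let t ∈ T have centralizer exactly T. Then every element of the coset tU is conjugate to t in B: for each u ∈ U there is b ∈ B with b t b⁻¹ = t u. -/
theorem result {B : Type*} [Group B] [Finite B] (U T : Subgroup B) [U.Normal] (hU : Group.IsNilpotent ↥U) (hT : IsMulCommutative ↥T)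
    (hcompl : Subgroup.IsComplement' U T) (t : B) (ht : t ∈ T) (hreg : Subgroup.centralizer ({t} : Set B) = T) (u : B) (hu : u ∈ U) :
    ∃ b : B, b * t * b⁻¹ = t * u := by
  have hUn : U.Normal := inferInstance
  have hd : U ⊓ T = ⊥ := disjoint_iff.mp hcompl.disjoint
  obtain ⟨a, _, ha⟩ := FrobD.fpf_surj hUn t (by
    intro k hk hc
    have h1 : k ∈ Subgroup.centralizer ({t} : Set B) := by
      rw [Subgroup.mem_centralizer_singleton_iff]; exact hc.symm
    rw [hreg] at h1
    have h2 : k ∈ U ⊓ T := ⟨hk, h1⟩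
    rw [hd, Subgroup.mem_bot] at h2
    exact h2) (t * u * t⁻¹) (hUn.conj_mem u hu t)
  refine ⟨a, ?_⟩
  calc a * t * a⁻¹ = (a * t * a⁻¹ * t⁻¹) * t := by group
    _ = (t * u * t⁻¹) * t := by rw [ha]
    _ = t * u := by group

end Cfsg.Agent.S2521
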