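import Cfsg.Statements.S2803
import Mathlib
import Cfsg.Agent.Lib.Helper6.PRed

set_option autoImplicit false
open Cfsg

namespace Cfsg.Agent.S2803

open Cfsg.Agent.Lib.Helper6.Basic Cfsg.Agent.Lib.Helper6.Subn Cfsg.Agent.Lib.Helper6.Quasi Cfsg.Agent.Lib.Helper6.Comp Cfsg.Agent.Lib.Helper6.Rad Cfsg.Agent.Lib.Helper6.Nil Cfsg.Agent.Lib.Helper6.FStar Cfsg.Agent.Lib.Helper6.FStar2 Cfsg.Agent.Lib.Helper6.PAct Cfsg.Agent.Lib.Helper6.CharP Cfsg.Agent.Lib.Helper6.Ores Cfsg.Agent.Lib.Helper6.Trace Cfsg.Agent.Lib.Helper6.PRed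
open scoped commutatorElement Pointwise

/-- Let L be a finite group and p a prime with C_L(O_p(L)) ≤ O_p(L), T a Sylow p-subgroup, and Y the largest p-reduced normal subgroup of L. Put T_L = C_T(Y) and L_T = N_L(T_L). Then L = L_T · C_L(Y) (elementwise), T_L = O_p(L_T), and Y = Ω₁(Z(T_L)). -/
theorem result {L : Type*} [Group L] [Finite L] {p : ℕ} [Fact p.Prime] (hchar : Subgroup.centralizer (Cfsg.pCore p L : Set L) ≤ Cfsg.pCore p L) (T : Sylow p L) (Y : Subgroup L) (hY : (Cfsg.IsPReducedNormal p Y ∧ ∀ V : Subgroup L, Cfsg.IsPReducedNormal p V → V ≤ Y)) (TL : Subgroup L) (hTL : TL = (T : Subgroup L) ⊓ Subgroup.centralizer (Y : Set L)) : (∀ g : L, ∃ a ∈ Subgroup.normalizer (TL : Set L), ∃ c ∈ Subgroup.centralizer (Y : Set L), g = a * c) ∧ (Cfsg.pCore p ↥(Subgroup.normalizer (TL : Set L))).map (Subgroup.normalizer (TL : Set L)).subtype = TL ∧ Y = Cfsg.omegaOne p (TL ⊓ Subgroup.centralizer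 (TL : Set L)) := by
  have hL := (chP_top_bridge p).mp hchar
  have hT := syl_of_sylow T
  have hYY : Y = YY p ⊤ :=
    le_antisymm (pr_top_bridge.mp hY.1).le_YY (hY.2 _ (pr_top_bridge.mpr (pr_YY p ⊤)))
  subst hTL
  subst hYY
  refine ⟨?_, ?_, ?_⟩
  · intro g
    obtain ⟨a, ha, c, hc, h⟩ := frattini_Cz hT (pr_YY p ⊤).2.1 (Subgroup.mem_top g)
    exact ⟨a, ha.2, c, hc.2, h⟩
  · rw [map_pCore]
    have := Op_LT hT (pr_YY p ⊤).2.1 (pr_YY p ⊤).2.2.2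
    rwa [top_inf_eq] at this
  · exact YY_eq_OZ hL hT

end Cfsg.Agent.S2803
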