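import Cfsg.Statements.S2809
import Mathlib
import Cfsg.Agent.Lib.Helper6.Ores

set_option autoImplicit false
open Cfsg

namespace Cfsg.Agent.S2809

open Cfsg.Agent.Lib.Helper6.Basic Cfsg.Agent.Lib.Helper6.Subn Cfsg.Agent.Lib.Helper6.Quasi Cfsg.Agent.Lib.Helper6.Comp Cfsg.Agent.Lib.Helper6.Rad Cfsg.Agent.Lib.Helper6.Nil Cfsg.Agent.Lib.Helper6.FStar Cfsg.Agent.Lib.Helper6.FStar2 Cfsg.Agent.Lib.Helper6.PAct Cfsg.Agent.Lib.Helper6.CharP Cfsg.Agent.Lib.Helper6.Ores
open scoped commutatorElement Pointwise

/-- Let H be a finite group, p a prime, R a p-subgroup of H with C_H(R) ≤ R, and L a subgroup of N_H(R) acting nilpotently on R (some iterated commutator [R, L, …, L] is trivial). Then L is a p-group. -/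
theorem result {H : Type*} [Group H] [Finite H] {p : ℕ} [Fact p.Prime] (R : Subgroup H) (hR : IsPGroup p ↥R) (hC : Subgroup.centralizer (R : Set H) ≤ R) (L : Subgroup H) (hL : L ≤ Subgroup.normalizer (R : Set H)) (hnil : ∃ n : ℕ, Cfsg.iterCommutator R L n = ⊥) : IsPGroup p ↥L := by
  obtain ⟨n, hn⟩ := hnil
  have hle : ∀ i, Cfsg.iterCommutator R L i ≤ R := by
    intro i
    induction i with
    | zero => exact le_rfl
    | succ i ih => exact comm_le_of_Nz' ih hL
  apply isPGroup_of_p'_trivial
  intro x hx hxc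
  have key : ∀ i, i ≤ n → x ∈ Cz (Cfsg.iterCommutator R L (n - i)) := by
    intro i
    induction i with
    | zero =>
      intro _
      rw [Nat.sub_zero, hn]
      simp [Subgroup.mem_centralizer_iff]
    | succ i ih =>
      intro hi
      have h1 := ih (by omega)
      have e : n - i = (n - (i + 1)) + 1 := by omega
      rw [e] at h1
      apply mem_Cz_of_step (hR.to_le (hle _)) hxc h1
      intro a ha
      exact Subgroup.commutator_mem_commutator ha hx
  have h2 := key n le_rfl
  rw [Nat.sub_self] at h2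
  exact eq_one_of_pGroup_of_coprime hR (hC h2) hxc

end Cfsg.Agent.S2809
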