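import Cfsg.Statements.S2810
import Mathlib
import Cfsg.Agent.Lib.Helper6.Ores

set_option autoImplicit false
open Cfsg

namespace Cfsg.Agent.S2810

open Cfsg.Agent.Lib.Helper6.Basic Cfsg.Agent.Lib.Helper6.Subn Cfsg.Agent.Lib.Helper6.Quasi Cfsg.Agent.Lib.Helper6.Comp Cfsg.Agent.Lib.Helper6.Rad Cfsg.Agent.Lib.Helper6.Nil Cfsg.Agent.Lib.Helper6.FStar Cfsg.Agent.Lib.Helper6.FStar2 Cfsg.Agent.Lib.Helper6.PAct Cfsg.Agent.Lib.Helper6.CharP Cfsg.Agent.Lib.Helper6.Ores
open scoped commutatorElement Pointwise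

/-- the stabilizer of a normal chain -/
def stab {H : Type*} [Group H] {n : ℕ} (A : Fin (n + 1) → Subgroup H)
    (hnorm : ∀ i, (A i).Normal) : Subgroup H where
  carrier := {g | ∀ i : Fin n, ∀ a ∈ A i.succ, ⁅a, g⁆ ∈ A i.castSucc}
  one_mem' := by
    intro i a _
    simp
  mul_mem' := by
    intro g h hg hh i a ha
    have e : ⁅a, g * h⁆ = ⁅a, g⁆ * (g * ⁅a, h⁆ * g⁻¹) := by
      simp only [commutatorElement_def]; group
    rw [e]
    exact (A i.castSucc).mul_mem (hg i a ha) ((hnorm _).conj_mem _ (hh i a ha) g)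
  inv_mem' := by
    intro g hg i a ha
    have e : ⁅a, g⁻¹⁆ = g⁻¹ * ⁅a, g⁆⁻¹ * g⁻¹⁻¹ := by
      simp only [commutatorElement_def]; group
    rw [e]
    exact (hnorm _).conj_mem _ ((A i.castSucc).inv_mem (hg i a ha)) g⁻¹

theorem stab_normal {H : Type*} [Group H] {n : ℕ} (A : Fin (n + 1) → Subgroup H)
    (hnorm : ∀ i, (A i).Normal) : (stab A hnorm).Normal := by
  constructor
  intro g hg h i a ha
  have e : ⁅a, h * g * h⁻¹⁆ = h * ⁅h⁻¹ * a * h⁻¹⁻¹, g⁆ * h⁻¹ := by
    simp only [commutatorElement_def]; group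
  rw [e]
  exact (hnorm _).conj_mem _ (hg i _ ((hnorm _).conj_mem _ ha h⁻¹)) h

/-- Let H be a finite group of characteristic p and L a subgroup of H centralizing every factor of some H-invariant chain 1 = A₀ ≤ A₁ ≤ … ≤ Aₙ = O_p(H) of normal subgroups (that is, [A_{i+1}, L] ≤ Aᵢ for each i). Then L ≤ O_p(H). -/
theorem result {H : Type*} [Group H] [Finite H] {p : ℕ} [Fact p.Prime] (hchar : Subgroup.centralizer (Cfsg.pCore p H : Set H) ≤ Cfsg.pCore p H) (L : Subgroup H) (n : ℕ) (A : Fin (n + 1) → Subgroup H) (h0 : A 0 = ⊥) (hn : A (Fin.last n) = Cfsg.pCore p H) (hmono : Monotone A) (hnorm : ∀ i, (A i).Normal) (hcent : ∀ i : Fin n, ⁅A i.succ, L⁆ ≤ A i.castSucc) : L ≤ Cfsg.pCore p H := by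
  rw [chP_top_bridge] at hchar
  rw [pCore_eq] at hn ⊢
  have hLs : L ≤ stab A hnorm := by
    intro l hl i a ha
    exact hcent i (Subgroup.commutator_mem_commutator ha hl)
  apply hLs.trans
  apply le_Op_of_sn (SN.of_normal_top (stab_normal A hnorm))
  apply isPGroup_of_p'_trivial
  intro x hx hxc
  have hp : ∀ i, IsPGroup p ↥(A i) := by
    intro i
    apply (Op_isPGroup p (⊤ : Subgroup H)).to_le
    rw [← hn]
    exact hmono (Fin.le_last i)
  have key : ∀ i : Fin (n + 1), x ∈ Cz (A i) := by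
    intro i
    induction i using Fin.induction with
    | zero => rw [h0]; simp [Subgroup.mem_centralizer_iff]
    | succ i ih => exact mem_Cz_of_step (hp _) hxc ih (hx i)
  have h2 := key (Fin.last n)
  rw [hn] at h2
  exact eq_one_of_pGroup_of_coprime (Op_isPGroup p ⊤) (hchar ⟨Subgroup.mem_top x, h2⟩) hxc

end Cfsg.Agent.S2810
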