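import Cfsg.Statements.S2813
import Mathlib
import Cfsg.Agent.Lib.Helper6.Ores

set_option autoImplicit false
open Cfsg

namespace Cfsg.Agent.S2813

open Cfsg.Agent.Lib.Helper6.Basic Cfsg.Agent.Lib.Helper6.Subn Cfsg.Agent.Lib.Helper6.Quasi Cfsg.Agent.Lib.Helper6.Comp Cfsg.Agent.Lib.Helper6.Rad Cfsg.Agent.Lib.Helper6.Nil Cfsg.Agent.Lib.Helper6.FStar Cfsg.Agent.Lib.Helper6.FStar2 Cfsg.Agent.Lib.Helper6.PAct Cfsg.Agent.Lib.Helper6.CharP Cfsg.Agent.Lib.Helper6.Ores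
open scoped commutatorElement Pointwise

/-- Let K be a subgroup of the finite group H with O_p(K) = 1 and Y a p-subgroup of N_H(K) with [K, Y, Y] = 1. Then [K, Y] = 1. -/
theorem result {H : Type*} [Group H] [Finite H] {p : ℕ} [Fact p.Prime] (K : Subgroup H) (hO : Cfsg.pCore p ↥K = ⊥) (Y : Subgroup H) (hY : IsPGroup p ↥Y) (hYK : Y ≤ Subgroup.normalizer (K : Set H)) (hq : ⁅⁅K, Y⁆, Y⁆ = ⊥) : ⁅K, Y⁆ = ⊥ := by
  have hOp : Op p K = ⊥ := by rw [← map_pCore, hO, Subgroup.map_bot]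
  have hNK : ⁅K, Y⁆ ≤ K := comm_le_of_Nz' le_rfl hYK
  have hKN : K ≤ Nz ⁅K, Y⁆ := Subgroup.normalizer_commutator_ge_left K Y
  have hYC : Y ≤ Cz ⁅K, Y⁆ := comm_eq_bot_iff'.mp hq
  have hab : ⁅K, Y⁆ ≤ Cz ⁅K, Y⁆ := by
    rw [Subgroup.commutator_le]
    intro k hk y hy
    rw [commutatorElement_def]
    have h1 : k * y * k⁻¹ ∈ Cz ⁅K, Y⁆ :=
      (Subgroup.mem_normalizer_iff.mp (Nz_le_Nz_Cz _ (hKN hk)) y).mp (hYC hy)
    exact (Cz ⁅K, Y⁆).mul_mem h1 ((Cz ⁅K, Y⁆).inv_mem (hYC hy))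
  have hp : IsPGroup p ↥⁅K, Y⁆ := by
    rw [Subgroup.commutator_def]
    apply isPGroup_closure
    · rintro x ⟨k, hk, y, hy, rfl⟩ x' ⟨k', hk', y', hy', rfl⟩
      exact Subgroup.mem_centralizer_iff.mp (hab (Subgroup.commutator_mem_commutator hk' hy')) _
        (Subgroup.commutator_mem_commutator hk hy)
    · rintro x ⟨k, hk, y, hy, rfl⟩
      obtain ⟨j, hj⟩ := hY ⟨y, hy⟩
      have hj' : y ^ (p ^ j) = 1 := congrArg Subtype.val hj
      refine ⟨j, ?_⟩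
      have hc : Commute ⁅k, y⁆ y :=
        Subgroup.mem_centralizer_iff.mp (hYC hy) _ (Subgroup.commutator_mem_commutator hk hy)
      have h1 : k * y * k⁻¹ = ⁅k, y⁆ * y := by rw [commutatorElement_def]; group
      have h2 : (k * y * k⁻¹) ^ (p ^ j) = 1 := by rw [_root_.conj_pow, hj']; simp
      rw [h1, hc.mul_pow, hj', mul_one] at h2
      exact h2
  have := le_Op_of_sn (SN.of_normal hNK hKN) hp
  rw [hOp] at this
  exact le_bot_iff.mp this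

end Cfsg.Agent.S2813
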