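import Cfsg.Statements.S2818
import Mathlib
import Cfsg.Agent.Lib.Helper6.PIrr
import Cfsg.Agent.Lib.Helper6.Large
import Cfsg.Agent.Lib.Helper6.Phi

set_option autoImplicit false
open Cfsg

namespace Cfsg.Agent.S2818

open Cfsg.Agent.Lib.Helper6.Basic Cfsg.Agent.Lib.Helper6.Subn Cfsg.Agent.Lib.Helper6.Quasi Cfsg.Agent.Lib.Helper6.Comp Cfsg.Agent.Lib.Helper6.Rad Cfsg.Agent.Lib.Helper6.Nil Cfsg.Agent.Lib.Helper6.FStar Cfsg.Agent.Lib.Helper6.FStar2 Cfsg.Agent.Lib.Helper6.PAct Cfsg.Agent.Lib.Helper6.CharP Cfsg.Agent.Lib.Helper6.Ores Cfsg.Agent.Lib.Helper6.Trace Cfsg.Agent.Lib.Helper6.PRed Cfsg.Agent.Lib.Helper6.WClosed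
open scoped commutatorElement Pointwise
open Cfsg.Agent.Lib.Helper6.Large
open Cfsg.Agent.Lib.Helper6.PIrr
open Cfsg.Agent.Lib.Helper6.Phi

/-- Let P be a finite p-subgroup of a group G and H a subgroup of N_G(P) with [P, H] ≤ Ω₁(Z(P)) (the elements of order dividing p in the centre of P). Then H centralizes the Frattini subgroup of P. -/
theorem result {G : Type*} [Group G] [Finite G] {p : ℕ} [Fact p.Prime] (P : Subgroup G) (hP : IsPGroup p ↥P) (H : Subgroup G) (hH : H ≤ Subgroup.normalizer (P : Set G)) (h : ⁅P, H⁆ ≤ Cfsg.omegaOne p (P ⊓ Subgroup.centralizer (P : Set G))) : ⁅(frattini ↥P).map P.subtype, H⁆ = ⊥ := by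
  have h' : ⁅P, H⁆ ≤ OZ p P := h
  rw [comm_eq_bot_iff]
  show Phi P ≤ Cz H
  have hz : ⁅⁅P, H⁆, P⁆ = ⊥ := comm_eq_bot_iff.2 (h'.trans (OZ_le_Cz p P))
  apply Phi_le_of hP
  · rw [← comm_eq_bot_iff]
    apply Subgroup.commutator_commutator_eq_bot_of_rotate hz
    rw [Subgroup.commutator_comm H P]; exact hz
  · intro x hx
    rw [Subgroup.mem_centralizer_iff]
    intro g hg
    have hc : ⁅g, x⁆ ∈ OZ p P := by
      apply h'
      rw [Subgroup.commutator_comm]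
      exact Subgroup.commutator_mem_commutator hg hx
    obtain ⟨_, hc2, hc3⟩ := mem_OZ_iff.1 hc
    have hcx : Commute ⁅g, x⁆ x := (Subgroup.mem_centralizer_iff.1 hc2 x hx).symm
    have e1 : g * x * g⁻¹ = ⁅g, x⁆ * x := by rw [commutatorElement_def]; group
    have e2 : g * x ^ p * g⁻¹ = x ^ p := by
      rw [← conj_pow, e1, hcx.mul_pow, hc3, one_mul]
    calc g * x ^ p = (g * x ^ p * g⁻¹) * g := by group
      _ = x ^ p * g := by rw [e2]

end Cfsg.Agent.S2818
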