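import Cfsg.Statements.S2819
import Mathlib
import Cfsg.Agent.Lib.Helper6.PIrr
import Cfsg.Agent.Lib.Helper6.Large
import Cfsg.Agent.Lib.Helper6.Phi

set_option autoImplicit false
open Cfsg

namespace Cfsg.Agent.S2819

open Cfsg.Agent.Lib.Helper6.Basic Cfsg.Agent.Lib.Helper6.Subn Cfsg.Agent.Lib.Helper6.Quasi Cfsg.Agent.Lib.Helper6.Comp Cfsg.Agent.Lib.Helper6.Rad Cfsg.Agent.Lib.Helper6.Nil Cfsg.Agent.Lib.Helper6.FStar Cfsg.Agent.Lib.Helper6.FStar2 Cfsg.Agent.Lib.Helper6.PAct Cfsg.Agent.Lib.Helper6.CharP Cfsg.Agent.Lib.Helper6.Ores Cfsg.Agent.Lib.Helper6.Trace Cfsg.Agent.Lib.Helper6.PRed Cfsg.Agent.Lib.Helper6.WClosed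
open scoped commutatorElement Pointwise
open Cfsg.Agent.Lib.Helper6.Large
open Cfsg.Agent.Lib.Helper6.PIrr
open Cfsg.Agent.Lib.Helper6.Phi

/-- Let P be a finite p-subgroup of a group G, H a subgroup of N_G(P), and Y a subgroup of H centralizing the derived subgroup P' such that [P, Y] is elementary abelian. Then O^p(⟨Y^H⟩), the subgroup of the normal closure of Y in H generated by its elements of order prime to p, centralizes the Frattini subgroup of P. -/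
theorem result {G : Type*} [Group G] [Finite G] {p : ℕ} [Fact p.Prime] (P : Subgroup G) (hP : IsPGroup p ↥P) (H : Subgroup G) (hH : H ≤ Subgroup.normalizer (P : Set G)) (Y : Subgroup G) (hYH : Y ≤ H) (hYc : Y ≤ Subgroup.centralizer ((⁅P, P⁆ : Subgroup G) : Set G)) (hel : Cfsg.IsElementaryAbelian p ⁅P, Y⁆) (NY : Subgroup G) (hNY : NY = (Subgroup.normalClosure ((Y.subgroupOf H : Subgroup ↥H) : Set ↥H)).map H.subtype) : (Cfsg.pResidual p ↥NY).map NY.subtype ≤ Subgroup.centralizer (((frattini ↥P).map P.subtype : Subgroup G) : Set G) := by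
  have hEA := ea_iff.1 hel
  rw [map_pResidual]
  show Ores p NY ≤ Cz (Phi P)
  have hP' : IsPGroup p ↥⁅P, P⁆ := hP.to_le (comm_le_of_Nz Subgroup.le_normalizer le_rfl)
  have hHP' : H ≤ Nz ⁅P, P⁆ := le_Nz_comm hH hH
  have hHΦ : H ≤ Nz (Phi P) := hH.trans (Nz_le_Nz_Phi P)
  have hPY : ⁅P, Y⁆ ≤ P := comm_le_of_Nz' le_rfl (hYH.trans hH)
  have h1 : Phi P ≤ Stb Y ⁅P, P⁆ := by
    apply Phi_le_of hP
    · apply le_Stb Subgroup.le_normalizer
      rw [comm_eq_bot_iff.2 hYc]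
      exact bot_le
    · intro x hx
      rw [mem_Stb]
      refine ⟨(Subgroup.normalizer_commutator_ge_left P P) (P.pow_mem hx p), ?_⟩
      intro y hy
      have hc : ⁅y, x⁆ ∈ ⁅P, Y⁆ := by
        rw [Subgroup.commutator_comm]; exact Subgroup.commutator_mem_commutator hy hx
      have e1 : y * x * y⁻¹ = ⁅y, x⁆ * x := by rw [commutatorElement_def]; group
      have e2 : ⁅y, x ^ p⁆ = (⁅y, x⁆ * x) ^ p * (x ^ p)⁻¹ := by
        rw [← e1, conj_pow, commutatorElement_def]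
      have := mul_pow_mem_comm (hPY hc) hx p
      rw [hEA.2 _ hc, one_mul] at this
      rw [e2]; exact this
  have h2 : Y ≤ Stb (Phi P) ⁅P, P⁆ ⊓ Cz ⁅P, P⁆ := by
    refine le_inf (le_Stb (hYH.trans hHP') ?_) hYc
    rw [Subgroup.commutator_le]
    intro a ha y hy
    have := (mem_Stb.1 (h1 ha)).2 y hy
    rw [← commutatorElement_inv]
    exact Subgroup.inv_mem _ this
  have hW : H ≤ Nz (Stb (Phi P) ⁅P, P⁆ ⊓ Cz ⁅P, P⁆) :=
    le_Nz_inf (le_Nz_Stb hHΦ hHP') (hHP'.trans (Nz_le_Nz_Cz _))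
  have h3 : NY ≤ Stb (Phi P) ⁅P, P⁆ ⊓ Cz ⁅P, P⁆ := by
    rw [hNY, Subgroup.map_le_iff_le_comap]
    have : ((Stb (Phi P) ⁅P, P⁆ ⊓ Cz ⁅P, P⁆).subgroupOf H).Normal :=
      Subgroup.normal_subgroupOf_iff_le_normalizer_inf.2 (le_Nz_inf hW Subgroup.le_normalizer)
    show _ ≤ (Stb (Phi P) ⁅P, P⁆ ⊓ Cz ⁅P, P⁆).subgroupOf H
    apply Subgroup.normalClosure_le_normal
    intro x hx
    exact h2 hx
  rw [Ores_le_iff]
  intro g hg hgc
  exact mem_Cz_of_mem_Stb hP' hgc (h3 hg).1 (h3 hg).2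

end Cfsg.Agent.S2819
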