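import Cfsg.Statements.S2823
import Mathlib
import Cfsg.Agent.Lib.Helper6.PRed

set_option autoImplicit false
open Cfsg

namespace Cfsg.Agent.S2823

open Cfsg.Agent.Lib.Helper6.Basic Cfsg.Agent.Lib.Helper6.Subn Cfsg.Agent.Lib.Helper6.Quasi Cfsg.Agent.Lib.Helper6.Comp Cfsg.Agent.Lib.Helper6.Rad Cfsg.Agent.Lib.Helper6.Nil Cfsg.Agent.Lib.Helper6.FStar Cfsg.Agent.Lib.Helper6.FStar2 Cfsg.Agent.Lib.Helper6.PAct Cfsg.Agent.Lib.Helper6.CharP Cfsg.Agent.Lib.Helper6.Ores Cfsg.Agent.Lib.Helper6.Trace Cfsg.Agent.Lib.Helper6.PRed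
open scoped commutatorElement Pointwise

/-- Let H be a finite group, p a prime, T a Sylow p-subgroup and L a subgroup of characteristic p containing T; let Z_L be the subgroup generated by the Ω₁(Z(S)) over the Sylow p-subgroups S of L and O^p(L) the subgroup generated by the elements of L of order prime to p. Then Z_L = Ω₁(Z(L))·[Z_L, O^p(L)] and [Z_L, L] = [Z_L, O^p(L)]. -/
theorem result {H : Type*} [Group H] [Finite H] {p : ℕ} [Fact p.Prime] (T : Sylow p H) (L : Subgroup H) (hTL : (T : Subgroup H) ≤ L) (hL : Subgroup.centralizer (Cfsg.pCore p ↥L : Set ↥L) ≤ Cfsg.pCore p ↥L) : Cfsg.sylowCenterClosure p L = (Cfsg.omegaOne p (L ⊓ Subgroup.centralizer ((L : Subgroup H) : Set H))) ⊔ ⁅Cfsg.sylowCenterClosure p L, (Cfsg.pResidual p ↥L).map L.subtype⁆ ∧ ⁅Cfsg.sylowCenterClosure p L, L⁆ = ⁅Cfsg.sylowCenterClosure p L, (Cfsg.pResidual p ↥L).map L.subtype⁆ := by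
  rw [sylowCenterClosure_eq, map_pResidual]
  have hLc := (chP_bridge p L).mp hL
  have e : Cfsg.omegaOne p (L ⊓ Subgroup.centralizer (L : Set H)) = OZ p L := rfl
  rw [e]
  have hTL' : Syl p T L := (syl_of_sylow T).of_le hTL le_top
  have hea : EA p (ZL p L) := (ea_OZ p _).mono (ZL_le_OZ hLc)
  have hn := le_Nz_ZL p L
  have hWZ : ⁅ZL p L, Ores p L⁆ ≤ ZL p L := comm_le_of_Nz' le_rfl ((Ores_le p L).trans hn)
  have h1 : ZL p L = OZ p L ⊔ ⁅ZL p L, Ores p L⁆ := by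
    apply le_antisymm
    · apply sSup_le
      rintro _ ⟨S, hS, rfl⟩
      intro z hz
      have hz' := mem_OZ_iff.mp hz
      obtain ⟨s, hs, hzs⟩ := decomp_Ores hS hea hn (OZ_le_ZL hS hz) hz'.2.1
      have hsO : s ∈ OZ p L := mem_OZ_iff.mpr ⟨ZL_le p L hs.1, hs.2, hea.2 s hs.1⟩
      have h2 := (OZ p L ⊔ ⁅ZL p L, Ores p L⁆).mul_mem
        ((le_sup_right (a := OZ p L) (b := ⁅ZL p L, Ores p L⁆)) hzs)
        ((le_sup_left (a := OZ p L) (b := ⁅ZL p L, Ores p L⁆)) hsO)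
      simpa using h2
    · exact sup_le ((OZ_le_OZ_syl hTL').trans (OZ_le_ZL hTL')) hWZ
  refine ⟨h1, ?_⟩
  apply le_antisymm _ (Subgroup.commutator_mono le_rfl (Ores_le p L))
  rw [Subgroup.commutator_le]
  intro z hz l hl
  rw [h1] at hz
  have hWL : ⁅ZL p L, Ores p L⁆ ≤ L := hWZ.trans (ZL_le p L)
  obtain ⟨c, hc, w, hw, rfl⟩ := mem_sup_of_le_Cz ((OZ_le_Cz p L).trans (Cz_anti hWL)) hz
  have hLW : L ≤ Nz ⁅ZL p L, Ores p L⁆ := le_Nz_comm hn (le_Nz_Ores p L)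
  have hx : (w * l * w⁻¹) * c = c * (w * l * w⁻¹) :=
    Subgroup.mem_centralizer_iff.mp (OZ_le_Cz p L hc) _
      (L.mul_mem (L.mul_mem (hWL hw) hl) (L.inv_mem (hWL hw)))
  have h3 : ⁅c * w, l⁆ = ⁅w, l⁆ := by
    rw [commutatorElement_def, commutatorElement_def]
    calc c * w * l * (c * w)⁻¹ * l⁻¹ = c * (w * l * w⁻¹) * c⁻¹ * l⁻¹ := by group
      _ = w * l * w⁻¹ * l⁻¹ := by rw [← hx]; group
  rw [h3]
  exact (comm_le_of_Nz' le_rfl hLW) (Subgroup.commutator_mem_commutator hw hl)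

end Cfsg.Agent.S2823
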