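import Cfsg.Statements.S2824
import Mathlib
import Cfsg.Agent.Lib.Helper6.PRed

set_option autoImplicit false
open Cfsg

namespace Cfsg.Agent.S2824

open Cfsg.Agent.Lib.Helper6.Basic Cfsg.Agent.Lib.Helper6.Subn Cfsg.Agent.Lib.Helper6.Quasi Cfsg.Agent.Lib.Helper6.Comp Cfsg.Agent.Lib.Helper6.Rad Cfsg.Agent.Lib.Helper6.Nil Cfsg.Agent.Lib.Helper6.FStar Cfsg.Agent.Lib.Helper6.FStar2 Cfsg.Agent.Lib.Helper6.PAct Cfsg.Agent.Lib.Helper6.CharP Cfsg.Agent.Lib.Helper6.Ores Cfsg.Agent.Lib.Helper6.Trace Cfsg.Agent.Lib.Helper6.PRed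
open scoped commutatorElement Pointwise

/-- Let H be a finite group, p a prime, T a Sylow p-subgroup, L and M subgroups of characteristic p containing T, Y_L the largest p-reduced normal subgroup of L and T₀ = C_T(Y_L). If M·C_H(Y_L) = L·C_H(Y_L), then L* := N_M(T₀) has Y_{L*} = Y_L and L·C_H(Y_L) = L*·C_H(Y_L). -/
theorem result {H : Type*} [Group H] [Finite H] {p : ℕ} [Fact p.Prime] (T : Sylow p H) (L M : Subgroup H) (hTL : (T : Subgroup H) ≤ L) (hTM : (T : Subgroup H) ≤ M) (hL : Subgroup.centralizer (Cfsg.pCore p ↥L : Set ↥L) ≤ Cfsg.pCore p ↥L) (hM : Subgroup.centralizer (Cfsg.pCore p ↥M : Set ↥M) ≤ Cfsg.pCore p ↥M) (T₀ : Subgroup H) (hT₀ : T₀ = (T : Subgroup H) ⊓ Subgroup.centralizer (((Cfsg.largestPReducedOf p L) : Subgroup H) : Set H)) (hfac : M ⊔ Subgroup.centralizer (((Cfsg.largestPReducedOf p L) : Subgroup H) : Set H) = L ⊔ Subgroup.centralizer (((Cfsg.largestPReducedOf p L) : Subgroup H)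 : Set H)) (Ls : Subgroup H) (hLs : Ls = M ⊓ Subgroup.normalizer ((T₀ : Subgroup H) : Set H)) : (Cfsg.largestPReducedOf p Ls) = (Cfsg.largestPReducedOf p L) ∧ L ⊔ Subgroup.centralizer (((Cfsg.largestPReducedOf p L) : Subgroup H) : Set H) = Ls ⊔ Subgroup.centralizer (((Cfsg.largestPReducedOf p L) : Subgroup H) : Set H) := by
  rw [largestPReducedOf_eq] at hT₀ hfac
  rw [largestPReducedOf_eq, largestPReducedOf_eq]
  have hLc := (chP_bridge p L).mp hL
  have hT := syl_of_sylow T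
  have hTL' : Syl p T L := hT.of_le hTL le_top
  have hTM' : Syl p T M := hT.of_le hTM le_top
  have hY := pr_YY p L
  subst hT₀
  subst hLs
  have hMN : M ≤ Nz (YY p L) := by
    calc M ≤ L ⊔ Cz (YY p L) := hfac ▸ le_sup_left
      _ ≤ Nz (YY p L) := sup_le hY.2.1 (Cz_le_Nz _)
  have hYT : YY p L ≤ T := hY.le_Op.trans hTL'.Op_le
  have hMpra : PRA p (YY p L) M := hY.2.2.2.of_sup_eq hY.2.1 hMN hfac.symm
  refine ⟨?_, ?_⟩
  · apply le_antisymm
    · have h1 := (pr_YY p (M ⊓ Nz ((T : Subgroup H) ⊓ Cz (YY p L)))).le_OZ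
      rw [Op_LT hTM' hMN hMpra, ← YY_eq_OZ hLc hTL'] at h1
      exact h1
    · apply PR.le_YY
      exact ⟨hYT.trans (T_le_LT hTM' hMN), inf_le_left.trans hMN, hY.2.2.1, PRA.LT hTM' hMN hMpra⟩
  · rw [← hfac]
    exact sup_Cz_eq hTM' hMN

end Cfsg.Agent.S2824
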