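import Cfsg.Statements.S2825
import Mathlib
import Cfsg.Agent.Lib.Helper6.PRed

set_option autoImplicit false
open Cfsg

namespace Cfsg.Agent.S2825

open Cfsg.Agent.Lib.Helper6.Basic Cfsg.Agent.Lib.Helper6.Subn Cfsg.Agent.Lib.Helper6.Quasi Cfsg.Agent.Lib.Helper6.Comp Cfsg.Agent.Lib.Helper6.Rad Cfsg.Agent.Lib.Helper6.Nil Cfsg.Agent.Lib.Helper6.FStar Cfsg.Agent.Lib.Helper6.FStar2 Cfsg.Agent.Lib.Helper6.PAct Cfsg.Agent.Lib.Helper6.CharP Cfsg.Agent.Lib.Helper6.Ores Cfsg.Agent.Lib.Helper6.Trace Cfsg.Agent.Lib.Helper6.PRed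
open scoped commutatorElement Pointwise

/-- Let L be a subnormal subgroup of the finite group H, p a prime, Y_H and Y_L the largest p-reduced normal subgroups. Then Y_H ∩ L = Y_H ∩ Y_L and this subgroup is a p-reduced normal subgroup of L; C_L(Y_L) = C_L(Y_H) = C_L(Y_H ∩ L); and if O^p(H) ≤ L, then [Y_L, L] = 1 if and only if [Y_H, H] = 1. -/
theorem result {H : Type*} [Group H] [Finite H] {p : ℕ} [Fact p.Prime] (L : Subgroup H) (hL : L.IsSubnormal) : Cfsg.largestPReduced p H ⊓ L = Cfsg.largestPReduced p H ⊓ (Cfsg.largestPReducedOf p L) ∧ Cfsg.IsPReducedNormal p ((Cfsg.largestPReduced p H ⊓ L).subgroupOf L) ∧ L ⊓ Subgroup.centralizer ((Cfsg.largestPReducedOf p L : Subgroup H) : Set H) = L ⊓ Subgroup.centralizer (Cfsg.largestPReduced p H : Set H) ∧ L ⊓ Subgroup.centralizer (Cfsg.largestPReduced p H : Set H) = L ⊓ Subgroup.centralizer ((Cfsg.largestPReduced p H ⊓ L : Subgroup H) : Set H) ∧ (Cfsg.pResidual p H ≤ L → (⁅(Cfsg.largestPReducedOf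 p L), L⁆ = ⊥ ↔ ⁅Cfsg.largestPReduced p H, (⊤ : Subgroup H)⁆ = ⊥)) := by
  rw [largestPReduced_eq, largestPReducedOf_eq, pResidual_eq]
  have hL' := isSubnormal_iff.mp hL
  have h1 := pr_YY_inf (p := p) hL'
  have h3 := inf_Cz_YY (p := p) hL'
  refine ⟨?_, (pr_bridge' inf_le_right).mpr h1, h3.symm, inf_Cz_YY_inf hL', ?_⟩
  · apply le_antisymm
    · exact le_inf inf_le_left h1.le_YY
    · exact inf_le_inf_left _ (pr_YY p L).1
  · intro hO
    rw [comm_eq_bot_iff', comm_eq_bot_iff']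
    constructor
    · intro h
      have h4 : L ≤ Cz (YY p (⊤ : Subgroup H)) := by
        have : L ≤ L ⊓ Cz (YY p L) := le_inf le_rfl h
        rw [← h3] at this
        exact this.trans inf_le_right
      apply (pr_YY p (⊤ : Subgroup H)).2.2.2 ⊤ le_rfl Subgroup.le_normalizer
      intro x hx
      obtain ⟨k, hk⟩ := exists_pow_mem_Ores p hx
      exact ⟨k, h4 (hO hk)⟩
    · intro h
      have : L ≤ L ⊓ Cz (YY p (⊤ : Subgroup H)) := le_inf le_rfl (le_top.trans h)
      rw [h3] at this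
      exact this.trans inf_le_right

end Cfsg.Agent.S2825
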