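import Cfsg.Statements.S2826
import Mathlib
import Cfsg.Agent.Lib.Helper6.PRed

set_option autoImplicit false
open Cfsg

namespace Cfsg.Agent.S2826

open Cfsg.Agent.Lib.Helper6.Basic Cfsg.Agent.Lib.Helper6.Subn Cfsg.Agent.Lib.Helper6.Quasi Cfsg.Agent.Lib.Helper6.Comp Cfsg.Agent.Lib.Helper6.Rad Cfsg.Agent.Lib.Helper6.Nil Cfsg.Agent.Lib.Helper6.FStar Cfsg.Agent.Lib.Helper6.FStar2 Cfsg.Agent.Lib.Helper6.PAct Cfsg.Agent.Lib.Helper6.CharP Cfsg.Agent.Lib.Helper6.Ores Cfsg.Agent.Lib.Helper6.Trace Cfsg.Agent.Lib.Helper6.PRed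
open scoped commutatorElement Pointwise

/-- Let H be a finite group of characteristic p, T a Sylow p-subgroup, and V a normal elementary abelian p-subgroup of H containing Ω₁(Z(T)). Then C_H(Ω₁(Z(T))) = C_H([V, O^p(H)] ∩ Ω₁(Z(T))), O^p(H) being generated by the elements of order prime to p. -/
theorem result {H : Type*} [Group H] [Finite H] {p : ℕ} [Fact p.Prime] (hH : Subgroup.centralizer (Cfsg.pCore p H : Set H) ≤ Cfsg.pCore p H) (T : Sylow p H) (V : Subgroup H) [V.Normal] (hV : Cfsg.IsElementaryAbelian p V) (hZV : (Cfsg.omegaOne p ((T : Subgroup H) ⊓ Subgroup.centralizer (((T : Subgroup H) : Subgroup H) : Set H))) ≤ V) : Subgroup.centralizer ((Cfsg.omegaOne p ((T : Subgroup H) ⊓ Subgroup.centralizer (((T : Subgroup H) : Subgroup H) : Set H))) : Set H) = Subgroup.centralizer (((⁅V, Cfsg.pResidual p H⁆ ⊓ (Cfsg.omegaOne p ((T : Subgroup H) ⊓ Subgroup.centralizer (((T : Subgroup H) : Subgroup H) : Set H)))) : Subgroup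 H) : Set H) := by
  rw [pResidual_eq]
  have hT := syl_of_sylow T
  have hVea := ea_iff.mp hV
  have hVn : (⊤ : Subgroup H) ≤ Nz V := top_le_Nz inferInstance
  have e : Cfsg.omegaOne p ((T : Subgroup H) ⊓ Subgroup.centralizer ((T : Subgroup H) : Set H))
      = OZ p (T : Subgroup H) := rfl
  rw [e] at hZV ⊢
  apply le_antisymm (Cz_anti inf_le_right)
  intro g hg
  rw [Subgroup.mem_centralizer_iff]
  intro z hz
  have hz' := mem_OZ_iff.mp hz
  obtain ⟨s, hs, hzs⟩ := decomp_Ores hT hVea hVn (hZV hz) hz'.2.1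
  have hVT : V ≤ T := (le_Op_of_sn (SN.of_normal le_top hVn) hVea.isPGroup).trans hT.Op_le
  have ha : z * s⁻¹ ∈ OZ p (T : Subgroup H) :=
    mem_OZ_iff.mpr ⟨Subgroup.mul_mem _ hz'.1 (Subgroup.inv_mem _ (hVT hs.1)),
      Subgroup.mul_mem _ hz'.2.1 (Subgroup.inv_mem _ (Cz_anti le_top hs.2)),
      hVea.2 _ (V.mul_mem (hZV hz) (V.inv_mem hs.1))⟩
  have h1 : (z * s⁻¹) * g = g * (z * s⁻¹) := Subgroup.mem_centralizer_iff.mp hg _ ⟨hzs, ha⟩
  have h2 : g * s = s * g := Subgroup.mem_centralizer_iff.mp hs.2 g (Subgroup.mem_top g)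
  calc z * g = (z * s⁻¹) * (s * g) := by group
    _ = (z * s⁻¹) * (g * s) := by rw [h2]
    _ = g * (z * s⁻¹) * s := by rw [← mul_assoc, h1]
    _ = g * z := by group

end Cfsg.Agent.S2826
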