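import Cfsg.Statements.S2827
import Mathlib
import Cfsg.Agent.Lib.Helper6.PIrr
import Cfsg.Agent.Lib.Helper6.Large

set_option autoImplicit false
open Cfsg

namespace Cfsg.Agent.S2827

open Cfsg.Agent.Lib.Helper6.Basic Cfsg.Agent.Lib.Helper6.Subn Cfsg.Agent.Lib.Helper6.Quasi Cfsg.Agent.Lib.Helper6.Comp Cfsg.Agent.Lib.Helper6.Rad Cfsg.Agent.Lib.Helper6.Nil Cfsg.Agent.Lib.Helper6.FStar Cfsg.Agent.Lib.Helper6.FStar2 Cfsg.Agent.Lib.Helper6.PAct Cfsg.Agent.Lib.Helper6.CharP Cfsg.Agent.Lib.Helper6.Ores Cfsg.Agent.Lib.Helper6.Trace Cfsg.Agent.Lib.Helper6.PRed Cfsg.Agent.Lib.Helper6.WClosed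
open scoped commutatorElement Pointwise
open Cfsg.Agent.Lib.Helper6.Large
open Cfsg.Agent.Lib.Helper6.PIrr

/-- Let H be a finite p-irreducible group (not p-closed, and O^p(H) lies in every normal subgroup that is not p-closed) and T a Sylow p-subgroup. Then H is generated by the conjugates of T and H = H'·T; O^p(H) ≤ H'; and for every normal subgroup Y of T not contained in O_p(H), O^p(H) = [O^p(H), Y] and O^p(H) is contained in the normal closure of Y in H. -/
theorem result {H : Type*} [Group H] [Finite H] {p : ℕ} [Fact p.Prime] (hH : Cfsg.IsPIrreducible p H) (T : Sylow p H) : Subgroup.normalClosure ((T : Subgroup H) : Set H) = ⊤ ∧ commutator H ⊔ (T : Subgroup H) = ⊤ ∧ Cfsg.pResidual p H ≤ commutator H ∧ ∀ Y : Subgroup H, Y ≤ (T : Subgroup H) → (T : Subgroup H) ≤ Subgroup.normalizer (Y : Set H) → ¬ Y ≤ Cfsg.pCore p H → ⁅Cfsg.pResidual p H, Y⁆ = Cfsg.pResidual p H ∧ Cfsg.pResidual p H ≤ Subgroup.normalClosure (Y : Set H) := by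
  have hPI := pi_top_bridge.1 hH
  have hT := syl_of_sylow T
  have h1 : Subgroup.normalClosure ((T : Subgroup H) : Set H) = ⊤ := by
    rw [normalClosure_eq]; exact hPI.NC_syl hT
  have h2 : commutator H ⊔ (T : Subgroup H) = ⊤ := by
    rw [← top_le_iff, ← h1]
    have hn : (commutator H ⊔ (T : Subgroup H)).Normal := by
      apply normal_of_top_le_Nz
      rw [le_Nz_iff_comm_le]
      refine le_trans ?_ le_sup_left
      rw [commutator_def]
      exact Subgroup.commutator_mono le_rfl le_top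
    exact Subgroup.normalClosure_le_normal (le_sup_right (a := commutator H))
  have h3 : Cfsg.pResidual p H ≤ commutator H := by
    rw [pResidual_eq]
    apply Ores_le_of_pquot
    intro x _
    apply exists_pow_mem_of_sup hT.isPGroup (le_Nz_of_normal inferInstance _)
    rw [h2]; trivial
  refine ⟨h1, h2, h3, ?_⟩
  intro Y hYT hTY hYO
  rw [pCore_eq] at hYO
  rw [pResidual_eq]
  refine ⟨hPI.comm_eq hT hYT hTY hYO, ?_⟩
  rw [normalClosure_eq]
  exact hPI.Ores_le le_top (le_Nz_NC Y ⊤) (hT.isPGroup.to_le hYT) (le_NC Y ⊤) hYO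

end Cfsg.Agent.S2827
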