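import Cfsg.Statements.S2829
import Mathlib

set_option autoImplicit false
open Cfsg
open scoped commutatorElement

namespace Cfsg.Agent.S2829

theorem pCore_normal (p : ℕ) (G : Type*) [Group G] : (Cfsg.pCore p G).Normal :=
  Subgroup.sSup_normal _ (fun _ hH => hH.1)

theorem pCore_isPGroup (p : ℕ) (G : Type*) [Group G] : IsPGroup p (Cfsg.pCore p G) :=
  Sylow.sSup_of_normal _ (fun _ hH => hH.2) (fun _ hH => hH.1)

/-- Every strongly p-irreducible finite group is p-irreducible. -/
theorem result {H : Type*} [Group H] [Finite H] {p : ℕ} [Fact p.Prime] (hH : Cfsg.IsStronglyPIrreducible p H) : Cfsg.IsPIrreducible p H := by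
  refine ⟨hH.1, fun N hN hNc => hH.2 N hN ?_⟩
  intro hle
  apply hNc
  intro P
  have hn := pCore_normal p H
  have hR : IsPGroup p ((pCore p H).subgroupOf N) := (pCore_isPGroup p H).comap_subtype
  have hRn : ((pCore p H).subgroupOf N).Normal := inferInstance
  have hRP : (pCore p H).subgroupOf N ≤ P := hR.le_sylow_of_normal P
  constructor
  intro x hx n
  have hc : n * x * n⁻¹ * x⁻¹ ∈ (pCore p H).subgroupOf N := by
    rw [Subgroup.mem_subgroupOf]
    apply hle
    have := Subgroup.commutator_mem_commutator (H₁ := N) (H₂ := ⊤) n.2 (Subgroup.mem_top (x : H))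
    simpa [commutatorElement_def] using this
  have := (P : Subgroup N).mul_mem (hRP hc) hx
  simpa using this

end Cfsg.Agent.S2829
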