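import Cfsg.Statements.S2830
import Mathlib
import Cfsg.Agent.Lib.Helper6.PIrr
import Cfsg.Agent.Lib.Helper6.Large

set_option autoImplicit false
open Cfsg

namespace Cfsg.Agent.S2830

open Cfsg.Agent.Lib.Helper6.Basic Cfsg.Agent.Lib.Helper6.Subn Cfsg.Agent.Lib.Helper6.Quasi Cfsg.Agent.Lib.Helper6.Comp Cfsg.Agent.Lib.Helper6.Rad Cfsg.Agent.Lib.Helper6.Nil Cfsg.Agent.Lib.Helper6.FStar Cfsg.Agent.Lib.Helper6.FStar2 Cfsg.Agent.Lib.Helper6.PAct Cfsg.Agent.Lib.Helper6.CharP Cfsg.Agent.Lib.Helper6.Ores Cfsg.Agent.Lib.Helper6.Trace Cfsg.Agent.Lib.Helper6.PRed Cfsg.Agent.Lib.Helper6.WClosed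
open scoped commutatorElement Pointwise
open Cfsg.Agent.Lib.Helper6.Large
open Cfsg.Agent.Lib.Helper6.PIrr

/-- Let H act by conjugation on the elementary abelian p-subgroup V of a finite group G (H ≤ N(V)), with H p-irreducible and O^p(H) not centralizing V. Then C_H(V) is p-closed and C_T(V) ≤ O_p(H) for every p-subgroup T of H. If in addition O_p(H) centralizes V, then C_T(V) = T ∩ O_p(H) for every p-subgroup T of H, and V is p-reduced for H: O_p(H/C_H(V)) = 1. -/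
theorem result {G : Type*} [Group G] [Finite G] {p : ℕ} [Fact p.Prime] (V H : Subgroup G) (hV : Cfsg.IsElementaryAbelian p V) (hHV : H ≤ Subgroup.normalizer (V : Set G)) (hH : Cfsg.IsPIrreducible p ↥H) (hnc : ¬ (Cfsg.pResidual p ↥H).map H.subtype ≤ Subgroup.centralizer (V : Set G)) [hn : ((Subgroup.centralizer (V : Set G)).subgroupOf H).Normal] : Cfsg.IsPClosed p ↥(H ⊓ Subgroup.centralizer (V : Set G)) ∧ (∀ T : Subgroup G, T ≤ H → IsPGroup p ↥T → T ⊓ Subgroup.centralizer (V : Set G) ≤ Cfsg.pCoreOf p H) ∧ (Cfsg.pCoreOf p H ≤ Subgroup.centralizer (V : Set G) → (∀ T : Subgroup G, T ≤ H → IsPGroup p ↥T → T ⊓ Subgroup.centralizer (V : Set G) = T ⊓ Cfsg.pCoreOf p H) ∧ Cfsg.pCore p (↥H ⧸ (Subgroup.centralizer (V : Set G)).subgroupOf H) = ⊥) := by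
  have hPI := pi_bridge.1 hH
  rw [map_pResidual] at hnc
  have e : Cfsg.pCoreOf p H = Op p H := map_pCore p H
  rw [e]
  have hCn : H ≤ Nz (H ⊓ Cz V) := le_Nz_inf Subgroup.le_normalizer (hHV.trans (Nz_le_Nz_Cz V))
  have h1 : PC p (H ⊓ Cz V) := by
    by_contra hc
    exact hnc ((hPI.2 _ inf_le_left hCn hc).trans inf_le_right)
  have h2 : ∀ T : Subgroup G, T ≤ H → IsPGroup p ↥T → T ⊓ Cz V ≤ Op p H := by
    intro T hTH hT
    exact (h1.le_Op (hT.to_le inf_le_left) (inf_le_inf_right _ hTH)).trans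
      (Op_sn (SN.of_normal inf_le_left hCn))
  refine ⟨pc_bridge.2 h1, h2, fun hO => ⟨fun T hTH hT => ?_, ?_⟩⟩
  · apply le_antisymm
    · exact le_inf inf_le_left (h2 T hTH hT)
    · exact inf_le_inf_left _ hO
  · rw [pra_iff_core]
    intro D hDH hD hq
    have h3 : Ores p D ≤ Cz V := Ores_le_of_pquot hq
    have h4 : PC p D := by
      by_contra hc
      apply hnc
      have h5 := Ores_mono (p := p) (hPI.2 D hDH hD hc)
      rw [Ores_Ores] at h5
      exact h5.trans h3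
    calc D = Ores p D ⊔ Op p D := (Syl.sup_Ores h4).symm
      _ ≤ Cz V := sup_le h3 ((Op_sn (SN.of_normal hDH hD)).trans hO)

end Cfsg.Agent.S2830
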