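import Cfsg.Statements.S2831
import Mathlib
import Cfsg.Agent.Lib.Helper6.PIrr
import Cfsg.Agent.Lib.Helper6.Large

set_option autoImplicit false
open Cfsg

namespace Cfsg.Agent.S2831

open Cfsg.Agent.Lib.Helper6.Basic Cfsg.Agent.Lib.Helper6.Subn Cfsg.Agent.Lib.Helper6.Quasi Cfsg.Agent.Lib.Helper6.Comp Cfsg.Agent.Lib.Helper6.Rad Cfsg.Agent.Lib.Helper6.Nil Cfsg.Agent.Lib.Helper6.FStar Cfsg.Agent.Lib.Helper6.FStar2 Cfsg.Agent.Lib.Helper6.PAct Cfsg.Agent.Lib.Helper6.CharP Cfsg.Agent.Lib.Helper6.Ores Cfsg.Agent.Lib.Helper6.Trace Cfsg.Agent.Lib.Helper6.PRed Cfsg.Agent.Lib.Helper6.WClosed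
open scoped commutatorElement Pointwise
open Cfsg.Agent.Lib.Helper6.Large
open Cfsg.Agent.Lib.Helper6.PIrr

/-- Let H be a finite group with Sylow p-subgroup T such that H is T-minimal (H is generated by the conjugates of T and T lies in exactly one maximal subgroup of H). Then H is p-irreducible: H is not p-closed and O^p(H) lies in every normal subgroup of H that is not p-closed. -/
theorem result {H : Type*} [Group H] [Finite H] {p : ℕ} [Fact p.Prime] (T : Sylow p H) (hmin : Cfsg.IsMinimalOver (T : Subgroup H)) : Cfsg.IsPIrreducible p H := by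
  obtain ⟨M, ⟨hM, hTM⟩, _⟩ := hmin.2
  have hT := syl_of_sylow T
  rw [pi_top_bridge]
  constructor
  · intro hc
    apply MO.not_normal hmin hM le_rfl hTM
    rw [hc.eq hT]
    exact le_Nz_Op p _
  · intro N _ hN hc
    have hTN : Syl p ((T : Subgroup H) ⊓ N) N := hT.inf_normal le_top hN
    have h1 : Nz ((T : Subgroup H) ⊓ N) ≠ ⊤ := by
      intro e
      apply hc
      apply PC.of_syl hTN
      rw [e]; exact le_top
    have h2 : Nz ((T : Subgroup H) ⊓ N) ≤ M :=
      MO.le_of_ne_top hmin hM hTM (le_Nz_inf Subgroup.le_normalizer (le_top.trans hN)) h1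
    have h3 : N ⊔ (T : Subgroup H) = ⊤ := by
      by_contra hne
      have h4 := MO.le_of_ne_top hmin hM hTM le_sup_right hne
      apply hM.1
      rw [eq_top_iff]
      intro g _
      obtain ⟨m, hm, n, hn, rfl⟩ := hTN.frattini hN (Subgroup.mem_top g)
      exact M.mul_mem (h4 (Subgroup.mem_sup_left hm)) (h2 hn)
    apply Ores_le_of_pquot
    intro x _
    apply exists_pow_mem_of_sup hT.isPGroup (le_top.trans hN)
    rw [h3]; trivial

end Cfsg.Agent.S2831
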