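import Cfsg.Statements.S2832
import Mathlib
import Cfsg.Agent.Lib.Helper6.PIrr
import Cfsg.Agent.Lib.Helper6.Large

set_option autoImplicit false
open Cfsg

namespace Cfsg.Agent.S2832

open Cfsg.Agent.Lib.Helper6.Basic Cfsg.Agent.Lib.Helper6.Subn Cfsg.Agent.Lib.Helper6.Quasi Cfsg.Agent.Lib.Helper6.Comp Cfsg.Agent.Lib.Helper6.Rad Cfsg.Agent.Lib.Helper6.Nil Cfsg.Agent.Lib.Helper6.FStar Cfsg.Agent.Lib.Helper6.FStar2 Cfsg.Agent.Lib.Helper6.PAct Cfsg.Agent.Lib.Helper6.CharP Cfsg.Agent.Lib.Helper6.Ores Cfsg.Agent.Lib.Helper6.Trace Cfsg.Agent.Lib.Helper6.PRed Cfsg.Agent.Lib.Helper6.WClosed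
open scoped commutatorElement Pointwise
open Cfsg.Agent.Lib.Helper6.Large
open Cfsg.Agent.Lib.Helper6.PIrr

/-- Let H be a finite group with Sylow p-subgroup T such that H is T-minimal (generated by the conjugates of T, with T in exactly one maximal subgroup), and let N be a normal subgroup of H. Then either H/N is a p-group or H/N is minimal over the image of T in the same sense. -/
theorem result {H : Type*} [Group H] [Finite H] {p : ℕ} [Fact p.Prime] (T : Sylow p H) (hmin : Cfsg.IsMinimalOver (T : Subgroup H)) (N : Subgroup H) [N.Normal] : IsPGroup p (H ⧸ N) ∨ Cfsg.IsMinimalOver ((T : Subgroup H).map (QuotientGroup.mk' N)) := by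
  obtain ⟨M, ⟨hM, hTM⟩, _⟩ := hmin.2
  have hT := syl_of_sylow T
  have hsurj : Function.Surjective (QuotientGroup.mk' N) := QuotientGroup.mk'_surjective N
  by_cases h3 : N ⊔ (T : Subgroup H) = ⊤
  · left
    intro x
    obtain ⟨x, rfl⟩ := hsurj x
    obtain ⟨k, hk⟩ := exists_pow_mem_of_sup hT.isPGroup (le_Nz_of_normal inferInstance _)
      (show x ∈ N ⊔ (T : Subgroup H) by rw [h3]; trivial)
    refine ⟨k, ?_⟩
    rw [← map_pow]
    exact (QuotientGroup.eq_one_iff _).2 hk
  · right
    have h4 := MO.le_of_ne_top hmin hM hTM le_sup_right h3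
    have hNM : N ≤ M := le_sup_left.trans h4
    refine ⟨?_, M.map (QuotientGroup.mk' N), ⟨?_, Subgroup.map_mono hTM⟩, ?_⟩
    · have := Subgroup.map_normalClosure ((T : Subgroup H) : Set H) (QuotientGroup.mk' N) hsurj
      rw [hmin.1, Subgroup.map_top_of_surjective _ hsurj] at this
      rw [Subgroup.coe_map]
      exact this.symm
    · apply isCoatom_map_of_ker_le hsurj hM
      rw [QuotientGroup.ker_mk']; exact hNM
    · rintro X ⟨hX, hTX⟩
      have h5 := Subgroup.isCoatom_comap_of_surjective hsurj hX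
      have h6 : (T : Subgroup H) ≤ X.comap (QuotientGroup.mk' N) := Subgroup.map_le_iff_le_comap.1 hTX
      have h7 := MO.eq_of_coatom hmin hM hTM h5 h6
      rw [← h7, Subgroup.map_comap_eq_self_of_surjective hsurj]

end Cfsg.Agent.S2832
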