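import Cfsg.Statements.S2833
import Mathlib
import Cfsg.Agent.Lib.Helper6.WClosed

set_option autoImplicit false
open Cfsg

namespace Cfsg.Agent.S2833

open Cfsg.Agent.Lib.Helper6.Basic Cfsg.Agent.Lib.Helper6.Subn Cfsg.Agent.Lib.Helper6.Quasi Cfsg.Agent.Lib.Helper6.Rad Cfsg.Agent.Lib.Helper6.FStar Cfsg.Agent.Lib.Helper6.PRed Cfsg.Agent.Lib.Helper6.WClosed
open scoped commutatorElement Pointwise

/-- Let V be a subgroup of a finite group G normalized by the subgroup L, let X ≤ L and g ∈ L with [V, X, X] = 1 and L generated by X and gXg⁻¹. Put W = [V, L]. Then W = [V, X]·[V, gXg⁻¹], C_W(X) = [V, X], and C_W(L) = [V, X] ∩ [V, gXg⁻¹]. -/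
theorem result {G : Type*} [Group G] [Finite G] (V L : Subgroup G) (hLV : L ≤ Subgroup.normalizer (V : Set G)) (X : Subgroup G) (hX : X ≤ L) (g : G) (hg : g ∈ L) (hq : ⁅⁅V, X⁆, X⁆ = ⊥) (hgen : X ⊔ X.map (MulAut.conj g).toMonoidHom = L) (W : Subgroup G) (hW : W = ⁅V, L⁆) : ⁅V, X⁆ ⊔ ⁅V, X.map (MulAut.conj g).toMonoidHom⁆ = W ∧ W ⊓ Subgroup.centralizer (X : Set G) = ⁅V, X⁆ ∧ W ⊓ Subgroup.centralizer (L : Set G) = ⁅V, X⁆ ⊓ ⁅V, X.map (MulAut.conj g).toMonoidHom⁆ := by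
  subst hW
  have hXV : X ≤ Nz V := hX.trans hLV
  have hgV : cj g V = V := cj_eq_self_iff.2 (hLV hg)
  have hXg : cj g X ≤ L := by rw [← hgen]; exact le_sup_right
  have hXgV : cj g X ≤ Nz V := hXg.trans hLV
  have hB : ⁅V, cj g X⁆ = cj g ⁅V, X⁆ := by rw [cj_comm, hgV]
  have hAV : ⁅V, X⁆ ≤ V := comm_le_of_Nz' le_rfl hXV
  have hBV : ⁅V, cj g X⁆ ≤ V := comm_le_of_Nz' le_rfl hXgV
  have hUV : ⁅V, X⁆ ⊔ ⁅V, cj g X⁆ ≤ V := sup_le hAV hBV
  have hACX : ⁅V, X⁆ ≤ Cz X := comm_eq_bot_iff.1 hq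
  have hBCX : ⁅V, cj g X⁆ ≤ Cz (cj g X) := by
    rw [hB]
    have := cj_mono (g := g) hACX
    rwa [cj_centralizer] at this
  have h1 : ⁅V, X⁆ ⊔ ⁅V, cj g X⁆ = ⁅V, L⁆ := by
    apply le_antisymm
    · exact sup_le (Subgroup.commutator_mono le_rfl hX) (Subgroup.commutator_mono le_rfl hXg)
    · have a1 : X ≤ Stb V (⁅V, X⁆ ⊔ ⁅V, cj g X⁆) := by
        apply le_Stb
        · rw [le_Nz_iff_comm_le]
          refine (Subgroup.commutator_mono le_rfl hUV).trans ?_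
          rw [Subgroup.commutator_comm]
          exact le_sup_left
        · exact le_sup_left
      have a2 : cj g X ≤ Stb V (⁅V, X⁆ ⊔ ⁅V, cj g X⁆) := by
        apply le_Stb
        · rw [le_Nz_iff_comm_le]
          refine (Subgroup.commutator_mono le_rfl hUV).trans ?_
          rw [Subgroup.commutator_comm]
          exact le_sup_right
        · exact le_sup_right
      have a3 : L ≤ Stb V (⁅V, X⁆ ⊔ ⁅V, cj g X⁆) := by
        rw [← hgen]; exact sup_le a1 a2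
      rw [Subgroup.commutator_le]
      intro v hv l hl
      exact (mem_Stb.1 (a3 hl)).2 v hv
  have hCL : Cz X ⊓ Cz (cj g X) = Cz L := by
    rw [← Cz_sup]
    have : X ⊔ cj g X = L := hgen
    rw [this]
  have h2 : ⁅V, L⁆ ⊓ Cz X = ⁅V, X⁆ := by
    apply le_antisymm
    · rintro w ⟨hw1, hw2⟩
      rw [← h1] at hw1
      have hn : ⁅V, cj g X⁆ ≤ Nz ⁅V, X⁆ := hBV.trans (Subgroup.normalizer_commutator_ge_left V X)
      obtain ⟨a, ha, b, hb, rfl⟩ := mem_sup_of_le_Nz hn hw1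
      have hbX : b ∈ Cz X := by
        have : b = a⁻¹ * (a * b) := by group
        rw [this]
        exact (Cz X).mul_mem ((Cz X).inv_mem (hACX ha)) hw2
      have hbL : b ∈ Cz L := by
        rw [← hCL]; exact ⟨hbX, hBCX hb⟩
      have hbg : g * b = b * g := (Subgroup.mem_centralizer_iff.1 hbL g hg)
      have hbA : b ∈ ⁅V, X⁆ := by
        rw [hB, mem_cj] at hb
        have : g⁻¹ * b * g = b := by rw [mul_assoc, ← hbg]; group
        rwa [this] at hb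
      exact (⁅V, X⁆).mul_mem ha hbA
    · exact le_inf (Subgroup.commutator_mono le_rfl hX) hACX
  refine ⟨h1, h2, ?_⟩
  apply le_antisymm
  · rintro w ⟨hw1, hw2⟩
    have hwA : w ∈ ⁅V, X⁆ := by
      rw [← h2]; exact ⟨hw1, Cz_anti hX hw2⟩
    refine ⟨hwA, ?_⟩
    show w ∈ ⁅V, cj g X⁆
    rw [hB, mem_cj]
    have hwg : g * w = w * g := (Subgroup.mem_centralizer_iff.1 hw2 g hg)
    have : g⁻¹ * w * g = w := by rw [mul_assoc, ← hwg]; group
    rwa [this]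
  · rintro w ⟨hw1, hw2⟩
    refine ⟨Subgroup.commutator_mono le_rfl hX hw1, ?_⟩
    show w ∈ Cz L
    rw [← hCL]
    exact ⟨hACX hw1, hBCX hw2⟩

end Cfsg.Agent.S2833
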