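import Cfsg.Statements.S2836
import Mathlib
import Cfsg.Agent.Lib.Helper6.PIrr
import Cfsg.Agent.Lib.Helper6.Large

set_option autoImplicit false
open Cfsg

namespace Cfsg.Agent.S2836

open Cfsg.Agent.Lib.Helper6.Basic Cfsg.Agent.Lib.Helper6.Subn Cfsg.Agent.Lib.Helper6.Quasi Cfsg.Agent.Lib.Helper6.Comp Cfsg.Agent.Lib.Helper6.Rad Cfsg.Agent.Lib.Helper6.Nil Cfsg.Agent.Lib.Helper6.FStar Cfsg.Agent.Lib.Helper6.FStar2 Cfsg.Agent.Lib.Helper6.PAct Cfsg.Agent.Lib.Helper6.CharP Cfsg.Agent.Lib.Helper6.Ores Cfsg.Agent.Lib.Helper6.Trace Cfsg.Agent.Lib.Helper6.PRed Cfsg.Agent.Lib.Helper6.WClosed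
open scoped commutatorElement Pointwise
open Cfsg.Agent.Lib.Helper6.Large
open Cfsg.Agent.Lib.Helper6.PIrr

/-- Let L be a finite group, L₀ a maximal subgroup, T a Sylow p-subgroup of L₀, Y ≤ T, and suppose L is Y-minimal. Let D be the intersection of the conjugates of L₀ (the core of L₀). Then D contains O_p(L) and D/O_p(L) is the Frattini subgroup of L/O_p(L), so D is p-closed; and every normal subgroup N of L contained in L₀ is p-closed with N/O_p(N) a nilpotent group of order prime to p. -/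
theorem result {L : Type*} [Group L] [Finite L] {p : ℕ} [Fact p.Prime] (L₀ : Subgroup L) (hL₀ : IsCoatom L₀) (T : Sylow p ↥L₀) (Y : Subgroup L) (hYT : Y ≤ (T : Subgroup ↥L₀).map L₀.subtype) (hmin : Cfsg.IsMinimalOver Y) : (Cfsg.pCore p L ≤ L₀.normalCore ∧ (L₀.normalCore).map (QuotientGroup.mk' (Cfsg.pCore p L)) = frattini (L ⧸ Cfsg.pCore p L) ∧ Cfsg.IsPClosed p ↥(L₀.normalCore)) ∧ ∀ (N : Subgroup L) [N.Normal], N ≤ L₀ → Cfsg.IsPClosed p ↥N ∧ Group.IsNilpotent (↥N ⧸ Cfsg.pCore p ↥N) ∧ (Nat.card (↥N ⧸ Cfsg.pCore p ↥N)).Coprime p := by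
  have hT := syl_of_sylow' T
  have hYL : Y ≤ L₀ := hYT.trans hT.le
  have hTt := MO.syl hmin hL₀ hT hYT
  have hQO : Cfsg.pCore p L = Op p ⊤ := pCore_eq p
  have hQL : Cfsg.pCore p L ≤ L₀ := by rw [hQO]; exact hTt.Op_le.trans hT.le
  have hDL : L₀.normalCore ≤ L₀ := Subgroup.normalCore_le L₀
  have hQD : Cfsg.pCore p L ≤ L₀.normalCore := Subgroup.normal_le_normalCore.2 hQL
  have hpc : ∀ N : Subgroup L, ⊤ ≤ Nz N → N ≤ L₀ → PC p N :=
    fun N hN hNL => MO.pc hmin hL₀ hTt hYT hT.le hN hNL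
  have hDn : ⊤ ≤ Nz L₀.normalCore := top_le_Nz inferInstance
  have hsurj := QuotientGroup.mk'_surjective (Cfsg.pCore p L)
  have hF : (L₀.normalCore).map (QuotientGroup.mk' (Cfsg.pCore p L)) = frattini (L ⧸ Cfsg.pCore p L) := by
    apply le_antisymm
    · unfold frattini Order.radical
      refine le_iInf fun X => le_iInf fun hX => ?_
      rw [Subgroup.map_le_iff_le_comap]
      have hX' := Subgroup.isCoatom_comap_of_surjective hsurj hX
      have hQX : Cfsg.pCore p L ≤ X.comap (QuotientGroup.mk' (Cfsg.pCore p L)) := by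
        have := Subgroup.ker_le_comap (QuotientGroup.mk' (Cfsg.pCore p L)) X
        rwa [QuotientGroup.ker_mk'] at this
      generalize X.comap (QuotientGroup.mk' (Cfsg.pCore p L)) = X' at hX' hQX
      by_contra hDX
      have hsup : L₀.normalCore ⊔ X' = ⊤ :=
        hX'.2 _ (lt_of_le_of_ne le_sup_right (fun e => hDX (e ▸ le_sup_left)))
      have hOD : Op p L₀.normalCore = Cfsg.pCore p L := by
        rw [Op_eq_inf_of_sn (SN.of_normal le_top hDn), ← hQO]
        exact inf_eq_left.2 hQD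
      have hsylD : Syl p (Cfsg.pCore p L) L₀.normalCore := hOD ▸ hpc _ hDn hDL
      have hidx : ¬ p ∣ X'.relIndex ⊤ := by
        rw [← hsup, relIndex_sup_eq (le_top.trans hDn)]
        intro hd
        apply hsylD.2.2
        rw [← Subgroup.relIndex_mul_relIndex _ _ _ (le_inf hQD hQX) inf_le_left]
        exact hd.mul_left _
      obtain ⟨S, hS⟩ := exists_syl p X'
      have hS' : Syl p S ⊤ := by
        refine ⟨le_top, hS.isPGroup, ?_⟩
        rw [← Subgroup.relIndex_mul_relIndex _ _ _ hS.le le_top]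
        intro hd
        rcases (Nat.Prime.dvd_mul (Fact.out : p.Prime)).1 hd with h | h
        · exact hS.2.2 h
        · exact hidx h
      obtain ⟨k, _, hk⟩ := hTt.conj hS'
      have h1 : cj k Y ≤ X' := (cj_mono hYT).trans (hk ▸ hS.le)
      have h2 := MO.eq_of_coatom hmin hL₀ hYL (isCoatom_cj hX' k⁻¹) (cj_le_iff.1 h1)
      apply hDX
      have h3 : X' = cj k L₀ := by rw [← h2, cj_cj_inv]
      rw [h3, ← cj_normal (H := L₀.normalCore) k]
      exact cj_mono hDL
    · have hc : IsCoatom (L₀.map (QuotientGroup.mk' (Cfsg.pCore p L))) :=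
        isCoatom_map_of_ker_le hsurj hL₀ (by rw [QuotientGroup.ker_mk']; exact hQL)
      have h1 : frattini (L ⧸ Cfsg.pCore p L) ≤ L₀.map (QuotientGroup.mk' (Cfsg.pCore p L)) :=
        frattini_le_coatom hc
      have h2 : (frattini (L ⧸ Cfsg.pCore p L)).comap (QuotientGroup.mk' (Cfsg.pCore p L)) ≤ L₀ := by
        have := Subgroup.comap_mono (f := QuotientGroup.mk' (Cfsg.pCore p L)) h1
        rwa [Subgroup.comap_map_eq_self (by rw [QuotientGroup.ker_mk']; exact hQL)] at this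
      have h3 : (frattini (L ⧸ Cfsg.pCore p L)).comap (QuotientGroup.mk' (Cfsg.pCore p L)) ≤ L₀.normalCore :=
        Subgroup.normal_le_normalCore.2 h2
      calc frattini (L ⧸ Cfsg.pCore p L)
          = ((frattini (L ⧸ Cfsg.pCore p L)).comap (QuotientGroup.mk' (Cfsg.pCore p L))).map
              (QuotientGroup.mk' (Cfsg.pCore p L)) :=
            (Subgroup.map_comap_eq_self_of_surjective hsurj _).symm
        _ ≤ _ := Subgroup.map_mono h3
  refine ⟨⟨hQD, hF, pc_bridge.2 (hpc _ hDn hDL)⟩, ?_⟩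
  intro N hNn hNL
  have hN : ⊤ ≤ Nz N := top_le_Nz hNn
  have hpcN := hpc N hN hNL
  refine ⟨pc_bridge.2 hpcN, ?_, ?_⟩
  · have hND : N ≤ L₀.normalCore := Subgroup.normal_le_normalCore.2 hNL
    let φ : ↥N →* L ⧸ Cfsg.pCore p L := (QuotientGroup.mk' (Cfsg.pCore p L)).comp N.subtype
    have hker : ∀ x : ↥N, φ x = 1 ↔ x ∈ Cfsg.pCore p ↥N := by
      intro x
      have e1 : φ x = 1 ↔ (x : L) ∈ Cfsg.pCore p L := QuotientGroup.eq_one_iff _
      have e2 : x ∈ Cfsg.pCore p ↥N ↔ (x : L) ∈ Op p N := by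
        rw [← map_pCore]
        constructor
        · intro h; exact ⟨x, h, rfl⟩
        · rintro ⟨y, hy, hyx⟩
          have : y = x := Subtype.ext hyx
          rwa [← this]
      rw [e1, e2, Op_eq_inf_of_sn (SN.of_normal le_top hN), ← hQO]
      constructor
      · intro h; exact ⟨h, x.2⟩
      · intro h; exact h.1
    let ψ : ↥N ⧸ Cfsg.pCore p ↥N →* L ⧸ Cfsg.pCore p L :=
      QuotientGroup.lift _ φ (fun x hx => (hker x).2 hx)
    have hinj : Function.Injective ψ := by
      rw [injective_iff_map_eq_one]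
      intro x
      obtain ⟨x, rfl⟩ := QuotientGroup.mk_surjective x
      intro h
      exact (QuotientGroup.eq_one_iff x).2 ((hker x).1 h)
    have hrange : ψ.range ≤ frattini (L ⧸ Cfsg.pCore p L) := by
      rintro _ ⟨x, rfl⟩
      obtain ⟨x, rfl⟩ := QuotientGroup.mk_surjective x
      rw [← hF]
      exact ⟨x, hND x.2, rfl⟩
    have hnil : Group.IsNilpotent ↥ψ.range := nilpotent_of_le hrange frattini_nilpotent
    exact Group.nilpotent_of_mulEquiv (MonoidHom.ofInjective hinj).symm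
  · rw [index_pCore]
    exact ((Nat.Prime.coprime_iff_not_dvd (Fact.out : p.Prime)).2 hpcN.2.2).symm

end Cfsg.Agent.S2836
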