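import Cfsg.Statements.S2837
import Mathlib
import Cfsg.Agent.Lib.Helper6.PIrr
import Cfsg.Agent.Lib.Helper6.Large
import Cfsg.Agent.Lib.Helper6.Phi

set_option autoImplicit false
open Cfsg

namespace Cfsg.Agent.S2837

open Cfsg.Agent.Lib.Helper6.Basic Cfsg.Agent.Lib.Helper6.Subn Cfsg.Agent.Lib.Helper6.Quasi Cfsg.Agent.Lib.Helper6.Comp Cfsg.Agent.Lib.Helper6.Rad Cfsg.Agent.Lib.Helper6.Nil Cfsg.Agent.Lib.Helper6.FStar Cfsg.Agent.Lib.Helper6.FStar2 Cfsg.Agent.Lib.Helper6.PAct Cfsg.Agent.Lib.Helper6.CharP Cfsg.Agent.Lib.Helper6.Ores Cfsg.Agent.Lib.Helper6.Trace Cfsg.Agent.Lib.Helper6.PRed Cfsg.Agent.Lib.Helper6.WClosed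
open scoped commutatorElement Pointwise
open Cfsg.Agent.Lib.Helper6.Large
open Cfsg.Agent.Lib.Helper6.PIrr
open Cfsg.Agent.Lib.Helper6.Phi

/-- Let L be a finite group of characteristic p, L₀ a maximal subgroup, Y an elementary abelian p-subgroup of L₀ with L Y-minimal and O_p(L) ≤ N_L(Y). Put A = the normal closure of O_p(L) ∩ Y in L. Then for every g ∈ L outside L₀: Φ(A) = A' = [A ∩ Y, A] = [A ∩ Y, A ∩ gYg⁻¹] ≤ C_Y(L), and Y ∩ gYg⁻¹ = (A ∩ Y) ∩ (A ∩ gYg⁻¹) = C_Y(L) = C_A(L). -/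
theorem result {L : Type*} [Group L] [Finite L] {p : ℕ} [Fact p.Prime] (hchar : Subgroup.centralizer (Cfsg.pCore p L : Set L) ≤ Cfsg.pCore p L) (L₀ : Subgroup L) (hL₀ : IsCoatom L₀) (Y : Subgroup L) (hYL₀ : Y ≤ L₀) (hYel : Cfsg.IsElementaryAbelian p Y) (hmin : Cfsg.IsMinimalOver Y) (hOY : Cfsg.pCore p L ≤ Subgroup.normalizer (Y : Set L)) (A : Subgroup L) (hA : A = Subgroup.normalClosure (((Cfsg.pCore p L ⊓ Y : Subgroup L)) : Set L)) (g : L) (hg : g ∉ L₀) : (frattini ↥A).map A.subtype = ⁅A, A⁆ ∧ ⁅A, A⁆ = ⁅A ⊓ Y, A⁆ ∧ ⁅A ⊓ Y, A⁆ = ⁅A ⊓ Y, A ⊓ Y.map (MulAut.conj g).toMonoidHom⁆ ∧ ⁅A ⊓ Y, A⁆ ≤ Y ⊓ Subgroup.center L ∧ Y ⊓ Y.map (MulAut.conj g).toMonoidHom = Y ⊓ Subgroup.center L ∧ (A ⊓ Y) ⊓ (A ⊓ Y.map (MulAut.conj g).toMonoidHom) = Y ⊓ Subgroup.center L ∧ A ⊓ Subgroup.center L = Y ⊓ Subgroup.center L := by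
  have hEA := ea_iff.1 hYel
  have hEAg : EA p (cj g Y) := EA.cj hEA g
  have hQO : Cfsg.pCore p L = Op p ⊤ := pCore_eq p
  have hQn : ∀ X : Subgroup L, X ≤ Nz (Cfsg.pCore p L) := fun X => le_Nz_of_normal inferInstance X
  have hQp : IsPGroup p ↥(Cfsg.pCore p L) := hQO ▸ Op_isPGroup p ⊤
  have hgQ : cj g (Cfsg.pCore p L) = Cfsg.pCore p L := cj_normal g
  clear hchar
  generalize Cfsg.pCore p L = Q at *
  have hsup := MO.sup_cj hmin hL₀ hYL₀ hg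
  have hinf := MO.inf_cj hmin hL₀ hYL₀ hEA.1 hg
  have hOYg : Q ≤ Nz (cj g Y) := by
    have := cj_le_Nz_cj (g := g) hOY
    rwa [hgQ] at this
  have hBg0 : cj g (Q ⊓ Y) = Q ⊓ cj g Y := by rw [cj_inf, hgQ]
  have hYQ : ⁅Y, Q⁆ ≤ Q ⊓ Y := le_inf (comm_le_of_Nz (hQn Y) le_rfl) (comm_le_of_Nz' le_rfl hOY)
  have hYgQ : ⁅cj g Y, Q⁆ ≤ Q ⊓ cj g Y :=
    le_inf (comm_le_of_Nz (hQn _) le_rfl) (comm_le_of_Nz' le_rfl hOYg)
  have hQB : Q ≤ Nz (Q ⊓ Y) := le_Nz_inf Subgroup.le_normalizer hOY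
  have hQBg : Q ≤ Nz (Q ⊓ cj g Y) := le_Nz_inf Subgroup.le_normalizer hOYg
  have hZQ : Y ⊓ Subgroup.center L ≤ Q := by
    rw [hQO]
    apply le_Op_of_sn (SN.of_normal le_top ?_) (hEA.isPGroup.to_le inf_le_left)
    exact (le_Cz_comm.1 (inf_le_right.trans Cz_top.ge)).trans (Cz_le_Nz _)
  have hBB : (Q ⊓ Y) ⊓ (Q ⊓ cj g Y) = Y ⊓ Subgroup.center L := by
    rw [← inf_inf_distrib_left, hinf]; exact inf_eq_right.2 hZQ
  have hBab : ⁅Q ⊓ Y, Q ⊓ Y⁆ = ⊥ :=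
    comm_eq_bot_iff.2 ((inf_le_right.trans hEA.1).trans (Cz_anti inf_le_right))
  have hBgab : ⁅Q ⊓ cj g Y, Q ⊓ cj g Y⁆ = ⊥ :=
    comm_eq_bot_iff.2 ((inf_le_right.trans hEAg.1).trans (Cz_anti inf_le_right))
  have hBY : Q ⊓ Y ≤ Y := inf_le_right
  have hBgY : Q ⊓ cj g Y ≤ cj g Y := inf_le_right
  have hBQ : Q ⊓ Y ≤ Q := inf_le_left
  have hBgQ : Q ⊓ cj g Y ≤ Q := inf_le_left
  have hAY0 : ∀ A : Subgroup L, A ≤ Q → Q ⊓ Y ≤ A → A ⊓ Y = Q ⊓ Y := fun A h1 h2 =>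
    le_antisymm (inf_le_inf_right _ h1) (le_inf h2 inf_le_right)
  have hAYg0 : ∀ A : Subgroup L, A ≤ Q → Q ⊓ cj g Y ≤ A → A ⊓ cj g Y = Q ⊓ cj g Y := fun A h1 h2 =>
    le_antisymm (inf_le_inf_right _ h1) (le_inf h2 inf_le_right)
  generalize Q ⊓ Y = B at *
  generalize Q ⊓ cj g Y = Bg at *
  have hUQ : B ⊔ Bg ≤ Q := sup_le hBQ hBgQ
  have hAeq : A = B ⊔ Bg := by
    rw [hA, normalClosure_eq]
    apply le_antisymm
    · apply NC_le le_sup_left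
      rw [← hsup]
      apply sup_le
      · rw [le_Nz_iff_comm_le]
        exact ((Subgroup.commutator_mono le_rfl hUQ).trans hYQ).trans le_sup_left
      · rw [le_Nz_iff_comm_le]
        exact ((Subgroup.commutator_mono le_rfl hUQ).trans hYgQ).trans le_sup_right
    · apply sup_le (le_NC _ _)
      rw [← hBg0]
      exact cj_le_NC (Subgroup.mem_top g)
  have hBA : B ≤ A := hAeq ▸ le_sup_left
  have hBgA : Bg ≤ A := hAeq ▸ le_sup_right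
  have hAQ : A ≤ Q := hAeq ▸ hUQ
  have hAp : IsPGroup p ↥A := hQp.to_le hAQ
  have hAY : A ⊓ Y = B := hAY0 A hAQ hBA
  have hAYg : A ⊓ cj g Y = Bg := hAYg0 A hAQ hBgA
  have hC : ⁅B, Bg⁆ ≤ Y ⊓ Subgroup.center L := by
    rw [← hBB]
    exact le_inf (comm_le_of_Nz' le_rfl (hBgQ.trans hQB)) (comm_le_of_Nz (hBQ.trans hQBg) le_rfl)
  have hCn : ∀ X : Subgroup L, X ≤ Nz ⁅B, Bg⁆ := fun X =>
    le_top.trans ((le_Cz_comm.1 ((hC.trans inf_le_right).trans Cz_top.ge)).trans (Cz_le_Nz _))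
  have s1 : A ≤ Stb B ⁅B, Bg⁆ := by
    rw [hAeq]
    exact sup_le (le_Stb (hCn _) (hBab ▸ bot_le)) (le_Stb (hCn _) le_rfl)
  have s2 : A ≤ Stb Bg ⁅B, Bg⁆ := by
    rw [hAeq]
    exact sup_le (le_Stb (hCn _) (Subgroup.commutator_comm B Bg ▸ le_rfl)) (le_Stb (hCn _) (hBgab ▸ bot_le))
  have c1 : ⁅B, A⁆ ≤ ⁅B, Bg⁆ := by
    rw [Subgroup.commutator_le]
    intro b hb a ha
    exact (mem_Stb.1 (s1 ha)).2 b hb
  have c2 : ⁅Bg, A⁆ ≤ ⁅B, Bg⁆ := by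
    rw [Subgroup.commutator_le]
    intro b hb a ha
    exact (mem_Stb.1 (s2 ha)).2 b hb
  have s3 : B ⊔ Bg ≤ Stb A ⁅B, Bg⁆ :=
    sup_le (le_Stb (hCn _) (Subgroup.commutator_comm B A ▸ c1))
      (le_Stb (hCn _) (Subgroup.commutator_comm Bg A ▸ c2))
  have c3 : ⁅A, A⁆ ≤ ⁅B, Bg⁆ := by
    rw [Subgroup.commutator_le]
    intro b hb a ha
    exact (mem_Stb.1 (s3 (hAeq ▸ ha))).2 b hb
  have c4 : ⁅B, Bg⁆ ≤ ⁅B, A⁆ := Subgroup.commutator_mono le_rfl hBgA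
  have c5 : ⁅B, A⁆ ≤ ⁅A, A⁆ := Subgroup.commutator_mono hBA le_rfl
  have hAYg' : A ⊓ Y.map (MulAut.conj g).toMonoidHom = Bg := hAYg
  rw [hAY, hAYg']
  refine ⟨?_, le_antisymm (c3.trans c4) c5, le_antisymm c1 c4, c1.trans hC, hinf, hBB, ?_⟩
  · show Phi A = _
    apply le_antisymm _ (comm_le_Phi hAp)
    apply Phi_le_of hAp le_rfl
    intro x hx
    rw [hAeq] at hx
    obtain ⟨b, hb, c, hc, rfl⟩ := mem_sup_of_le_Nz (hBgQ.trans hQB) hx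
    exact mul_pow_mem_comm' (hBA hb) (hBgA hc) (hEA.2 b (hBY hb)) (hEAg.2 c (hBgY hc))
  · apply le_antisymm
    · rintro a ⟨ha1, ha2⟩
      refine ⟨?_, ha2⟩
      have ha1' : a ∈ B ⊔ Bg := hAeq ▸ ha1
      obtain ⟨b, hb, c, hc, rfl⟩ := mem_sup_of_le_Nz (hBgQ.trans hQB) ha1'
      have hcz : c ∈ Subgroup.center L := by
        rw [← Cz_top, ← hsup, Cz_sup]
        refine ⟨?_, hEAg.1 (hBgY hc)⟩
        have : c = b⁻¹ * (b * c) := by group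
        rw [this]
        apply Subgroup.mul_mem _ (Subgroup.inv_mem _ (hEA.1 (hBY hb)))
        have h5 : b * c ∈ Cz (⊤ : Subgroup L) := by rw [Cz_top]; exact ha2
        exact Cz_anti le_top h5
      have hcY : c ∈ Y := by
        have h6 := hBgY hc
        rw [mem_cj] at h6
        have h3 : g * c = c * g := (Subgroup.mem_center_iff.1 hcz g)
        have : g⁻¹ * c * g = c := by rw [mul_assoc, ← h3]; group
        rwa [this] at h6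
      exact Y.mul_mem (hBY hb) hcY
    · rw [← hBB]
      exact le_inf (inf_le_left.trans hBA) (hBB ▸ inf_le_right)

end Cfsg.Agent.S2837
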