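import Cfsg.Statements.S2839
import Mathlib
import Cfsg.Agent.Lib.Helper6.WClosed

set_option autoImplicit false
open Cfsg

namespace Cfsg.Agent.S2839

open Cfsg.Agent.Lib.Helper6.Basic Cfsg.Agent.Lib.Helper6.Subn Cfsg.Agent.Lib.Helper6.Quasi Cfsg.Agent.Lib.Helper6.Comp Cfsg.Agent.Lib.Helper6.Rad Cfsg.Agent.Lib.Helper6.Nil Cfsg.Agent.Lib.Helper6.FStar Cfsg.Agent.Lib.Helper6.FStar2 Cfsg.Agent.Lib.Helper6.PAct Cfsg.Agent.Lib.Helper6.CharP Cfsg.Agent.Lib.Helper6.Ores Cfsg.Agent.Lib.Helper6.Trace Cfsg.Agent.Lib.Helper6.PRed Cfsg.Agent.Lib.Helper6.WClosed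
open scoped commutatorElement Pointwise

/-- Let Q be a nontrivial p-subgroup of the finite group H that is a weakly closed subgroup, K a subgroup containing Q and N a normal subgroup of H. Then Q is a weakly closed subgroup of K; every H-conjugate of Q contained in K is a K-conjugate of Q; N_K(Q) contains a Sylow p-subgroup of K; N = N_N(Q)·O^p(N); and QN/N is a weakly closed subgroup of H/N. -/
theorem result {H : Type*} [Group H] [Finite H] {p : ℕ} [Fact p.Prime] (Q : Subgroup H) (hQp : IsPGroup p ↥Q) (hQ1 : Q ≠ ⊥) (hwc : Cfsg.IsWeaklyClosedSubgroup p Q) (K : Subgroup H) (hQK : Q ≤ K) (N' : Subgroup H) [N'.Normal] : Cfsg.IsWeaklyClosedSubgroup p (Q.subgroupOf K) ∧ (∀ g : H, ((Q : Subgroup H).map (MulAut.conj (g : H)).toMonoidHom) ≤ K → ∃ k ∈ K, ((Q : Subgroup H).map (MulAut.conj (g : H)).toMonoidHom) = ((Q : Subgroup H).map (MulAut.conj (k : H)).toMonoidHom)) ∧ Cfsg.IsParabolic p ((Subgroup.normalizer ((Q : Subgroup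 H) : Set H)).subgroupOf K) ∧ (N' ⊓ Subgroup.normalizer ((Q : Subgroup H) : Set H)) ⊔ (Cfsg.pResidual p ↥N').map N'.subtype = N' ∧ Cfsg.IsWeaklyClosedSubgroup p (Q.map (QuotientGroup.mk' N')) := by
  have h := (wc_top_bridge hQp).mp hwc
  refine ⟨(wc_bridge hQp hQK).mpr (h.mono le_top), ?_, ?_, ?_, ?_⟩
  · intro g hg
    exact h.conj hQp hQK le_top (Subgroup.mem_top g) hg
  · obtain ⟨S, hS, hQS⟩ := exists_syl_ge hQp hQK
    obtain ⟨P, hP⟩ := hS.exists_sylow
    exact ⟨P, by rw [hP]; exact Subgroup.comap_mono (h.le_Nz hS.isPGroup le_top hQS)⟩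
  · rw [map_pResidual]
    obtain ⟨S, hS, hQS⟩ := exists_syl_ge hQp (le_top : Q ≤ ⊤)
    have hN : (⊤ : Subgroup H) ≤ Nz N' := top_le_Nz inferInstance
    have hS' : Syl p (S ⊓ N') N' := hS.inf_normal le_top hN
    apply le_antisymm (sup_le inf_le_left (Ores_le p N'))
    rw [sup_comm]
    calc N' = Ores p N' ⊔ (S ⊓ N') := hS'.sup_Ores.symm
      _ ≤ _ := sup_le_sup_left (le_inf inf_le_right
          (inf_le_left.trans (h.le_Nz hS.isPGroup le_top hQS))) _
  · obtain ⟨T, hQT, hT⟩ := hwc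
    refine ⟨T.mapSurjective (QuotientGroup.mk'_surjective N'), Subgroup.map_mono hQT, ?_⟩
    intro gbar hg
    obtain ⟨g, rfl⟩ := QuotientGroup.mk'_surjective N' gbar
    have hg' : cj (QuotientGroup.mk' N' g) (Q.map (QuotientGroup.mk' N'))
        ≤ (T : Subgroup H).map (QuotientGroup.mk' N') := hg
    show cj (QuotientGroup.mk' N' g) (Q.map (QuotientGroup.mk' N')) = _
    rw [← map_cj] at hg' ⊢
    rw [Subgroup.map_le_map_iff, QuotientGroup.ker_mk', sup_comm] at hg'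
    have hTN : (T : Subgroup H) ≤ Nz N' := le_Nz_of_normal inferInstance _
    have hS : Syl p T (N' ⊔ T) := (syl_of_sylow T).of_le le_sup_right le_top
    obtain ⟨x, hx, hx2⟩ := hS.exists_le_cj (isPGroup_cj hQp g) hg'
    obtain ⟨n, hn, t, ht, rfl⟩ := mem_sup_of_le_Nz hTN hx
    rw [← cj_cj, cj_eq_self_of_mem ht] at hx2
    have h1 : cj (n⁻¹ * g) Q = Q := by
      apply hT
      show cj (n⁻¹ * g) Q ≤ T
      rw [← cj_cj, cj_le_iff, inv_inv]
      exact hx2
    rw [← cj_cj, cj_eq_iff, inv_inv] at h1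
    rw [h1, map_cj]
    have h2 : QuotientGroup.mk' N' n = 1 := (QuotientGroup.eq_one_iff n).mpr hn
    rw [h2, cj_one]

end Cfsg.Agent.S2839
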