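import Cfsg.Statements.S2840
import Mathlib
import Cfsg.Agent.Lib.Helper6.WClosed

set_option autoImplicit false
open Cfsg

namespace Cfsg.Agent.S2840

open Cfsg.Agent.Lib.Helper6.Basic Cfsg.Agent.Lib.Helper6.Subn Cfsg.Agent.Lib.Helper6.Quasi Cfsg.Agent.Lib.Helper6.Comp Cfsg.Agent.Lib.Helper6.Rad Cfsg.Agent.Lib.Helper6.Nil Cfsg.Agent.Lib.Helper6.FStar Cfsg.Agent.Lib.Helper6.FStar2 Cfsg.Agent.Lib.Helper6.PAct Cfsg.Agent.Lib.Helper6.CharP Cfsg.Agent.Lib.Helper6.Ores Cfsg.Agent.Lib.Helper6.Trace Cfsg.Agent.Lib.Helper6.PRed Cfsg.Agent.Lib.Helper6.WClosed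
open scoped commutatorElement Pointwise

/-- Let Q be a nontrivial p-subgroup of the finite group H that is a weakly closed subgroup and K a subgroup containing Q; let K° be the weak closure of Q in K (generated by the H-conjugates of Q inside K). Then K° is generated by the K-conjugates of Q, and K° is the subnormal closure of Q in K. -/
theorem result {H : Type*} [Group H] [Finite H] {p : ℕ} [Fact p.Prime] (Q : Subgroup H) (hQp : IsPGroup p ↥Q) (hQ1 : Q ≠ ⊥) (hwc : Cfsg.IsWeaklyClosedSubgroup p Q) (K : Subgroup H) (hQK : Q ≤ K) (Kc : Subgroup H) (hKc : Kc = Cfsg.weakClosure Q K) : Kc = ⨆ k : ↥K, ((Q : Subgroup H).map (MulAut.conj ((k : H) : H)).toMonoidHom) ∧ Kc = (Cfsg.subnormalClosure (Q.subgroupOf K)).map K.subtype := by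
  have h := (wc_top_bridge hQp).mp hwc
  rw [weakClosure_eq h hQp hQK] at hKc
  subst hKc
  refine ⟨?_, ?_⟩
  · apply le_antisymm
    · apply sSup_le
      rintro _ ⟨k, hk, rfl⟩
      exact le_iSup (fun k : ↥K => Q.map (MulAut.conj (k : H)).toMonoidHom) ⟨k, hk⟩
    · apply iSup_le
      intro k
      exact cj_le_NC k.2
  · have hNK : NC Q K ≤ K := NC_le hQK Subgroup.le_normalizer
    unfold Cfsg.subnormalClosure
    apply le_antisymm
    · intro x hx
      refine ⟨⟨x, hNK hx⟩, ?_, rfl⟩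
      rw [SetLike.mem_coe, Subgroup.mem_sInf]
      rintro Y ⟨hY1, hY2⟩
      have hY3 : SN (Y.map K.subtype) K := isSubnormal_subtype_iff.mp hY2
      have hQY : Q ≤ Y.map K.subtype := by
        rw [← Subgroup.map_subgroupOf_eq_of_le hQK]; exact Subgroup.map_mono hY1
      obtain ⟨y, hy, hy2⟩ := (h.mono le_top).NC_le_of_sn hQp hY3 hQY hx
      have : y = ⟨x, hNK hx⟩ := Subtype.ext hy2
      rwa [← this]
    · have hmem : (NC Q K).subgroupOf K ∈
          {K' : Subgroup ↥K | Q.subgroupOf K ≤ K' ∧ K'.IsSubnormal} :=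
        ⟨Subgroup.comap_mono (le_NC Q K), (SN.of_normal hNK (le_Nz_NC Q K)).subgroupOf⟩
      calc _ ≤ ((NC Q K).subgroupOf K).map K.subtype := Subgroup.map_mono (sInf_le hmem)
        _ = NC Q K := Subgroup.map_subgroupOf_eq_of_le hNK

end Cfsg.Agent.S2840
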