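import Cfsg.Statements.S2841
import Mathlib
import Cfsg.Agent.Lib.Helper6.WClosed

set_option autoImplicit false
open Cfsg

namespace Cfsg.Agent.S2841

open Cfsg.Agent.Lib.Helper6.Basic Cfsg.Agent.Lib.Helper6.Subn Cfsg.Agent.Lib.Helper6.Quasi Cfsg.Agent.Lib.Helper6.Comp Cfsg.Agent.Lib.Helper6.Rad Cfsg.Agent.Lib.Helper6.Nil Cfsg.Agent.Lib.Helper6.FStar Cfsg.Agent.Lib.Helper6.FStar2 Cfsg.Agent.Lib.Helper6.PAct Cfsg.Agent.Lib.Helper6.CharP Cfsg.Agent.Lib.Helper6.Ores Cfsg.Agent.Lib.Helper6.Trace Cfsg.Agent.Lib.Helper6.PRed Cfsg.Agent.Lib.Helper6.WClosed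
open scoped commutatorElement Pointwise

theorem part_a {H : Type*} [Group H] [Finite H] {p : ℕ} [Fact p.Prime] {Q N : Subgroup H}
    (hQp : IsPGroup p ↥Q) (h : WC p Q ⊤) (hQN : Q ≤ Nz N) {n : H} (hn : n ∈ N) :
    ∃ a ∈ N ⊓ Nz Q, ∃ b ∈ ⁅N, Q⁆, n = a * b := by
  have h1 : cj n⁻¹ Q ≤ ⁅N, Q⁆ ⊔ Q := by
    rintro _ ⟨q, hq, rfl⟩
    show n⁻¹ * q * n⁻¹⁻¹ ∈ _
    have e : n⁻¹ * q * n⁻¹⁻¹ = ⁅n⁻¹, q⁆ * q := by rw [commutatorElement_def]; group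
    rw [e]
    exact Subgroup.mul_mem _
      ((le_sup_left (a := ⁅N, Q⁆)) (Subgroup.commutator_mem_commutator (N.inv_mem hn) hq))
      ((le_sup_right (a := ⁅N, Q⁆)) hq)
  obtain ⟨k, hk, hk2⟩ := h.conj hQp le_sup_right le_top (Subgroup.mem_top _) h1
  obtain ⟨c, hc, q', hq', rfl⟩ :=
    mem_sup_of_le_Nz (Subgroup.normalizer_commutator_ge_right N Q) hk
  rw [← cj_cj, cj_eq_self_of_mem hq'] at hk2
  have hcN : c ∈ N := (comm_le_of_Nz' le_rfl hQN) hc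
  refine ⟨n * c, ⟨N.mul_mem hn hcN, ?_⟩, c⁻¹, Subgroup.inv_mem _ hc, by group⟩
  show n * c ∈ Nz Q
  rw [← cj_eq_self_iff, ← cj_cj, ← hk2, cj_cj_inv]

/-- Let Q be a nontrivial p-subgroup of the finite group H that is a weakly closed subgroup and N a normal subgroup of H. Then N = N_N(Q)·[N, Q] and [N, Q] = (Q ∩ [N, Q])·[N, Q, Q]. -/
theorem result {H : Type*} [Group H] [Finite H] {p : ℕ} [Fact p.Prime] (Q : Subgroup H) (hQp : IsPGroup p ↥Q) (hQ1 : Q ≠ ⊥) (hwc : Cfsg.IsWeaklyClosedSubgroup p Q) (N' : Subgroup H) [N'.Normal] : (∀ n : H, n ∈ N' → ∃ a ∈ N' ⊓ Subgroup.normalizer ((Q : Subgroup H) : Set H), ∃ b ∈ ⁅N', Q⁆, n = a * b) ∧ (∀ c : H, c ∈ ⁅N', Q⁆ → ∃ a ∈ Q ⊓ ⁅N', Q⁆, ∃ b ∈ ⁅⁅N', Q⁆, Q⁆, c = a * b) := by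
  have h := (wc_top_bridge hQp).mp hwc
  have hQN : Q ≤ Nz N' := le_Nz_of_normal inferInstance _
  refine ⟨fun n hn => part_a hQp h hQN hn, ?_⟩
  have hQ2 : Q ≤ Nz ⁅⁅N', Q⁆, Q⁆ := Subgroup.normalizer_commutator_ge_right _ _
  have key : ⁅N', Q⁆ ≤ (Q ⊓ ⁅N', Q⁆) ⊔ ⁅⁅N', Q⁆, Q⁆ := by
    rw [Subgroup.commutator_le]
    intro n hn q hq
    obtain ⟨a, ha, b, hb, rfl⟩ := part_a hQp h hQN hn
    have e : ⁅a * b, q⁆ = (a * ⁅b, q⁆ * a⁻¹) * ⁅a, q⁆ := by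
      simp only [commutatorElement_def]; group
    rw [e]
    apply Subgroup.mul_mem
    · apply (le_sup_right (a := Q ⊓ ⁅N', Q⁆))
      have haN : a ∈ Nz ⁅⁅N', Q⁆, Q⁆ := by
        have h1 : Subgroup.zpowers a ≤ Nz ⁅⁅N', Q⁆, Q⁆ :=
          le_Nz_comm (Subgroup.zpowers_le.mpr (Subgroup.normalizer_commutator_ge_left N' Q ha.1))
            (Subgroup.zpowers_le.mpr ha.2)
        exact h1 (Subgroup.mem_zpowers a)
      exact (Subgroup.mem_normalizer_iff.mp haN _).mp (Subgroup.commutator_mem_commutator hb hq)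
    · apply (le_sup_left (a := Q ⊓ ⁅N', Q⁆))
      refine ⟨?_, Subgroup.commutator_mem_commutator ha.1 hq⟩
      rw [commutatorElement_def]
      exact Q.mul_mem ((Subgroup.mem_normalizer_iff.mp ha.2 q).mp hq) (Q.inv_mem hq)
  intro c hc
  have hc' : c ∈ (((Q ⊓ ⁅N', Q⁆) ⊔ ⁅⁅N', Q⁆, Q⁆ : Subgroup H) : Set H) := key hc
  rw [Subgroup.coe_mul_of_left_le_normalizer_right _ _ (inf_le_left.trans hQ2)] at hc'
  obtain ⟨a, ha, b, hb, rfl⟩ := Set.mem_mul.mp hc'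
  exact ⟨a, ha, b, hb, rfl⟩

end Cfsg.Agent.S2841
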