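import Cfsg.Statements.S2842
import Mathlib
import Cfsg.Agent.Lib.Helper6.WClosed

set_option autoImplicit false
open Cfsg

namespace Cfsg.Agent.S2842

open Cfsg.Agent.Lib.Helper6.Basic Cfsg.Agent.Lib.Helper6.Subn Cfsg.Agent.Lib.Helper6.Quasi Cfsg.Agent.Lib.Helper6.Comp Cfsg.Agent.Lib.Helper6.Rad Cfsg.Agent.Lib.Helper6.Nil Cfsg.Agent.Lib.Helper6.FStar Cfsg.Agent.Lib.Helper6.FStar2 Cfsg.Agent.Lib.Helper6.PAct Cfsg.Agent.Lib.Helper6.CharP Cfsg.Agent.Lib.Helper6.Ores Cfsg.Agent.Lib.Helper6.Trace Cfsg.Agent.Lib.Helper6.PRed Cfsg.Agent.Lib.Helper6.WClosed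
open scoped commutatorElement Pointwise

theorem centralizer_singleton_eq {G : Type*} [Group G] (z : G) :
    Subgroup.centralizer ({z} : Set G) = Cz (Subgroup.zpowers z) := by
  ext y
  rw [Subgroup.mem_centralizer_singleton_iff, Subgroup.mem_centralizer_iff]
  constructor
  · rintro h _ ⟨k, rfl⟩
    have hc : Commute y z := h
    exact (hc.zpow_right k).symm.eq
  · intro h
    exact (h z (Subgroup.mem_zpowers z)).symm

/-- Let Q be a nontrivial p-subgroup of the finite group H that is a weakly closed subgroup with C_H(Q) ≤ Q, and Q ≤ L ≤ H. Suppose H has characteristic p, or more generally that C_H(y) has characteristic p for some nonidentity y ∈ C_{O_p(L)}(Q). Then [Q, C_H(O_p(L))] ≤ Q ∩ O_p(L), C_H(O_p(L)) is a p-group, and L has characteristic p. -/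
theorem result {H : Type*} [Group H] [Finite H] {p : ℕ} [Fact p.Prime] (Q : Subgroup H) (hQp : IsPGroup p ↥Q) (hQ1 : Q ≠ ⊥) (hwc : Cfsg.IsWeaklyClosedSubgroup p Q) (hCQ : Subgroup.centralizer ((Q : Subgroup H) : Set H) ≤ Q) (L : Subgroup H) (hQL : Q ≤ L) (hyp : Subgroup.centralizer (Cfsg.pCore p H : Set H) ≤ Cfsg.pCore p H ∨ ∃ y : H, y ≠ 1 ∧ y ∈ (Cfsg.pCoreOf p L) ⊓ Subgroup.centralizer ((Q : Subgroup H) : Set H) ∧ Subgroup.centralizer (Cfsg.pCore p ↥(Subgroup.centralizer ({y} : Set H)) : Set ↥(Subgroup.centralizer ({y} : Set H))) ≤ Cfsg.pCore p ↥(Subgroup.centralizer ({y} : Set H))) : ⁅Q, Subgroup.centralizer (((Cfsg.pCoreOf p L) : Subgroup H) : Set H)⁆ ≤ Q ⊓ (Cfsg.pCoreOf p L) ∧ IsPGroup p ↥(Subgroup.centralizer (((Cfsg.pCoreOf p L) : Subgroup H) : Set H)) ∧ Subgroup.centralizer (Cfsg.pCore p ↥L : Set ↥L) ≤ Cfsg.pCore p ↥L := by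
  have e2 : Cfsg.pCoreOf p L = Op p L := map_pCore p L
  rw [e2] at hyp ⊢
  rw [chP_bridge]
  have h := (wc_top_bridge hQp).mp hwc
  rcases hyp with hH | ⟨y, _, hy2, hy3⟩
  · have := WC.charp h hQp ((chP_top_bridge p).mp hH) (by rw [top_inf_eq]; exact hCQ) hQL le_top
    rwa [top_inf_eq] at this
  · rw [chP_bridge, centralizer_singleton_eq] at hy3
    have h1 : ChP p (Cz (Op p L)) :=
      ChP.Cz_of_le (Op_isPGroup p L) (Subgroup.zpowers_le.mpr hy2.1) hy3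
    have h2 : ChP p (Nz (Op p L)) := ChP.Nz_of_Cz (Op_isPGroup p L) h1
    have := WC.charp (h.mono le_top) hQp h2 (inf_le_right.trans hCQ) hQL (le_Nz_Op p L)
    rwa [inf_eq_right.mpr (Cz_le_Nz _)] at this

end Cfsg.Agent.S2842
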