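import Cfsg.Statements.S2843
import Mathlib
import Cfsg.Agent.Lib.Helper6.Large

set_option autoImplicit false
open Cfsg

namespace Cfsg.Agent.S2843

open Cfsg.Agent.Lib.Helper6.Basic Cfsg.Agent.Lib.Helper6.Subn Cfsg.Agent.Lib.Helper6.Quasi Cfsg.Agent.Lib.Helper6.Comp Cfsg.Agent.Lib.Helper6.Rad Cfsg.Agent.Lib.Helper6.Nil Cfsg.Agent.Lib.Helper6.FStar Cfsg.Agent.Lib.Helper6.FStar2 Cfsg.Agent.Lib.Helper6.PAct Cfsg.Agent.Lib.Helper6.CharP Cfsg.Agent.Lib.Helper6.Ores Cfsg.Agent.Lib.Helper6.Trace Cfsg.Agent.Lib.Helper6.PRed Cfsg.Agent.Lib.Helper6.WClosed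
open scoped commutatorElement Pointwise
open Cfsg.Agent.Lib.Helper6.Large

/-- Let Q be a nontrivial large p-subgroup of the finite group H, Q ≤ L ≤ H, and Y a nontrivial p-subgroup of H normalized by L. Let L° be the weak closure of Q in L (generated by the conjugates of Q inside L). Then L° equals the weak closure of Q in L·C_H(Y), and [L°, C_H(Y)] ≤ O_p(L°); in particular C_H(Y) normalizes L°. -/
theorem result {H : Type*} [Group H] [Finite H] {p : ℕ} [Fact p.Prime] (Q : Subgroup H) (hQp : IsPGroup p ↥Q) (hQ1 : Q ≠ ⊥) (hL : Cfsg.IsLarge Q) (L : Subgroup H) (hQL : Q ≤ L) (Y : Subgroup H) (hYp : IsPGroup p ↥Y) (hY1 : Y ≠ ⊥) (hLY : L ≤ Subgroup.normalizer ((Y : Subgroup H) : Set H)) : Cfsg.weakClosure Q L = Cfsg.weakClosure Q (L ⊔ Subgroup.centralizer ((Y : Subgroup H) : Set H)) ∧ ⁅Cfsg.weakClosure Q L, Subgroup.centralizer ((Y : Subgroup H) : Set H)⁆ ≤ (Cfsg.pCoreOf p (Cfsg.weakClosure Q L)) ∧ Subgroup.centralizer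 ((Y : Subgroup H) : Set H) ≤ Subgroup.normalizer (((Cfsg.weakClosure Q L) : Subgroup H) : Set H) := by
  have hwc := IsLarge.wc hL hQp hQ1
  have e : ∀ X : Subgroup H, Cfsg.pCoreOf p X = Op p X := fun X => map_pCore p X
  rw [weakClosure_eq hwc hQp hQL, weakClosure_eq hwc hQp (hQL.trans le_sup_left), e]
  have hLC : L ≤ Nz (Cz Y) := hLY.trans (Nz_le_Nz_Cz Y)
  have hCQ : ∀ l ∈ L, Cz Y ≤ Nz (cj l Q) := by
    intro l hl
    apply IsLarge.Cz_le_Nz (IsLarge.cj hL l) (isPGroup_cj hQp l) hYp hY1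
    have h1 := cj_mono (g := l) (hQL.trans hLY)
    rwa [cj_normalizer, cj_eq_self_iff.mpr (hLY hl)] at h1
  have hCL0 : Cz Y ≤ Nz (NC Q L) := by
    apply le_Nz_sSup
    rintro _ ⟨l, hl, rfl⟩
    exact hCQ l hl
  have hL0L : NC Q L ≤ L := NC_le hQL Subgroup.le_normalizer
  refine ⟨?_, ?_, hCL0⟩
  · apply le_antisymm
    · apply sSup_le
      rintro _ ⟨l, hl, rfl⟩
      exact cj_le_NC ((le_sup_left (a := L)) hl)
    · apply sSup_le
      rintro _ ⟨x, hx, rfl⟩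
      have hx' : x ∈ ((L ⊔ Cz Y : Subgroup H) : Set H) := hx
      rw [Subgroup.coe_mul_of_left_le_normalizer_right _ _ hLC] at hx'
      obtain ⟨l, hl, c, hc, rfl⟩ := Set.mem_mul.mp hx'
      have h1 := hCQ 1 L.one_mem
      rw [cj_one] at h1
      rw [← cj_cj, cj_eq_self_iff.mpr (h1 hc)]
      exact cj_le_NC hl
  · have hW : ⁅NC Q L, Cz Y⁆ ≤ Op p (Cz Y) := by
      have h2 : NC Q L ≤ Stb (Cz Y) (Op p (Cz Y)) := by
        apply sSup_le
        rintro _ ⟨l, hl, rfl⟩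
        apply le_Stb ((((cj_le_NC hl).trans hL0L).trans hLC).trans (Nz_le_Nz_Op p _))
        have h3 : ⁅Cz Y, cj l Q⁆ ≤ cj l Q ⊓ Cz Y :=
          le_inf (comm_le_of_Nz (hCQ l hl) le_rfl)
            (comm_le_of_Nz' le_rfl (((cj_le_NC hl).trans hL0L).trans hLC))
        apply h3.trans
        exact le_Op_of_sn (SN.of_normal inf_le_right
          (le_Nz_inf (hCQ l hl) Subgroup.le_normalizer)) ((isPGroup_cj hQp l).to_le inf_le_left)
      rw [Subgroup.commutator_comm, Subgroup.commutator_le]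
      intro c hc x hx
      exact (h2 hx).2 c hc
    exact le_Op_of_sn (SN.of_normal (comm_le_of_Nz' le_rfl hCL0)
      (Subgroup.normalizer_commutator_ge_left _ _)) ((Op_isPGroup p _).to_le hW)

end Cfsg.Agent.S2843
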