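import Cfsg.Statements.S2844
import Mathlib
import Cfsg.Agent.Lib.Helper6.Large

set_option autoImplicit false
open Cfsg

namespace Cfsg.Agent.S2844

open Cfsg.Agent.Lib.Helper6.Basic Cfsg.Agent.Lib.Helper6.Subn Cfsg.Agent.Lib.Helper6.Quasi Cfsg.Agent.Lib.Helper6.Comp Cfsg.Agent.Lib.Helper6.Rad Cfsg.Agent.Lib.Helper6.Nil Cfsg.Agent.Lib.Helper6.FStar Cfsg.Agent.Lib.Helper6.FStar2 Cfsg.Agent.Lib.Helper6.PAct Cfsg.Agent.Lib.Helper6.CharP Cfsg.Agent.Lib.Helper6.Ores Cfsg.Agent.Lib.Helper6.Trace Cfsg.Agent.Lib.Helper6.PRed Cfsg.Agent.Lib.Helper6.WClosed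
open scoped commutatorElement Pointwise
open Cfsg.Agent.Lib.Helper6.Large

/-- Let Q be a nontrivial large p-subgroup of the finite group H and Q• = O_p(N_H(Q)). Then for every g ∈ H outside N_H(Q): C_H(Q) ∩ C_H(gQg⁻¹) = 1, C_H(Q•) ∩ C_H(gQ•g⁻¹) = 1, Z(Q) ∩ Z(gQg⁻¹) = 1 and Z(Q•) ∩ Z(gQ•g⁻¹) = 1; moreover N_H(Q) = N_H(Q•) and Q• is large in H. -/
theorem result {H : Type*} [Group H] [Finite H] {p : ℕ} [Fact p.Prime] (Q : Subgroup H) (hQp : IsPGroup p ↥Q) (hQ1 : Q ≠ ⊥) (hL : Cfsg.IsLarge Q) (Qb : Subgroup H) (hQb : Qb = Cfsg.largeBullet p Q) : (∀ g : H, g ∉ Subgroup.normalizer ((Q : Subgroup H) : Set H) → Subgroup.centralizer ((Q : Subgroup H) : Set H) ⊓ Subgroup.centralizer ((((Q : Subgroup H).map (MulAut.conj (g : H)).toMonoidHom) : Subgroup H) : Set H) = ⊥ ∧ Subgroup.centralizer ((Qb : Subgroup H) : Set H) ⊓ Subgroup.centralizer ((((Qb : Subgroup H).map (MulAut.conj (g : H)).toMonoidHom)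 : Subgroup H) : Set H) = ⊥ ∧ (Q ⊓ Subgroup.centralizer ((Q : Subgroup H) : Set H)) ⊓ (((Q : Subgroup H).map (MulAut.conj (g : H)).toMonoidHom) ⊓ Subgroup.centralizer ((((Q : Subgroup H).map (MulAut.conj (g : H)).toMonoidHom) : Subgroup H) : Set H)) = ⊥ ∧ (Qb ⊓ Subgroup.centralizer ((Qb : Subgroup H) : Set H)) ⊓ (((Qb : Subgroup H).map (MulAut.conj (g : H)).toMonoidHom) ⊓ Subgroup.centralizer ((((Qb : Subgroup H).map (MulAut.conj (g : H)).toMonoidHom) : Subgroup H) : Set H)) = ⊥) ∧ Subgroup.normalizer ((Q : Subgroup H) : Set H) = Subgroup.normalizer ((Qb : Subgroup H) : Set H) ∧ Cfsg.IsLarge Qb := by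
  have hwc := IsLarge.wc hL hQp hQ1
  have e : Qb = Op p (Nz Q) := by rw [hQb]; exact map_pCore p _
  have hQQb : Q ≤ Qb := by
    rw [e]; exact le_Op_of_sn (SN.of_normal Subgroup.le_normalizer le_rfl) hQp
  have hQbp : IsPGroup p ↥Qb := by rw [e]; exact Op_isPGroup p _
  have hQb1 : Qb ≠ ⊥ := fun he => hQ1 (le_bot_iff.mp (he ▸ hQQb))
  have hN : Nz Q = Nz Qb := by
    apply le_antisymm
    · rw [e]; exact le_Nz_Op p _
    · exact IsLarge.Nz_le hL hQ1 hQbp hQQb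
  have key : ∀ g : H, g ∉ Nz Q → Cz Q ⊓ Cz (cj g Q) = ⊥ := by
    intro g hg
    by_contra hne
    apply hg
    have h1 : Nz (Cz Q ⊓ Cz (cj g Q)) ≤ Nz Q := hL.2 _ inf_le_left hne
    have h2 : Nz (Cz Q ⊓ Cz (cj g Q)) ≤ Nz (cj g Q) := (IsLarge.cj hL g).2 _ inf_le_right hne
    have h3 : Q ≤ Nz (cj g Q) :=
      ((le_Cz_comm.mp (inf_le_left : Cz Q ⊓ Cz (cj g Q) ≤ Cz Q)).trans (Cz_le_Nz _)).trans h2
    rw [← cj_eq_self_iff]
    exact hwc (cj g Q ⊔ Q) ((isPGroup_cj hQp g).to_sup_of_normal_left' hQp h3) le_top le_sup_right g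
      (Subgroup.mem_top g) le_sup_left
  refine ⟨fun g hg => ?_, hN, ?_⟩
  · have h0 := key g hg
    have h4 : Cz Qb ⊓ Cz (cj g Qb) = ⊥ := by
      apply le_bot_iff.mp
      rw [← h0]
      exact inf_le_inf (Cz_anti hQQb) (Cz_anti (cj_mono hQQb))
    refine ⟨h0, h4, ?_, ?_⟩
    · apply le_bot_iff.mp
      rw [← h0]
      exact inf_le_inf inf_le_right inf_le_right
    · apply le_bot_iff.mp
      rw [← h4]
      exact inf_le_inf inf_le_right inf_le_right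
  · refine ⟨((Cz_anti hQQb).trans hL.1).trans hQQb, ?_⟩
    intro U hU hU1
    exact (hL.2 U (hU.trans (Cz_anti hQQb)) hU1).trans hN.le

end Cfsg.Agent.S2844
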