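import Cfsg.Statements.S2845
import Mathlib
import Cfsg.Agent.Lib.Helper6.Large

set_option autoImplicit false
open Cfsg

namespace Cfsg.Agent.S2845

open Cfsg.Agent.Lib.Helper6.Basic Cfsg.Agent.Lib.Helper6.Subn Cfsg.Agent.Lib.Helper6.Quasi Cfsg.Agent.Lib.Helper6.Comp Cfsg.Agent.Lib.Helper6.Rad Cfsg.Agent.Lib.Helper6.Nil Cfsg.Agent.Lib.Helper6.FStar Cfsg.Agent.Lib.Helper6.FStar2 Cfsg.Agent.Lib.Helper6.PAct Cfsg.Agent.Lib.Helper6.CharP Cfsg.Agent.Lib.Helper6.Ores Cfsg.Agent.Lib.Helper6.Trace Cfsg.Agent.Lib.Helper6.PRed Cfsg.Agent.Lib.Helper6.WClosed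
open scoped commutatorElement Pointwise
open Cfsg.Agent.Lib.Helper6.Large

theorem Op_ne_bot {H : Type*} [Group H] {p : ℕ} {L : Subgroup H} (h : Cfsg.pCore p ↥L ≠ ⊥) :
    Op p L ≠ ⊥ := by
  rw [← map_pCore]
  intro he
  exact h ((Subgroup.map_eq_bot_iff_of_injective _ L.subtype_injective).mp he)

theorem parab {H : Type*} [Group H] [Finite H] {p : ℕ} [Fact p.Prime] {Q : Subgroup H}
    (hQp : IsPGroup p ↥Q) (hQ1 : Q ≠ ⊥) (hL : Cfsg.IsLarge Q) {R : Subgroup H}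
    (hR : Cfsg.IsParabolic p R) (hR1 : Op p R ≠ ⊥) : Cz (Op p R) ≤ Op p R := by
  obtain ⟨T, hTR⟩ := hR
  obtain ⟨g, hg⟩ := exists_le_cj_sylow hQp T
  have hQT : cj g⁻¹ Q ≤ T := by rwa [cj_le_iff, inv_inv]
  have h1 := (IsLarge.charp (IsLarge.cj hL g⁻¹) (isPGroup_cj hQp _)
    (by rwa [Ne, cj_eq_bot_iff]) (hQT.trans hTR) hR1).2.1
  have hRD : R ≤ Nz (Cz (Op p R)) := (le_Nz_Op p R).trans (Nz_le_Nz_Cz _)
  have h2 : (T : Subgroup H) = Cz (Op p R) ⊔ T :=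
    (syl_of_sylow T).eq_of_le (h1.to_sup_of_normal_left' T.2 (hTR.trans hRD)) le_top le_sup_right
  have h3 : Cz (Op p R) ≤ R := (le_sup_left.trans h2.ge).trans hTR
  exact le_Op_of_sn (SN.of_normal h3 hRD) h1

/-- Let Q be a nontrivial large p-subgroup of the finite group H. Then for every subgroup L ≥ Q with O_p(L) ≠ 1, C_H(O_p(L)) is a p-group and L has characteristic p, and either the weak closure L° of Q in L equals Q or C_H(L°) = 1; for every subgroup R of H containing a Sylow p-subgroup of H with O_p(R) ≠ 1, C_H(O_p(R)) ≤ O_p(R); and H has parabolic characteristic p. -/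
theorem result {H : Type*} [Group H] [Finite H] {p : ℕ} [Fact p.Prime] (Q : Subgroup H) (hQp : IsPGroup p ↥Q) (hQ1 : Q ≠ ⊥) (hL : Cfsg.IsLarge Q) : (∀ L : Subgroup H, Q ≤ L → Cfsg.pCore p ↥L ≠ ⊥ → IsPGroup p ↥(Subgroup.centralizer (((Cfsg.pCoreOf p L) : Subgroup H) : Set H)) ∧ Subgroup.centralizer (Cfsg.pCore p ↥L : Set ↥L) ≤ Cfsg.pCore p ↥L ∧ (Cfsg.weakClosure Q L = Q ∨ Subgroup.centralizer (((Cfsg.weakClosure Q L) : Subgroup H) : Set H) = ⊥)) ∧ (∀ R : Subgroup H, Cfsg.IsParabolic p R → Cfsg.pCore p ↥R ≠ ⊥ → Subgroup.centralizer (((Cfsg.pCoreOf p R) : Subgroup H) : Set H) ≤ (Cfsg.pCoreOf p R)) ∧ Cfsg.IsOfParabolicCharacteristic p H := by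
  have hwc := IsLarge.wc hL hQp hQ1
  have e : ∀ X : Subgroup H, Cfsg.pCoreOf p X = Op p X := fun X => map_pCore p X
  refine ⟨?_, ?_, ?_⟩
  · intro L hQL hL1
    rw [e, chP_bridge, weakClosure_eq hwc hQp hQL]
    have h1 := IsLarge.charp hL hQp hQ1 hQL (Op_ne_bot hL1)
    refine ⟨h1.2.1, h1.2.2, ?_⟩
    by_cases hc : Cz (NC Q L) = ⊥
    · exact Or.inr hc
    · left
      have h2 : Nz (Cz (NC Q L)) ≤ Nz Q := hL.2 _ (Cz_anti (le_NC Q L)) hc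
      exact le_antisymm (NC_le le_rfl (((le_Nz_NC Q L).trans (Nz_le_Nz_Cz _)).trans h2)) (le_NC Q L)
  · intro R hR hR1
    rw [e]
    exact parab hQp hQ1 hL hR (Op_ne_bot hR1)
  · intro R hR hR1 hpar
    rw [chP_bridge]
    have h1 : R ≤ Op p (Nz R) := le_Op_of_sn (SN.of_normal Subgroup.le_normalizer le_rfl) hR
    have h2 : Op p (Nz R) ≠ ⊥ := fun he => hR1 (le_bot_iff.mp (he ▸ h1))
    exact inf_le_right.trans (parab hQp hQ1 hL hpar h2)

end Cfsg.Agent.S2845
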