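import Cfsg.Statements.S2872
import Cfsg.Agent.Lib.Helper9.Trf2
import Cfsg.Agent.Lib.Helper1.Transfer1
import Cfsg.Agent.Lib.Helper1.SZQuot
import Cfsg.Agent.Lib.Helper2.Frattini
import Cfsg.Agent.Lib.Helper6.Basic

set_option autoImplicit false
open Cfsg

namespace Cfsg.Agent.S2872

open scoped IsMulCommutative
open Cfsg.Agent.Lib.Helper9.Trf2 Cfsg.Agent.Lib.Helper6.Basic

/-- Let S be a Sylow 2-subgroup of the finite group G. Then G has a proper normal subgroup of 2-power index (O²(G) ≠ G), or Ω₁(Z(S)) is contained in the Frattini subgroup of S, or N_G(S) acts nontrivially on Ω₁(Z(S)) by conjugation. -/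
theorem result {G : Type*} [Group G] [Finite G] (S : Sylow 2 G) : Cfsg.pResidual 2 G ≠ ⊤ ∨ Cfsg.omegaOne 2 ((S : Subgroup G) ⊓ Subgroup.centralizer ((S : Subgroup G) : Set G)) ≤ (frattini ↥(S : Subgroup G)).map (S : Subgroup G).subtype ∨ ∃ g ∈ Subgroup.normalizer ((S : Subgroup G) : Set G), ∃ z ∈ Cfsg.omegaOne 2 ((S : Subgroup G) ⊓ Subgroup.centralizer ((S : Subgroup G) : Set G)), g * z * g⁻¹ ≠ z := by
  by_contra hcon
  push Not at hcon
  obtain ⟨hres, hnle, hcent⟩ := hcon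
  obtain ⟨z, ⟨hzZ, hz2⟩, hzF⟩ : ∃ z, (z ∈ (S : Subgroup G) ⊓ Subgroup.centralizer ((S : Subgroup G) : Set G)
      ∧ z ^ 2 = 1) ∧ z ∉ (frattini ↥(S : Subgroup G)).map (S : Subgroup G).subtype := by
    by_contra h
    push Not at h
    apply hnle
    rw [Cfsg.omegaOne, Subgroup.closure_le]
    exact fun x hx => h x hx
  have hzΩ : z ∈ Cfsg.omegaOne 2 ((S : Subgroup G) ⊓ Subgroup.centralizer ((S : Subgroup G) : Set G)) :=
    Subgroup.subset_closure ⟨hzZ, hz2⟩
  have hzS : z ∈ (S : Subgroup G) := hzZ.1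
  obtain ⟨M', hM', hzM'⟩ : ∃ M' : Subgroup ↥(S : Subgroup G), IsCoatom M' ∧ (⟨z, hzS⟩ : ↥(S : Subgroup G)) ∉ M' := by
    by_contra h
    push Not at h
    apply hzF
    refine ⟨⟨z, hzS⟩, ?_, rfl⟩
    have : Subgroup.zpowers (⟨z, hzS⟩ : ↥(S : Subgroup G)) ≤ frattini ↥(S : Subgroup G) := by
      rw [Cfsg.Agent.Lib.Helper2.Frattini.le_frattini_iff]
      intro M hM
      exact Subgroup.zpowers_le.mpr (h M hM)
    exact this (Subgroup.mem_zpowers _)
  have hnil : Group.IsNilpotent ↥(S : Subgroup G) := S.2.isNilpotent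
  have hMn : M'.Normal := Subgroup.NormalizerCondition.normal_of_coatom M' Group.normalizerCondition_of_isNilpotent hM'
  have hidx : M'.index = 2 := by
    have h1 := Cfsg.Agent.Lib.Helper1.prime_index_of_normal_coatom hM'
    obtain ⟨k, hk⟩ := IsPGroup.iff_card.mp S.2
    have h2 : M'.index ∣ 2 ^ k := hk ▸ Subgroup.index_dvd_card M'
    exact (Nat.prime_dvd_prime_iff_eq h1 Nat.prime_two).mp (h1.dvd_of_dvd_pow h2)
  obtain ⟨hsq, hcomm, hout⟩ := quot_index_two M' hidx
  set M : Subgroup G := M'.map (S : Subgroup G).subtype with hM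
  have hMS : M ≤ (S : Subgroup G) := Subgroup.map_subtype_le _
  have hMsub : M.subgroupOf (S : Subgroup G) = M' := by
    rw [hM, Subgroup.subgroupOf, Subgroup.comap_map_eq_self_of_injective (Subgroup.subtype_injective _)]
  have hMn2 : (M.subgroupOf (S : Subgroup G)).Normal := hMsub ▸ hMn
  have hmemM : ∀ s : ↥(S : Subgroup G), (s : G) ∈ M ↔ s ∈ M' := by
    intro s
    rw [← hMsub]; exact Subgroup.mem_subgroupOf.symm
  have hzM : z ∉ M := fun h => hzM' ((hmemM ⟨z, hzS⟩).mp h)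
  let ϕ : ↥(S : Subgroup G) →* (↥(S : Subgroup G) ⧸ M') := QuotientGroup.mk' M'
  have hu : ϕ ⟨z, hzS⟩ ≠ 1 := by
    intro h
    apply hzM'
    rw [← QuotientGroup.ker_mk' M']; exact h
  have htr := transfer_invol ϕ z hz2 (ϕ ⟨z, hzS⟩) (fun g => g⁻¹ * z * g ∉ M)
    (fun g hg hb => hout _ _ (fun h => hb ((hmemM ⟨_, hg⟩).mpr h)) hzM')
    (fun g hg hb => by
      have h1 : g⁻¹ * z * g ∈ M := not_not.mp hb
      have h2 : (⟨g⁻¹ * z * g, hg⟩ : ↥(S : Subgroup G)) ∈ M' := (hmemM ⟨_, hg⟩).mp h1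
      rw [← QuotientGroup.ker_mk' M'] at h2
      exact h2)
  -- the parity
  have hP : ∀ g : G, (z • (g : G ⧸ (S : Subgroup G)) = g ∧
      (g : G ⧸ (S : Subgroup G)).out⁻¹ * z * (g : G ⧸ (S : Subgroup G)).out ∉ M) ↔
      (g⁻¹ * z * g ∈ (S : Subgroup G) ∧ g⁻¹ * z * g ∉ M) := by
    intro g
    rw [smul_mk_eq_iff, conj_out_mem_iff hMn2 hMS]
  have heven : Even (Nat.card {x : G ⧸ (S : Subgroup G) | ¬ (z • x = x ∧ x.out⁻¹ * z * x.out ∉ M)}) := by
    apply even_card_of_no_fixed (Q := ↥(S : Subgroup G)) S.2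
    · intro s x hx
      induction x using QuotientGroup.induction_on with
      | H g =>
        have e : s • (g : G ⧸ (S : Subgroup G)) = (((s : G) * g : G) : G ⧸ (S : Subgroup G)) := rfl
        rw [Set.mem_ofPred_eq, hP] at hx
        rw [Set.mem_ofPred_eq, e, hP]
        have e2 : ((s : G) * g)⁻¹ * z * ((s : G) * g) = g⁻¹ * z * g := by
          have hc : (s : G) * z = z * s := Subgroup.mem_centralizer_iff.mp hzZ.2 s s.2
          calc ((s : G) * g)⁻¹ * z * ((s : G) * g) = g⁻¹ * ((s : G)⁻¹ * (z * s)) * g := by group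
            _ = g⁻¹ * z * g := by rw [← hc]; group
        rw [e2]; exact hx
    · intro x hx
      by_contra hfix
      push Not at hfix
      induction x using QuotientGroup.induction_on with
      | H g =>
        rw [Set.mem_ofPred_eq, hP] at hx
        apply hx
        have hle : cj g⁻¹ (S : Subgroup G) ≤ S := by
          rintro _ ⟨s, hs, rfl⟩
          have := hfix ⟨s, hs⟩
          have h2 : s • (g : G ⧸ (S : Subgroup G)) = g := this
          rw [smul_mk_eq_iff] at h2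
          simpa [MulAut.conj_apply] using h2
        have heq : cj g⁻¹ (S : Subgroup G) = S :=
          Subgroup.eq_of_le_of_card_ge hle (by rw [card_cj])
        have hgN : g⁻¹ ∈ Subgroup.normalizer ((S : Subgroup G) : Set G) := cj_eq_self_iff.mp heq
        have h3 := hcent g⁻¹ hgN z hzΩ
        rw [inv_inv] at h3
        rw [h3]
        exact ⟨hzS, hzM⟩
  have hodd : Odd (Nat.card {x : G ⧸ (S : Subgroup G) | z • x = x ∧ x.out⁻¹ * z * x.out ∉ M}) := by
    have h1 := card_add_compl (fun x : G ⧸ (S : Subgroup G) => z • x = x ∧ x.out⁻¹ * z * x.out ∉ M)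
    have h2 : Odd (Nat.card (G ⧸ (S : Subgroup G))) := by
      rw [← Subgroup.index_eq_card, ← Nat.not_even_iff_odd, even_iff_two_dvd]
      exact S.not_dvd_index
    rw [← h1] at h2
    rcases Nat.even_or_odd (Nat.card {x : G ⧸ (S : Subgroup G) // z • x = x ∧ x.out⁻¹ * z * x.out ∉ M}) with h3 | h3
    · exact absurd (h3.add heven) (Nat.not_even_iff_odd.mpr h2)
    · exact h3
  obtain ⟨j, hj⟩ := hodd
  rw [hj, pow_succ, pow_mul, hsq, one_pow, one_mul] at htr
  apply hu
  rw [← htr]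
  have h5 := Cfsg.Agent.Lib.Helper1.pResidual_le_ker (MonoidHom.transfer ϕ) (S.2.to_quotient M')
  rw [hres] at h5
  exact h5 (Subgroup.mem_top z)

end Cfsg.Agent.S2872
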