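import Cfsg.Statements.S2882
import Cfsg.Agent.Lib.Helper8.Syl2b
import Cfsg.Agent.Lib.Helper8.M24Order

set_option autoImplicit false
open scoped Pointwise
open Cfsg

namespace Cfsg.Agent.S2882

/-- In the Mathieu group of degree 24 (realised as the automorphism group of the extended binary Golay code) every Sylow 2-subgroup is self-normalizing. -/
theorem result (S : Sylow 2 ↥Cfsg.M24) : Subgroup.normalizer ((S : Subgroup ↥Cfsg.M24) : Set ↥Cfsg.M24) = (S : Subgroup ↥Cfsg.M24) := by
  open Cfsg.Agent.Lib.Helper8 in
  classical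
  haveI : Fact (Nat.Prime 2) := ⟨Nat.prime_two⟩
  have hfac : (244823040 : ℕ).factorization 2 = 10 := by
    have ha : 10 ≤ (244823040 : ℕ).factorization 2 :=
      (Nat.prime_two.pow_dvd_iff_le_factorization (by norm_num)).mp (by norm_num)
    have hb : ¬ 11 ≤ (244823040 : ℕ).factorization 2 := fun h =>
      absurd ((Nat.prime_two.pow_dvd_iff_le_factorization (by norm_num)).mpr h) (by norm_num)
    omega
  have hc0 : Nat.card (Pz.subgroupOf M24) = 2 ^ (Nat.card M24).factorization 2 := by
    rw [Nat.card_congr (Subgroup.subgroupOfEquivOfLe Pz_le).toEquiv, card_Pz, card_M24, hfac]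
    norm_num
  let P1 : Sylow 2 M24 := Sylow.ofCard (Pz.subgroupOf M24) hc0
  have hP1 : (P1 : Subgroup M24) = Pz.subgroupOf M24 := Sylow.coe_ofCard _ _
  have hN1 : Subgroup.normalizer ((P1 : Subgroup M24) : Set M24) = (P1 : Subgroup M24) := by
    apply le_antisymm _ Subgroup.le_normalizer
    intro n hn
    rw [hP1] at hn ⊢
    rw [Subgroup.mem_subgroupOf]
    apply Pz_self_norm n.2
    intro g
    by_cases hg : g ∈ M24
    · have := Subgroup.mem_normalizer_iff.mp hn ⟨g, hg⟩
      simpa [Subgroup.mem_subgroupOf] using this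
    · constructor
      · intro h; exact absurd (Pz_le h) hg
      · intro h
        exfalso; apply hg
        have h1 := Pz_le h
        have : g = (n : Equiv.Perm GolayPt)⁻¹ * ((n : Equiv.Perm GolayPt) * g *
            (n : Equiv.Perm GolayPt)⁻¹) * (n : Equiv.Perm GolayPt) := by group
        rw [this]
        exact M24.mul_mem (M24.mul_mem (M24.inv_mem n.2) h1) n.2
  have hidx : (Subgroup.normalizer ((S : Subgroup M24) : Set M24)).index =
      (Subgroup.normalizer ((P1 : Subgroup M24) : Set M24)).index := by
    rw [S.coe_coe, P1.coe_coe, ← Sylow.card_eq_index_normalizer, ← Sylow.card_eq_index_normalizer]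
  have hcard : Nat.card (Subgroup.normalizer ((S : Subgroup M24) : Set M24)) =
      Nat.card (S : Subgroup M24) := by
    have h1 := Subgroup.card_mul_index (Subgroup.normalizer ((S : Subgroup M24) : Set M24))
    have h2 := Subgroup.card_mul_index (Subgroup.normalizer ((P1 : Subgroup M24) : Set M24))
    rw [hidx] at h1
    have h3 : (Subgroup.normalizer ((P1 : Subgroup M24) : Set M24)).index ≠ 0 :=
      Subgroup.index_ne_zero_of_finite
    have h4 := Nat.eq_of_mul_eq_mul_right (Nat.pos_of_ne_zero h3) (h1.trans h2.symm)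
    rw [h4, hN1, Sylow.card_eq_multiplicity, Sylow.card_eq_multiplicity]
  exact (Subgroup.eq_of_le_of_card_ge Subgroup.le_normalizer hcard.le).symm

end Cfsg.Agent.S2882
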