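import Cfsg.Statements.S2968
import Mathlib
import Cfsg.Agent.Lib.Helper1.Isolated

set_option autoImplicit false
open Cfsg

namespace Cfsg.Agent.S2968

open Cfsg
open Cfsg.Agent.Lib.Helper1
open scoped Pointwise

/-- Let G be a finite group, p a prime, P a Sylow p-subgroup of G and x ∈ P an element of p-power order which is isolated in G (the only conjugate of x commuting with x is x itself). Then x lies in the centre of P, and the subgroup generated by x is both strongly closed and weakly closed in P with respect to G. -/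
theorem result {G : Type*} [Group G] [Finite G] {p : ℕ} [Fact p.Prime] (P : Sylow p G) (x : G) (hxP : x ∈ (P : Subgroup G)) (hx : ∃ k : ℕ, orderOf x = p ^ k) (hiso : Cfsg.IsIsolated x) : x ∈ (P : Subgroup G) ⊓ Subgroup.centralizer ((P : Subgroup G) : Set G) ∧ Cfsg.IsStronglyClosed (Subgroup.zpowers x) (P : Subgroup G) ∧ Cfsg.IsWeaklyClosed (Subgroup.zpowers x) (P : Subgroup G) := by
  have hcen := Isolated.commute_of_mem hiso (P : Subgroup G) P.2 hxP
  have hle : Subgroup.zpowers x ≤ (P : Subgroup G) := by rw [Subgroup.zpowers_le]; exact hxP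
  refine ⟨Subgroup.mem_inf.mpr ⟨hxP, ?_⟩, ⟨hle, ?_⟩, ⟨hle, ?_⟩⟩
  · rw [Subgroup.mem_centralizer_iff]
    intro r hr
    exact hcen r hr
  · intro y hy g hg
    obtain ⟨k, rfl⟩ := Subgroup.mem_zpowers_iff.mp hy
    -- y' = g x^k g⁻¹ ∈ P
    obtain ⟨L, hL⟩ : ∃ L, L = Subgroup.centralizer ({g * x ^ k * g⁻¹} : Set G) := ⟨_, rfl⟩
    have hxL : x ∈ L := by
      rw [hL, Subgroup.mem_centralizer_singleton_iff]
      exact (hcen _ hg).symm
    have hgL : g * x * g⁻¹ ∈ L := by
      rw [hL, Subgroup.mem_centralizer_singleton_iff, ← conj_zpow]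
      exact ((Commute.refl (g * x * g⁻¹)).zpow_right k)
    obtain ⟨l, hl, hl2⟩ := Isolated.conj_in hx hiso L hxL g hgL
    rw [hL, Subgroup.mem_centralizer_singleton_iff] at hl
    have h1 : g * x ^ k * g⁻¹ = l * x ^ k * l⁻¹ := by
      rw [← conj_zpow, ← conj_zpow, hl2]
    have h2 : g * x ^ k * g⁻¹ = x ^ k := by
      have h3 : l⁻¹ * (g * x ^ k * g⁻¹) * l = g * x ^ k * g⁻¹ := by
        calc l⁻¹ * (g * x ^ k * g⁻¹) * l = l⁻¹ * ((g * x ^ k * g⁻¹) * l) := by group
          _ = l⁻¹ * (l * (g * x ^ k * g⁻¹)) := by rw [hl]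
          _ = g * x ^ k * g⁻¹ := by group
      rw [← h3, h1]; group
    rw [h2]
    exact hy
  · intro g hg
    have h1 : g * x * g⁻¹ ∈ (P : Subgroup G) := hg ⟨x, Subgroup.mem_zpowers x, rfl⟩
    have h2 := hiso g (hcen _ h1).symm
    rw [MonoidHom.map_zpowers]
    show Subgroup.zpowers (g * x * g⁻¹) = _
    rw [h2]

end Cfsg.Agent.S2968
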