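import Cfsg.Statements.S2970
import Mathlib
import Cfsg.Agent.Lib.Helper1.Isolated
import Cfsg.Agent.Lib.Helper1.CycSyl

set_option autoImplicit false
open Cfsg

namespace Cfsg.Agent.S2970

open Cfsg
open Cfsg.Agent.Lib.Helper1
open scoped Pointwise

/-- Let G be a finite group, p a prime and x ∈ G an element of p-power order which is isolated in G. Then the image of x in any quotient G ⧸ N is isolated in G ⧸ N; and if x ≠ 1 and the Sylow p-subgroups of G are cyclic, then G has a normal p-complement. -/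
theorem result {G : Type*} [Group G] [Finite G] {p : ℕ} [Fact p.Prime] (x : G) (hx : ∃ k : ℕ, orderOf x = p ^ k) (hiso : Cfsg.IsIsolated x) : (∀ (N : Subgroup G) [N.Normal], Cfsg.IsIsolated (QuotientGroup.mk x : G ⧸ N)) ∧ (x ≠ 1 → (∀ P : Sylow p G, IsCyclic ↥(P : Subgroup G)) → Cfsg.HasNormalPComplement p G) := by
  constructor
  · intro N _ gb hcomm
    obtain ⟨g, rfl⟩ := QuotientGroup.mk_surjective gb
    obtain ⟨L, hL⟩ : ∃ L, L = (Subgroup.centralizer ({(QuotientGroup.mk x : G ⧸ N)} : Set (G ⧸ N))).comap (QuotientGroup.mk' N) := ⟨_, rfl⟩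
    have hxL : x ∈ L := by
      rw [hL, Subgroup.mem_comap, Subgroup.mem_centralizer_singleton_iff]
      rfl
    have hgL : g * x * g⁻¹ ∈ L := by
      rw [hL, Subgroup.mem_comap, Subgroup.mem_centralizer_singleton_iff]
      exact hcomm.symm
    obtain ⟨l, hl, hl2⟩ := Isolated.conj_in hx hiso L hxL g hgL
    rw [hL, Subgroup.mem_comap, Subgroup.mem_centralizer_singleton_iff] at hl
    have h1 : (QuotientGroup.mk g : G ⧸ N) * QuotientGroup.mk x * (QuotientGroup.mk g)⁻¹ = QuotientGroup.mk' N (g * x * g⁻¹) := rfl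
    have hl' : QuotientGroup.mk' N l * QuotientGroup.mk' N x = QuotientGroup.mk' N x * QuotientGroup.mk' N l := hl
    rw [h1, hl2, map_mul, map_mul, map_inv, hl', mul_inv_cancel_right]
    rfl
  · intro hx1 hcyc
    obtain ⟨k, hk⟩ := hx
    have hxp : IsPGroup p (Subgroup.zpowers x) := IsPGroup.of_card (n := k) (by rw [Nat.card_zpowers, hk])
    obtain ⟨P, hP⟩ := hxp.exists_le_sylow
    have hxP : x ∈ (P : Subgroup G) := hP (Subgroup.mem_zpowers x)
    have hN : Subgroup.normalizer ((P : Subgroup G) : Set G) ≤ Subgroup.centralizer ((P : Subgroup G) : Set G) := by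
      intro n hn
      apply CycSyl.mem_centralizer_of_commute p P (hcyc P) n hn x hxP hx1
      have h1 := (Subgroup.mem_normalizer_iff.mp hn x).mp hxP
      have h2 := Isolated.commute_of_mem hiso (P : Subgroup G) P.2 hxP _ h1
      have h3 := hiso n h2.symm
      calc n * x = (n * x * n⁻¹) * n := by group
        _ = x * n := by rw [h3]
    exact ⟨P, _, inferInstance, MonoidHom.ker_transferSylow_isComplement' P hN⟩

end Cfsg.Agent.S2970
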