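import Cfsg.Statements.S2971
import Cfsg.Agent.Lib.Helper1.Bridge
import Cfsg.Agent.Lib.Helper3.EA

set_option autoImplicit false
open Cfsg

namespace Cfsg.Agent.S2971

open Cfsg.Agent.Lib.Helper1 Cfsg.Agent.Lib.Helper3.PLocal

/-- Let G be a finite group and p an odd prime such that G has p-rank at most 1 (no elementary abelian subgroup of order p²). If x ∈ G is an isolated element of order p, then x is central modulo the largest normal subgroup of G of order prime to p. -/
theorem result {G : Type*} [Group G] [Finite G] {p : ℕ} [Fact p.Prime] (hp : p ≠ 2) (hrk : Cfsg.PRankLE p 1 G) (x : G) (hx : orderOf x = p) (hiso : Cfsg.IsIsolated x) : Cfsg.InZStar p x := by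
  have hpp : p.Prime := Fact.out
  have hxpow : x ^ p = 1 := by rw [← hx]; exact pow_orderOf_eq_one x
  have hxp : IsPGroup p (Subgroup.zpowers x) := ea_isPGroup (ea_zpowers hxpow)
  obtain ⟨P, hP⟩ := hxp.exists_le_sylow
  have hxP : x ∈ (P : Subgroup G) := hP (Subgroup.mem_zpowers x)
  have key : ∀ z y : G, orderOf z = p → y ^ p = 1 → z * y = y * z → y ∈ Subgroup.zpowers z := by
    intro z y hz hy hzy
    have hea := ea_sup (ea_zpowers (x := z) (by rw [← hz]; exact pow_orderOf_eq_one z))
      (ea_zpowers hy) (by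
        rintro _ ⟨i, rfl⟩ _ ⟨j, rfl⟩
        exact (Commute.zpow_zpow (show Commute z y from hzy) i j))
    have hcard := hrk _ hea.1 hea.2
    have h1 : Subgroup.zpowers z = Subgroup.zpowers z ⊔ Subgroup.zpowers y :=
      Subgroup.eq_of_le_of_card_ge le_sup_left (by rw [Nat.card_zpowers, hz]; simpa using hcard)
    rw [h1]
    exact (le_sup_right : Subgroup.zpowers y ≤ _) (Subgroup.mem_zpowers y)
  -- a central element of order `p` of `P`
  have hnt : Nontrivial (P : Subgroup G) := by
    refine ⟨⟨⟨x, hxP⟩, 1, ?_⟩⟩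
    intro h
    have : x = 1 := congrArg Subtype.val h
    rw [this, orderOf_one] at hx
    exact hpp.one_lt.ne hx
  have hcen : ∀ u ∈ (P : Subgroup G), x * u = u * x := by
    have h1 := P.2.center_nontrivial
    have h2 : p ∣ Nat.card (Subgroup.center (P : Subgroup G)) := by
      obtain ⟨n, hn⟩ := IsPGroup.iff_card.1 (P.2.to_subgroup (Subgroup.center (P : Subgroup G)))
      rw [hn]
      apply dvd_pow_self
      rintro rfl
      rw [pow_zero] at hn
      have := (Nat.card_eq_one_iff_unique.1 hn).1
      exact not_subsingleton _ this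
    obtain ⟨z, hz⟩ := exists_prime_orderOf_dvd_card' (G := Subgroup.center (P : Subgroup G)) p h2
    have hz' : orderOf ((z : (P : Subgroup G)) : G) = p := by
      rw [Subgroup.orderOf_coe, Subgroup.orderOf_coe, hz]
    have hzc : ∀ u ∈ (P : Subgroup G), ((z : (P : Subgroup G)) : G) * u = u * ((z : (P : Subgroup G)) : G) := by
      intro u hu
      have := Subgroup.mem_center_iff.1 z.2 ⟨u, hu⟩
      exact (congrArg Subtype.val this).symm
    obtain ⟨i, hi⟩ := key _ x hz' hxpow (hzc x hxP)
    intro u hu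
    rw [← hi]
    exact (Commute.zpow_left (show Commute ((z : (P : Subgroup G)) : G) u from hzc u hu) i)
  have hfrob : FrobHyp p G := by
    apply frobHyp_of_sylow P
    intro Q hQ g hg hcop
    apply mem_centralizer_of_small_order Q (P.2.to_le hQ) g hg hcop (dvd_refl p)
      (hpp.dvd_choose_self (by norm_num) (lt_of_le_of_ne hpp.two_le (Ne.symm hp)))
    intro y hy hyp
    by_cases hy1 : y = 1
    · rw [hy1]; simp
    have hyo : orderOf y = p := orderOf_eq_prime hyp hy1
    have hxy : x * y = y * x := hcen y (hQ hy)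
    obtain ⟨i, hi⟩ := key x y hx hyp hxy
    have hxQ : x ∈ Q := by
      have := key y x hyo hxpow hxy.symm
      exact (Subgroup.zpowers_le.2 hy) this
    have hgx : g * x * g⁻¹ ∈ Q := (Subgroup.mem_normalizer_iff.1 hg x).1 hxQ
    have hgxp : (g * x * g⁻¹) ^ p = 1 := by rw [conj_pow, hxpow]; simp
    have hc : x * (g * x * g⁻¹) = (g * x * g⁻¹) * x := hcen _ (hQ hgx)
    have h3 := hiso g hc
    have h4 : g * x = x * g := by
      have := congrArg (fun w => w * g) h3
      simpa [mul_assoc] using this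
    rw [← hi]
    exact (Commute.zpow_right (show Commute g x from h4) i)
  obtain ⟨P', N, hN, hcompl⟩ := hasNormalPComplement_of_frobHyp hfrob
  have hcard := hcompl.card_mul_card
  have hPP' : Nat.card (P : Subgroup G) = Nat.card (P' : Subgroup G) := by
    rw [P.card_eq_multiplicity, P'.card_eq_multiplicity]
  have hNidx : Nat.card N = (P' : Subgroup G).index := by
    have h1 := (P' : Subgroup G).card_mul_index
    rw [← hcard, mul_comm] at h1
    exact (Nat.eq_of_mul_eq_mul_right Nat.card_pos h1).symm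
  have hNc : (Nat.card N).Coprime p := by
    rw [hNidx]
    exact ((Nat.Prime.coprime_iff_not_dvd hpp).2 P'.not_dvd_index).symm
  have hcompl2 : N.IsComplement' (P : Subgroup G) := by
    apply Subgroup.isComplement'_of_coprime (by rw [hPP']; exact hcard)
    obtain ⟨k, hk⟩ := IsPGroup.iff_card.1 P.2
    rw [hk]
    exact Nat.Coprime.pow_right k hNc
  have hle : N ≤ Cfsg.pPrimeCore p G := le_pPrimeCore hN hNc
  intro g
  apply hle
  have hg : g ∈ N ⊔ (P : Subgroup G) := by rw [hcompl2.sup_eq_top]; exact Subgroup.mem_top g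
  obtain ⟨n, hn, u, hu, rfl⟩ := Subgroup.mem_sup_of_normal_left.1 hg
  have h5 : n * u * x * (n * u)⁻¹ * x⁻¹ = n * (x * n⁻¹ * x⁻¹) := by
    have : u * x = x * u := (hcen u hu).symm
    calc n * u * x * (n * u)⁻¹ * x⁻¹ = n * (u * x) * u⁻¹ * n⁻¹ * x⁻¹ := by group
      _ = n * (x * u) * u⁻¹ * n⁻¹ * x⁻¹ := by rw [this]
      _ = n * (x * n⁻¹ * x⁻¹) := by group
  rw [h5]
  exact N.mul_mem hn (hN.conj_mem _ (N.inv_mem hn) x)

end Cfsg.Agent.S2971
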