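import Cfsg.Statements.S2998
import Mathlib
import Cfsg.Agent.S1250
import Cfsg.Agent.Lib.Helper1.Frobenius

set_option autoImplicit false
open Cfsg

namespace Cfsg.Agent.S2998

open Cfsg
open Cfsg.Agent.Lib.Helper1
open scoped Pointwise

/-- Let G be a finite group, p a prime, P a Sylow p-subgroup of G and x ∈ P an element such that N_G(R) ≤ C_G(x) for every nontrivial subgroup R of P. Then P ≤ C_G(x); every G-conjugate of x lying in P equals x (so g ∈ C_G(x) whenever g x g⁻¹ ∈ P); and for every normal subgroup N of G, the image of x in G ⧸ N has the same property with respect to the image of P: the normalizer of every nontrivial subgroup of the image of P centralizes the image of x. -/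
theorem result {G : Type*} [Group G] [Finite G] {p : ℕ} [Fact p.Prime] (P : Sylow p G) (x : G) (hxP : x ∈ (P : Subgroup G)) (hlc : ∀ R : Subgroup G, R ≤ (P : Subgroup G) → R ≠ ⊥ → Subgroup.normalizer (R : Set G) ≤ Subgroup.centralizer ({x} : Set G)) : (P : Subgroup G) ≤ Subgroup.centralizer ({x} : Set G) ∧ (∀ g : G, g * x * g⁻¹ ∈ (P : Subgroup G) → g * x * g⁻¹ = x) ∧ ∀ (N : Subgroup G) [N.Normal], ∀ R : Subgroup (G ⧸ N), R ≤ (P : Subgroup G).map (QuotientGroup.mk' N) → R ≠ ⊥ → Subgroup.normalizer (R : Set (G ⧸ N)) ≤ Subgroup.centralizer ({(QuotientGroup.mk x : G ⧸ N)} : Set (G ⧸ N)) := by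
  have h1 : (P : Subgroup G) ≤ Subgroup.centralizer ({x} : Set G) := by
    by_cases hP : (P : Subgroup G) = ⊥
    · rw [hP]; exact bot_le
    · exact Subgroup.le_normalizer.trans (hlc _ le_rfl hP)
  refine ⟨h1, ?_, ?_⟩
  · intro g hg
    by_cases hx1 : x = 1
    · rw [hx1]; group
    have hPne : (P : Subgroup G) ≠ ⊥ := by
      intro h
      rw [h, Subgroup.mem_bot] at hxP
      exact hx1 hxP
    have hx'1 : g * x * g⁻¹ ≠ 1 := by
      intro h
      apply hx1
      have : x = g⁻¹ * (g * x * g⁻¹) * g := by group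
      rw [this, h]; group
    have h2 := hlc (Subgroup.zpowers (g * x * g⁻¹)) (by rw [Subgroup.zpowers_le]; exact hg) (by
      intro h
      apply hx'1
      have := Subgroup.mem_zpowers (g * x * g⁻¹)
      rwa [h, Subgroup.mem_bot] at this)
    have h3 : MulAut.conj g • (P : Subgroup G) ≤ Subgroup.centralizer ({x} : Set G) := by
      intro w hw
      apply h2
      rw [mem_conj_smul] at hw
      have h4 := Subgroup.mem_centralizer_singleton_iff.mp (h1 hw)
      have h5 : w * (g * x * g⁻¹) = (g * x * g⁻¹) * w := by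
        calc w * (g * x * g⁻¹) = g * ((g⁻¹ * w * g) * x) * g⁻¹ := by group
          _ = g * (x * (g⁻¹ * w * g)) * g⁻¹ := by rw [h4]
          _ = (g * x * g⁻¹) * w := by group
      apply Subgroup.centralizer_le_normalizer
      rw [Subgroup.mem_centralizer_iff]
      intro y hy
      obtain ⟨k, rfl⟩ := Subgroup.mem_zpowers_iff.mp hy
      exact ((Commute.zpow_right (show Commute w (g * x * g⁻¹) from h5) k)).symm
    have hSc := sylow_card_of_le h1 le_top (sylow_card_top P)
    obtain ⟨l, hl, hl2⟩ := sylow_dominance_in _ (P : Subgroup G) (MulAut.conj g • (P : Subgroup G)) h1 h3 hSc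
      (P.2.map (MulAut.conj g).toMonoidHom)
    have h6 : MulAut.conj g • (P : Subgroup G) = MulAut.conj l • (P : Subgroup G) :=
      Subgroup.eq_of_le_of_card_ge hl2 (by rw [card_conj_smul, card_conj_smul])
    have h7 : l⁻¹ * g ∈ Subgroup.normalizer ((P : Subgroup G) : Set G) := by
      rw [Subgroup.mem_normalizer_iff_map_conj_eq]
      show MulAut.conj (l⁻¹ * g) • (P : Subgroup G) = _
      rw [← conj_smul_smul, h6, conj_smul_smul]; simp
    have h8 := hlc _ le_rfl hPne h7
    have h9 := (Subgroup.centralizer ({x} : Set G)).mul_mem hl h8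
    rw [mul_inv_cancel_left, Subgroup.mem_centralizer_singleton_iff] at h9
    rw [h9]; group
  · intro N _ Rb hRb hRb1 nb hnb
    obtain ⟨n, rfl⟩ := QuotientGroup.mk'_surjective N nb
    obtain ⟨R, hR⟩ : ∃ R, R = (P : Subgroup G) ⊓ Rb.comap (QuotientGroup.mk' N) := ⟨_, rfl⟩
    have hRP : R ≤ (P : Subgroup G) := by rw [hR]; exact inf_le_left
    have hRne : R ≠ ⊥ := by
      intro h
      apply hRb1
      rw [Subgroup.eq_bot_iff_forall]
      intro y hy
      obtain ⟨z, hz, rfl⟩ := hRb hy
      have : z ∈ R := by rw [hR]; exact Subgroup.mem_inf.mpr ⟨hz, hy⟩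
      rw [h, Subgroup.mem_bot] at this
      rw [this, map_one]
    have hW : MulAut.conj n • R ≤ N ⊔ (P : Subgroup G) := by
      intro w hw
      rw [mem_conj_smul] at hw
      have h2 : QuotientGroup.mk' N (n⁻¹ * w * n) ∈ Rb := by
        rw [hR] at hw; exact hw.2
      have h3 := (Subgroup.mem_normalizer_iff.mp hnb _).mp h2
      have e : QuotientGroup.mk' N n * QuotientGroup.mk' N (n⁻¹ * w * n) * (QuotientGroup.mk' N n)⁻¹ = QuotientGroup.mk' N w := by
        rw [← map_inv, ← map_mul, ← map_mul]; congr 1; group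
      rw [e] at h3
      have h4 : w ∈ ((P : Subgroup G).map (QuotientGroup.mk' N)).comap (QuotientGroup.mk' N) := hRb h3
      rwa [Subgroup.comap_map_eq, QuotientGroup.ker_mk', sup_comm] at h4
    obtain ⟨m, hm, hm2⟩ := Cfsg.Agent.S1250.conj_into_sylow P N (MulAut.conj n • R)
      ((P.2.to_le hRP).map (MulAut.conj n).toMonoidHom) hW
    have hm1 : QuotientGroup.mk' N m = 1 := (QuotientGroup.eq_one_iff m).mpr hm
    have hle : MulAut.conj (m⁻¹ * n) • R ≤ R := by
      intro w hw
      rw [mem_conj_smul] at hw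
      have e0 : (m⁻¹ * n)⁻¹ * w * (m⁻¹ * n) = n⁻¹ * (m * w * m⁻¹) * n := by group
      rw [e0] at hw
      have h2 : m * w * m⁻¹ ∈ MulAut.conj n • R := by rw [mem_conj_smul]; exact hw
      have h3 := hm2 _ h2
      have e1 : m⁻¹ * (m * w * m⁻¹) * m = w := by group
      rw [e1] at h3
      rw [hR]
      refine Subgroup.mem_inf.mpr ⟨h3, ?_⟩
      rw [Subgroup.mem_comap]
      have h4 : QuotientGroup.mk' N (n⁻¹ * (m * w * m⁻¹) * n) ∈ Rb := by
        rw [hR] at hw; exact hw.2
      have h5 := (Subgroup.mem_normalizer_iff.mp hnb _).mp h4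
      have e : QuotientGroup.mk' N n * QuotientGroup.mk' N (n⁻¹ * (m * w * m⁻¹) * n) * (QuotientGroup.mk' N n)⁻¹ = QuotientGroup.mk' N w := by
        simp only [map_mul, map_inv, hm1]; group
      rwa [e] at h5
    have heq : MulAut.conj (m⁻¹ * n) • R = R := Subgroup.eq_of_le_of_card_ge hle (by rw [card_conj_smul])
    have hmem : m⁻¹ * n ∈ Subgroup.normalizer (R : Set G) := by
      rw [Subgroup.mem_normalizer_iff_map_conj_eq]; exact heq
    have hc := Subgroup.mem_centralizer_singleton_iff.mp (hlc R hRP hRne hmem)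
    rw [Subgroup.mem_centralizer_singleton_iff]
    have hc' := congrArg (QuotientGroup.mk' N) hc
    simp only [map_mul, map_inv, hm1, inv_one, one_mul] at hc'
    exact hc'

end Cfsg.Agent.S2998
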