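import Mathlib
import Cfsg.Statements.S3027
import Cfsg.Agent.S0045

set_option autoImplicit false
open Cfsg
open scoped Pointwise commutatorElement

namespace Cfsg.Agent.S3027

open Cfsg.Agent.Lib.Helper6.Basic

variable {G : Type*} [Group G]

theorem key (D : Subgroup G) [D.Normal] (hperf : ⁅(⊤ : Subgroup G), (⊤ : Subgroup G)⁆ ⊔ D = ⊤)
    {B1 B2 : Subgroup G} (h12 : B1 ≤ Subgroup.normalizer (B2 : Set G))
    (h21 : B2 ≤ Subgroup.normalizer (B1 : Set G)) (h1 : B1 ⊔ D = ⊤) (h2 : B2 ⊔ D = ⊤) :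
    (B1 ⊓ B2) ⊔ D = ⊤ := by
  rw [eq_top_iff, ← hperf]
  refine sup_le ?_ le_sup_right
  rw [Subgroup.commutator_le]
  intro a _ b _
  obtain ⟨u1, hu1, k1, hk1, rfl⟩ :=
    Subgroup.mem_sup_of_normal_right.1 (show a ∈ B1 ⊔ D by rw [h1]; trivial)
  obtain ⟨u2, hu2, k2, hk2, rfl⟩ :=
    Subgroup.mem_sup_of_normal_right.1 (show b ∈ B2 ⊔ D by rw [h2]; trivial)
  have hmem : ⁅u1, u2⁆⁻¹ * ⁅u1 * k1, u2 * k2⁆ ∈ D := by
    rw [← QuotientGroup.eq]
    have e1 : QuotientGroup.mk' D (u1 * k1) = QuotientGroup.mk' D u1 := by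
      have : QuotientGroup.mk' D k1 = 1 := (QuotientGroup.eq_one_iff k1).2 hk1
      rw [map_mul, this, mul_one]
    have e2 : QuotientGroup.mk' D (u2 * k2) = QuotientGroup.mk' D u2 := by
      have : QuotientGroup.mk' D k2 = 1 := (QuotientGroup.eq_one_iff k2).2 hk2
      rw [map_mul, this, mul_one]
    show QuotientGroup.mk' D ⁅u1, u2⁆ = QuotientGroup.mk' D ⁅u1 * k1, u2 * k2⁆
    rw [map_commutatorElement, map_commutatorElement, e1, e2]
  have e : ⁅u1 * k1, u2 * k2⁆ = ⁅u1, u2⁆ * (⁅u1, u2⁆⁻¹ * ⁅u1 * k1, u2 * k2⁆) := by group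
  rw [e]
  refine Subgroup.mul_mem _ (Subgroup.mem_sup_left ⟨?_, ?_⟩) (Subgroup.mem_sup_right hmem)
  · have h3 : u2 * u1⁻¹ * u2⁻¹ ∈ B1 :=
      (Subgroup.mem_normalizer_iff.1 (h21 hu2) _).1 (B1.inv_mem hu1)
    have e3 : ⁅u1, u2⁆ = u1 * (u2 * u1⁻¹ * u2⁻¹) := by
      rw [commutatorElement_def]; group
    show ⁅u1, u2⁆ ∈ B1
    rw [e3]
    exact B1.mul_mem hu1 h3
  · have h3 : u1 * u2 * u1⁻¹ ∈ B2 := (Subgroup.mem_normalizer_iff.1 (h12 hu1) _).1 hu2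
    show ⁅u1, u2⁆ ∈ B2
    rw [commutatorElement_def]
    exact B2.mul_mem h3 (B2.inv_mem hu2)

theorem inter (D : Subgroup G) [D.Normal]
    (hperf : ⁅(⊤ : Subgroup G), (⊤ : Subgroup G)⁆ ⊔ D = ⊤) :
    ∀ X : Subgroup G, X.IsSubnormal → ∀ Y : Subgroup G, Y.IsSubnormal → X ⊔ D = ⊤ → Y ⊔ D = ⊤ →
      (X ⊓ Y) ⊔ D = ⊤ := by
  intro X hX
  induction hX with
  | top => intro Y _ _ hY; rwa [top_inf_eq]
  | step X' X hle hXsn hN ihX =>
    intro Y hY
    induction hY with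
    | top => intro h _; rwa [inf_top_eq]
    | step Y' Y hle' hYsn hN' ihY =>
      intro h1 h2
      have hXD : X ⊔ D = ⊤ := top_le_iff.1 (h1 ▸ sup_le_sup_right hle D)
      have hYD : Y ⊔ D = ⊤ := top_le_iff.1 (h2 ▸ sup_le_sup_right hle' D)
      have hB1 := ihY h1 hYD
      have hB2 := ihX Y' (Subgroup.IsSubnormal.step Y' Y hle' hYsn hN') hXD h2
      have hXn : X ≤ Subgroup.normalizer (X' : Set G) :=
        (Subgroup.normal_subgroupOf_iff_le_normalizer hle).1 hN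
      have hYn : Y ≤ Subgroup.normalizer (Y' : Set G) :=
        (Subgroup.normal_subgroupOf_iff_le_normalizer hle').1 hN'
      have := key D hperf (B1 := X' ⊓ Y) (B2 := X ⊓ Y')
        ((le_inf ((inf_le_left.trans hle).trans Subgroup.le_normalizer)
          (inf_le_right.trans hYn)).trans Subgroup.inf_normalizer_le_normalizer_inf)
        ((le_inf (inf_le_left.trans hXn)
          ((inf_le_right.trans hle').trans Subgroup.le_normalizer)).trans
            Subgroup.inf_normalizer_le_normalizer_inf) hB1 hB2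
      have e : (X' ⊓ Y) ⊓ (X ⊓ Y') = X' ⊓ Y' := by
        apply le_antisymm
        · exact le_inf (inf_le_left.trans inf_le_left) (inf_le_right.trans inf_le_right)
        · exact le_inf (le_inf inf_le_left (inf_le_right.trans hle'))
            (le_inf (inf_le_left.trans hle) inf_le_right)
      rwa [e] at this

theorem result {G : Type*} [Group G] [Finite G] (D : Subgroup G) [D.Normal] (hperf : ⁅(⊤ : Subgroup G), (⊤ : Subgroup G)⁆ ⊔ D = ⊤) :
    ∃ B : Subgroup G, B.Normal ∧ B ⊔ D = ⊤ ∧ ∀ B' : Subgroup G, B'.IsSubnormal → B' ⊔ D = ⊤ → B ≤ B' := by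
  obtain ⟨B, hB, hmin⟩ := (Set.toFinite {B : Subgroup G | B.IsSubnormal ∧ B ⊔ D = ⊤}).exists_minimal
    ⟨⊤, Subgroup.IsSubnormal.top, top_sup_eq _⟩
  have hleast : ∀ B' : Subgroup G, B'.IsSubnormal → B' ⊔ D = ⊤ → B ≤ B' := by
    intro B' h1 h2
    have hmem : B ⊓ B' ∈ {B : Subgroup G | B.IsSubnormal ∧ B ⊔ D = ⊤} :=
      ⟨hB.1.inf h1, inter D hperf B hB.1 B' h1 hB.2 h2⟩
    exact (hmin hmem inf_le_left).trans inf_le_right
  refine ⟨B, ?_, hB.2, hleast⟩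
  constructor
  intro b hb g
  have h1 : (MulAut.conj g⁻¹ • B).IsSubnormal := hB.1.smul _
  have h2 : (MulAut.conj g⁻¹ • B) ⊔ D = ⊤ := by
    have h3 : cj g⁻¹ (B ⊔ D) = cj g⁻¹ B ⊔ cj g⁻¹ D := Subgroup.map_sup _ _ _
    rw [S0045.cj_normal D, hB.2, S0045.cj_normal ⊤] at h3
    exact h3.symm
  have h4 := hleast _ h1 h2 hb
  have h5 := mem_cj.1 (show b ∈ cj g⁻¹ B from h4)
  simpa using h5

end Cfsg.Agent.S3027
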