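import Mathlib
import Cfsg.Statements.S3057
import Cfsg.Agent.S3056
import Cfsg.Agent.S0045
import Cfsg.Agent.S3744
import Cfsg.Agent.Lib.Helper3.UniqP3
import Cfsg.Agent.Lib.Helper9.PSolv
import Cfsg.Agent.Lib.Helper1.Cores

set_option autoImplicit false
open Cfsg
open scoped Pointwise

namespace Cfsg.Agent.S3057

open Cfsg.Agent.Lib.Helper6.Basic Cfsg.Agent.Lib.Helper1
open Cfsg.Agent.Lib.Helper9.StrongEmb Cfsg.Agent.Lib.Helper9.SylowIn Cfsg.Agent.SylGraph

universe u

theorem quat_U (n : ℕ) (x y : QuaternionGroup (2 ^ n)) (hx : orderOf x = 2) (hy : orderOf y = 2) :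
    x ∈ Subgroup.zpowers y := by
  have key : ∀ w : QuaternionGroup (2 ^ n), orderOf w = 2 →
      w ∈ Subgroup.zpowers (QuaternionGroup.a 1 : QuaternionGroup (2 ^ n)) := by
    intro w hw
    cases w with
    | a i =>
      refine ⟨(i.val : ℤ), ?_⟩
      simp only [zpow_natCast]
      rw [QuaternionGroup.a_one_pow, ZMod.natCast_zmod_val]
    | xa i => rw [QuaternionGroup.orderOf_xa] at hw; omega
  exact Cyc.mem_zpowers_of_orderOf_dvd' _ inferInstance (key x hx) (key y hy) (by rw [hx, hy])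

section
variable {G : Type u} [Group G] [Finite G] {p : ℕ} [hp : Fact p.Prime]

theorem U_of (P : Subgroup G)
    (h : IsCyclic P ∨ (p = 2 ∧ ∃ n : ℕ, Nonempty (P ≃* QuaternionGroup (2 ^ n)))) :
    ∀ x ∈ P, ∀ y ∈ P, orderOf x = p → orderOf y = p → x ∈ Subgroup.zpowers y := by
  rcases h with hc | ⟨rfl, n, ⟨e⟩⟩
  · exact fun x hx y hy h1 h2 => Cyc.mem_zpowers_of_orderOf_dvd' P hc hx hy (by rw [h1, h2])
  · intro x hx y hy h1 h2
    obtain ⟨k, hk⟩ := quat_U n (e ⟨x, hx⟩) (e ⟨y, hy⟩)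
      (by rw [MulEquiv.orderOf_eq, Subgroup.orderOf_mk]; exact h1)
      (by rw [MulEquiv.orderOf_eq, Subgroup.orderOf_mk]; exact h2)
    refine ⟨k, ?_⟩
    have h3 : e ((⟨y, hy⟩ : P) ^ k) = e ⟨x, hx⟩ := by rw [map_zpow]; exact hk
    have h4 := e.injective h3
    have h5 := congrArg Subtype.val h4
    simpa using h5

theorem exists_mem_inf (S : Sylow p G) (L : Subgroup G) [hL : L.Normal] (hd : p ∣ Nat.card L) :
    ∃ a ∈ (S : Subgroup G) ⊓ L, orderOf a = p := by
  obtain ⟨x, hx⟩ := exists_prime_orderOf_dvd_card' (G := L) p hd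
  have hxo : orderOf (x : G) = p := by rw [Subgroup.orderOf_coe]; exact hx
  have hxp : IsPGroup p (Subgroup.zpowers (x : G)) := isPGroup_zpowers hxo
  obtain ⟨Q, hQ⟩ := hxp.exists_le_sylow
  obtain ⟨g, rfl⟩ := MulAction.exists_smul_eq G S Q
  have h2 : g⁻¹ * x * g ∈ (S : Subgroup G) :=
    mem_cj.1 (show (x : G) ∈ cj g (S : Subgroup G) from hQ (Subgroup.mem_zpowers _))
  refine ⟨g⁻¹ * x * g, ⟨h2, ?_⟩, ?_⟩
  · have := hL.conj_mem x x.2 g⁻¹
    simpa using this
  · have := orderOf_conj g⁻¹ (x : G)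
    rw [inv_inv] at this
    rw [this, hxo]

theorem frattini_H {H : Subgroup G} (hC : CondC p H) (S : Sylow p G) (hSH : (S : Subgroup G) ≤ H)
    (L : Subgroup G) [L.Normal] (hL : p ∣ Nat.card L) :
    ∃ Q : Subgroup G, Q ≤ H ∧ Q ≤ L ∧ ¬ p ∣ Q.relIndex L ∧ H ⊔ L = ⊤ := by
  obtain ⟨a, ha, hao⟩ := exists_mem_inf S L hL
  have hD : p ∣ Nat.card ↥(H ⊓ L) := by
    have h1 : Subgroup.zpowers a ≤ H ⊓ L := Subgroup.zpowers_le.2 ⟨hSH ha.1, ha.2⟩
    have h2 := Subgroup.card_dvd_of_le h1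
    rwa [Nat.card_zpowers, hao] at h2
  obtain ⟨P1⟩ : Nonempty (Sylow p L) := inferInstance
  obtain ⟨d, hd, hle⟩ := hC.exists_conj_le hD (P1.isPGroup'.map L.subtype)
    (Subgroup.map_subtype_le _)
  have e : (((⟨d, hd⟩ : L) • P1 : Sylow p L) : Subgroup L).map L.subtype
      = cj d ((P1 : Subgroup L).map L.subtype) := by
    have h0 : (((⟨d, hd⟩ : L) • P1 : Sylow p L) : Subgroup L)
        = cj (⟨d, hd⟩ : L) (P1 : Subgroup L) := rfl
    rw [h0, S0045.map_cj]
    rfl
  have hle' : (((⟨d, hd⟩ : L) • P1 : Sylow p L) : Subgroup L).map L.subtype ≤ H := by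
    rw [e]; exact hle
  generalize ((⟨d, hd⟩ : L) • P1 : Sylow p L) = P2 at hle'
  refine ⟨(P2 : Subgroup L).map L.subtype, hle', Subgroup.map_subtype_le _, ?_, ?_⟩
  · rw [Subgroup.relIndex, show ((P2 : Subgroup L).map L.subtype).subgroupOf L = P2 from
      Subgroup.comap_map_eq_self_of_injective L.subtype_injective _]
    exact P2.not_dvd_index
  · have hfr := Sylow.normalizer_sup_eq_top P2
    have hne : (P2 : Subgroup L).map L.subtype ≠ ⊥ := by
      intro hbt
      rw [Subgroup.map_eq_bot_iff_of_injective _ L.subtype_injective] at hbt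
      exact P2.ne_bot_of_dvd_card hL hbt
    have h3 := hC.2 _ hle' (P2.isPGroup'.map _) hne
    rw [eq_top_iff, ← hfr]
    exact sup_le_sup_right h3 L

theorem forward (hsol : Cfsg.IsPSolvable p G) {H : Subgroup G} (hHT : H ≠ ⊤) (hC : CondC p H)
    (S : Sylow p G) (hSH : (S : Subgroup G) ≤ H) (w z : G) (hwS : w ∈ (S : Subgroup G))
    (hzS : z ∈ (S : Subgroup G)) (hwo : orderOf w = p) (hzo : orderOf z = p)
    (hwz : w * z = z * w) (hnot : w ∉ Subgroup.zpowers z) : False := by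
  have hpp : p.Prime := hp.out
  haveI hEc : IsMulCommutative (Subgroup.closure ({w, z} : Set G)) :=
    Subgroup.isMulCommutative_closure (by
      rintro x (rfl | rfl) y (rfl | rfl)
      · rfl
      · exact hwz
      · exact hwz.symm
      · rfl)
  have hES : Subgroup.closure ({w, z} : Set G) ≤ (S : Subgroup G) := by
    rw [Subgroup.closure_le]
    rintro x (rfl | rfl)
    · exact hwS
    · exact hzS
  have hnc : ¬ IsCyclic (Subgroup.closure ({w, z} : Set G)) := by
    intro hcyc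
    exact hnot (Cyc.mem_zpowers_of_orderOf_dvd' _ hcyc
      (Subgroup.subset_closure (show w ∈ ({w, z} : Set G) from Or.inl rfl))
      (Subgroup.subset_closure (show z ∈ ({w, z} : Set G) from Or.inr rfl))
      (by rw [hwo, hzo]))
  obtain ⟨j, hj⟩ := IsPGroup.iff_card.1 (S.2.to_le hES)
  haveI := pPrimeCore_normal (G := G) p
  have hgen := S0058.result (Subgroup.closure ({w, z} : Set G)) (Cfsg.pPrimeCore p G) hnc
    (by rw [Subgroup.normalizer_eq_top]; exact le_top)
    (by rw [hj]; exact Nat.Coprime.pow_left _ (pPrimeCore_coprime p).symm)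
  have hOH : Cfsg.pPrimeCore p G ≤ H := by
    rw [← hgen]
    apply iSup₂_le
    rintro e ⟨heE, he1⟩
    exact inf_le_right.trans (S3058.centralizer_le hC (hSH (hES heE)) he1
      (S.2.to_le (Subgroup.zpowers_le.2 (hES heE))))
  apply hHT
  rw [eq_top_iff]
  refine Cfsg.Agent.Lib.Helper9.PSolv.ascent hsol (fun M => M ≤ H) bot_le ?_
  intro N M hN hM hNM hfac hNH
  by_cases hpM : p ∣ Nat.card M
  · by_cases hpN : p ∣ Nat.card N
    · obtain ⟨_, _, _, _, htop⟩ := frattini_H hC S hSH N hpN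
      rw [sup_eq_left.2 hNH] at htop
      rw [htop]; exact le_top
    · obtain ⟨Q, hQH, hQM, hQrel, _⟩ := frattini_H hC S hSH M hpM
      rcases hfac with ⟨m, hm⟩ | hcop
      · have d1 : (N ⊔ Q).relIndex M ∣ p ^ m := hm ▸ Subgroup.relIndex_dvd_of_le_left M le_sup_left
        have d2 : (N ⊔ Q).relIndex M ∣ Q.relIndex M := Subgroup.relIndex_dvd_of_le_left M le_sup_right
        have h1 : (N ⊔ Q).relIndex M = 1 :=
          Nat.Coprime.eq_one_of_dvd (Nat.Coprime.coprime_dvd_left d2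
            (Nat.Coprime.pow_right m ((Nat.Prime.coprime_iff_not_dvd hpp).2 hQrel).symm)) d1
        exact (Subgroup.relIndex_eq_one.1 h1).trans (sup_le hNH hQH)
      · exfalso
        have h1 := S3744.card_mul_relIndex hNM
        rw [← h1] at hpM
        rcases (Nat.Prime.dvd_mul hpp).1 hpM with h | h
        · exact hpN h
        · exact (Nat.Prime.coprime_iff_not_dvd hpp).1 hcop.symm h
  · exact (le_pPrimeCore hM ((Nat.Prime.coprime_iff_not_dvd hpp).2 hpM).symm).trans hOH

end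

theorem result {G : Type*} [Group G] [Finite G]
    (p : ℕ) [Fact p.Prime] (hdiv : p ∣ Nat.card G) (hsol : Cfsg.IsPSolvable p G) (P : Sylow p G) :
    ¬ Cfsg.IsSylowChainConnected p G ↔
      Cfsg.pCore p G = ⊥ ∧ (IsCyclic ↥P ∨ (p = 2 ∧ ∃ n : ℕ, Nonempty (↥P ≃* QuaternionGroup (2 ^ n)))) := by
  have hpp : p.Prime := Fact.out
  constructor
  · intro hnc
    obtain ⟨H, hHT, hC⟩ := exists_condC hnc
    obtain ⟨S, hSH⟩ := S3058.exists_sylow_le hC
    have hSne : (S : Subgroup G) ≠ ⊥ := S.ne_bot_of_dvd_card hdiv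
    have hOp : Cfsg.pCore p G = ⊥ := by
      by_contra hne
      haveI := pCore_normal (G := G) p
      obtain ⟨Q, hQ⟩ := (pCore_isPGroup (G := G) p).exists_le_sylow
      obtain ⟨g, rfl⟩ := MulAction.exists_smul_eq G S Q
      have h1 : Cfsg.pCore p G ≤ S := by
        have h0 : cj g⁻¹ (Cfsg.pCore p G) ≤ cj g⁻¹ (cj g (S : Subgroup G)) := cj_mono hQ
        rwa [cj_inv_cj, S0045.cj_normal] at h0
      have h2 := hC.2 _ (h1.trans hSH) (pCore_isPGroup p) hne
      rw [Subgroup.normalizer_eq_top] at h2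
      exact hHT (top_le_iff.1 h2)
    refine ⟨hOp, ?_⟩
    suffices hS : IsCyclic ↥S ∨ (p = 2 ∧ ∃ n : ℕ, Nonempty (↥S ≃* QuaternionGroup (2 ^ n))) by
      have e : S ≃* P := Sylow.equiv S P
      rcases hS with h | ⟨h2, n, ⟨f⟩⟩
      · left; exact isCyclic_of_surjective e e.surjective
      · right; exact ⟨h2, n, ⟨e.symm.trans f⟩⟩
    apply Cfsg.Agent.Lib.Helper3.UniqP.main p S.2
    intro X Y hX hY
    by_contra hXY
    obtain ⟨z, hzS, hzo, hzc⟩ := exists_central_order_p S.2 hSne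
    obtain ⟨x, hxo, rfl⟩ := Cfsg.Agent.Lib.Helper3.UniqP.eq_zpowers_of_card_prime X hX
    obtain ⟨y, hyo, rfl⟩ := Cfsg.Agent.Lib.Helper3.UniqP.eq_zpowers_of_card_prime Y hY
    have hex : ∃ w : G, w ∈ (S : Subgroup G) ∧ orderOf w = p ∧ w ∉ Subgroup.zpowers z := by
      by_contra hcon
      push Not at hcon
      apply hXY
      have key : ∀ w : S, orderOf w = p →
          Subgroup.zpowers w = Subgroup.zpowers (⟨z, hzS⟩ : S) := by
        intro w hw
        have hmem := hcon w w.2 (by rw [Subgroup.orderOf_coe]; exact hw)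
        apply Subgroup.eq_of_le_of_card_ge
        · rw [Subgroup.zpowers_le]
          obtain ⟨k, hk⟩ := hmem
          exact ⟨k, Subtype.ext (by simpa using hk)⟩
        · rw [Nat.card_zpowers, Nat.card_zpowers, hw, Subgroup.orderOf_mk, hzo]
      rw [key x hxo, key y hyo]
    obtain ⟨w, hwS, hwo, hwz⟩ := hex
    exact forward hsol hHT hC S hSH w z hwS hzS hwo hzo (hzc w hwS) hwz
  · rintro ⟨hOp, hP⟩
    have hU := U_of (p := p) (P : Subgroup G) hP
    have hPne : (P : Subgroup G) ≠ ⊥ := P.ne_bot_of_dvd_card hdiv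
    obtain ⟨z, hzP, hzo⟩ := exists_order_p (dvd_card_of_ne_bot P.2 hPne)
    have hconjZ : ∀ g : G, g * z * g⁻¹ ∈ Subgroup.zpowers z →
        g ∈ Subgroup.normalizer ((Subgroup.zpowers z : Subgroup G) : Set G) := by
      intro g hg
      apply S4039.mem_normalizer_of_conj_mem
      rintro _ ⟨i, rfl⟩
      have e : g * z ^ i * g⁻¹ = (g * z * g⁻¹) ^ i := by rw [conj_zpow]
      show g * z ^ i * g⁻¹ ∈ _
      rw [e]
      exact Subgroup.zpow_mem _ hg i
    have hPH : (P : Subgroup G) ≤ Subgroup.normalizer ((Subgroup.zpowers z : Subgroup G) : Set G) := by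
      intro s hs
      apply hconjZ
      exact hU _ (Subgroup.mul_mem _ (Subgroup.mul_mem _ hs hzP) (Subgroup.inv_mem _ hs)) z hzP
        (by rw [orderOf_conj, hzo]) hzo
    have hz1 : z ≠ 1 := by
      rintro rfl
      rw [orderOf_one] at hzo
      exact hpp.one_lt.ne hzo
    apply S3056.not_connected (H := Subgroup.normalizer ((Subgroup.zpowers z : Subgroup G) : Set G))
    · intro htop
      have hn : (Subgroup.zpowers z).Normal := Subgroup.normalizer_eq_top_iff.1 htop
      have := le_pCore hn (isPGroup_zpowers hzo)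
      rw [hOp, le_bot_iff, Subgroup.zpowers_eq_bot] at this
      exact hz1 this
    · refine ⟨(dvd_card_of_ne_bot P.2 hPne).trans (Subgroup.card_dvd_of_le hPH), ?_⟩
      intro g hg hdvd
      obtain ⟨x, hx, hxo⟩ := exists_order_p hdvd
      have hS : IsSylowIn p (P : Subgroup G)
          (Subgroup.normalizer ((Subgroup.zpowers z : Subgroup G) : Set G)) :=
        ⟨hPH, P.2, fun R' hR' hle _ => P.3 hR' hle⟩
      have C1 : ∀ y ∈ Subgroup.normalizer ((Subgroup.zpowers z : Subgroup G) : Set G),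
          orderOf y = p → y ∈ Subgroup.zpowers z := by
        intro y hy hyo
        obtain ⟨d, hd, hdy⟩ := hS.exists_conj_mem hy hyo
        have h1 := hU _ hdy z hzP (by rw [orderOf_conj, hyo]) hzo
        have h2 := (Subgroup.mem_normalizer_iff.1 hd y).2 h1
        exact h2
      have hxZ := C1 x hx.1 hxo
      have hx2 : g⁻¹ * x * g ∈ Subgroup.normalizer ((Subgroup.zpowers z : Subgroup G) : Set G) :=
        mem_cj.1 hx.2
      have hxg := C1 _ hx2 (by
        have := orderOf_conj g⁻¹ x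
        rw [inv_inv] at this
        rw [this, hxo])
      have hzx : z ∈ Subgroup.zpowers x :=
        hU z hzP x ((Subgroup.zpowers_le.2 hzP) hxZ) hzo hxo
      apply hg
      have h3 : g⁻¹ ∈ Subgroup.normalizer ((Subgroup.zpowers z : Subgroup G) : Set G) := by
        apply hconjZ
        obtain ⟨i, hi⟩ := hzx
        have hi' : x ^ i = z := hi
        have e : g⁻¹ * x ^ i * g = (g⁻¹ * x * g) ^ i := by
          have := conj_zpow (a := g⁻¹) (b := x) (i := i)
          rw [inv_inv] at this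
          exact this.symm
        have e2 : g⁻¹ * z * g⁻¹⁻¹ = (g⁻¹ * x * g) ^ i := by
          rw [inv_inv, ← hi']; exact e
        rw [e2]
        exact Subgroup.zpow_mem _ hxg i
      have := Subgroup.inv_mem _ h3
      rwa [inv_inv] at this

end Cfsg.Agent.S3057
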