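import Cfsg.Statements.S3063
import Cfsg.Agent.Lib.Helper3.DStar
open scoped commutatorElement
open Cfsg.Agent.Lib.Helper3.PLocal Cfsg.Agent.Lib.Helper1

set_option autoImplicit false
open Cfsg

namespace Cfsg.Agent.S3063

theorem card_formula {S : Type*} [Group S] [Finite S] {K N : Subgroup S}
    (h : ∀ k ∈ K, ∀ n ∈ N, k * n = n * k) :
    Nat.card (K ⊔ N : Subgroup S) * Nat.card (K ⊓ N : Subgroup S) = Nat.card K * Nat.card N := by
  apply card_sup_mul_card_inf'
  refine le_trans ?_ (Subgroup.centralizer_le_normalizer _)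
  intro k hk
  rw [Subgroup.mem_centralizer_iff]
  intro n hn
  exact (h k hk n hn).symm

/-- the key step: maximality of `|A₁ ∩ S'|` forces `A₁ = (A₁ ∩ S')(A₁ ∩ A₁^s)` -/
theorem key_step {S : Type*} [Group S] [Finite S]
    (hmeta : IsMulCommutative ↥(commutator S)) (NC : Subgroup S) [hNC : NC.Normal]
    (A₁ : Subgroup S) (hA₁ : A₁ ∈ Cfsg.maxAbelianSubgroups S) (hA₁N : A₁ ≤ NC)
    (hmax : ∀ C ∈ Cfsg.maxAbelianSubgroups S, C ≤ NC →
      Nat.card (C ⊓ commutator S : Subgroup S) ≤ Nat.card (A₁ ⊓ commutator S : Subgroup S))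
    (s : S) (hs : s ∈ Subgroup.normalizer
      ((Subgroup.normalizer (A₁ : Set S) : Subgroup S) : Set S)) :
    A₁ ≤ (A₁ ⊓ commutator S) ⊔ (A₁ ⊓ rA' A₁ s) := by
  have hAc := ab_iff.1 hA₁.1
  have hMc := ab_iff.1 hmeta
  have hA'c : ∀ x ∈ rA' A₁ s, ∀ y ∈ rA' A₁ s, x * y = y * x := by
    intro x hx y hy
    obtain ⟨a, ha, rfl⟩ := mem_rA'.1 hx
    obtain ⟨a₁, ha₁, rfl⟩ := mem_rA'.1 hy
    calc s⁻¹ * a * s * (s⁻¹ * a₁ * s) = s⁻¹ * (a * a₁) * s := by group
      _ = s⁻¹ * (a₁ * a) * s := by rw [hAc a ha a₁ ha₁]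
      _ = s⁻¹ * a₁ * s * (s⁻¹ * a * s) := by group
  have hA'N : rA' A₁ s ≤ Subgroup.normalizer (A₁ : Set S) := by
    intro x hx
    obtain ⟨a, ha, rfl⟩ := mem_rA'.1 hx
    exact conj_mem_of_normalizer' hs (Subgroup.le_normalizer ha)
  have hNA' : Subgroup.normalizer (A₁ : Set S) ≤
      Subgroup.normalizer ((rA' A₁ s : Subgroup S) : Set S) := by
    intro g hg
    apply Subgroup.mem_normalizer_fintype
    intro x hx
    obtain ⟨a, ha, rfl⟩ := mem_rA'.1 hx
    have h1 : s * g * s⁻¹ ∈ Subgroup.normalizer (A₁ : Set S) := conj_mem_of_normalizer hs hg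
    have h2 : (s * g * s⁻¹) * a * (s * g * s⁻¹)⁻¹ ∈ A₁ := conj_mem_of_normalizer h1 ha
    have e : g * (s⁻¹ * a * s) * g⁻¹ = s⁻¹ * ((s * g * s⁻¹) * a * (s * g * s⁻¹)⁻¹) * s := by group
    rw [e]
    exact cj_mem_rA' h2
  have hXM : rX A₁ s ≤ commutator S := by
    rw [Subgroup.closure_le]
    rintro g ⟨a, ha, rfl⟩
    have : a * s⁻¹ * a⁻¹ * s = ⁅a, s⁻¹⁆ := by rw [commutatorElement_def, inv_inv]
    rw [this]
    exact Subgroup.commutator_mem_commutator (Subgroup.mem_top _) (Subgroup.mem_top _)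
  have hXH : rX A₁ s ≤ A₁ ⊔ rA' A₁ s := by
    rw [Subgroup.closure_le]
    rintro g ⟨a, ha, rfl⟩
    have : a * s⁻¹ * a⁻¹ * s = a * (s⁻¹ * a⁻¹ * s) := by group
    rw [this]
    exact Subgroup.mul_mem _ ((le_sup_left : A₁ ≤ A₁ ⊔ rA' A₁ s) ha)
      ((le_sup_right : rA' A₁ s ≤ A₁ ⊔ rA' A₁ s) (cj_mem_rA' (A₁.inv_mem ha)))
  have hZH : ∀ z ∈ rZ A₁ s, ∀ g ∈ A₁ ⊔ rA' A₁ s, z * g = g * z := by
    intro z hz g hg
    have h1 : A₁ ⊔ rA' A₁ s ≤ Subgroup.centralizer ({z} : Set S) := by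
      apply sup_le
      · intro a ha
        exact Subgroup.mem_centralizer_singleton_iff.2 (hAc a ha z hz.1)
      · intro a ha
        exact Subgroup.mem_centralizer_singleton_iff.2 (hA'c a ha z hz.2)
    exact (Subgroup.mem_centralizer_singleton_iff.1 (h1 hg)).symm
  have hZX : ∀ z ∈ rZ A₁ s, ∀ x ∈ rX A₁ s, z * x = x * z := fun z hz x hx => hZH z hz x (hXH hx)
  have hXc : ∀ x ∈ rX A₁ s, ∀ y ∈ rX A₁ s, x * y = y * x := fun x hx y hy =>
    hMc x (hXM hx) y (hXM hy)
  have hstarc : IsMulCommutative (rStar A₁ s) := by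
    have e : rStar A₁ s = Subgroup.closure ((rZ A₁ s : Set S) ∪ (rX A₁ s : Set S)) := by
      rw [Subgroup.closure_union, Subgroup.closure_eq, Subgroup.closure_eq]
    rw [e]
    apply Subgroup.isMulCommutative_closure
    intro x hx y hy
    rcases hx with hx | hx <;> rcases hy with hy | hy
    · exact hAc x hx.1 y hy.1
    · exact hZX x hx y hy
    · exact (hZX y hy x hx).symm
    · exact hXc x hx y hy
  have hstarH : rStar A₁ s ≤ A₁ ⊔ rA' A₁ s := sup_le (inf_le_left.trans le_sup_left) hXH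
  have hsup : rStar A₁ s ⊔ rA' A₁ s = A₁ ⊔ rA' A₁ s := by
    apply le_antisymm
    · exact sup_le hstarH le_sup_right
    · refine sup_le ?_ le_sup_right
      intro a ha
      have e : a = (a * s⁻¹ * a⁻¹ * s) * (s⁻¹ * a * s) := by group
      rw [e]
      exact Subgroup.mul_mem _
        ((le_sup_left : rStar A₁ s ≤ _) ((le_sup_right : rX A₁ s ≤ rStar A₁ s)
          (Subgroup.subset_closure ⟨a, ha, rfl⟩)))
        ((le_sup_right : rA' A₁ s ≤ rStar A₁ s ⊔ rA' A₁ s) (cj_mem_rA' ha))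
  have hHN : A₁ ⊔ rA' A₁ s ≤ Subgroup.normalizer (A₁ : Set S) := sup_le Subgroup.le_normalizer hA'N
  have h1 := card_sup_mul_card_inf' (rStar A₁ s) (rA' A₁ s) ((hstarH.trans hHN).trans hNA')
  have h2 := card_sup_mul_card_inf' A₁ (rA' A₁ s) (Subgroup.le_normalizer.trans hNA')
  rw [hsup] at h1
  have h3 : Nat.card (A₁ ⊓ rA' A₁ s : Subgroup S) ≤
      Nat.card (rStar A₁ s ⊓ rA' A₁ s : Subgroup S) :=
    Subgroup.card_le_of_le (le_inf le_sup_left inf_le_right)
  have h4 : Nat.card A₁ * Nat.card (rA' A₁ s) ≤ Nat.card (rStar A₁ s) * Nat.card (rA' A₁ s) := by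
    rw [← h1, ← h2]
    exact Nat.mul_le_mul_left _ h3
  have h5 : Nat.card A₁ ≤ Nat.card (rStar A₁ s) := Nat.le_of_mul_le_mul_right h4 Nat.card_pos
  have hstar : rStar A₁ s ∈ Cfsg.maxAbelianSubgroups S :=
    ⟨hstarc, fun C hC => (hA₁.2 C hC).trans h5⟩
  have hcard : Nat.card (rStar A₁ s) = Nat.card A₁ := le_antisymm (hA₁.2 _ hstarc) h5
  have hA'NC : rA' A₁ s ≤ NC := by
    intro x hx
    obtain ⟨a, ha, rfl⟩ := mem_rA'.1 hx
    have := hNC.conj_mem a (hA₁N ha) s⁻¹
    rwa [inv_inv] at this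
  have h6 := hmax _ hstar (hstarH.trans (sup_le hA₁N hA'NC))
  -- counting
  have c1 := card_formula hZX
  have c2 := card_formula (K := rZ A₁ s ⊓ commutator S) (N := rX A₁ s)
    (fun z hz x hx => hZX z hz.1 x hx)
  have c3 := card_formula (K := A₁ ⊓ commutator S) (N := rZ A₁ s)
    (fun a ha z hz => hAc a ha.1 z hz.1)
  have e2 : rZ A₁ s ⊓ commutator S ⊓ rX A₁ s = rZ A₁ s ⊓ rX A₁ s := by
    rw [inf_assoc, inf_eq_right.2 hXM]
  have e3 : A₁ ⊓ commutator S ⊓ rZ A₁ s = rZ A₁ s ⊓ commutator S := by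
    apply le_antisymm
    · exact le_inf inf_le_right (inf_le_left.trans inf_le_right)
    · exact le_inf (le_inf (inf_le_left.trans inf_le_left) inf_le_right) inf_le_left
  rw [e2] at c2
  rw [e3] at c3
  have c4 : Nat.card (rZ A₁ s ⊓ commutator S ⊔ rX A₁ s : Subgroup S) ≤
      Nat.card (A₁ ⊓ commutator S : Subgroup S) :=
    (Subgroup.card_le_of_le (sup_le (inf_le_inf_right _ le_sup_left)
      (le_inf le_sup_right hXM))).trans h6
  change Nat.card (rStar A₁ s) * _ = _ at c1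
  rw [hcard] at c1
  have hle : (A₁ ⊓ commutator S) ⊔ rZ A₁ s ≤ A₁ := sup_le inf_le_left inf_le_left
  have hge : Nat.card A₁ ≤ Nat.card ((A₁ ⊓ commutator S) ⊔ rZ A₁ s : Subgroup S) := by
    have pm : 0 < Nat.card (rZ A₁ s ⊓ commutator S : Subgroup S) := Nat.card_pos
    have pw : 0 < Nat.card (rZ A₁ s ⊓ rX A₁ s : Subgroup S) := Nat.card_pos
    generalize Nat.card A₁ = a at *
    generalize Nat.card (rZ A₁ s) = z at *
    generalize Nat.card (rX A₁ s) = x at *
    generalize Nat.card (rZ A₁ s ⊓ rX A₁ s : Subgroup S) = w at *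
    generalize Nat.card (rZ A₁ s ⊓ commutator S : Subgroup S) = m at *
    generalize Nat.card (rZ A₁ s ⊓ commutator S ⊔ rX A₁ s : Subgroup S) = u at *
    generalize Nat.card ((A₁ ⊓ commutator S) ⊔ rZ A₁ s : Subgroup S) = v at *
    generalize Nat.card (A₁ ⊓ commutator S : Subgroup S) = n at *
    have k1 : a * (m * w) ≤ v * (m * w) := by
      calc a * (m * w) = m * (a * w) := by ring
        _ = m * (z * x) := by rw [c1]
        _ = (m * x) * z := by ring
        _ = (u * w) * z := by rw [c2]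
        _ ≤ (n * w) * z := Nat.mul_le_mul_right _ (Nat.mul_le_mul_right _ c4)
        _ = (n * z) * w := by ring
        _ = (v * m) * w := by rw [c3]
        _ = v * (m * w) := by ring
    exact Nat.le_of_mul_le_mul_right k1 (Nat.mul_pos pm pw)
  exact (Subgroup.eq_of_le_of_card_ge hle hge).ge

/-- A weak replacement Theorem for metabelian p-groups: let S be a finite p-group whose derived subgroup is abelian and A an abelian subgroup of S of largest possible order. Then the normal closure of A in S contains an abelian subgroup B of the same order as A that is normal in S. -/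
theorem result {S : Type*} [Group S] [Finite S] {p : ℕ} [Fact p.Prime]
    (hS : IsPGroup p S) (hmeta : IsMulCommutative ↥(commutator S))
    (A : Subgroup S) (hA : A ∈ Cfsg.maxAbelianSubgroups S) :
    ∃ B ∈ Cfsg.maxAbelianSubgroups S, B.Normal ∧ B ≤ Subgroup.normalClosure (A : Set S) := by
  have hnil : Group.IsNilpotent S := hS.isNilpotent
  have hNCn : (Subgroup.normalClosure (A : Set S)).Normal := Subgroup.normalClosure_normal
  obtain ⟨A₁, hA₁, hmax⟩ := Set.exists_max_image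
    {C : Subgroup S | C ∈ Cfsg.maxAbelianSubgroups S ∧ C ≤ Subgroup.normalClosure (A : Set S)}
    (fun C => Nat.card (C ⊓ commutator S : Subgroup S)) (Set.toFinite _)
    ⟨A, hA, Subgroup.le_normalClosure⟩
  refine ⟨A₁, hA₁.1, ?_, hA₁.2⟩
  by_contra hnot
  have hne : Subgroup.normalizer (A₁ : Set S) ≠ ⊤ := by
    intro h
    exact hnot (Subgroup.normalizer_eq_top_iff.1 h)
  have hlt := Group.normalizerCondition_of_isNilpotent (G := S) _ (lt_top_iff_ne_top.2 hne)
  obtain ⟨s, hs, hsA⟩ := SetLike.exists_of_lt hlt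
  have hmax' : ∀ C ∈ Cfsg.maxAbelianSubgroups S, C ≤ Subgroup.normalClosure (A : Set S) →
      Nat.card (C ⊓ commutator S : Subgroup S) ≤ Nat.card (A₁ ⊓ commutator S : Subgroup S) :=
    fun C hC hCN => hmax C ⟨hC, hCN⟩
  have L1 := key_step hmeta _ A₁ hA₁.1 hA₁.2 hmax' s hs
  have L2 := key_step hmeta _ A₁ hA₁.1 hA₁.2 hmax' s⁻¹ (Subgroup.inv_mem _ hs)
  have hAc := ab_iff.1 hA₁.1.1
  have hMc := ab_iff.1 hmeta
  have hMn : (commutator S).Normal := inferInstance
  -- `A₁^s` centralizes `A₁`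
  have hcent : A₁ ≤ (Subgroup.centralizer (A₁ : Set S)).comap (MulAut.conj s⁻¹).toMonoidHom := by
    refine L2.trans (sup_le ?_ ?_)
    · intro a ha
      change MulAut.conj s⁻¹ a ∈ Subgroup.centralizer (A₁ : Set S)
      rw [MulAut.conj_apply, inv_inv]
      have hyM : s⁻¹ * a * s ∈ commutator S := by
        have := hMn.conj_mem a ha.2 s⁻¹
        rwa [inv_inv] at this
      have hyA' : s⁻¹ * a * s ∈ rA' A₁ s := cj_mem_rA' ha.1
      have h1 : A₁ ≤ Subgroup.centralizer ({s⁻¹ * a * s} : Set S) := by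
        refine L1.trans (sup_le ?_ ?_)
        · intro t ht
          exact Subgroup.mem_centralizer_singleton_iff.2 (hMc t ht.2 _ hyM)
        · intro t ht
          obtain ⟨a₂, ha₂, rfl⟩ := mem_rA'.1 ht.2
          rw [Subgroup.mem_centralizer_singleton_iff]
          calc s⁻¹ * a₂ * s * (s⁻¹ * a * s) = s⁻¹ * (a₂ * a) * s := by group
            _ = s⁻¹ * (a * a₂) * s := by rw [hAc a₂ ha₂ a ha.1]
            _ = s⁻¹ * a * s * (s⁻¹ * a₂ * s) := by group
      rw [Subgroup.mem_centralizer_iff]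
      intro t ht
      exact Subgroup.mem_centralizer_singleton_iff.1 (h1 ht)
    · intro a ha
      change MulAut.conj s⁻¹ a ∈ Subgroup.centralizer (A₁ : Set S)
      rw [MulAut.conj_apply, inv_inv]
      obtain ⟨a₂, ha₂, e⟩ := mem_rA'.1 ha.2
      rw [inv_inv] at e
      have : s⁻¹ * a * s = a₂ := by rw [← e]; group
      rw [this, Subgroup.mem_centralizer_iff]
      intro t ht
      exact hAc t ht a₂ ha₂
  apply hsA
  have hA₁' : A₁ ∈ PMax Pab (⊤ : Subgroup S) := by
    rw [← Cfsg.Agent.Lib.Helper3.DStar.maxAb_eq]; exact hA₁.1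
  have : s⁻¹ ∈ Subgroup.normalizer (A₁ : Set S) := by
    apply Subgroup.mem_normalizer_fintype
    intro a ha
    apply mem_PMax_of_centralizes hA₁' (Subgroup.mem_top _)
    intro t ht
    have h2 : MulAut.conj s⁻¹ a ∈ Subgroup.centralizer (A₁ : Set S) := hcent ha
    rw [MulAut.conj_apply] at h2
    exact (Subgroup.mem_centralizer_iff.1 h2) t ht
  have h3 := Subgroup.inv_mem _ this
  rwa [inv_inv] at h3

end Cfsg.Agent.S3063
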