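import Mathlib
import Cfsg.Statements.S3064
import Cfsg.Agent.S3744
import Cfsg.Agent.Lib.Helper1.FrobD

set_option autoImplicit false
open Cfsg
open scoped Pointwise

namespace Cfsg.Agent.S3064

open Cfsg.Agent.Lib.Helper6.Basic Cfsg.Agent.Lib.Helper1
open Cfsg.Agent.Lib.Helper1.FrobB Cfsg.Agent.Lib.Helper1.FrobC Cfsg.Agent.Lib.Helper1.FrobD
open Cfsg.Agent.S3744 (card_mul_relIndex)

universe u

theorem isPGroup_zpowers {G : Type u} [Group G] {p : ℕ} [hp : Fact p.Prime] {x : G}
    (h : ∃ k : ℕ, x ^ p ^ k = 1) : IsPGroup p (Subgroup.zpowers x) := by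
  obtain ⟨k, hk⟩ := h
  obtain ⟨j, _, hj⟩ := (Nat.dvd_prime_pow hp.out).1 (orderOf_dvd_of_pow_eq_one hk)
  exact IsPGroup.of_card (n := j) (by rw [Nat.card_zpowers, hj])

theorem main (p : ℕ) [hp : Fact p.Prime] : ∀ (n : ℕ) (G : Type u) [Group G] [Finite G] (x : G),
    Nat.card G = n → (∃ k : ℕ, x ^ p ^ k = 1) →
    (∀ (g : G) (R : Subgroup G), IsPGroup p R → x ∈ R → g⁻¹ * x * g ∈ R → g⁻¹ * x * g = x) →
    (∀ H : Subgroup G, (Nat.card H).Coprime p → (∀ h ∈ H, x * h * x⁻¹ ∈ H) →
      ∀ h ∈ H, x * h = h * x) →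
    ∀ g : G, g * x = x * g := by
  intro n
  induction n using Nat.strong_induction_on with
  | _ n ih =>
  intro G _ _ x hn hxp hI hb
  have S1 : ∀ D : Subgroup G, D ≠ ⊤ → x ∈ D → ∀ d ∈ D, d * x = x * d := by
    intro D hD hxD d hd
    have hlt : Nat.card D < n := by
      rw [← hn]
      exact lt_of_le_of_ne (Subgroup.card_le_card_group D)
        (fun h => hD (Subgroup.eq_top_of_card_eq D h))
    have := ih (Nat.card D) hlt D ⟨x, hxD⟩ rfl ?_ ?_ ?_ ⟨d, hd⟩
    · exact congrArg Subtype.val this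
    · obtain ⟨k, hk⟩ := hxp
      exact ⟨k, Subtype.ext (by simpa using hk)⟩
    · intro g R hR hxR hgR
      have := hI g (R.map D.subtype) (hR.map _) ⟨⟨x, hxD⟩, hxR, rfl⟩ ⟨_, hgR, rfl⟩
      exact Subtype.ext this
    · intro H hH hinv h hh
      have := hb (H.map D.subtype)
        (by rw [Subgroup.card_map_of_injective D.subtype_injective]; exact hH)
        (by rintro _ ⟨y, hy, rfl⟩; exact ⟨_, hinv y hy, rfl⟩) h ⟨h, hh, rfl⟩
      exact Subtype.ext this
  by_contra hcon
  push Not at hcon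
  obtain ⟨g0, hg0⟩ := hcon
  have memC : ∀ g, g ∈ Subgroup.centralizer ({x} : Set G) ↔ g * x = x * g := by
    intro g
    rw [Subgroup.mem_centralizer_iff]
    constructor
    · intro h; exact (h x rfl).symm
    · rintro h _ rfl; exact h.symm
  generalize hC : Subgroup.centralizer ({x} : Set G) = C at memC
  have hCT : C ≠ ⊤ := by
    intro h
    exact hg0 ((memC g0).1 (h ▸ Subgroup.mem_top g0))
  have hxC : x ∈ C := (memC x).2 rfl
  have S3 : ∀ g : G, g⁻¹ * x * g ∈ C → g⁻¹ * x * g = x := by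
    intro g hg
    have hyp : IsPGroup p (Subgroup.zpowers (g⁻¹ * x * g)) := by
      apply isPGroup_zpowers
      obtain ⟨k, hk⟩ := hxp
      refine ⟨k, ?_⟩
      have : (g⁻¹ * x * g) ^ p ^ k = g⁻¹ * x ^ p ^ k * g := by
        have := conj_pow (a := g⁻¹) (b := x) (i := p ^ k)
        rw [inv_inv] at this
        exact this
      rw [this, hk]; group
    have hxp' : IsPGroup p (Subgroup.zpowers x) := isPGroup_zpowers hxp
    have hnorm : Subgroup.zpowers (g⁻¹ * x * g) ≤
        Subgroup.normalizer ((Subgroup.zpowers x : Subgroup G) : Set G) := by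
      rw [Subgroup.zpowers_le]
      apply Subgroup.centralizer_le_normalizer
      rw [Subgroup.mem_centralizer_iff]
      rintro _ ⟨i, rfl⟩
      have hc : Commute x (g⁻¹ * x * g) := ((memC _).1 hg).symm
      exact (hc.zpow_left i)
    have hR := IsPGroup.to_sup_of_normal_right' hyp hxp' hnorm
    exact hI g _ hR (Subgroup.mem_sup_right (Subgroup.mem_zpowers x))
      (Subgroup.mem_sup_left (Subgroup.mem_zpowers _))
  have S4 : ∀ g, g ∉ C → ∀ r, r ∈ C → g⁻¹ * r * g ∈ C → r ∈ Subgroup.center G := by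
    intro g hg r hr hr'
    by_cases hD : Subgroup.centralizer ({r} : Set G) = ⊤
    · rw [Subgroup.mem_center_iff]
      intro a
      have : a ∈ Subgroup.centralizer ({r} : Set G) := hD ▸ Subgroup.mem_top a
      exact (Subgroup.mem_centralizer_iff.1 this r rfl).symm
    · exfalso
      have hxD : x ∈ Subgroup.centralizer ({r} : Set G) := by
        rw [Subgroup.mem_centralizer_iff]
        intro y hy
        have hy' : y = r := hy
        rw [hy']
        exact (memC _).1 hr
      have hyD : g * x * g⁻¹ ∈ Subgroup.centralizer ({r} : Set G) := by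
        rw [Subgroup.mem_centralizer_iff]
        intro y hy
        have hy' : y = r := hy
        rw [hy']
        have h1 := (memC _).1 hr'
        calc r * (g * x * g⁻¹) = g * ((g⁻¹ * r * g) * x) * g⁻¹ := by group
          _ = g * (x * (g⁻¹ * r * g)) * g⁻¹ := by rw [h1]
          _ = g * x * g⁻¹ * r := by group
      have h2 := S1 _ hD hxD _ hyD
      have h3 : (g⁻¹)⁻¹ * x * g⁻¹ ∈ C := by
        rw [inv_inv]; exact (memC _).2 h2
      have h4 := S3 g⁻¹ h3
      rw [inv_inv] at h4
      apply hg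
      rw [memC]
      calc g * x = (g * x * g⁻¹) * g := by group
        _ = x * g := by rw [h4]
  have hZC : Subgroup.center G ≤ C := by
    intro z hz
    rw [memC]
    exact (Subgroup.mem_center_iff.1 hz x).symm
  have hxZ : x ∉ Subgroup.center G := by
    intro h
    exact hg0 (Subgroup.mem_center_iff.1 h g0)
  have hsurj := QuotientGroup.mk'_surjective (Subgroup.center G)
  have hF : Cfsg.IsFrobeniusComplement (C.map (QuotientGroup.mk' (Subgroup.center G))) := by
    refine ⟨?_, ?_, ?_⟩
    · intro hbot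
      have : QuotientGroup.mk' (Subgroup.center G) x ∈
          C.map (QuotientGroup.mk' (Subgroup.center G)) := Subgroup.mem_map_of_mem _ hxC
      rw [hbot, Subgroup.mem_bot] at this
      exact hxZ ((QuotientGroup.eq_one_iff x).1 this)
    · intro htop
      have := congrArg (Subgroup.comap (QuotientGroup.mk' (Subgroup.center G))) htop
      rw [Subgroup.comap_map_eq, QuotientGroup.ker_mk', sup_eq_left.2 hZC, Subgroup.comap_top]
        at this
      exact hCT this
    · intro q hq
      obtain ⟨g, rfl⟩ := hsurj q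
      have hgC : g ∉ C := fun h => hq (Subgroup.mem_map_of_mem _ h)
      rw [eq_bot_iff]
      rintro u ⟨hu1, hu2⟩
      obtain ⟨c, hc, rfl⟩ := hu1
      have hu2' := mem_cj.1 (show _ ∈ cj _ _ from hu2)
      obtain ⟨c', hc', hcc⟩ := hu2'
      have h1 : QuotientGroup.mk' (Subgroup.center G) c' =
          QuotientGroup.mk' (Subgroup.center G) (g⁻¹ * c * g) := by
        rw [hcc]; simp
      have hz : c'⁻¹ * (g⁻¹ * c * g) ∈ Subgroup.center G := QuotientGroup.eq.1 h1
      have h2 : g⁻¹ * c * g ∈ C := by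
        have := C.mul_mem hc' (hZC hz)
        simpa using this
      have h3 := S4 g hgC c hc h2
      rw [Subgroup.mem_bot]
      exact (QuotientGroup.eq_one_iff c).2 h3
  obtain ⟨Kb, -, hKbn, hKbc⟩ := frobenius_theorem _ hF
  have hcop1 : (Nat.card Kb).Coprime (Nat.card (C.map (QuotientGroup.mk' (Subgroup.center G)))) := by
    rw [card_of_compl hKbc]; exact index_coprime hF
  have hpC : p ∣ Nat.card (C.map (QuotientGroup.mk' (Subgroup.center G))) := by
    obtain ⟨k, hk⟩ := hxp
    have h1 : (QuotientGroup.mk' (Subgroup.center G) x) ^ p ^ k = 1 := by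
      rw [← map_pow, hk, map_one]
    obtain ⟨j, _, hj⟩ := (Nat.dvd_prime_pow hp.out).1 (orderOf_dvd_of_pow_eq_one h1)
    have hj0 : j ≠ 0 := by
      rintro rfl
      rw [pow_zero, orderOf_eq_one_iff] at hj
      exact hxZ ((QuotientGroup.eq_one_iff x).1 hj)
    have h2 : p ∣ orderOf (QuotientGroup.mk' (Subgroup.center G) x) := by
      rw [hj]; exact dvd_pow_self p hj0
    exact h2.trans (Subgroup.orderOf_dvd_natCard _ (Subgroup.mem_map_of_mem _ hxC))
  have hpK : (Nat.card Kb).Coprime p := Nat.Coprime.coprime_dvd_right hpC hcop1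
  have hKn : (Kb.comap (QuotientGroup.mk' (Subgroup.center G))).Normal := hKbn.comap _
  have hZK : Subgroup.center G ≤ Kb.comap (QuotientGroup.mk' (Subgroup.center G)) := by
    intro z hz
    show QuotientGroup.mk' (Subgroup.center G) z ∈ Kb
    have : QuotientGroup.mk' (Subgroup.center G) z = 1 := (QuotientGroup.eq_one_iff z).2 hz
    rw [this]; exact Kb.one_mem
  have hrelZK : (Subgroup.center G).relIndex (Kb.comap (QuotientGroup.mk' (Subgroup.center G)))
      = Nat.card Kb := by
    have := Subgroup.relIndex_comap (⊥ : Subgroup (G ⧸ Subgroup.center G))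
      (QuotientGroup.mk' (Subgroup.center G)) (Kb.comap (QuotientGroup.mk' (Subgroup.center G)))
    rw [MonoidHom.comap_bot, QuotientGroup.ker_mk', Subgroup.relIndex_bot_left,
      Subgroup.map_comap_eq_self_of_surjective hsurj] at this
    exact this
  have hKmem : ∀ k, QuotientGroup.mk' (Subgroup.center G) k ∈ Kb →
      k ∈ Kb.comap (QuotientGroup.mk' (Subgroup.center G)) := fun k hk => hk
  generalize Kb.comap (QuotientGroup.mk' (Subgroup.center G)) = K at hKn hZK hrelZK hKmem
  obtain ⟨P'⟩ : Nonempty (Sylow p (Subgroup.center G)) := inferInstance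
  have hP0Z : (P' : Subgroup (Subgroup.center G)).map (Subgroup.center G).subtype
      ≤ Subgroup.center G := Subgroup.map_subtype_le _
  have hP0p : IsPGroup p ((P' : Subgroup (Subgroup.center G)).map (Subgroup.center G).subtype) :=
    P'.isPGroup'.map _
  have hP0rel : ¬ p ∣ ((P' : Subgroup (Subgroup.center G)).map
      (Subgroup.center G).subtype).relIndex (Subgroup.center G) := by
    have e : ((P' : Subgroup (Subgroup.center G)).map
        (Subgroup.center G).subtype).subgroupOf (Subgroup.center G) = P' :=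
      Subgroup.comap_map_eq_self_of_injective (Subgroup.center G).subtype_injective _
    rw [Subgroup.relIndex, e]
    exact P'.not_dvd_index
  generalize (P' : Subgroup (Subgroup.center G)).map (Subgroup.center G).subtype = P0
    at hP0Z hP0p hP0rel
  haveI hP0n : P0.Normal := ⟨fun z hz g => by
    have := Subgroup.mem_center_iff.1 (hP0Z hz) g
    rw [this, mul_inv_cancel_right]; exact hz⟩
  have hP0K : P0 ≤ K := hP0Z.trans hZK
  have hrelcop : (P0.relIndex K).Coprime p := by
    rw [← Subgroup.relIndex_mul_relIndex P0 _ K hP0Z hZK, hrelZK]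
    exact Nat.Coprime.mul_left (((Nat.Prime.coprime_iff_not_dvd hp.out).2 hP0rel).symm) hpK
  obtain ⟨H, -, hHK, hHc⟩ := S3744.exists_compl_ge P0 hP0p K hP0K hrelcop ⊥ bot_le (by simp)
  have hHcop : (Nat.card H).Coprime p := hHc ▸ hrelcop
  obtain ⟨k0, hk0⟩ := IsPGroup.iff_card.1 hP0p
  have hHP0c : (Nat.card H).Coprime (Nat.card P0) := by
    rw [hk0]; exact Nat.Coprime.pow_right _ hHcop
  have hHP0 : H ⊔ P0 = K := by
    apply Subgroup.eq_of_le_of_card_ge (sup_le hHK hP0K)
    rw [card_sup_of_disjoint H P0 (Subgroup.inf_eq_bot_of_coprime hHP0c), hHc, mul_comm,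
      card_mul_relIndex hP0K]
  haveI : Group.IsSolvable P0 := by
    haveI := hP0p.isNilpotent
    infer_instance
  have hHn : ∀ g, cj g H = H := by
    intro g
    have h1 : H ⊔ P0 = cj g H ⊔ P0 := by
      have h2 : cj g (H ⊔ P0) = cj g H ⊔ cj g P0 := Subgroup.map_sup _ _ _
      rw [S0045.cj_normal P0 g, hHP0, S0045.cj_normal K g] at h2
      rw [hHP0, h2]
    obtain ⟨w, hw, hwe⟩ := S3744.conj_compl P0 inferInstance H (cj g H) h1 hHP0c
      (by rw [card_cj]; exact hHP0c)
    obtain ⟨h, hh, z, hz, rfl⟩ := Subgroup.mem_sup_of_normal_right.1 hw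
    have hzH : cj z H = H := by
      rw [cj_eq_self_iff]
      apply Subgroup.centralizer_le_normalizer
      rw [Subgroup.mem_centralizer_iff]
      intro y _
      exact Subgroup.mem_center_iff.1 (hP0Z hz) y
    rw [← hwe, ← cj_cj, hzH, cj_eq_self_of_mem hh]
  have hxH := hb H hHcop (fun h hh => by
    have := conj_mem_cj (g := x) hh
    rwa [hHn x] at this)
  have hKC : K ≤ C := by
    rw [← hHP0]
    refine sup_le (fun h hh => ?_) (hP0Z.trans hZC)
    rw [memC]; exact (hxH h hh).symm
  apply kernel_ne_bot hF hKbc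
  rw [eq_bot_iff]
  intro u hu
  obtain ⟨k, rfl⟩ := hsurj u
  have h1 : QuotientGroup.mk' (Subgroup.center G) k ∈
      Kb ⊓ C.map (QuotientGroup.mk' (Subgroup.center G)) :=
    ⟨hu, Subgroup.mem_map_of_mem _ (hKC (hKmem k hu))⟩
  rwa [disjoint_iff.1 hKbc.disjoint] at h1

theorem result {G : Type*} [Group G] [Finite G] {p : ℕ} [Fact p.Prime]
    (S : Sylow p G) (x : G) (hx : x ∈ S)
    (hU : ∀ g : G, g⁻¹ * x * g ∈ S → g⁻¹ * x * g = x)
    (hb : ∀ H : Subgroup G, (Nat.card H).Coprime p → (∀ h ∈ H, x * h * x⁻¹ ∈ H) → ∀ h ∈ H, x * h = h * x) :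
    x ∈ Subgroup.center G := by
  rw [Subgroup.mem_center_iff]
  refine main p _ G x rfl ?_ ?_ hb
  · obtain ⟨k, hk⟩ := S.isPGroup' ⟨x, hx⟩
    exact ⟨k, congrArg Subtype.val hk⟩
  · intro g R hR hxR hgR
    obtain ⟨Q, hQ⟩ := hR.exists_le_sylow
    obtain ⟨h, rfl⟩ := MulAction.exists_smul_eq G S Q
    have e : ((h • S : Sylow p G) : Subgroup G) = cj h (S : Subgroup G) := rfl
    rw [e] at hQ
    have h1 := hU h (mem_cj.1 (hQ hxR))
    have h2 := mem_cj.1 (hQ hgR)
    have e2 : h⁻¹ * (g⁻¹ * x * g) * h = (g * h)⁻¹ * x * (g * h) := by group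
    rw [e2] at h2
    have h3 := hU (g * h) h2
    rw [← e2] at h3
    have h4 : h⁻¹ * (g⁻¹ * x * g) * h = h⁻¹ * x * h := h3.trans h1.symm
    exact mul_left_cancel (mul_right_cancel h4)

end Cfsg.Agent.S3064
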