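import Cfsg.Statements.S3554

set_option autoImplicit false
open Cfsg

namespace Cfsg.Agent.S3554

open MulAction

/-- Let G act faithfully and transitively on a finite set and suppose G has a non-trivial cyclic normal subgroup. Then some element of G of prime order fixes no point. -/
theorem result {G Ω : Type*} [Group G] [Finite G] [MulAction G Ω] [FaithfulSMul G Ω] [Finite Ω]
    (htrans : MulAction.IsPretransitive G Ω) (C : Subgroup G) (hC : C.Normal) (hC1 : C ≠ ⊥) (hcyc : IsCyclic ↥C) :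
    ∃ g : G, (orderOf g).Prime ∧ ∀ ω : Ω, g • ω ≠ ω := by
  obtain ⟨z, hz⟩ := hcyc.exists_generator
  have hz1 : orderOf (z : G) ≠ 1 := by
    intro h
    rw [orderOf_eq_one_iff] at h
    apply hC1
    rw [eq_bot_iff]
    intro x hx
    obtain ⟨k, hk⟩ := hz ⟨x, hx⟩
    have h2 : (z : G) ^ k = x := congrArg Subtype.val hk
    rw [h, one_zpow] at h2
    exact h2.symm
  have hp := Nat.minFac_prime hz1
  have hdvd := Nat.minFac_dvd (orderOf (z : G))
  have hord : orderOf ((z : G) ^ (orderOf (z : G) / (orderOf (z : G)).minFac)) =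
      (orderOf (z : G)).minFac := orderOf_pow_orderOf_div (orderOf_pos _).ne' hdvd
  generalize orderOf (z : G) / (orderOf (z : G)).minFac = j at hord
  refine ⟨(z : G) ^ j, hord ▸ hp, fun ω hω => ?_⟩
  have hc1 : (z : G) ^ j = 1 := by
    apply FaithfulSMul.eq_of_smul_eq_smul (α := Ω)
    intro ω'
    rw [one_smul]
    obtain ⟨g, rfl⟩ := exists_smul_eq G ω ω'
    obtain ⟨k, hk⟩ := hz ⟨g⁻¹ * z * g⁻¹⁻¹, hC.conj_mem z z.2 g⁻¹⟩
    have h2 : (z : G) ^ k = g⁻¹ * z * g⁻¹⁻¹ := congrArg Subtype.val hk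
    have h3 : g⁻¹ * (z : G) ^ j * g = ((z : G) ^ j) ^ k := by
      have e1 : ((z : G) ^ j) ^ k = ((z : G) ^ k) ^ j := by
        rw [← zpow_natCast, ← zpow_mul, mul_comm, zpow_mul, zpow_natCast]
      rw [e1, h2, conj_pow, inv_inv]
    have h4 : ((z : G) ^ j) ^ k ∈ stabilizer G ω := Subgroup.zpow_mem _ hω k
    rw [← h3, mem_stabilizer_iff, mul_smul, mul_smul, inv_smul_eq_iff] at h4
    exact h4
  rw [hc1, orderOf_one] at hord
  exact hp.one_lt.ne hord

end Cfsg.Agent.S3554
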