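import Mathlib
import Cfsg.Statements.S3745
import Cfsg.Agent.S3744
import Cfsg.Agent.S0003
import Cfsg.Agent.S0004
import Cfsg.Agent.Lib.Helper1.CoprimeSylow
import Cfsg.Agent.Lib.Helper1.Coprime

set_option autoImplicit false
open Cfsg
open scoped Pointwise

namespace Cfsg.Agent.S3745

open Cfsg.Agent.Lib.Helper6.Basic Cfsg.Agent.Lib.Helper6.WClosed Cfsg.Agent.Lib.Helper1
open Cfsg.Agent.S3744 (card_mul_relIndex)

universe u

def PiN (π : Set ℕ) (a : ℕ) : Prop := ∀ p : ℕ, p.Prime → p ∣ a → p ∈ π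
def PiN' (π : Set ℕ) (b : ℕ) : Prop := ∀ p : ℕ, p.Prime → p ∈ π → ¬ p ∣ b

section nums
variable {π : Set ℕ} {a b c d : ℕ}

theorem PiN.mul (ha : PiN π a) (hb : PiN π b) : PiN π (a * b) :=
  fun p hp h => (hp.dvd_mul.1 h).elim (ha p hp) (hb p hp)
theorem PiN'.mul (ha : PiN' π a) (hb : PiN' π b) : PiN' π (a * b) :=
  fun p hp hpi h => (hp.dvd_mul.1 h).elim (ha p hp hpi) (hb p hp hpi)
theorem PiN.of_dvd (ha : PiN π a) (h : b ∣ a) : PiN π b := fun p hp hb => ha p hp (hb.trans h)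
theorem PiN'.of_dvd (ha : PiN' π a) (h : b ∣ a) : PiN' π b :=
  fun p hp hpi hb => ha p hp hpi (hb.trans h)
theorem cop (ha : PiN π a) (hb : PiN' π b) : a.Coprime b :=
  Nat.coprime_of_dvd (fun k hk h1 h2 => hb k hk (ha k hk h1) h2)
theorem uniq (h : a * b = c * d) (ha : PiN π a) (hb : PiN' π b) (hc : PiN π c) (hd : PiN' π d) :
    a = c :=
  Nat.dvd_antisymm ((cop ha hd).dvd_of_dvd_mul_right (h ▸ dvd_mul_right a b))
    ((cop hc hb).dvd_of_dvd_mul_right (h.symm ▸ dvd_mul_right c d))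
theorem PiN.one : PiN π 1 := fun p hp h => absurd (Nat.dvd_one.1 h) hp.one_lt.ne'
theorem PiN'.one : PiN' π 1 := fun p hp _ h => absurd (Nat.dvd_one.1 h) hp.one_lt.ne'
theorem PiN.pow {q : ℕ} (hq : q.Prime) (h : q ∈ π) (k : ℕ) : PiN π (q ^ k) := fun p hp hd => by
  rw [(Nat.prime_dvd_prime_iff_eq hp hq).1 (hp.dvd_of_dvd_pow hd)]; exact h
theorem PiN'.pow {q : ℕ} (hq : q.Prime) (h : q ∉ π) (k : ℕ) : PiN' π (q ^ k) :=
  fun p hp hpi hd => h (by
    rw [← (Nat.prime_dvd_prime_iff_eq hp hq).1 (hp.dvd_of_dvd_pow hd)]; exact hpi)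

theorem split (π : Set ℕ) : ∀ N : ℕ, N ≠ 0 → ∃ m n, N = m * n ∧ PiN π m ∧ PiN' π n := by
  intro N
  induction N using Nat.strong_induction_on with
  | _ N ih =>
  intro hN
  by_cases h1 : N = 1
  · exact ⟨1, 1, by simp [h1], PiN.one, PiN'.one⟩
  have hp := Nat.minFac_prime h1
  have hdiv := Nat.mul_div_cancel' (Nat.minFac_dvd N)
  have hne : N / N.minFac ≠ 0 := by
    intro h0
    rw [h0, mul_zero] at hdiv
    exact hN hdiv.symm
  have hlt : N / N.minFac < N := Nat.div_lt_self (Nat.pos_of_ne_zero hN) hp.one_lt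
  obtain ⟨m, n, hmn, hm, hn⟩ := ih _ hlt hne
  by_cases hpi : N.minFac ∈ π
  · refine ⟨N.minFac * m, n, by rw [mul_assoc, ← hmn, hdiv], ?_, hn⟩
    have := (PiN.pow hp hpi 1).mul hm
    rwa [pow_one] at this
  · refine ⟨m, N.minFac * n, by rw [mul_left_comm, ← hmn, hdiv], hm, ?_⟩
    have := (PiN'.pow hp hpi 1).mul hn
    rwa [pow_one] at this

end nums

section amb
variable {X : Type u} [Group X] [Finite X] {π : Set ℕ}

theorem hallE (π : Set ℕ) (G : Subgroup X) (hs : Group.IsSolvable G) :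
    ∃ H, Cfsg.IsPiHallOf π H G := by
  obtain ⟨m, n, hmn, hm, hn⟩ := split π (Nat.card G) Nat.card_pos.ne'
  obtain ⟨H', hH'⟩ := S0003.result (G := G) m n hmn (cop hm hn)
  have hc : Nat.card (H'.map G.subtype) = m := by
    rw [Subgroup.card_map_of_injective G.subtype_injective, hH']
  refine ⟨H'.map G.subtype, Subgroup.map_subtype_le _, ?_, ?_⟩
  · rw [hc]; exact hm
  · have h1 := card_mul_relIndex (Subgroup.map_subtype_le H')
    rw [hc, hmn] at h1
    have hm0 : 0 < m := Nat.pos_of_ne_zero (by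
      rintro rfl
      rw [zero_mul] at hmn
      exact Nat.card_pos.ne' hmn)
    rw [Nat.eq_of_mul_eq_mul_left hm0 h1]
    exact hn

theorem hall_card {H K G : Subgroup X} (hH : Cfsg.IsPiHallOf π H G) (hK : Cfsg.IsPiHallOf π K G) :
    Nat.card H = Nat.card K :=
  uniq ((card_mul_relIndex hH.1).trans (card_mul_relIndex hK.1).symm) hH.2.1 hH.2.2 hK.2.1 hK.2.2

theorem hallC (G : Subgroup X) (hs : Group.IsSolvable G) {H K : Subgroup X}
    (hH : Cfsg.IsPiHallOf π H G) (hK : Cfsg.IsPiHallOf π K G) :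
    ∃ g ∈ G, MulAut.conj g • H = K := by
  obtain ⟨g, hg⟩ := S0004.result (G := G) (Nat.card H) (H.relIndex G)
    (card_mul_relIndex hH.1).symm (cop hH.2.1 hH.2.2) (H.subgroupOf G) (K.subgroupOf G)
    (card_subgroupOf hH.1) ((card_subgroupOf hK.1).trans (hall_card hK hH))
  refine ⟨g, g.2, ?_⟩
  have hg' : cj g (H.subgroupOf G) = K.subgroupOf G := hg
  rw [cj_subgroupOf] at hg'
  have h1 : cj (g : X) H ≤ G := by
    have := cj_mono (g := (g : X)) hH.1
    rwa [cj_eq_self_of_mem g.2] at this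
  exact eq_of_subgroupOf_eq h1 hK.1 hg'

theorem hall_cj {H G : Subgroup X} (hH : Cfsg.IsPiHallOf π H G) {a : X}
    (ha : a ∈ Subgroup.normalizer (G : Set X)) : Cfsg.IsPiHallOf π (cj a H) G := by
  have h1 : cj a H ≤ G := by
    have := cj_mono (g := a) hH.1
    rwa [cj_eq_self_iff.2 ha] at this
  refine ⟨h1, by rw [card_cj]; exact hH.2.1, ?_⟩
  have h2 := card_mul_relIndex h1
  rw [card_cj, ← card_mul_relIndex hH.1] at h2
  rw [Nat.eq_of_mul_eq_mul_left Nat.card_pos h2]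
  exact hH.2.2

theorem inv_exists (A G : Subgroup X) (hAG : A ≤ Subgroup.normalizer (G : Set X))
    (hcop : (Nat.card A).Coprime (Nat.card G)) (hs : Group.IsSolvable G) :
    ∃ H, Cfsg.IsPiHallOf π H G ∧ A ≤ Subgroup.normalizer (H : Set X) := by
  letI : MulAction X (Subgroup X) := MulAction.compHom (Subgroup X) (MulAut.conj : X →* MulAut X)
  obtain ⟨P, hP, hPA⟩ := glauberman_exists A G hAG hcop (Or.inr hs)
    {P : Subgroup X | Cfsg.IsPiHallOf π P G} (hallE π G hs)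
    (fun a ha P hP => hall_cj hP (hAG ha))
    (fun k hk P hP => hall_cj hP (Subgroup.le_normalizer hk))
    (fun P hP Q hQ => hallC G hs hP hQ)
  exact ⟨P, hP, fun a ha => mem_normalizer_of_conj_smul_eq (hPA a ha)⟩

theorem inv_conj (A G : Subgroup X) (hAG : A ≤ Subgroup.normalizer (G : Set X))
    (hcop : (Nat.card A).Coprime (Nat.card G)) (hs : Group.IsSolvable G) {P Q : Subgroup X}
    (hP : Cfsg.IsPiHallOf π P G) (hPA : A ≤ Subgroup.normalizer (P : Set X))
    (hQ : Cfsg.IsPiHallOf π Q G) (hQA : A ≤ Subgroup.normalizer (Q : Set X)) :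
    ∃ c ∈ G ⊓ Subgroup.centralizer (A : Set X), MulAut.conj c • P = Q := by
  letI : MulAction X (Subgroup X) := MulAction.compHom (Subgroup X) (MulAut.conj : X →* MulAut X)
  obtain ⟨k, hk, hkPQ⟩ := hallC G hs hP hQ
  exact glauberman_conj A G hAG hcop (Or.inr hs) P Q
    (fun a ha => conj_smul_eq_of_mem_normalizer (hPA ha))
    (fun a ha => conj_smul_eq_of_mem_normalizer (hQA ha)) k hk hkPQ

theorem hall_of_sup {V N W : Subgroup X} [N.Normal] (hV : PiN π (Nat.card V))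
    (hN : PiN' π (Nat.card N)) (hVN : V ⊔ N = W) : Cfsg.IsPiHallOf π V W := by
  have hVW : V ≤ W := hVN ▸ le_sup_left
  refine ⟨hVW, hV, ?_⟩
  have cW : Nat.card W = Nat.card V * Nat.card N := by
    rw [← hVN]; exact card_sup_of_disjoint V N (Subgroup.inf_eq_bot_of_coprime (cop hV hN))
  have h1 := card_mul_relIndex hVW
  rw [cW] at h1
  rw [Nat.eq_of_mul_eq_mul_left Nat.card_pos h1]
  exact hN

theorem dom_step (A L N U : Subgroup X) [N.Normal] (hAL : A ≤ Subgroup.normalizer (L : Set X))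
    (hcop : (Nat.card A).Coprime (Nat.card L)) (hs : Group.IsSolvable L) (hNL : N ≤ L)
    (hN : PiN' π (Nat.card N)) (hLN : PiN π (N.relIndex L)) (hUL : U ≤ L)
    (hAU : A ≤ Subgroup.normalizer (U : Set X)) (hU : PiN π (Nat.card U)) :
    ∃ H, Cfsg.IsPiHallOf π H L ∧ A ≤ Subgroup.normalizer (H : Set X) ∧ U ≤ H := by
  obtain ⟨K1, hK1, hAK1⟩ := inv_exists (π := π) A L hAL hcop hs
  have c1 : Nat.card K1 = N.relIndex L :=
    uniq (b := K1.relIndex L) (d := Nat.card N)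
      (by rw [card_mul_relIndex hK1.1, mul_comm, card_mul_relIndex hNL]) hK1.2.1 hK1.2.2 hLN hN
  have hK1N0 : K1 ⊓ N = ⊥ := Subgroup.inf_eq_bot_of_coprime (cop hK1.2.1 hN)
  have hK1N : K1 ⊔ N = L := by
    apply Subgroup.eq_of_le_of_card_ge (sup_le hK1.1 hNL)
    rw [card_sup_of_disjoint K1 N hK1N0, c1, mul_comm, card_mul_relIndex hNL]
  have hWL : U ⊔ N ≤ L := sup_le hUL hNL
  have hded : (K1 ⊓ (U ⊔ N)) ⊔ N = U ⊔ N :=
    dedekind_normal K1 N (U ⊔ N) le_sup_right (hWL.trans hK1N.ge)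
  have hAW : A ≤ Subgroup.normalizer ((U ⊔ N : Subgroup X) : Set X) := by
    intro a ha
    rw [← cj_eq_self_iff, show cj a (U ⊔ N) = cj a U ⊔ cj a N from Subgroup.map_sup _ _ _,
      cj_eq_self_iff.2 (hAU ha), S0045.cj_normal]
  obtain ⟨c, hc, hcU⟩ := inv_conj (π := π) A (U ⊔ N) hAW
    (Nat.Coprime.coprime_dvd_right (Subgroup.card_dvd_of_le hWL) hcop) (isSolvable_of_le hWL hs)
    (hall_of_sup (PiN.of_dvd hK1.2.1 (Subgroup.card_dvd_of_le inf_le_left)) hN hded)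
    ((le_inf hAK1 hAW).trans Subgroup.inf_normalizer_le_normalizer_inf)
    (hall_of_sup hU hN rfl) hAU
  refine ⟨cj c K1, hall_cj hK1 (Subgroup.le_normalizer (hWL hc.1)), ?_, ?_⟩
  · intro a ha
    have hca : a * c = c * a := Subgroup.mem_centralizer_iff.1 hc.2 a ha
    rw [← cj_eq_self_iff, cj_cj, hca, ← cj_cj, cj_eq_self_iff.2 (hAK1 ha)]
  · have : cj c (K1 ⊓ (U ⊔ N)) = U := hcU
    rw [← this]
    exact cj_mono inf_le_left

end amb

theorem dom (π : Set ℕ) : ∀ (n : ℕ) (X : Type u) [Group X] [Finite X] (A G : Subgroup X) [G.Normal],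
    Nat.card G = n → (Nat.card A).Coprime (Nat.card G) → Group.IsSolvable G →
    ∀ U : Subgroup X, U ≤ G → A ≤ Subgroup.normalizer (U : Set X) → PiN π (Nat.card U) →
    ∃ H, Cfsg.IsPiHallOf π H G ∧ A ≤ Subgroup.normalizer (H : Set X) ∧ U ≤ H := by
  intro n
  induction n using Nat.strong_induction_on with
  | _ n ih =>
  intro X _ _ A G hGn hn hcop hs U hUG hAU hU
  by_cases hG : G = ⊥
  · subst hG
    refine ⟨⊥, ⟨le_rfl, ?_, ?_⟩, ?_, hUG⟩
    · rw [Subgroup.card_bot]; exact PiN.one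
    · rw [Subgroup.relIndex_self]; exact PiN'.one
    · rw [Subgroup.normalizer_eq_top]; exact le_top
  obtain ⟨q, hq, N, hNG, hNn, hNne, _, hNq⟩ := exists_normal_elemAbelian _ G rfl hGn hs hG
  haveI := Fact.mk hq
  have hNp : IsPGroup q N := fun x => ⟨1, by
    apply Subtype.ext
    simpa using hNq x x.2⟩
  obtain ⟨k, hk⟩ := IsPGroup.iff_card.1 hNp
  have hsurj := QuotientGroup.mk'_surjective N
  have hker : (⊥ : Subgroup (X ⧸ N)).comap (QuotientGroup.mk' N) = N := by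
    rw [MonoidHom.comap_bot, QuotientGroup.ker_mk']
  have relN : ∀ L : Subgroup X, N.relIndex L = Nat.card (L.map (QuotientGroup.mk' N)) := by
    intro L
    have := Subgroup.relIndex_comap (⊥ : Subgroup (X ⧸ N)) (QuotientGroup.mk' N) L
    rw [hker, Subgroup.relIndex_bot_left] at this
    exact this
  have hcardlt : Nat.card (G.map (QuotientGroup.mk' N)) < n := by
    rw [← relN, ← hn, ← card_mul_relIndex hNG]
    have h1 : 1 < Nat.card N := by
      rw [Subgroup.one_lt_card_iff_ne_bot]; exact hNne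
    have h2 : 0 < N.relIndex G := Nat.pos_of_ne_zero (by
      intro h0
      have := card_mul_relIndex hNG
      rw [h0, mul_zero] at this
      exact Nat.card_pos.ne this)
    nlinarith
  haveI : (G.map (QuotientGroup.mk' N)).Normal := hGn.map _ hsurj
  obtain ⟨Hb, hHb, hAHb, hUHb⟩ := ih _ hcardlt (X ⧸ N) (A.map (QuotientGroup.mk' N))
    (G.map (QuotientGroup.mk' N)) rfl
    (Nat.Coprime.coprime_dvd_left (Subgroup.card_map_dvd _ _)
      (Nat.Coprime.coprime_dvd_right (Subgroup.card_map_dvd _ _) hcop))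
    (Group.isSolvable_of_surjective ((QuotientGroup.mk' N).subgroupMap_surjective G))
    (U.map (QuotientGroup.mk' N)) (Subgroup.map_mono hUG)
    ((Subgroup.map_mono hAU).trans (Subgroup.le_normalizer_map _))
    (hU.of_dvd (Subgroup.card_map_dvd _ _))
  have hNL : N ≤ Hb.comap (QuotientGroup.mk' N) := by
    intro x hx
    show QuotientGroup.mk' N x ∈ Hb
    have : QuotientGroup.mk' N x = 1 := (QuotientGroup.eq_one_iff x).2 hx
    rw [this]; exact Hb.one_mem
  have hUL : U ≤ Hb.comap (QuotientGroup.mk' N) := Subgroup.map_le_iff_le_comap.1 hUHb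
  have hLG : Hb.comap (QuotientGroup.mk' N) ≤ G := by
    intro x hx
    obtain ⟨g, hg, hgx⟩ := hHb.1 (show QuotientGroup.mk' N x ∈ Hb from hx)
    have h4 : g⁻¹ * x ∈ N := QuotientGroup.eq.1 hgx
    have e : x = g * (g⁻¹ * x) := by group
    rw [e]
    exact G.mul_mem hg (hNG h4)
  have hAL : A ≤ Subgroup.normalizer ((Hb.comap (QuotientGroup.mk' N) : Subgroup X) : Set X) := by
    rw [← Subgroup.comap_normalizer_eq_of_surjective _ hsurj]
    exact fun a ha => hAHb (Subgroup.mem_map_of_mem _ ha)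
  have hrelNL : N.relIndex (Hb.comap (QuotientGroup.mk' N)) = Nat.card Hb := by
    rw [relN, Subgroup.map_comap_eq_self_of_surjective hsurj Hb]
  have hrelLG : (Hb.comap (QuotientGroup.mk' N)).relIndex G
      = Hb.relIndex (G.map (QuotientGroup.mk' N)) := Subgroup.relIndex_comap Hb _ G
  generalize Hb.comap (QuotientGroup.mk' N) = L at hNL hUL hLG hAL hrelNL hrelLG
  by_cases hqπ : q ∈ π
  · refine ⟨L, ⟨hLG, ?_, ?_⟩, hAL, hUL⟩
    · rw [← card_mul_relIndex hNL, hrelNL, hk]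
      exact (PiN.pow hq hqπ k).mul hHb.2.1
    · rw [hrelLG]; exact hHb.2.2
  · obtain ⟨H, hH, hAH, hUH⟩ := dom_step (π := π) A L N U hAL
      (Nat.Coprime.coprime_dvd_right (Subgroup.card_dvd_of_le hLG) hcop) (isSolvable_of_le hLG hs)
      hNL (hk ▸ PiN'.pow hq hqπ k) (hrelNL ▸ hHb.2.1) hUL hAU hU
    refine ⟨H, ⟨hH.1.trans hLG, hH.2.1, ?_⟩, hAH, hUH⟩
    rw [← Subgroup.relIndex_mul_relIndex H L G hH.1 hLG]
    exact PiN'.mul hH.2.2 (hrelLG ▸ hHb.2.2)

theorem dom_amb {X : Type u} [Group X] [Finite X] {π : Set ℕ} (A G U : Subgroup X)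
    (hAG : A ≤ Subgroup.normalizer (G : Set X))
    (hcop : (Nat.card A).Coprime (Nat.card G)) (hs : Group.IsSolvable G) (hUG : U ≤ G)
    (hAU : A ≤ Subgroup.normalizer (U : Set X)) (hU : PiN π (Nat.card U)) :
    ∃ H, Cfsg.IsPiHallOf π H G ∧ A ≤ Subgroup.normalizer (H : Set X) ∧ U ≤ H := by
  have hGY : G ≤ Subgroup.normalizer (G : Set X) := Subgroup.le_normalizer
  haveI hn0 : (G.subgroupOf (Subgroup.normalizer (G : Set X))).Normal :=
    Subgroup.normal_in_normalizer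
  generalize Subgroup.normalizer (G : Set X) = Y at hAG hGY hn0
  have hUY : U ≤ Y := hUG.trans hGY
  obtain ⟨H', hH', hAH', hUH'⟩ := dom π _ Y (A.subgroupOf Y) (G.subgroupOf Y) rfl
    (by rw [card_subgroupOf hAG, card_subgroupOf hGY]; exact hcop)
    (isSolvable_subgroupOf hs) (U.subgroupOf Y) (Subgroup.comap_mono hUG)
    (by rw [← Subgroup.subgroupOf_normalizer_eq hUY]; exact Subgroup.comap_mono hAU)
    (by rw [card_subgroupOf hUY]; exact hU)
  have e1 : (H'.map Y.subtype).subgroupOf Y = H' :=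
    Subgroup.comap_map_eq_self_of_injective Y.subtype_injective H'
  have e2 : (G.subgroupOf Y).map Y.subtype = G := Subgroup.map_subgroupOf_eq_of_le hGY
  refine ⟨H'.map Y.subtype, ⟨?_, ?_, ?_⟩, ?_, ?_⟩
  · exact Subgroup.map_le_iff_le_comap.2 hH'.1
  · rw [Subgroup.card_map_of_injective Y.subtype_injective]; exact hH'.2.1
  · have := Subgroup.relIndex_comap (H'.map Y.subtype) Y.subtype (G.subgroupOf Y)
    rw [e2] at this
    rw [← this]
    have e1' : (H'.map Y.subtype).comap Y.subtype = H' := e1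
    rw [e1']
    exact hH'.2.2
  · intro a ha
    have h1 : (⟨a, hAG ha⟩ : Y) ∈ Subgroup.normalizer (H' : Set Y) :=
      hAH' (show (⟨a, hAG ha⟩ : Y) ∈ A.subgroupOf Y from ha)
    rw [← e1, ← Subgroup.subgroupOf_normalizer_eq (Subgroup.map_subtype_le H')] at h1
    exact h1
  · have := Subgroup.map_mono (f := Y.subtype) hUH'
    rwa [Subgroup.map_subgroupOf_eq_of_le hUY] at this

theorem result {X : Type*} [Group X] [Finite X] (A G : Subgroup X) (hAG : A ≤ Subgroup.normalizer (G : Set X)) (hcop : (Nat.card A).Coprime (Nat.card G)) (hsolv : Group.IsSolvable G) (π : Set ℕ) : (∃ H : Subgroup X, Cfsg.IsPiHallOf π H G ∧ A ≤ Subgroup.normalizer (H : Set X)) ∧ (∀ H₁ H₂ : Subgroup X, Cfsg.IsPiHallOf π H₁ G → A ≤ Subgroup.normalizer (H₁ : Set X) → Cfsg.IsPiHallOf π H₂ G → A ≤ Subgroup.normalizer (H₂ : Set X) → ∃ c ∈ G ⊓ Subgroup.centralizer (A : Set X), H₂ = H₁.map (MulAut.conj c).toMonoidHom) ∧ (∀ U : Subgroup X, U ≤ G → A ≤ Subgroup.normalizer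 (U : Set X) → (∀ p : ℕ, p.Prime → p ∣ Nat.card U → p ∈ π) → ∃ H : Subgroup X, Cfsg.IsPiHallOf π H G ∧ A ≤ Subgroup.normalizer (H : Set X) ∧ U ≤ H) := by
  refine ⟨inv_exists A G hAG hcop hsolv, ?_, ?_⟩
  · intro H₁ H₂ h1 a1 h2 a2
    obtain ⟨c, hc, hce⟩ := inv_conj A G hAG hcop hsolv h1 a1 h2 a2
    exact ⟨c, hc, hce.symm⟩
  · intro U hUG hAU hU
    exact dom_amb A G U hAG hcop hsolv hUG hAU hU

end Cfsg.Agent.S3745
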