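import Cfsg.Statements.S3768
import Cfsg.Agent.Lib.Helper1.FrobD

set_option autoImplicit false
open Cfsg

namespace Cfsg.Agent.S3768

/-- Let G be a finite Frobenius group with Frobenius complement R and Frobenius kernel K (the identity together with the elements in no conjugate of R), and let N be a normal subgroup of G not containing K. Then G/N is a Frobenius group with Frobenius complement RN/N whose Frobenius kernel is the image of K. -/
theorem result {G : Type*} [Group G] [Finite G] (R : Subgroup G) (hR : Cfsg.IsFrobeniusComplement R) (N : Subgroup G) [N.Normal] (hKN : ¬ Cfsg.frobeniusKernel R ⊆ N) : Cfsg.IsFrobeniusComplement (R.map (QuotientGroup.mk' N)) ∧ Cfsg.frobeniusKernel (R.map (QuotientGroup.mk' N)) = QuotientGroup.mk' N '' Cfsg.frobeniusKernel R := by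
  obtain ⟨K, hK, hKn, hc⟩ := Cfsg.Agent.Lib.Helper1.FrobC.frobenius_theorem R hR
  have hNn : N.Normal := inferInstance
  have hd : K ⊓ R = ⊥ := disjoint_iff.mp hc.disjoint
  have hKN' : ¬ K ≤ N := by rw [← hK] at hKN; exact hKN
  have hNK : N ≤ K := by
    rcases Cfsg.Agent.Lib.Helper1.FrobD.normal_comparable hR hc N inferInstance with h | h
    · exact absurd h hKN'
    · exact h
  have hKbn : (K.map (QuotientGroup.mk' N)).Normal := hKn.map _ (QuotientGroup.mk'_surjective N)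
  have hdb : Disjoint (K.map (QuotientGroup.mk' N)) (R.map (QuotientGroup.mk' N)) := by
    rw [disjoint_iff, eq_bot_iff]
    rintro q ⟨⟨k, hk, rfl⟩, ⟨r, hr, hrk⟩⟩
    have h1 : k⁻¹ * r ∈ N := by
      rw [← QuotientGroup.eq]
      exact hrk.symm
    have h2 : r ∈ K := by
      have : r = k * (k⁻¹ * r) := by group
      rw [this]
      exact K.mul_mem hk (hNK h1)
    have h3 : r ∈ K ⊓ R := ⟨h2, hr⟩
    rw [hd, Subgroup.mem_bot] at h3
    rw [Subgroup.mem_bot, ← hrk, h3, map_one]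
  have hcb : Subgroup.IsComplement' (K.map (QuotientGroup.mk' N)) (R.map (QuotientGroup.mk' N)) := by
    apply Subgroup.isComplement'_of_disjoint_and_mul_eq_univ hdb
    rw [← Subgroup.normal_mul, ← Subgroup.map_sup, hc.sup_eq_top,
      Subgroup.map_top_of_surjective _ (QuotientGroup.mk'_surjective N)]
    rfl
  have hKb : K.map (QuotientGroup.mk' N) ≠ ⊥ := by
    rw [Ne, Subgroup.map_eq_bot_iff, QuotientGroup.ker_mk']
    exact hKN'
  have hRb : R.map (QuotientGroup.mk' N) ≠ ⊥ := by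
    rw [Ne, Subgroup.map_eq_bot_iff, QuotientGroup.ker_mk']
    intro h
    apply hR.1
    rw [eq_bot_iff, ← hd]
    exact le_inf (h.trans hNK) le_rfl
  have hF : Cfsg.IsFrobeniusComplement (R.map (QuotientGroup.mk' N)) := by
    apply Cfsg.Agent.Lib.Helper1.FrobD.frob_of_fpf _ _ hcb hKb hRb
    rintro _ ⟨r, hr, rfl⟩ hr1 _ ⟨g, hg, rfl⟩ hcomm
    have hr1' : r ≠ 1 := by
      rintro rfl
      exact hr1 (map_one _)
    have hfix : ∀ k ∈ K, r * k = k * r → k = 1 :=
      fun k hk hc' => Cfsg.Agent.Lib.Helper1.FrobD.fix_eq_one hR hd hr hr1' hk hc'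
    have h2 : g * r * g⁻¹ * r⁻¹ ∈ N := by
      rw [← QuotientGroup.eq_one_iff]
      have e : ((g * r * g⁻¹ * r⁻¹ : G) : G ⧸ N) =
        (QuotientGroup.mk' N g) * (QuotientGroup.mk' N r) * (QuotientGroup.mk' N g)⁻¹ * (QuotientGroup.mk' N r)⁻¹ := rfl
      rw [e, ← hcomm]
      group
    obtain ⟨a, ha, hae⟩ := Cfsg.Agent.Lib.Helper1.FrobD.fpf_surj hNn r
      (fun k hk hc' => hfix k (hNK hk) hc') (g⁻¹ * (g * r * g⁻¹ * r⁻¹)⁻¹ * g)
      (by
        have := hNn.conj_mem _ (N.inv_mem h2) g⁻¹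
        simpa using this)
    have h3 : r * (g * a) = g * a * r := by
      have e1 : g * a * r * (g * a)⁻¹ * r⁻¹ = g * (a * r * a⁻¹ * r⁻¹) * g⁻¹ * (g * r * g⁻¹ * r⁻¹) := by group
      rw [hae] at e1
      have e2 : g * (g⁻¹ * (g * r * g⁻¹ * r⁻¹)⁻¹ * g) * g⁻¹ * (g * r * g⁻¹ * r⁻¹) = 1 := by group
      rw [e2] at e1
      rw [mul_inv_eq_one, mul_inv_eq_iff_eq_mul] at e1
      exact e1.symm
    have h4 := hfix (g * a) (K.mul_mem hg (hNK ha)) h3
    have h5 : g ∈ N := by
      have : g = a⁻¹ := eq_inv_of_mul_eq_one_left h4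
      rw [this]; exact N.inv_mem ha
    exact (QuotientGroup.eq_one_iff g).mpr h5
  refine ⟨hF, ?_⟩
  rw [← Cfsg.Agent.Lib.Helper1.FrobD.kernel_eq_of_compl hF hcb, ← hK]
  rfl

end Cfsg.Agent.S3768
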