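import Cfsg.Statements.S3800
import Cfsg.Agent.Lib.Helper3.Bar
open Cfsg.Agent.Lib.Helper3.PLocal

set_option autoImplicit false
open Cfsg

namespace Cfsg.Agent.S3800

/-- Let G be a finite group, N a normal subgroup of G whose order is prime to p, and P a p-subgroup of G. Then in G/N the normalizer of the image of P is the image of N_G(P), and the centralizer of the image of P is the image of C_G(P). -/
theorem result {G : Type*} [Group G] [Finite G] {p : ℕ} [Fact p.Prime] (N : Subgroup G) [N.Normal] (hN : (Nat.card N).Coprime p) (P : Subgroup G) (hP : IsPGroup p P) : Subgroup.normalizer ((P.map (QuotientGroup.mk' N)) : Set (G ⧸ N)) = (Subgroup.normalizer (P : Set G)).map (QuotientGroup.mk' N) ∧ Subgroup.centralizer ((P.map (QuotientGroup.mk' N)) : Set (G ⧸ N)) = (Subgroup.centralizer (P : Set G)).map (QuotientGroup.mk' N) := by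
  constructor
  · apply le_antisymm
    · intro y hy
      obtain ⟨x, rfl⟩ := QuotientGroup.mk'_surjective N y
      obtain ⟨o, ho, n, hn, rfl⟩ := lift_normalizer hN hP hy
      have ho1 : QuotientGroup.mk' N o = 1 := (QuotientGroup.eq_one_iff o).2 ho
      exact ⟨n, hn, by rw [map_mul, ho1, one_mul]⟩
    · rintro _ ⟨n, hn, rfl⟩
      apply Subgroup.mem_normalizer_fintype
      rintro _ ⟨t, ht, rfl⟩
      exact ⟨n * t * n⁻¹, conj_mem_of_normalizer hn ht, by simp⟩
  · apply le_antisymm
    · intro y hy
      obtain ⟨x, rfl⟩ := QuotientGroup.mk'_surjective N y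
      obtain ⟨o, ho, n, hn, rfl⟩ := lift_centralizer hN hP hy
      have ho1 : QuotientGroup.mk' N o = 1 := (QuotientGroup.eq_one_iff o).2 ho
      exact ⟨n, hn, by rw [map_mul, ho1, one_mul]⟩
    · rintro _ ⟨n, hn, rfl⟩
      rw [Subgroup.mem_centralizer_iff]
      rintro _ ⟨t, ht, rfl⟩
      rw [← map_mul, ← map_mul, (Subgroup.mem_centralizer_iff.1 hn) t ht]

end Cfsg.Agent.S3800
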