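import Cfsg.Statements.S3808
import Mathlib
import Cfsg.Agent.Lib.Helper6.Hyp
import Cfsg.Agent.Lib.Helper6.Rad

set_option autoImplicit false
open Cfsg

namespace Cfsg.Agent.S3808

/-- Let S be a finite p-group with an extraspecial subgroup Q of index p. Then either Z(S) = Z(Q), or S = Q·Z(S) and Z(S) has order p². -/
theorem result {S : Type*} [Group S] [Finite S] (p : ℕ) [Fact p.Prime] (hS : IsPGroup p S) (Q : Subgroup S) (hQ : Cfsg.IsExtraspecial p ↥Q) (hQi : Q.index = p) :
    Subgroup.center S = (Subgroup.center ↥Q).map Q.subtype ∨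
      (Q ⊔ Subgroup.center S = ⊤ ∧ Nat.card (Subgroup.center S) = p ^ 2) := by
  have hp : p.Prime := Fact.out
  have hZQc : Nat.card ((Subgroup.center ↥Q).map Q.subtype) = p := by
    rw [Subgroup.card_map_of_injective Q.subtype_injective, hQ.2]
  obtain ⟨n, hn⟩ := IsPGroup.iff_card.mp hS
  have hn0 : n ≠ 0 := by
    rintro rfl
    have h1 := Q.index_dvd_card
    rw [hQi, hn, pow_zero] at h1
    exact hp.one_lt.ne' (Nat.dvd_one.mp h1)
  have hQn : Q.Normal := by
    apply Subgroup.normal_of_index_eq_minFac_card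
    rw [hQi, hn, Nat.pow_minFac hn0, hp.minFac_eq]
  have hQ1 : Q ≠ ⊥ := by
    intro h
    have h1 : (Subgroup.center ↥Q).map Q.subtype ≤ Q := Subgroup.map_subtype_le _
    have h2 : (Subgroup.center ↥Q).map Q.subtype = ⊥ := le_bot_iff.mp (h1.trans h.le)
    rw [h2, Subgroup.card_bot] at hZQc
    exact hp.one_lt.ne hZQc
  haveI : Group.IsNilpotent S := hS.isNilpotent
  obtain ⟨z, hzQ, hz1, hzZ⟩ := Cfsg.Agent.Lib.Helper6.Hyp.exists_central S Q hQ1
  have hle : Subgroup.center S ⊓ Q ≤ (Subgroup.center ↥Q).map Q.subtype := by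
    rintro x ⟨hx1, hx2⟩
    refine ⟨⟨x, hx2⟩, ?_, rfl⟩
    rw [SetLike.mem_coe, Subgroup.mem_center_iff]
    intro y
    exact Subtype.ext (Subgroup.mem_center_iff.mp hx1 y)
  have hinf : Subgroup.center S ⊓ Q = (Subgroup.center ↥Q).map Q.subtype := by
    apply Subgroup.eq_of_le_of_card_ge hle
    rw [hZQc]
    have h1 := Subgroup.card_dvd_of_le hle
    rw [hZQc] at h1
    rcases (Nat.dvd_prime hp).mp h1 with h | h
    · exfalso
      have h2 := Subgroup.eq_bot_of_card_eq _ h
      have h3 : z ∈ Subgroup.center S ⊓ Q := ⟨hzZ, hzQ⟩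
      rw [h2] at h3
      exact hz1 (Subgroup.mem_bot.mp h3)
    · exact h.ge
  by_cases hZ : Subgroup.center S ≤ Q
  · left
    rw [← hinf, inf_of_le_left hZ]
  · right
    have htop : Q ⊔ Subgroup.center S = ⊤ := by
      have h1 : (Q ⊔ Subgroup.center S).index ∣ p := hQi ▸ Subgroup.index_dvd_of_le le_sup_left
      rcases (Nat.dvd_prime hp).mp h1 with h | h
      · exact Subgroup.index_eq_one.mp h
      · exfalso
        have h2 := Subgroup.relIndex_mul_index (H := Q) (K := Q ⊔ Subgroup.center S) le_sup_left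
        rw [h, hQi] at h2
        have h3 : Q.relIndex (Q ⊔ Subgroup.center S) = 1 := by
          have : Q.relIndex (Q ⊔ Subgroup.center S) * p = 1 * p := by rw [h2, one_mul]
          exact Nat.eq_of_mul_eq_mul_right hp.pos this
        exact hZ (le_sup_right.trans (Subgroup.relIndex_eq_one.mp h3))
    refine ⟨htop, ?_⟩
    have h1 := Cfsg.Agent.Lib.Helper6.Rad.card_sup_mul (M := Q) (N := Subgroup.center S)
      (by
        show Subgroup.center S ≤ Subgroup.normalizer (Q : Set S)
        rw [Subgroup.normalizer_eq_top_iff.mpr hQn]; exact le_top)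
    rw [htop, inf_comm, hinf, hZQc, Subgroup.card_top, ← Q.card_mul_index, hQi, mul_assoc] at h1
    have h2 := Nat.eq_of_mul_eq_mul_left Nat.card_pos h1
    rw [← h2, pow_two]

end Cfsg.Agent.S3808
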