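import Mathlib
import Cfsg.Statements.S3824
import Cfsg.Agent.Lib.Helper7.CharBurnside
import Cfsg.Agent.Lib.Helper2.Index

set_option autoImplicit false
open Cfsg

namespace Cfsg.Agent.S3824

universe u

theorem aux : ∀ (n : ℕ) (G : Type u) [Group G] [Finite G], Nat.card G = n →
    ∀ (A : Subgroup G), IsMulCommutative A → (∃ k : ℕ, A.index = 2 ^ k) →
      Group.IsSolvable G := by
  intro n
  induction n using Nat.strong_induction_on with
  | _ n ih =>
  intro G _ _ hn A hA hidx
  obtain ⟨k, hk⟩ := hidx
  by_cases hex : ∃ N : Subgroup G, N.Normal ∧ N ≠ ⊥ ∧ N ≠ ⊤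
  · obtain ⟨N, hNn, hNb, hNt⟩ := hex
    have h1 : 1 < Nat.card N := by
      rw [Finite.one_lt_card_iff_nontrivial]
      exact (Subgroup.nontrivial_iff_ne_bot N).mpr hNb
    have h2 : 0 < N.index := Nat.pos_of_ne_zero (Subgroup.index_ne_zero_of_finite)
    have h3 : 1 < N.index := by
      rcases Nat.lt_or_ge 1 N.index with h | h
      · exact h
      · exact absurd (Subgroup.index_eq_one.mp (by omega)) hNt
    have hlt : Nat.card (G ⧸ N) < n := by
      rw [← hn, ← Subgroup.index_eq_card, ← Subgroup.index_mul_card N]
      nlinarith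
    have hlt' : Nat.card N < n := by
      rw [← hn, ← Subgroup.index_mul_card N]
      nlinarith
    have hNsol : Group.IsSolvable N := by
      apply ih _ hlt' N rfl (A.subgroupOf N)
      · exact ⟨⟨fun a b => by
          have := mul_comm' (⟨a.1.1, a.2⟩ : A) ⟨b.1.1, b.2⟩
          have h' : a.1.1 * b.1.1 = b.1.1 * a.1.1 := congrArg Subtype.val this
          apply Subtype.ext
          apply Subtype.ext
          exact h'⟩⟩
      · have hd : A.relIndex N ∣ 2 ^ k :=
          hk ▸ Cfsg.Agent.Lib.Helper2.Index.relIndex_normal_dvd_index N A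
        obtain ⟨j, _, hj⟩ := (Nat.dvd_prime_pow Nat.prime_two).mp hd
        exact ⟨j, hj⟩
    have hQ : Group.IsSolvable (G ⧸ N) := by
      apply ih _ hlt (G ⧸ N) rfl (A.map (QuotientGroup.mk' N))
      · exact ⟨⟨fun a b => by
          obtain ⟨a, x, hx, rfl⟩ := a
          obtain ⟨b, y, hy, rfl⟩ := b
          apply Subtype.ext
          have := mul_comm' (⟨x, hx⟩ : A) ⟨y, hy⟩
          have h' : x * y = y * x := congrArg Subtype.val this
          change (QuotientGroup.mk' N) x * (QuotientGroup.mk' N) y
            = (QuotientGroup.mk' N) y * (QuotientGroup.mk' N) x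
          rw [← map_mul, ← map_mul, h']⟩⟩
      · have hd : (A.map (QuotientGroup.mk' N)).index ∣ 2 ^ k :=
          hk ▸ Subgroup.index_map_dvd A (QuotientGroup.mk'_surjective N)
        obtain ⟨j, _, hj⟩ := (Nat.dvd_prime_pow Nat.prime_two).mp hd
        exact ⟨j, hj⟩
    exact (Group.isSolvable_iff_subgroup_quotient N).mpr ⟨hNsol, hQ⟩
  · push Not at hex
    rcases subsingleton_or_nontrivial G with hs | hnt
    · infer_instance
    · haveI : IsSimpleGroup G := ⟨fun N hN => by
        by_cases hb : N = ⊥
        · exact Or.inl hb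
        · exact Or.inr (hex N hN hb)⟩
      by_cases hAb : A = ⊥
      · have hc : Nat.card G = 2 ^ k := by
          rw [← hk, hAb, Subgroup.index_bot]
        haveI : Fact (Nat.Prime 2) := ⟨Nat.prime_two⟩
        have hp : IsPGroup 2 G := IsPGroup.of_card hc
        haveI := hp.isNilpotent
        infer_instance
      · obtain ⟨a, haA, ha1⟩ : ∃ a ∈ A, a ≠ 1 := by
          by_contra hcon
          push Not at hcon
          exact hAb ((Subgroup.eq_bot_iff_forall A).mpr hcon)
        have hle : A ≤ Subgroup.centralizer ({a} : Set G) := by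
          intro x hx
          rw [Subgroup.mem_centralizer_singleton_iff]
          have := mul_comm' (⟨x, hx⟩ : A) ⟨a, haA⟩
          exact congrArg Subtype.val this
        have hd : (Subgroup.centralizer ({a} : Set G)).index ∣ 2 ^ k :=
          hk ▸ Subgroup.index_dvd_of_le hle
        obtain ⟨j, _, hj⟩ := (Nat.dvd_prime_pow Nat.prime_two).mp hd
        have hprime := Cfsg.Agent.Lib.Helper7.CharBurnside.prime_card_of_simple_of_prime_power_class
          2 j Nat.prime_two a ha1 hj
        haveI : Fact (Nat.card G).Prime := ⟨hprime⟩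
        haveI := isCyclic_of_prime_card (α := G) rfl
        exact Group.isSolvable_of_comm (fun a b => IsCyclic.commGroup.mul_comm a b)

/-- Every finite group having an abelian subgroup whose index is a power of 2 is solvable. -/
theorem result {G : Type*} [Group G] [Finite G]
    (A : Subgroup G) (hA : IsMulCommutative A) (hidx : ∃ k : ℕ, A.index = 2 ^ k) : Group.IsSolvable G := by
  exact aux _ G rfl A hA hidx

end Cfsg.Agent.S3824
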