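import Cfsg.Statements.S3870
import Cfsg.Agent.Lib.Helper1.Frobenius

set_option autoImplicit false
open Cfsg

namespace Cfsg.Agent.S3870

open Pointwise
open Cfsg.Agent.Lib.Helper1

/-- Let G be a finite simple group whose Sylow p-subgroups are not normal but such that every proper subgroup of G has a normal Sylow p-subgroup. Then any two distinct Sylow p-subgroups of G intersect trivially, and for every Sylow p-subgroup P the normalizer of every non-identity subgroup of P lies in the normalizer of P. -/
theorem result {G : Type*} [Group G] [Finite G] [IsSimpleGroup G] {p : ℕ} [Fact p.Prime]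
    (hnc : ¬ Cfsg.IsPClosed p G) (hsub : ∀ H : Subgroup G, H ≠ ⊤ → Cfsg.IsPClosed p ↥H) :
    (∀ P Q : Sylow p G, P ≠ Q → (P : Subgroup G) ⊓ (Q : Subgroup G) = ⊥) ∧
      ∀ (P : Sylow p G) (R : Subgroup G), R ≤ P → R ≠ ⊥ →
        Subgroup.normalizer (R : Set G) ≤ Subgroup.normalizer ((P : Subgroup G) : Set G) := by
  have hTI : ∀ n : ℕ, ∀ P Q : Sylow p G, P ≠ Q → (P : Subgroup G) ⊓ (Q : Subgroup G) ≠ ⊥ →
      Nat.card (P : Subgroup G) - Nat.card ((P : Subgroup G) ⊓ (Q : Subgroup G) : Subgroup G) = n → False := by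
    intro n
    induction n using Nat.strong_induction_on with
    | _ n ih =>
      intro P Q hPQ hD hn
      obtain ⟨D, hDdef⟩ : ∃ D, D = (P : Subgroup G) ⊓ (Q : Subgroup G) := ⟨_, rfl⟩
      rw [← hDdef] at hD hn
      have hDP : D < P := by
        apply lt_of_le_of_ne (hDdef ▸ inf_le_left)
        intro h
        apply hPQ
        apply Sylow.ext
        exact (P.3 Q.2 (by rw [← h, hDdef]; exact inf_le_right)).symm
      have hDQ : D < Q := by
        apply lt_of_le_of_ne (hDdef ▸ inf_le_right)
        intro h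
        apply hPQ
        apply Sylow.ext
        exact (Q.3 P.2 (by rw [← h, hDdef]; exact inf_le_left))
      have hN : Subgroup.normalizer (D : Set G) ≠ ⊤ := by
        intro h
        have hDn : D.Normal := Subgroup.normalizer_eq_top_iff.mp h
        rcases hDn.eq_bot_or_eq_top with h1 | h1
        · exact hD h1
        · rw [h1] at hDP
          exact not_top_lt hDP
      obtain ⟨N, hNdef⟩ : ∃ N, N = Subgroup.normalizer (D : Set G) := ⟨_, rfl⟩
      rw [← hNdef] at hN
      have hcl := hsub N hN
      obtain ⟨T⟩ : Nonempty (Sylow p N) := inferInstance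
      haveI : Subsingleton (Sylow p N) := (Sylow.unique_of_normal T (hcl T)).instSubsingleton
      obtain ⟨S, hS⟩ := (T.2.map N.subtype).exists_le_sylow
      have hle : ∀ A : Subgroup G, IsPGroup p A → A ≤ N → A ≤ S := by
        intro A hA hAN
        have h1 : IsPGroup p (A.subgroupOf N) := hA.comap_of_injective N.subtype N.subtype_injective
        obtain ⟨T', hT'⟩ := h1.exists_le_sylow
        rw [Subsingleton.elim T' T] at hT'
        intro a ha
        apply hS
        exact ⟨⟨a, hAN ha⟩, hT' (Subgroup.mem_subgroupOf.mpr ha), rfl⟩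
      have h1 := lt_inf_normalizer_of_lt P.2 hDP
      have h2 := lt_inf_normalizer_of_lt Q.2 hDQ
      rw [← hNdef] at h1 h2
      have h3 : (P : Subgroup G) ⊓ N ≤ S := hle _ (P.2.to_le inf_le_left) inf_le_right
      have h4 : (Q : Subgroup G) ⊓ N ≤ S := hle _ (Q.2.to_le inf_le_left) inf_le_right
      have hcardS : ∀ R : Sylow p G, Nat.card (R : Subgroup G) = Nat.card (P : Subgroup G) := by
        intro R
        exact Sylow.card_eq_multiplicity R |>.trans (Sylow.card_eq_multiplicity P).symm
      have step : ∀ R : Sylow p G, D < (R : Subgroup G) ⊓ N → (R : Subgroup G) ⊓ N ≤ S → S = R := by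
        intro R hR1 hR2
        by_contra hne
        have h5 : D < (S : Subgroup G) ⊓ (R : Subgroup G) :=
          lt_of_lt_of_le hR1 (le_inf hR2 inf_le_left)
        have h6 : (S : Subgroup G) ⊓ (R : Subgroup G) ≠ ⊥ := by
          intro h
          rw [h] at h5
          exact not_lt_bot h5
        have h7 : Nat.card D < Nat.card ((S : Subgroup G) ⊓ (R : Subgroup G) : Subgroup G) :=
          card_lt_of_lt h5
        have h8 : Nat.card ((S : Subgroup G) ⊓ (R : Subgroup G) : Subgroup G) ≤ Nat.card (S : Subgroup G) :=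
          Subgroup.card_le_of_le inf_le_left
        have h9 : Nat.card D < Nat.card (P : Subgroup G) := card_lt_of_lt hDP
        refine ih (Nat.card (S : Subgroup G) - Nat.card ((S : Subgroup G) ⊓ (R : Subgroup G) : Subgroup G)) ?_ S R hne h6 rfl
        rw [hcardS S] at h8 ⊢
        omega
      exact hPQ ((step P h1 h3).symm.trans (step Q h2 h4))
  have hTI' : ∀ P Q : Sylow p G, P ≠ Q → (P : Subgroup G) ⊓ (Q : Subgroup G) = ⊥ := by
    intro P Q hPQ
    by_contra h
    exact hTI _ P Q hPQ h rfl
  refine ⟨hTI', ?_⟩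
  intro P R hRP hR g hg
  apply (Sylow.smul_eq_iff_mem_normalizer (P := P)).mp
  by_contra hne
  have h1 := hTI' P (g • P) (fun h => hne h.symm)
  apply hR
  rw [eq_bot_iff, ← h1]
  apply le_inf hRP
  rw [Sylow.coe_subgroup_smul]
  have h2 : MulAut.conj g • R = R := Subgroup.mem_normalizer_iff_map_conj_eq.mp hg
  rw [← h2]
  exact Subgroup.pointwise_smul_le_pointwise_smul_iff.mpr hRP

end Cfsg.Agent.S3870
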