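import Cfsg.Statements.S3889


set_option autoImplicit false
open Cfsg

namespace Cfsg.Agent.S3889

/-- A finite abelian group that is the union of a family of proper subgroups any two of which intersect trivially is elementary abelian: its exponent is a prime. -/
theorem result {G : Type*} [CommGroup G] [Finite G] (𝓑 : Set (Subgroup G)) (hprop : ∀ B ∈ 𝓑, B ≠ ⊤)
    (hcov : ∀ g : G, ∃ B ∈ 𝓑, g ∈ B) (hdisj : ∀ B ∈ 𝓑, ∀ C ∈ 𝓑, B ≠ C → B ⊓ C = ⊥) :
    (Monoid.exponent G).Prime := by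
  -- elements in different components
  have key : ∀ B ∈ 𝓑, ∀ x ∈ B, x ≠ 1 → ∀ y, y ∉ B → orderOf y ∣ orderOf x := by
    intro B hB x hx hx1 y hy
    obtain ⟨By, hBy, hyBy⟩ := hcov y
    obtain ⟨C, hC, hxyC⟩ := hcov (x * y)
    have hne : C ≠ By := by
      rintro rfl
      have hxC : x ∈ C := by
        have := C.mul_mem hxyC (C.inv_mem hyBy)
        rwa [mul_inv_cancel_right] at this
      have hBC : B ≠ C := by
        rintro rfl
        exact hy hyBy
      have : x ∈ B ⊓ C := Subgroup.mem_inf.mpr ⟨hx, hxC⟩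
      rw [hdisj B hB C hC hBC] at this
      exact hx1 this
    have h1 : y ^ orderOf x ∈ C ⊓ By := by
      refine Subgroup.mem_inf.mpr ⟨?_, By.pow_mem hyBy _⟩
      have := C.pow_mem hxyC (orderOf x)
      rwa [mul_pow, pow_orderOf_eq_one, one_mul] at this
    rw [hdisj C hC By hBy hne] at h1
    exact orderOf_dvd_of_pow_eq_one h1
  have key2 : ∀ B ∈ 𝓑, ∀ x ∈ B, x ≠ 1 → ∀ y, y ∉ B → orderOf y = orderOf x := by
    intro B hB x hx hx1 y hy
    apply Nat.dvd_antisymm (key B hB x hx hx1 y hy)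
    obtain ⟨By, hBy, hyBy⟩ := hcov y
    have hy1 : y ≠ 1 := by
      rintro rfl
      exact hy B.one_mem
    apply key By hBy y hyBy hy1 x
    intro hxBy
    have hne : B ≠ By := by
      rintro rfl
      exact hy hyBy
    have : x ∈ B ⊓ By := Subgroup.mem_inf.mpr ⟨hx, hxBy⟩
    rw [hdisj B hB By hBy hne] at this
    exact hx1 this
  have hall : ∀ x y : G, x ≠ 1 → y ≠ 1 → orderOf x = orderOf y := by
    intro x y hx1 hy1
    obtain ⟨B, hB, hx⟩ := hcov x
    by_cases hy : y ∈ B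
    · obtain ⟨z, hz⟩ : ∃ z, z ∉ B := by
        by_contra hc
        push Not at hc
        exact hprop B hB (eq_top_iff.mpr fun z _ => hc z)
      rw [← key2 B hB x hx hx1 z hz, ← key2 B hB y hy hy1 z hz]
    · exact (key2 B hB x hx hx1 y hy).symm
  obtain ⟨B0, hB0, -⟩ := hcov 1
  obtain ⟨z, hz⟩ : ∃ z, z ∉ B0 := by
    by_contra hc
    push Not at hc
    exact hprop B0 hB0 (eq_top_iff.mpr fun z _ => hc z)
  have hz1 : z ≠ 1 := by
    rintro rfl
    exact hz B0.one_mem
  haveI : Nontrivial G := ⟨⟨z, 1, hz1⟩⟩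
  have ho1 : orderOf z ≠ 1 := fun h => hz1 (orderOf_eq_one_iff.mp h)
  obtain ⟨p, hp, hpd⟩ := Nat.exists_prime_and_dvd ho1
  obtain ⟨m, hm⟩ := hpd
  have hzm : orderOf (z ^ m) = p := by
    have hpos : 0 < orderOf z := orderOf_pos z
    have hm0 : m ≠ 0 := by
      rintro rfl
      rw [mul_zero] at hm
      omega
    rw [orderOf_pow_of_dvd hm0 ⟨p, by rw [hm, mul_comm]⟩, hm]
    exact Nat.mul_div_cancel _ (Nat.pos_of_ne_zero hm0)
  have hzm1 : z ^ m ≠ 1 := by
    intro h
    rw [h, orderOf_one] at hzm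
    exact hp.one_lt.ne hzm
  have : Monoid.exponent G = p := by
    rw [Monoid.exponent_eq_prime_iff hp]
    intro g hg
    rw [hall g _ hg hzm1, hzm]
  rw [this]
  exact hp

end Cfsg.Agent.S3889
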