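import Cfsg.Statements.S3908
import Cfsg.Agent.Lib.Helper3.UniqP4

set_option autoImplicit false
open Cfsg

namespace Cfsg.Agent.S3908

/-- Let G be a finite group in which any two abelian subgroups of the same order are conjugate. Then a Sylow 2-subgroup of G is cyclic, elementary abelian or generalized quaternion, and for an odd prime p a Sylow p-subgroup of G is cyclic or has exponent dividing p. -/
theorem result {G : Type*} [Group G] [Finite G] (hB : ∀ A B : Subgroup G, IsMulCommutative ↥A → IsMulCommutative ↥B → Nat.card ↥A = Nat.card ↥B → ∃ g : G, B = A.map (MulAut.conj g).toMonoidHom) :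
    (∀ P : Sylow 2 G, IsCyclic ↥(P : Subgroup G) ∨ Cfsg.IsElementaryAbelian 2 (P : Subgroup G) ∨ ∃ k : ℕ, Nonempty (↥(P : Subgroup G) ≃* QuaternionGroup (2 ^ k))) ∧
    ∀ (p : ℕ) [Fact p.Prime], p ≠ 2 → ∀ P : Sylow p G, IsCyclic ↥(P : Subgroup G) ∨ ∀ x ∈ (P : Subgroup G), x ^ p = 1 := by
  have key : ∀ (p : ℕ) [Fact p.Prime] (P : Sylow p G), (∀ x ∈ P, x ^ p = 1) ∨
      IsCyclic ↥(P : Subgroup G) ∨
      (p = 2 ∧ ∃ n : ℕ, Nonempty (↥(P : Subgroup G) ≃* QuaternionGroup (2 ^ n))) := by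
    intro p hp P
    by_cases hexp : ∀ x ∈ P, x ^ p = 1
    · exact Or.inl hexp
    right
    push Not at hexp
    obtain ⟨x, hxP, hx⟩ := hexp
    obtain ⟨j, hj⟩ := (IsPGroup.iff_orderOf.1 P.2) ⟨x, hxP⟩
    rw [Subgroup.orderOf_mk] at hj
    have hj2 : 2 ≤ j := by
      by_contra hc
      apply hx
      have h1 : orderOf x ∣ p := by
        rw [hj]
        calc p ^ j ∣ p ^ 1 := pow_dvd_pow p (by omega)
          _ = p := pow_one p
      exact orderOf_dvd_iff_pow_eq_one.1 h1
    have hco : orderOf (x ^ p ^ (j - 2)) = p ^ 2 := by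
      rw [orderOf_pow_of_dvd (pow_pos hp.out.pos _).ne'
        (by rw [hj]; exact pow_dvd_pow p (Nat.sub_le j 2)),
        hj, Nat.pow_div (Nat.sub_le j 2) hp.out.pos]
      congr 1; omega
    apply Cfsg.Agent.Lib.Helper3.UniqP.cyclic_or_quat_of_no_rank_two p (P : Subgroup G) P.2
    intro E hE hEc hEexp hcard
    obtain ⟨g, hg⟩ := hB E (Subgroup.zpowers (x ^ p ^ (j - 2))) hEc inferInstance
      (by rw [hcard, Nat.card_zpowers, hco])
    have h1 : x ^ p ^ (j - 2) ∈ E.map (MulAut.conj g).toMonoidHom :=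
      hg ▸ Subgroup.mem_zpowers _
    obtain ⟨e, he, he'⟩ := h1
    have h2 : (x ^ p ^ (j - 2)) ^ p = 1 := by
      rw [← he', ← map_pow, hEexp e he, map_one]
    have h3 := orderOf_dvd_of_pow_eq_one h2
    rw [hco] at h3
    have h4 := Nat.le_of_dvd hp.out.pos h3
    have h5 : p < p ^ 2 := by
      calc p = p ^ 1 := (pow_one p).symm
        _ < p ^ 2 := Nat.pow_lt_pow_right hp.out.one_lt (by norm_num)
    omega
  constructor
  · intro P
    rcases key 2 P with h | h | ⟨-, n, h⟩
    · right; left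
      refine ⟨⟨⟨fun a b => ?_⟩⟩, h⟩
      apply Subtype.ext
      show (a : G) * b = b * a
      have ha := h a a.2
      have hb := h b b.2
      have hab := h (a * b) (mul_mem a.2 b.2)
      have ha' : (a : G)⁻¹ = a := by rw [inv_eq_iff_mul_eq_one, ← pow_two, ha]
      have hb' : (b : G)⁻¹ = b := by rw [inv_eq_iff_mul_eq_one, ← pow_two, hb]
      have hab' : ((a : G) * b)⁻¹ = a * b := by rw [inv_eq_iff_mul_eq_one, ← pow_two, hab]
      rw [← hab', mul_inv_rev, ha', hb']
    · exact Or.inl h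
    · exact Or.inr (Or.inr ⟨n, h⟩)
  · intro p hp hp2 P
    rcases key p P with h | h | ⟨h, -⟩
    · exact Or.inr h
    · exact Or.inl h
    · exact absurd h hp2

end Cfsg.Agent.S3908
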