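import Cfsg.Statements.S3918
import Mathlib
import Cfsg.Agent.Lib.Helper1.NormalEA
import Cfsg.Agent.Lib.Helper1.FrobCount

set_option autoImplicit false
open Cfsg

namespace Cfsg.Agent.S3918

open Cfsg
open Cfsg.Agent.Lib.Helper1
open scoped commutatorElement

theorem comm_of_cyclic {G : Type*} [Group G] (h : IsCyclic G) : IsMulCommutative G := by
  obtain ⟨g, hg⟩ := h.exists_generator
  refine ⟨⟨fun a b => ?_⟩⟩
  obtain ⟨m, rfl⟩ := hg a
  obtain ⟨n, rfl⟩ := hg b
  show g ^ m * g ^ n = g ^ n * g ^ m
  rw [← zpow_add, ← zpow_add, add_comm]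

/-- Say that a group has self-centralizing non-cyclic subgroups when every non-cyclic subgroup H satisfies C_G(H) ≤ H. For an odd prime p, a finite non-abelian p-group has self-centralizing non-cyclic subgroups if and only if it has order p³. -/
theorem result {G : Type*} [Group G] [Finite G] {p : ℕ} [Fact p.Prime] (hp : p ≠ 2) (hG : IsPGroup p G) (hna : ¬ IsMulCommutative G) :
    (∀ H : Subgroup G, ¬ IsCyclic ↥H → Subgroup.centralizer (H : Set G) ≤ H) ↔ Nat.card G = p ^ 3 := by
  have hpp : p.Prime := Fact.out
  obtain ⟨n, hn⟩ := IsPGroup.iff_card.mp hG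
  constructor
  · intro h
    have hnc : ¬ IsCyclic (⊤ : Subgroup G) := by
      intro hc
      apply hna
      apply comm_of_cyclic
      exact isCyclic_of_surjective (Subgroup.topEquiv : (⊤ : Subgroup G) ≃* G) (Subgroup.topEquiv : (⊤ : Subgroup G) ≃* G).surjective
    obtain ⟨A, -, hAn, ⟨hAc, hAe⟩, hAcard⟩ := NormalEA.main hp _ G rfl hG ⊤ inferInstance hnc
    haveI := hAn
    haveI : Group.IsNilpotent G := hG.isNilpotent
    have hAnc : ¬ IsCyclic A := by
      intro hc
      obtain ⟨a, ha⟩ := hc.exists_generator
      have h1 : orderOf a = Nat.card A := orderOf_eq_card_of_forall_mem_zpowers ha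
      have h2 : a ^ p = 1 := Subtype.ext (by simpa using hAe a.1 a.2)
      have h3 := orderOf_le_of_pow_eq_one hpp.pos h2
      rw [h1, hAcard] at h3
      have := hpp.two_le
      nlinarith
    have hCA := h A hAnc
    have hAbot : ¬ A ≤ ⊥ := by
      intro hb
      have : A = ⊥ := le_bot_iff.mp hb
      rw [this, Subgroup.card_bot] at hAcard
      have := hpp.two_le
      nlinarith
    obtain ⟨z, hzA, hz1, hzc⟩ := Cfsg.Agent.S1894.exists_central_mod ⊥ A hAbot
    have hzZ : z ∈ Subgroup.center G := by
      rw [Subgroup.mem_center_iff]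
      intro g
      have := hzc g
      rw [Subgroup.mem_bot, commutatorElement_eq_one_iff_mul_comm] at this
      exact this.symm
    have hzo : orderOf z = p := orderOf_eq_prime (hAe z hzA) (by simpa using hz1)
    have hAz : ¬ A ≤ Subgroup.zpowers z := by
      intro hle
      have := Subgroup.card_le_of_le hle
      rw [hAcard, Nat.card_zpowers, hzo] at this
      have := hpp.two_le
      nlinarith
    obtain ⟨x, hxA, hxz, hxc⟩ := Cfsg.Agent.S1894.exists_central_mod (Subgroup.zpowers z) A hAz
    obtain ⟨-, -, hcl⟩ := NormalEA.build_A z x hzZ hzo hxz (hAe x hxA) hxc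
    have hclA : Subgroup.closure ({z, x} : Set G) = A := by
      apply Subgroup.eq_of_le_of_card_ge
      · rw [Subgroup.closure_le]
        rintro y (rfl | rfl)
        · exact hzA
        · exact hxA
      · rw [hcl, hAcard]
    have hCx : Subgroup.centralizer ({x} : Set G) ≤ A := by
      refine le_trans ?_ hCA
      intro g hg
      rw [Subgroup.mem_centralizer_singleton_iff] at hg
      have hle : A ≤ Subgroup.centralizer ({g} : Set G) := by
        rw [← hclA, Subgroup.closure_le]
        rintro y (rfl | rfl)
        · show y ∈ Subgroup.centralizer ({g} : Set G)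
          rw [Subgroup.mem_centralizer_singleton_iff]
          exact (Subgroup.mem_center_iff.mp hzZ g).symm
        · show y ∈ Subgroup.centralizer ({g} : Set G)
          rw [Subgroup.mem_centralizer_singleton_iff]
          exact hg.symm
      rw [Subgroup.mem_centralizer_iff]
      intro a ha
      exact Subgroup.mem_centralizer_singleton_iff.mp (hle ha)
    have hidx : (Subgroup.centralizer ({x} : Set G)).index ≤ p := by
      rw [FrobCount.index_centralizer_eq]
      have hmem : ∀ y : {y : G // IsConj x y}, y.1 * x⁻¹ ∈ Subgroup.zpowers z := by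
        rintro ⟨y, hy⟩
        obtain ⟨g, rfl⟩ := isConj_iff.mp hy
        have := Subgroup.inv_mem _ (hxc g)
        have e : (⁅x, g⁆)⁻¹ = g * x * g⁻¹ * x⁻¹ := by
          rw [commutatorElement_def]; group
        rwa [e] at this
      have hinj : Function.Injective (fun y : {y : G // IsConj x y} => (⟨y.1 * x⁻¹, hmem y⟩ : Subgroup.zpowers z)) := by
        intro a b hab
        have : a.1 * x⁻¹ = b.1 * x⁻¹ := congrArg Subtype.val hab
        exact Subtype.ext (mul_right_cancel this)
      have := Nat.card_le_card_of_injective _ hinj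
      rwa [Nat.card_zpowers, hzo] at this
    have h1 := Subgroup.card_mul_index (Subgroup.centralizer ({x} : Set G))
    have h2 := Subgroup.card_le_of_le hCx
    rw [hAcard] at h2
    have h3 : Nat.card G ≤ p ^ 3 := by
      rw [← h1]
      calc _ ≤ p ^ 2 * p := Nat.mul_le_mul h2 hidx
        _ = p ^ 3 := by ring
    rw [hn] at h3 ⊢
    have h4 : n ≤ 3 := (Nat.pow_le_pow_iff_right hpp.one_lt).mp h3
    have h5 : p ^ 2 ∣ p ^ n := by
      rw [← hAcard, ← hn]; exact Subgroup.card_subgroup_dvd_card A
    have h6 : 2 ≤ n := (Nat.pow_dvd_pow_iff_le_right hpp.one_lt).mp h5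
    have h7 : n ≠ 2 := by
      rintro rfl
      exact hna (IsPGroup.isMulCommutative_of_card_eq_prime_sq hn)
    have : n = 3 := by omega
    rw [this]
  · intro hcard H hH
    obtain ⟨j, hj⟩ := IsPGroup.iff_card.mp (hG.to_subgroup H)
    have h1 : p ^ j ∣ p ^ 3 := by
      rw [← hj, ← hcard]; exact Subgroup.card_subgroup_dvd_card H
    have h2 : j ≤ 3 := (Nat.pow_dvd_pow_iff_le_right hpp.one_lt).mp h1
    have hj0 : j ≠ 0 := by
      rintro rfl
      apply hH
      rw [pow_zero] at hj
      have : H = ⊥ := Subgroup.card_eq_one.mp hj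
      rw [this]; infer_instance
    have hj1 : j ≠ 1 := by
      rintro rfl
      apply hH
      rw [pow_one] at hj
      exact isCyclic_of_prime_card hj
    by_cases hj3 : j = 3
    · have : H = ⊤ := Subgroup.eq_top_of_card_eq H (by rw [hj, hj3, hcard])
      rw [this]; exact le_top
    have hj2 : j = 2 := by omega
    rw [hj2] at hj
    have hHc : IsMulCommutative H := IsPGroup.isMulCommutative_of_card_eq_prime_sq hj
    intro c hc
    by_contra hcH
    apply hna
    have htop : H ⊔ Subgroup.zpowers c = ⊤ := by
      obtain ⟨i, hi⟩ := IsPGroup.iff_card.mp (hG.to_subgroup (H ⊔ Subgroup.zpowers c))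
      have h3 : p ^ i ∣ p ^ 3 := by
        rw [← hi, ← hcard]; exact Subgroup.card_subgroup_dvd_card _
      have h4 : i ≤ 3 := (Nat.pow_dvd_pow_iff_le_right hpp.one_lt).mp h3
      have h5 : H < H ⊔ Subgroup.zpowers c := by
        apply lt_of_le_of_ne le_sup_left
        intro he
        apply hcH
        rw [he]
        exact (le_sup_right : Subgroup.zpowers c ≤ H ⊔ Subgroup.zpowers c) (Subgroup.mem_zpowers c)
      have h6 : Nat.card H < Nat.card (H ⊔ Subgroup.zpowers c : Subgroup G) := by
        by_contra hge
        push Not at hge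
        exact h5.ne (Subgroup.eq_of_le_of_card_ge h5.le hge)
      rw [hj, hi] at h6
      have h7 : 2 < i := (Nat.pow_lt_pow_iff_right hpp.one_lt).mp h6
      have h8 : i = 3 := by omega
      exact Subgroup.eq_top_of_card_eq _ (by rw [hi, h8, hcard])
    have hcH' : ∀ a ∈ H, a * c = c * a := fun a ha => Subgroup.mem_centralizer_iff.mp hc a ha
    have hHZ : H ≤ Subgroup.center G := by
      intro a ha
      have : (⊤ : Subgroup G) ≤ Subgroup.centralizer ({a} : Set G) := by
        rw [← htop, sup_le_iff]
        constructor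
        · intro b hb
          rw [Subgroup.mem_centralizer_singleton_iff]
          exact congrArg Subtype.val (hHc.is_comm.comm ⟨b, hb⟩ ⟨a, ha⟩)
        · rw [Subgroup.zpowers_le, Subgroup.mem_centralizer_singleton_iff]
          exact (hcH' a ha).symm
      rw [Subgroup.mem_center_iff]
      intro g
      exact Subgroup.mem_centralizer_singleton_iff.mp (this (Subgroup.mem_top g))
    have hcZ : c ∈ Subgroup.center G := by
      have : (⊤ : Subgroup G) ≤ Subgroup.centralizer ({c} : Set G) := by
        rw [← htop, sup_le_iff]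
        constructor
        · intro b hb
          rw [Subgroup.mem_centralizer_singleton_iff]
          exact hcH' b hb
        · rw [Subgroup.zpowers_le, Subgroup.mem_centralizer_singleton_iff]
      rw [Subgroup.mem_center_iff]
      intro g
      exact Subgroup.mem_centralizer_singleton_iff.mp (this (Subgroup.mem_top g))
    have hZtop : (⊤ : Subgroup G) ≤ Subgroup.center G := by
      rw [← htop, sup_le_iff]
      exact ⟨hHZ, Subgroup.zpowers_le.mpr hcZ⟩
    refine ⟨⟨fun a b => ?_⟩⟩
    exact (Subgroup.mem_center_iff.mp (hZtop (Subgroup.mem_top b)) a)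

end Cfsg.Agent.S3918
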