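import Cfsg.Statements.S3946
import Cfsg.Agent.Lib.Helper9.Kegel

set_option autoImplicit false
open Cfsg

namespace Cfsg.Agent.S3946

open Cfsg.Agent.Lib.Helper9.Kegel

/-- Call an automorphism α of order n of a group G splitting when x · α(x) · α²(x) ⋯ α^(n−1)(x) = 1 for every x ∈ G. A finite group admitting a splitting automorphism of prime order is nilpotent (this contains the case of a fixed-point-free automorphism of prime order). -/
theorem result {G : Type*} [Group G] [Finite G] (α : MulAut G) (hp : (orderOf α).Prime)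
    (hsplit : ∀ x : G, (((List.range (orderOf α)).map (fun i : ℕ => (α ^ i) x)).prod = 1)) : Group.IsNilpotent G := by
  have hp' := hp
  generalize hpdef : orderOf α = p at hp' hsplit
  haveI : Fact p.Prime := ⟨hp'⟩
  haveI : Finite (G ⋊[(Subgroup.zpowers α).subtype] (Subgroup.zpowers α)) :=
    Finite.of_equiv _ SemidirectProduct.equivProd.symm
  have hcardA : Nat.card (Subgroup.zpowers α) = p := by rw [Nat.card_zpowers, hpdef]
  have hα1 : α ≠ 1 := by
    intro e
    rw [e, orderOf_one] at hpdef
    exact hp'.one_lt.ne hpdef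
  have hpowA : ∀ a : Subgroup.zpowers α, a ^ p = 1 := by
    intro a
    rw [← hcardA]; exact pow_card_eq_one'
  -- power formula
  have hform : ∀ (x : G) (n : ℕ),
      ((⟨x, ⟨α, Subgroup.mem_zpowers α⟩⟩ : G ⋊[(Subgroup.zpowers α).subtype] (Subgroup.zpowers α)) ^ n) =
        ⟨((List.range n).map (fun i : ℕ => (α ^ i) x)).prod, ⟨α, Subgroup.mem_zpowers α⟩ ^ n⟩ := by
    intro x n
    induction n with
    | zero => rfl
    | succ n ih =>
      rw [pow_succ, ih]
      apply SemidirectProduct.ext
      · rw [SemidirectProduct.mul_left, List.range_succ, List.map_append, List.prod_append]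
        simp
      · rw [SemidirectProduct.mul_right, pow_succ]
  have hone : ∀ g : G ⋊[(Subgroup.zpowers α).subtype] (Subgroup.zpowers α),
      g.right = ⟨α, Subgroup.mem_zpowers α⟩ → g ^ p = 1 := by
    intro g hg
    have e : g = ⟨g.left, ⟨α, Subgroup.mem_zpowers α⟩⟩ := SemidirectProduct.ext rfl hg
    rw [e, hform, hsplit, hpowA]
    rfl
  have hk : HK p (SemidirectProduct.rightHom (φ := (Subgroup.zpowers α).subtype)).ker := by
    refine ⟨inferInstance, ?_, ?_⟩
    · intro htop
      have h1 : (SemidirectProduct.inr ⟨α, Subgroup.mem_zpowers α⟩ :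
          G ⋊[(Subgroup.zpowers α).subtype] (Subgroup.zpowers α)) ∈
          (SemidirectProduct.rightHom (φ := (Subgroup.zpowers α).subtype)).ker := htop ▸ Subgroup.mem_top _
      rw [MonoidHom.mem_ker, SemidirectProduct.rightHom_inr] at h1
      exact hα1 (congrArg Subtype.val h1)
    · intro g hg
      have hg1 : g.right ≠ 1 := hg
      have h1 : (⟨α, Subgroup.mem_zpowers α⟩ : Subgroup.zpowers α) ∈ Subgroup.zpowers g.right :=
        mem_zpowers_of_prime_card hcardA hg1
      rw [← mem_powers_iff_mem_zpowers] at h1
      obtain ⟨j, hj⟩ := h1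
      have hj' : g.right ^ j = ⟨α, Subgroup.mem_zpowers α⟩ := hj
      have h2 : (g ^ j) ^ p = 1 := by
        apply hone
        rw [← hj']
        exact map_pow SemidirectProduct.rightHom g j
      have h3 : (g ^ (j + p)) ^ p = 1 := by
        apply hone
        rw [← hj']
        have : (g ^ (j + p)).right = g.right ^ (j + p) := map_pow SemidirectProduct.rightHom g (j + p)
        rw [this, pow_add, hpowA, mul_one]
      rw [← pow_mul] at h2 h3
      have h4 := pow_gcd_eq_one.mpr ⟨h2, h3⟩
      have hjp : ¬ p ∣ j := by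
        rintro ⟨m, rfl⟩
        rw [pow_mul, hpowA, one_pow] at hj'
        exact hα1 (congrArg Subtype.val hj'.symm)
      have h5 : Nat.gcd (j * p) ((j + p) * p) = p := by
        rw [Nat.gcd_mul_right, Nat.gcd_self_add_right,
          (Nat.Coprime.symm ((Nat.Prime.coprime_iff_not_dvd hp').mpr hjp)).gcd_eq_one, one_mul]
      rwa [h5] at h4
  have hnil := kegel hp' _ _ rfl _ hk
  rw [← SemidirectProduct.range_inl_eq_ker_rightHom] at hnil
  exact (Group.isNilpotent_congr (MonoidHom.ofInjective SemidirectProduct.inl_injective)).mpr hnil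

end Cfsg.Agent.S3946
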