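import Cfsg.Statements.S3977
import Cfsg.Agent.Lib.Helper3.UniqP3

set_option autoImplicit false
open Cfsg

namespace Cfsg.Agent.S3977

/-- Let `p` be a prime and `G` a group of order `p ^ m` which has exactly one subgroup of order `p ^ s`, where `1 ≤ s < m`, and where `s ≥ 2` if `p = 2`. Then `G` is cyclic. (For `p = 2` and `s = 1` the generalized quaternion groups also occur; that case is the classical criterion for a unique involution.) -/
theorem result {G : Type*} [Group G] [Finite G] (p m s : ℕ) (hp : p.Prime) (hG : Nat.card G = p ^ m) (hs : 1 ≤ s) (hsm : s < m) (h2 : p ≠ 2 ∨ 2 ≤ s) (huniq : ∀ H K : Subgroup G, Nat.card H = p ^ s → Nat.card K = p ^ s → H = K) : IsCyclic G := by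
  haveI : Fact p.Prime := ⟨hp⟩
  have hPG : IsPGroup p G := IsPGroup.of_card hG
  have hdvd : p ^ s ∣ Nat.card G := hG ▸ pow_dvd_pow p hsm.le
  obtain ⟨H, hH⟩ := Sylow.exists_subgroup_card_pow_prime p hdvd
  have hle : ∀ X : Subgroup G, ∀ j ≤ s, Nat.card X = p ^ j → X ≤ H := by
    intro X j hj hX
    obtain ⟨K, hK, hXK⟩ := Sylow.exists_subgroup_card_pow_prime_le p hdvd X hX hj
    rw [huniq H K hH hK]; exact hXK
  have hHtop : H ≠ ⊤ := by
    intro h
    rw [h, Subgroup.card_top, hG] at hH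
    exact absurd (Nat.pow_right_injective hp.two_le hH) hsm.ne'
  obtain ⟨g, hg⟩ : ∃ g, g ∉ H := by
    by_contra hc
    push Not at hc
    exact hHtop (eq_top_iff.2 fun x _ => hc x)
  obtain ⟨j, hj⟩ := (IsPGroup.iff_orderOf.1 hPG) g
  have hjs : s < j := by
    by_contra hc
    exact hg (hle (Subgroup.zpowers g) j (not_lt.1 hc) (by rw [Nat.card_zpowers, hj])
      (Subgroup.mem_zpowers g))
  have hho : orderOf (g ^ p ^ (j - s)) = p ^ s := by
    rw [orderOf_pow_of_dvd (pow_pos hp.pos _).ne' (by rw [hj]; exact pow_dvd_pow p (Nat.sub_le j s)),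
      hj, Nat.pow_div (Nat.sub_le j s) hp.pos]
    congr 1; omega
  have hHz : H = Subgroup.zpowers (g ^ p ^ (j - s)) :=
    huniq _ _ hH (by rw [Nat.card_zpowers, hho])
  haveI hHc : IsCyclic H := by rw [hHz]; infer_instance
  have hu : ∀ X Y : Subgroup G, Nat.card X = p → Nat.card Y = p → X = Y := by
    intro X Y hX hY
    have hXH := hle X 1 hs (by rw [hX, pow_one])
    have hYH := hle Y 1 hs (by rw [hY, pow_one])
    obtain ⟨x, hx, rfl⟩ := Cfsg.Agent.Lib.Helper3.UniqP.eq_zpowers_of_card_prime X hX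
    obtain ⟨y, hy, rfl⟩ := Cfsg.Agent.Lib.Helper3.UniqP.eq_zpowers_of_card_prime Y hY
    have hxH : x ∈ H := hXH (Subgroup.mem_zpowers x)
    have hyH : y ∈ H := hYH (Subgroup.mem_zpowers y)
    have h1 := Cfsg.Agent.Lib.Helper3.UniqP.mem_zpowers_of_cyclic (C := H)
      hp.pos (x := ⟨x, hxH⟩) (z := ⟨y, hyH⟩) (by rw [Subgroup.orderOf_mk, hy])
      (by apply Subtype.ext; show x ^ p = 1; rw [← hx, pow_orderOf_eq_one])
    obtain ⟨t, ht⟩ := Subgroup.mem_zpowers_iff.1 h1
    have ht' : y ^ t = x := congrArg Subtype.val ht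
    apply Subgroup.eq_of_le_of_card_ge
    · rw [Subgroup.zpowers_le, ← ht']
      exact Subgroup.zpow_mem _ (Subgroup.mem_zpowers y) _
    · rw [Nat.card_zpowers, Nat.card_zpowers, hx, hy]
  rcases Cfsg.Agent.Lib.Helper3.UniqP.main p hPG hu with h | ⟨rfl, n, ⟨e⟩⟩
  · exact h
  exfalso
  have hs2 : 2 ≤ s := by
    rcases h2 with h | h
    · exact absurd rfl h
    · exact h
  have h4 : ∀ x : G, x ^ 4 = 1 → x ∈ H := by
    intro x hx
    have h1 : orderOf x ∣ 2 ^ 2 := orderOf_dvd_of_pow_eq_one hx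
    obtain ⟨k, hk, hk'⟩ := (Nat.dvd_prime_pow Nat.prime_two).1 h1
    exact hle (Subgroup.zpowers x) k (hk.trans hs2) (by rw [Nat.card_zpowers, hk'])
      (Subgroup.mem_zpowers x)
  have hxa : ∀ i, e.symm (QuaternionGroup.xa i) ∈ H := by
    intro i
    apply h4
    rw [← map_pow, QuaternionGroup.xa_pow_four, map_one]
  apply hHtop
  rw [eq_top_iff]
  intro x _
  obtain ⟨u, rfl⟩ := e.symm.surjective x
  rcases u with i | i
  · have h5 : QuaternionGroup.a i = (QuaternionGroup.xa 0)⁻¹ * QuaternionGroup.xa i := by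
      rw [eq_inv_mul_iff_mul_eq, QuaternionGroup.xa_mul_a, zero_add]
    rw [h5, map_mul, map_inv]
    exact mul_mem (inv_mem (hxa 0)) (hxa i)
  · exact hxa i

end Cfsg.Agent.S3977
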