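import Cfsg.Statements.S4002
import Cfsg.Agent.S1475
import Cfsg.Agent.Lib.Helper1.Hall

set_option autoImplicit false
open Cfsg

namespace Cfsg.Agent.S4002

theorem three_primes (n : ℕ) (hn : 7 ≤ n) :
    ∃ p q r : ℕ, p.Prime ∧ q.Prime ∧ r.Prime ∧ p < q ∧ q < r ∧ r ≤ n ∧ n < p * q := by
  by_cases h1 : n ≤ 14
  · exact ⟨3, 5, 7, by norm_num, by norm_num, by norm_num, by norm_num, by norm_num, hn, by omega⟩
  by_cases h2 : n ≤ 34
  · exact ⟨5, 7, 11, by norm_num, by norm_num, by norm_num, by norm_num, by norm_num, by omega,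
      by omega⟩
  obtain ⟨a, ha⟩ : ∃ a, a = n / 8 := ⟨_, rfl⟩
  have ha4 : 4 ≤ a := by omega
  have han : 8 * a ≤ n ∧ n ≤ 8 * a + 7 := by omega
  obtain ⟨p, hp, hp1, hp2⟩ := Nat.exists_prime_lt_and_le_two_mul a (by omega)
  obtain ⟨q, hq, hq1, hq2⟩ := Nat.exists_prime_lt_and_le_two_mul (2 * a) (by omega)
  obtain ⟨r, hr, hr1, hr2⟩ := Nat.exists_prime_lt_and_le_two_mul (4 * a) (by omega)
  refine ⟨p, q, r, hp, hq, hr, by omega, by omega, by omega, ?_⟩
  have h3 : (a + 1) * (2 * a + 1) ≤ p * q := Nat.mul_le_mul hp1 hq1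
  nlinarith

theorem split (N p : ℕ) (hN : N ≠ 0) (hp : p.Prime) (hd : p ∣ N) :
    ∃ a N', a ≠ 0 ∧ N = p ^ a * N' ∧ ¬ p ∣ N' := by
  obtain ⟨a, N', h1, h2⟩ := Nat.exists_eq_pow_mul_and_not_dvd hN p hp.ne_one
  refine ⟨a, N', ?_, h2, h1⟩
  rintro rfl
  rw [pow_zero, one_mul] at h2
  exact h1 (h2 ▸ hd)

/-- If the set of element orders of a finite group G is {1, 2, …, n} with n ≥ 7, then G is not solvable. -/
theorem result {G : Type*} [Group G] [Finite G] (n : ℕ) (hn : 7 ≤ n) (h : Set.range (orderOf : G → ℕ) = {k : ℕ | 1 ≤ k ∧ k ≤ n}) : ¬ Group.IsSolvable G := by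
  intro hsol
  classical
  obtain ⟨p, q, r, hp, hq, hr, hpq, hqr, hrn, hnpq⟩ := three_primes n hn
  have hex : ∀ k, 1 ≤ k → k ≤ n → ∃ g : G, orderOf g = k := by
    intro k h1 h2
    have : k ∈ Set.range (orderOf : G → ℕ) := by rw [h]; exact ⟨h1, h2⟩
    exact this
  have hle : ∀ g : G, orderOf g ≤ n := by
    intro g
    have : orderOf g ∈ Set.range (orderOf : G → ℕ) := ⟨g, rfl⟩
    rw [h] at this
    exact this.2
  have hdvd : ∀ k, 1 ≤ k → k ≤ n → k ∣ Nat.card G := by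
    intro k h1 h2
    obtain ⟨g, rfl⟩ := hex k h1 h2
    exact orderOf_dvd_natCard g
  have hN0 : Nat.card G ≠ 0 := Nat.card_pos.ne'
  obtain ⟨a, N1, ha, hN1, hpN1⟩ := split _ p hN0 hp (hdvd p hp.one_lt.le (by omega))
  have hN10 : N1 ≠ 0 := by
    rintro rfl
    exact hpN1 (dvd_zero p)
  have hqN1 : q ∣ N1 := by
    have h1 : q ∣ p ^ a * N1 := hN1 ▸ hdvd q hq.one_lt.le (by omega)
    rcases (Nat.Prime.dvd_mul hq).1 h1 with h2 | h2
    · have := (Nat.prime_dvd_prime_iff_eq hq hp).1 (hq.dvd_of_dvd_pow h2)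
      omega
    · exact h2
  obtain ⟨b, N2, hb, hN2, hqN2⟩ := split _ q hN10 hq hqN1
  have hN20 : N2 ≠ 0 := by
    rintro rfl
    exact hqN2 (dvd_zero q)
  have hrN2 : r ∣ N2 := by
    have h1 : r ∣ p ^ a * (q ^ b * N2) := by
      rw [← hN2, ← hN1]
      exact hdvd r hr.one_lt.le hrn
    rcases (Nat.Prime.dvd_mul hr).1 h1 with h2 | h2
    · have := (Nat.prime_dvd_prime_iff_eq hr hp).1 (hr.dvd_of_dvd_pow h2)
      omega
    · rcases (Nat.Prime.dvd_mul hr).1 h2 with h3 | h3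
      · have := (Nat.prime_dvd_prime_iff_eq hr hq).1 (hr.dvd_of_dvd_pow h3)
        omega
      · exact h3
  obtain ⟨c, N3, hc, hN3, hrN3⟩ := split _ r hN20 hr hrN2
  have hpN3 : ¬ p ∣ N3 := fun h1 => hpN1 (by
    rw [hN2, hN3]
    exact Dvd.dvd.mul_left (Dvd.dvd.mul_left h1 _) _)
  have hqN3 : ¬ q ∣ N3 := fun h1 => hqN2 (by
    rw [hN3]
    exact Dvd.dvd.mul_left h1 _)
  have hcard : Nat.card G = (p ^ a * q ^ b * r ^ c) * N3 := by
    rw [hN1, hN2, hN3]
    ring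
  have hcop : (p ^ a * q ^ b * r ^ c).Coprime N3 := by
    apply Nat.Coprime.mul_left
    · apply Nat.Coprime.mul_left
      · exact Nat.Coprime.pow_left _ ((Nat.Prime.coprime_iff_not_dvd hp).2 hpN3)
      · exact Nat.Coprime.pow_left _ ((Nat.Prime.coprime_iff_not_dvd hq).2 hqN3)
    · exact Nat.Coprime.pow_left _ ((Nat.Prime.coprime_iff_not_dvd hr).2 hrN3)
  obtain ⟨H, hH⟩ := Cfsg.Agent.Lib.Helper1.hall_exists _ _ hcard hcop
  have hmem : ∀ s : ℕ, s.Prime → s ∣ p ^ a * q ^ b * r ^ c → s = p ∨ s = q ∨ s = r := by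
    intro s hs hd
    rcases (Nat.Prime.dvd_mul hs).1 hd with h1 | h1
    · rcases (Nat.Prime.dvd_mul hs).1 h1 with h2 | h2
      · exact Or.inl ((Nat.prime_dvd_prime_iff_eq hs hp).1 (hs.dvd_of_dvd_pow h2))
      · exact Or.inr (Or.inl ((Nat.prime_dvd_prime_iff_eq hs hq).1 (hs.dvd_of_dvd_pow h2)))
    · exact Or.inr (Or.inr ((Nat.prime_dvd_prime_iff_eq hs hr).1 (hs.dvd_of_dvd_pow h1)))
  have hbig : ∀ s t : ℕ, (s = p ∨ s = q ∨ s = r) → (t = p ∨ t = q ∨ t = r) → s ≠ t → n < s * t := by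
    intro s t hs ht hst
    have h1 : p * q ≤ p * r := Nat.mul_le_mul_left p hqr.le
    have h2 : p * q ≤ q * r := Nat.mul_le_mul hpq.le hqr.le
    rcases hs with rfl | rfl | rfl <;> rcases ht with rfl | rfl | rfl <;>
      first
      | exact absurd rfl hst
      | omega
      | (rw [mul_comm]; omega)
  have hE : ∀ g : H, IsPrimePow (orderOf g) ∨ g = 1 := by
    intro g
    by_cases hg : g = 1
    · exact Or.inr hg
    left
    have ho1 : orderOf g ≠ 1 := fun h1 => hg (orderOf_eq_one_iff.1 h1)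
    have hod : orderOf g ∣ p ^ a * q ^ b * r ^ c := hH ▸ orderOf_dvd_natCard g
    have hon : orderOf g ≤ n := by
      rw [← Subgroup.orderOf_coe]
      exact hle g
    rw [isPrimePow_iff_unique_prime_dvd]
    refine ⟨(orderOf g).minFac, ⟨Nat.minFac_prime ho1, Nat.minFac_dvd _⟩, ?_⟩
    rintro t ⟨ht, htd⟩
    by_contra hne
    have h1 := hbig t (orderOf g).minFac (hmem t ht (htd.trans hod))
      (hmem _ (Nat.minFac_prime ho1) ((Nat.minFac_dvd _).trans hod)) hne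
    have h2 : t * (orderOf g).minFac ∣ orderOf g :=
      Nat.Coprime.mul_dvd_of_dvd_of_dvd ((Nat.coprime_primes ht (Nat.minFac_prime ho1)).2 hne) htd
        (Nat.minFac_dvd _)
    have h3 := Nat.le_of_dvd (orderOf_pos g) h2
    omega
  haveI : Group.IsSolvable H := inferInstance
  have h2 := Cfsg.Agent.S1475.result (G := H) hE
  have h3 : ({p, q, r} : Finset ℕ) ⊆ (Nat.card H).primeFactors := by
    intro s hs
    have hH0 : Nat.card H ≠ 0 := Nat.card_pos.ne'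
    simp only [Finset.mem_insert, Finset.mem_singleton] at hs
    rw [Nat.mem_primeFactors]
    rcases hs with rfl | rfl | rfl
    · exact ⟨hp, by rw [hH]; exact Dvd.dvd.mul_right (Dvd.dvd.mul_right (dvd_pow_self _ ha) _) _, hH0⟩
    · exact ⟨hq, by rw [hH]; exact Dvd.dvd.mul_right (Dvd.dvd.mul_left (dvd_pow_self _ hb) _) _, hH0⟩
    · exact ⟨hr, by rw [hH]; exact Dvd.dvd.mul_left (dvd_pow_self _ hc) _, hH0⟩
  have h4 := Finset.card_le_card h3
  have h5 : ({p, q, r} : Finset ℕ).card = 3 := by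
    rw [Finset.card_insert_of_notMem, Finset.card_insert_of_notMem, Finset.card_singleton]
    · simp only [Finset.mem_singleton]; omega
    · simp only [Finset.mem_insert, Finset.mem_singleton]; omega
  omega

end Cfsg.Agent.S4002
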