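import Mathlib
import Cfsg.Statements.S4005
import Cfsg.Agent.S0144
import Cfsg.Agent.S0041
import Cfsg.Agent.Lib.Helper1.Basic

set_option autoImplicit false
open Cfsg
open Cfsg.Agent.Lib.Helper1

namespace Cfsg.Agent.S4005

/-- statement -/
theorem result {G : Type*} [Group G] [Finite G] (h : Set.range (orderOf : G → ℕ) = {k : ℕ | 1 ≤ k ∧ k ≤ 3}) :
    (∃ N : Subgroup G, N.Normal ∧ Cfsg.IsElementaryAbelian 3 N ∧ N.index = 2) ∨
      (∃ N : Subgroup G, N.Normal ∧ Cfsg.IsElementaryAbelian 2 N ∧ N.index = 3) := by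
  classical
  have hord : ∀ g : G, orderOf g = 1 ∨ orderOf g = 2 ∨ orderOf g = 3 := by
    intro g
    have h0 : orderOf g ∈ Set.range (orderOf : G → ℕ) := ⟨g, rfl⟩
    rw [h] at h0
    obtain ⟨h1, h2⟩ := h0
    omega
  obtain ⟨t, ht⟩ : ∃ t : G, orderOf t = 2 := by
    have h0 : (2 : ℕ) ∈ {k : ℕ | 1 ≤ k ∧ k ≤ 3} := ⟨by norm_num, by norm_num⟩
    rw [← h] at h0; exact h0
  obtain ⟨x, hx⟩ : ∃ x : G, orderOf x = 3 := by
    have h0 : (3 : ℕ) ∈ {k : ℕ | 1 ≤ k ∧ k ≤ 3} := ⟨by norm_num, by norm_num⟩
    rw [← h] at h0; exact h0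
  have hprimes : ∀ r : ℕ, r.Prime → r ∣ Nat.card G → r = 2 ∨ r = 3 := by
    intro r hr hrG
    haveI := Fact.mk hr
    obtain ⟨g, hg⟩ := exists_prime_orderOf_dvd_card' r hrG
    rcases hord g with h1 | h1 | h1 <;> rw [hg] at h1
    · exact absurd h1 hr.one_lt.ne'
    · left; exact h1
    · right; exact h1
  have h2G : 2 ∣ Nat.card G := ht ▸ orderOf_dvd_natCard t
  have h3G : 3 ∣ Nat.card G := hx ▸ orderOf_dvd_natCard x
  have hcard : Nat.card G = 2 ^ (Nat.card G).factorization 2 * 3 ^ (Nat.card G).factorization 3 := by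
    have hpf : (Nat.card G).primeFactors = {2, 3} := by
      ext r
      simp only [Nat.mem_primeFactors, Finset.mem_insert, Finset.mem_singleton]
      constructor
      · rintro ⟨hr, hrG, _⟩; exact hprimes r hr hrG
      · rintro (rfl | rfl)
        · exact ⟨Nat.prime_two, h2G, Nat.card_pos.ne'⟩
        · exact ⟨Nat.prime_three, h3G, Nat.card_pos.ne'⟩
    have h0 : ∏ p ∈ (Nat.card G).primeFactors, p ^ (Nat.card G).factorization p = Nat.card G :=
      Nat.prod_factorization_pow_eq_self Nat.card_pos.ne'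
    rw [hpf, Finset.prod_pair (by norm_num)] at h0
    exact h0.symm
  haveI hsol : Group.IsSolvable G := S0144.result 2 3 _ _ Nat.prime_two Nat.prime_three hcard
  have hno6 : ∀ a b : G, orderOf a = 2 → orderOf b = 3 → ¬ Commute a b := by
    intro a b ha hb hc
    have h0 := hc.orderOf_mul_eq_mul_orderOf_of_coprime (by rw [ha, hb]; norm_num)
    rw [ha, hb] at h0
    rcases hord (a * b) with h1 | h1 | h1 <;> omega
  haveI : Nontrivial G := ⟨⟨t, 1, by rintro rfl; simp at ht⟩⟩
  obtain ⟨r, hr, M, -, hMn, hMne, hMc, hMexp⟩ :=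
    exists_normal_elemAbelian _ (⊤ : Subgroup G) rfl inferInstance inferInstance top_ne_bot
  obtain ⟨m₀, hm₀, hm₀1⟩ : ∃ m ∈ M, m ≠ 1 := by
    by_contra hcon
    push Not at hcon
    exact hMne ((Subgroup.eq_bot_iff_forall M).2 hcon)
  haveI := Fact.mk hr
  have hm₀r : orderOf m₀ = r := orderOf_eq_prime (hMexp m₀ hm₀) hm₀1
  have cM : ∀ a ∈ M, ∀ b ∈ M, a * b = b * a := fun a ha b hb =>
    congrArg Subtype.val (hMc.is_comm.comm (⟨a, ha⟩ : M) ⟨b, hb⟩)
  have sq_of : ∀ g : G, orderOf g = 2 → g * g = 1 := by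
    intro g hg
    have := pow_orderOf_eq_one g
    rwa [hg, pow_two] at this
  have inv_of : ∀ g : G, orderOf g = 2 → g⁻¹ = g := fun g hg =>
    inv_eq_of_mul_eq_one_left (sq_of g hg)
  have hr23 : r = 2 ∨ r = 3 := by
    rcases hord m₀ with h1 | h1 | h1 <;> rw [hm₀r] at h1
    · exact absurd h1 hr.one_lt.ne'
    · left; exact h1
    · right; exact h1
  rcases hr23 with rfl | rfl
  · -- r = 2
    right
    set C : Subgroup G := Subgroup.centralizer (M : Set G) with hC
    have hCn : C.Normal := inferInstance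
    have hCsq : ∀ c ∈ C, c ^ 2 = 1 := by
      intro c hc
      rcases hord c with h1 | h1 | h1
      · rw [orderOf_eq_one_iff.1 h1, one_pow]
      · rw [← h1]; exact pow_orderOf_eq_one c
      · exact absurd (Subgroup.mem_centralizer_iff.1 hc m₀ hm₀ : m₀ * c = c * m₀) (hno6 m₀ c hm₀r h1)
    have hinC : ∀ s : G, s ^ 2 = 1 → s ∈ C := by
      intro s hs
      rw [hC, Subgroup.mem_centralizer_iff]
      intro m hm
      have hs' : s⁻¹ = s := by
        rw [pow_two] at hs; exact inv_eq_of_mul_eq_one_left hs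
      have hm2 : m * m = 1 := by have := hMexp m hm; rwa [pow_two] at this
      have hm' : m⁻¹ = m := inv_eq_of_mul_eq_one_left hm2
      have hw : m * (s * m * s⁻¹) ∈ M := M.mul_mem hm (hMn.conj_mem m hm s)
      have hw2 := hMexp _ hw
      have hw3 : m * (s * m * s⁻¹) = (m * s) ^ 2 := by rw [hs', pow_two]; group
      rw [hw3, ← pow_mul] at hw2
      have h4 : (m * s) ^ 2 = 1 := by
        rcases hord (m * s) with h1 | h1 | h1
        · rw [orderOf_eq_one_iff.1 h1, one_pow]
        · rw [← h1]; exact pow_orderOf_eq_one _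
        · have h5 : orderOf (m * s) ∣ 2 * 2 := orderOf_dvd_of_pow_eq_one hw2
          rw [h1] at h5
          norm_num at h5
      rw [pow_two] at h4
      calc m * s = (m * s) * ((m * s) * (s⁻¹ * m⁻¹)) := by group
        _ = ((m * s) * (m * s)) * (s⁻¹ * m⁻¹) := by group
        _ = s * m := by rw [h4, hs', hm', one_mul]
    have hCcomm : IsMulCommutative C := by
      refine ⟨⟨fun a b => ?_⟩⟩
      apply Subtype.ext
      show (a : G) * b = b * a
      have ha := hCsq a a.2
      have hb := hCsq b b.2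
      have hab := hCsq _ (C.mul_mem a.2 b.2)
      rw [pow_two] at ha hb hab
      have ha' : (a : G)⁻¹ = a := inv_eq_of_mul_eq_one_left ha
      have hb' : (b : G)⁻¹ = b := inv_eq_of_mul_eq_one_left hb
      have hab' : ((a : G) * b)⁻¹ = a * b := inv_eq_of_mul_eq_one_left hab
      rw [mul_inv_rev, ha', hb'] at hab'
      exact hab'.symm
    have hMC : M ≤ C := by
      intro m hm
      exact hinC m (hMexp m hm)
    have hCne : C ≠ ⊥ := fun hbot => hMne (le_bot_iff.1 (hbot ▸ hMC))
    have hC2 : IsPGroup 2 C := by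
      intro c
      refine ⟨1, ?_⟩
      apply Subtype.ext
      simpa using hCsq c c.2
    obtain ⟨S, hS⟩ := hC2.exists_le_sylow
    have hSC : (S : Subgroup G) = C := by
      apply le_antisymm _ hS
      intro g hg
      apply hinC
      obtain ⟨k, hk⟩ := (S.isPGroup' ⟨g, hg⟩)
      have hk' : g ^ 2 ^ k = 1 := congrArg Subtype.val hk
      rcases hord g with h1 | h1 | h1
      · rw [orderOf_eq_one_iff.1 h1, one_pow]
      · rw [← h1]; exact pow_orderOf_eq_one _
      · have h5 : orderOf g ∣ 2 ^ k := orderOf_dvd_of_pow_eq_one hk'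
        rw [h1] at h5
        have := (Nat.prime_three.dvd_of_dvd_pow h5)
        norm_num at this
    have h9 : ¬ 3 ^ 2 ∣ Nat.card G := by
      intro h9
      obtain ⟨A, hA⟩ := Sylow.exists_subgroup_card_pow_prime 3 h9
      haveI hAc : IsMulCommutative A := ⟨⟨IsPGroup.commutative_of_card_eq_prime_sq hA⟩⟩
      haveI := hCcomm
      have hcyc : IsCyclic A := by
        apply S0041.result A C hCne (by rw [Subgroup.normalizer_eq_top]; exact le_top) _ (Or.inl hAc)
        intro a ha ha1
        rw [eq_bot_iff]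
        intro c hc
        rw [Subgroup.mem_bot]
        have ha3 : orderOf a = 3 := by
          have h5 : orderOf a ∣ 3 ^ 2 := by
            have := orderOf_dvd_natCard (⟨a, ha⟩ : A)
            rwa [Subgroup.orderOf_mk, hA] at this
          rcases hord a with h1 | h1 | h1
          · exact absurd (orderOf_eq_one_iff.1 h1) ha1
          · rw [h1] at h5; norm_num at h5
          · exact h1
        by_contra hc1
        have hc2 : orderOf c = 2 := orderOf_eq_prime (hCsq c hc.1) hc1
        exact hno6 c a hc2 ha3 (Subgroup.mem_centralizer_iff.1 hc.2 a rfl).symm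
      obtain ⟨g, hg⟩ := isCyclic_iff_exists_orderOf_eq_natCard.1 hcyc
      have hg9 : orderOf (g : G) = 9 := by rw [Subgroup.orderOf_coe, hg, hA]; norm_num
      rcases hord (g : G) with h1 | h1 | h1 <;> omega
    refine ⟨C, hCn, ⟨hCcomm, hCsq⟩, ?_⟩
    have hb1 : (Nat.card G).factorization 3 = 1 := by
      have h6 : ¬ 2 ≤ (Nat.card G).factorization 3 := fun h6 =>
        h9 ((Nat.prime_three.pow_dvd_iff_le_factorization Nat.card_pos.ne').2 h6)
      have h7 : 1 ≤ (Nat.card G).factorization 3 :=
        (Nat.prime_three.pow_dvd_iff_le_factorization Nat.card_pos.ne').1 (by simpa using h3G)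
      omega
    have h8 := C.card_mul_index
    rw [← hSC, S.card_eq_multiplicity] at h8
    rw [← hSC]
    have h10 : 2 ^ (Nat.card G).factorization 2 * (S : Subgroup G).index =
        2 ^ (Nat.card G).factorization 2 * 3 := by
      rw [h8]
      conv_lhs => rw [hcard, hb1]
      rw [pow_one]
    exact Nat.eq_of_mul_eq_mul_left (pow_pos (by norm_num) _) h10
  · -- r = 3
    left
    have hinvert : ∀ s : G, orderOf s = 2 → ∀ m ∈ M, s * m * s⁻¹ = m⁻¹ := by
      intro s hs m hm
      have hsm : s * m * s⁻¹ ∈ M := hMn.conj_mem m hm s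
      have hw : m * (s * m * s⁻¹) ∈ M := M.mul_mem hm hsm
      have hcw : Commute s (m * (s * m * s⁻¹)) := by
        have e1 : s * (m * (s * m * s⁻¹)) = (s * m * s⁻¹) * ((s * s) * m * s⁻¹) := by group
        have e2 : (m * (s * m * s⁻¹)) * s = m * (s * m * s⁻¹) * s := rfl
        show s * (m * (s * m * s⁻¹)) = (m * (s * m * s⁻¹)) * s
        rw [e1, sq_of s hs, one_mul, ← mul_assoc, cM _ hsm m hm, inv_of s hs]
      have hw1 : m * (s * m * s⁻¹) = 1 := by
        by_contra hne
        exact hno6 s _ hs (orderOf_eq_prime (hMexp _ hw) hne) hcw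
      exact eq_inv_of_mul_eq_one_right hw1
    obtain ⟨S⟩ : Nonempty (Sylow 2 G) := inferInstance
    have hS2 : ∀ g ∈ (S : Subgroup G), g ≠ 1 → orderOf g = 2 := by
      intro g hg hg1
      obtain ⟨k, hk⟩ := (S.isPGroup' ⟨g, hg⟩)
      have hk' : g ^ 2 ^ k = 1 := congrArg Subtype.val hk
      rcases hord g with h1 | h1 | h1
      · exact absurd (orderOf_eq_one_iff.1 h1) hg1
      · exact h1
      · have h5 : orderOf g ∣ 2 ^ k := orderOf_dvd_of_pow_eq_one hk'
        rw [h1] at h5
        have := (Nat.prime_three.dvd_of_dvd_pow h5)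
        norm_num at this
    have hSuniq : ∀ a ∈ (S : Subgroup G), ∀ b ∈ (S : Subgroup G), a ≠ 1 → b ≠ 1 → a = b := by
      intro a ha b hb ha1 hb1
      by_contra hab
      have hab1 : a * b ≠ 1 := by
        intro h0
        apply hab
        rw [← inv_of b (hS2 b hb hb1)]
        exact eq_inv_of_mul_eq_one_left h0
      have h1 := hinvert _ (hS2 _ (Subgroup.mul_mem _ ha hb) hab1) m₀ hm₀
      have h2 : a * b * m₀ * (a * b)⁻¹ = a * (b * m₀ * b⁻¹) * a⁻¹ := by group
      rw [h2, hinvert b (hS2 b hb hb1) m₀ hm₀,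
        hinvert a (hS2 a ha ha1) m₀⁻¹ (M.inv_mem hm₀), inv_inv] at h1
      have h3 : m₀ ^ 2 = 1 := by
        rw [pow_two]
        nth_rewrite 1 [h1]
        exact inv_mul_cancel m₀
      have h4 := orderOf_dvd_of_pow_eq_one h3
      rw [hm₀r] at h4
      norm_num at h4
    have hScard : Nat.card (S : Subgroup G) = 2 := by
      have h1 : 2 ∣ Nat.card (S : Subgroup G) := by
        rw [S.card_eq_multiplicity]
        exact dvd_pow_self 2 (Nat.prime_two.factorization_pos_of_dvd Nat.card_pos.ne' h2G).ne'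
      have h2 : Nat.card (S : Subgroup G) ≤ 2 := by
        by_contra hgt
        push Not at hgt
        haveI : Fintype (S : Subgroup G) := Fintype.ofFinite _
        rw [Nat.card_eq_fintype_card] at hgt
        obtain ⟨a, b, c, hab, hac, hbc⟩ := Fintype.two_lt_card_iff.1 hgt
        by_cases ha : a = 1
        · apply hbc
          apply Subtype.ext
          exact hSuniq b b.2 c c.2 (fun h0 => hab (ha.trans (Subtype.ext h0).symm))
            (fun h0 => hac (ha.trans (Subtype.ext h0).symm))
        · by_cases hb : b = 1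
          · apply hac
            apply Subtype.ext
            exact hSuniq a a.2 c c.2 (fun h0 => ha (Subtype.ext h0))
              (fun h0 => hbc (hb.trans (Subtype.ext h0).symm))
          · apply hab
            apply Subtype.ext
            exact hSuniq a a.2 b b.2 (fun h0 => ha (Subtype.ext h0)) (fun h0 => hb (Subtype.ext h0))
      have h3 : 0 < Nat.card (S : Subgroup G) := Nat.card_pos
      have := Nat.le_of_dvd h3 h1
      omega
    have hScyc : IsCyclic (S : Subgroup G) := isCyclic_of_prime_card hScard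
    have hmin : (Nat.card G).minFac = 2 := (Nat.minFac_eq_two_iff _).2 h2G
    have hcomp := IsCyclic.isComplement' hmin hScyc
    set K : Subgroup G := (MonoidHom.transferSylow S (hScyc.normalizer_le_centralizer hmin)).ker with hK
    have hKn : K.Normal := inferInstance
    have hKidx : K.index = 2 := by rw [hcomp.symm.index_eq_card, hScard]
    have hKodd : ¬ 2 ∣ Nat.card K := by
      rw [← hcomp.index_eq_card]
      exact S.not_dvd_index
    have hK3 : ∀ k ∈ K, k ^ 3 = 1 := by
      intro k hk
      have h1 : orderOf k ∣ Nat.card K := by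
        have := orderOf_dvd_natCard (⟨k, hk⟩ : K)
        rwa [Subgroup.orderOf_mk] at this
      rcases hord k with h2 | h2 | h2
      · rw [orderOf_eq_one_iff.1 h2, one_pow]
      · exact absurd (h2 ▸ h1) hKodd
      · rw [← h2]; exact pow_orderOf_eq_one k
    have hout : ∀ g : G, g ∉ K → orderOf g = 2 := by
      intro g hg
      have hg2 : g ^ 2 ∈ K := Subgroup.sq_mem_of_index_two hKidx g
      rcases hord g with h2 | h2 | h2
      · exact absurd ((orderOf_eq_one_iff.1 h2) ▸ K.one_mem) hg
      · exact h2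
      · exfalso
        apply hg
        have h3 : g ^ 3 = 1 := by rw [← h2]; exact pow_orderOf_eq_one g
        have h4 : g = g ^ 3 * (g ^ 2)⁻¹ := by group
        rw [h4, h3, one_mul]
        exact K.inv_mem hg2
    have htK : t ∉ K := by
      intro htK
      have h1 := hK3 t htK
      have h2 := orderOf_dvd_of_pow_eq_one h1
      rw [ht] at h2
      norm_num at h2
    have hinvK : ∀ k ∈ K, t * k * t⁻¹ = k⁻¹ := by
      intro k hk
      have h1 : t * k ∉ K := fun h0 => htK (by
        have := K.mul_mem h0 (K.inv_mem hk)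
        simpa using this)
      have h2 := sq_of _ (hout _ h1)
      rw [inv_of t ht]
      calc t * k * t = ((t * k) * (t * k)) * k⁻¹ := by group
        _ = k⁻¹ := by rw [h2, one_mul]
    refine ⟨K, hKn, ⟨⟨⟨fun a b => ?_⟩⟩, hK3⟩, hKidx⟩
    apply Subtype.ext
    show (a : G) * b = b * a
    have h1 := hinvK _ (K.mul_mem a.2 b.2)
    have h2 : t * ((a : G) * b) * t⁻¹ = (t * a * t⁻¹) * (t * b * t⁻¹) := by group
    rw [h2, hinvK a a.2, hinvK b b.2] at h1
    have h3 := congrArg (fun z => z⁻¹) h1
    simp only [mul_inv_rev, inv_inv] at h3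
    exact h3.symm

end Cfsg.Agent.S4005
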