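import Mathlib
import Cfsg.Statements.S4097
import Cfsg.Agent.Lib.Helper1.FrobD
import Cfsg.Agent.Lib.Helper9.Sig

set_option autoImplicit false
open Pointwise

namespace Cfsg.Agent.S4097

open Cfsg.Agent.Lib.Helper1 Cfsg.Agent.Lib.Helper9

universe u

theorem aux : ∀ (n : ℕ) (G : Type u) [Group G] [Finite G], Nat.card G = n →
    ∀ (A : Subgroup G), Group.IsSolvable A →
    (∀ S : Subgroup G, A ≤ S → Group.IsSolvable S → ∀ a ∈ A, ∀ s ∈ S, a * s = s * a) →
    A ≤ Subgroup.center G := by
  intro n
  induction n using Nat.strong_induction_on with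
  | _ n ih =>
  intro G _ _ hn A hA hc
  by_contra hcon
  obtain ⟨H, hHdef⟩ : ∃ H : Subgroup G, H = Subgroup.centralizer (A : Set G) := ⟨_, rfl⟩
  have hmemH : ∀ x : G, x ∈ H ↔ ∀ a ∈ A, a * x = x * a := by
    intro x
    rw [hHdef, Subgroup.mem_centralizer_iff]
    rfl
  have hHtop : H ≠ ⊤ := by
    intro h
    apply hcon
    intro a ha
    rw [Subgroup.mem_center_iff]
    intro g
    have : g ∈ H := by rw [h]; trivial
    exact ((hmemH g).mp this a ha).symm
  -- (1)
  have h1 : ∀ M : Subgroup G, A ≤ M → M ≠ ⊤ → M ≤ H := by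
    intro M hAM hM
    have hlt : Nat.card M < n := by
      rw [← hn]
      by_contra hge
      push Not at hge
      exact hM (Subgroup.eq_top_of_le_card M hge)
    have hsolv : Group.IsSolvable (A.subgroupOf M) :=
      Group.isSolvable_of_isSolvable_injective (f := (Subgroup.subgroupOfEquivOfLe hAM).toMonoidHom)
        (Subgroup.subgroupOfEquivOfLe hAM).injective
    have := ih _ hlt M rfl (A.subgroupOf M) hsolv (by
      intro S hS hSs a ha s hs
      have hS' : Group.IsSolvable (S.map M.subtype) :=
        Group.isSolvable_of_surjective (f := M.subtype.subgroupMap S) (M.subtype.subgroupMap_surjective S)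
      have hAS : A ≤ S.map M.subtype := by
        intro x hx
        exact ⟨⟨x, hAM hx⟩, hS (Subgroup.mem_subgroupOf.mpr hx), rfl⟩
      apply Subtype.ext
      exact hc _ hAS hS' a.1 (Subgroup.mem_subgroupOf.mp ha) s.1 ⟨s, hs, rfl⟩)
    intro m hm
    rw [hmemH]
    intro a ha
    have h2 : (⟨a, hAM ha⟩ : M) ∈ Subgroup.center M := this (Subgroup.mem_subgroupOf.mpr ha)
    rw [Subgroup.mem_center_iff] at h2
    exact (congrArg Subtype.val (h2 ⟨m, hm⟩)).symm
  have hAH : A ≤ H := by
    intro x hx
    rw [hmemH]
    intro a ha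
    exact hc A le_rfl hA a ha x hx
  have hnsolv : ¬ Group.IsSolvable G := by
    intro hs
    apply hHtop
    rw [eq_top_iff]
    intro x _
    rw [hmemH]
    intro a ha
    have : Group.IsSolvable (⊤ : Subgroup G) := inferInstance
    exact hc ⊤ le_top this a ha x trivial
  have hmemconj : ∀ (g x : G) (B : Subgroup G), x ∈ MulAut.conj g • B ↔ g⁻¹ * x * g ∈ B := by
    intro g x B
    rw [Subgroup.mem_pointwise_smul_iff_inv_smul_mem]
    simp [MulAut.smul_def]
  -- (4a)
  have h4a : ∀ g : G, MulAut.conj g • A ≤ H → g ∈ H := by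
    intro g hg
    -- H ≤ conj g • H
    have hle : MulAut.conj g⁻¹ • H ≤ H := by
      apply h1
      · intro a ha
        rw [hmemconj]
        apply hg
        rw [hmemconj]
        simpa [mul_assoc] using ha
      · intro h
        apply hHtop
        have := congrArg (fun B => MulAut.conj g • B) h
        simpa using this
    have hnorm : g⁻¹ ∈ Subgroup.normalizer (H : Set G) := by
      apply Subgroup.mem_normalizer_fintype
      intro x hx
      apply hle
      rw [hmemconj]
      simpa [mul_assoc] using hx
    have hnorm' : g ∈ Subgroup.normalizer (H : Set G) := by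
      simpa using (Subgroup.normalizer (H : Set G)).inv_mem hnorm
    by_cases hN : Subgroup.normalizer (H : Set G) = ⊤
    · exfalso
      haveI hHn : H.Normal := Subgroup.normalizer_eq_top_iff.mp hN
      have hZn : ((Subgroup.center H).map H.subtype).Normal :=
        ConjAct.normal_of_characteristic_of_normal
      haveI : Group.IsSolvable (Subgroup.center H) :=
        Group.isSolvable_of_comm (fun a b => Subtype.ext (Subgroup.mem_center_iff.mp b.2 a.1))
      have hZs : Group.IsSolvable ((Subgroup.center H).map H.subtype) :=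
        Group.isSolvable_of_surjective (f := H.subtype.subgroupMap (Subgroup.center H))
          (H.subtype.subgroupMap_surjective _)
      have hAZ : A ≤ (Subgroup.center H).map H.subtype := by
        intro a ha
        refine ⟨⟨a, hAH ha⟩, ?_, rfl⟩
        show _ ∈ Subgroup.center H
        rw [Subgroup.mem_center_iff]
        intro h
        apply Subtype.ext
        exact ((hmemH h.1).mp h.2 a ha).symm
      apply hHtop
      rw [eq_top_iff]
      intro x _
      rw [hmemH]
      intro a ha
      have hs : Group.IsSolvable (((Subgroup.center H).map H.subtype) ⊔ Subgroup.zpowers x : Subgroup G) := by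
        apply Sig.solvable_sup hZs inferInstance
        rw [Subgroup.normalizer_eq_top_iff.mpr hZn]
        exact le_top
      exact hc _ (hAZ.trans le_sup_left) hs a ha x
        ((le_sup_right : Subgroup.zpowers x ≤ _) (Subgroup.mem_zpowers x))
    · exact h1 _ (hAH.trans Subgroup.le_normalizer) hN hnorm'
  -- (5)
  have h5 : ∀ g : G, g ∉ H → H ⊓ MulAut.conj g • H ≤ Subgroup.center G := by
    intro g hg x hx
    have htop : A ⊔ MulAut.conj g • A = ⊤ := by
      by_contra hne
      exact hg (h4a g (le_sup_right.trans (h1 _ le_sup_left hne)))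
    have hxc : A ⊔ MulAut.conj g • A ≤ Subgroup.centralizer {x} := by
      apply sup_le
      · intro a ha
        rw [Subgroup.mem_centralizer_singleton_iff]
        exact (hmemH x).mp hx.1 a ha
      · intro a ha
        rw [Subgroup.mem_centralizer_singleton_iff]
        rw [hmemconj] at ha
        have h2 := (hmemH _).mp ((hmemconj g x H).mp hx.2) _ ha
        have h3 : g * (g⁻¹ * a * g * (g⁻¹ * x * g)) * g⁻¹ = g * (g⁻¹ * x * g * (g⁻¹ * a * g)) * g⁻¹ := by
          rw [h2]
        simpa [mul_assoc] using h3
    rw [htop] at hxc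
    rw [Subgroup.mem_center_iff]
    intro y
    have := hxc (Subgroup.mem_top y)
    rw [Subgroup.mem_centralizer_singleton_iff] at this
    exact this
  have hZH : Subgroup.center G ≤ H := by
    intro z hz
    rw [hmemH]
    intro a _
    exact Subgroup.mem_center_iff.mp hz a
  -- Frobenius
  obtain ⟨Hb, hHb⟩ : ∃ Hb : Subgroup (G ⧸ Subgroup.center G),
    Hb = H.map (QuotientGroup.mk' (Subgroup.center G)) := ⟨_, rfl⟩
  have hmemHb : ∀ x : G, (QuotientGroup.mk' (Subgroup.center G) x) ∈ Hb ↔ x ∈ H := by
    intro x
    rw [hHb]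
    constructor
    · rintro ⟨h, hh, he⟩
      rw [QuotientGroup.mk'_apply, QuotientGroup.mk'_apply, QuotientGroup.eq] at he
      have : x = h * (h⁻¹ * x) := by group
      rw [this]
      exact H.mul_mem hh (hZH he)
    · intro hx
      exact ⟨x, hx, rfl⟩
  have hFrob : Cfsg.IsFrobeniusComplement Hb := by
    refine ⟨?_, ?_, ?_⟩
    · intro h
      apply hcon
      intro a ha
      have : (QuotientGroup.mk' (Subgroup.center G) a) ∈ Hb := (hmemHb a).mpr (hAH ha)
      rw [h, Subgroup.mem_bot, QuotientGroup.mk'_apply, QuotientGroup.eq_one_iff] at this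
      exact this
    · intro h
      apply hHtop
      rw [eq_top_iff]
      intro x _
      rw [← hmemHb, h]
      trivial
    · intro gb hgb
      obtain ⟨g, rfl⟩ := QuotientGroup.mk'_surjective _ gb
      rw [hmemHb] at hgb
      rw [eq_bot_iff]
      intro xb hxb
      obtain ⟨x, rfl⟩ := QuotientGroup.mk'_surjective _ xb
      have hx1 : x ∈ H := (hmemHb x).mp hxb.1
      have hx2 : x ∈ MulAut.conj g • H := by
        have : (QuotientGroup.mk' (Subgroup.center G)) x ∈
          MulAut.conj ((QuotientGroup.mk' (Subgroup.center G)) g) • Hb := hxb.2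
        rw [Subgroup.mem_pointwise_smul_iff_inv_smul_mem] at this
        rw [hmemconj, ← hmemHb]
        simpa [MulAut.smul_def] using this
      have := h5 g hgb ⟨hx1, hx2⟩
      rw [Subgroup.mem_bot, QuotientGroup.mk'_apply, QuotientGroup.eq_one_iff]
      exact this
  obtain ⟨Kb, -, hKbn, hKbc⟩ := FrobC.frobenius_theorem Hb hFrob
  haveI := hKbn
  have hKbnil : Group.IsNilpotent Kb := FrobD.kernel_nilpotent hFrob hKbc
  have hKbne : Kb ≠ ⊥ := FrobD.kernel_ne_bot hFrob hKbc
  obtain ⟨K, hK⟩ : ∃ K : Subgroup G, K = Kb.comap (QuotientGroup.mk' (Subgroup.center G)) := ⟨_, rfl⟩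
  have hKn : K.Normal := by rw [hK]; infer_instance
  have hKs : Group.IsSolvable K := by
    subst hK
    haveI : Group.IsSolvable Kb := inferInstance
    haveI : Group.IsSolvable (Subgroup.center G) :=
      Group.isSolvable_of_comm (fun a b => Subtype.ext (Subgroup.mem_center_iff.mp b.2 a.1))
    have hZK : Subgroup.center G ≤ Kb.comap (QuotientGroup.mk' (Subgroup.center G)) := by
      intro z hz
      rw [Subgroup.mem_comap, QuotientGroup.mk'_apply, (QuotientGroup.eq_one_iff z).mpr hz]
      exact Kb.one_mem
    apply Group.isSolvable_of_ker_le_range (Subgroup.inclusion hZK)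
      ((QuotientGroup.mk' (Subgroup.center G)).subgroupComap Kb)
    intro k hk
    rw [MonoidHom.mem_ker] at hk
    have h2 := congrArg Subtype.val hk
    have h3 : (QuotientGroup.mk' (Subgroup.center G)) k.1 = 1 := h2
    rw [QuotientGroup.mk'_apply, QuotientGroup.eq_one_iff] at h3
    exact ⟨⟨k.1, h3⟩, rfl⟩
  have hKA : K ⊔ A = ⊤ := by
    by_contra hne
    have hKH : K ≤ H := le_sup_left.trans (h1 _ le_sup_right hne)
    apply hKbne
    rw [eq_bot_iff]
    intro xb hxb
    obtain ⟨x, rfl⟩ := QuotientGroup.mk'_surjective _ xb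
    have hxK : x ∈ K := by rw [hK]; exact hxb
    have : (QuotientGroup.mk' (Subgroup.center G) x) ∈ Kb ⊓ Hb := ⟨hxb, (hmemHb x).mpr (hKH hxK)⟩
    rw [disjoint_iff.mp hKbc.disjoint] at this
    exact this
  apply hnsolv
  have hs : Group.IsSolvable (K ⊔ A : Subgroup G) := by
    apply Sig.solvable_sup hKs hA
    rw [Subgroup.normalizer_eq_top_iff.mpr hKn]
    exact le_top
  rw [hKA] at hs
  exact Group.isSolvable_of_surjective (f := (⊤ : Subgroup G).subtype) (fun x => ⟨⟨x, trivial⟩, rfl⟩)

/-- Let A be a solvable subgroup of a finite group G such that A lies in the centre of every solvable subgroup of G containing A. Then A lies in the centre of G. -/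
theorem result {G : Type*} [Group G] [Finite G]
    (A : Subgroup G) (hA : Group.IsSolvable A)
    (hc : ∀ S : Subgroup G, A ≤ S → Group.IsSolvable S → ∀ a ∈ A, ∀ s ∈ S, a * s = s * a) : A ≤ Subgroup.center G :=
  aux _ G rfl A hA hc

end Cfsg.Agent.S4097
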