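import Cfsg.Statements.S4108
import Cfsg.Agent.Lib.Helper1.FrobD

set_option autoImplicit false
open Cfsg

namespace Cfsg.Agent.S4108

/-- Let G be a finite group, p a prime and N a proper non-trivial normal p-subgroup such that for every x outside N all elements of the coset xN have the same order as x. Then every non-trivial subgroup H of G of order prime to p acts fixed-point-freely on N: NH is a Frobenius group with complement H and kernel N. -/
theorem result {G : Type*} [Group G] [Finite G] (N : Subgroup G) [N.Normal] (hN1 : N ≠ ⊥) (hN2 : N ≠ ⊤)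
    (heq : ∀ x : G, x ∉ N → ∀ n ∈ N, orderOf (x * n) = orderOf x)
    (p : ℕ) [Fact p.Prime] (hNp : IsPGroup p N) :
    ∀ H : Subgroup G, H ≠ ⊥ → (Nat.card H).Coprime p →
      Cfsg.IsFrobeniusComplement (H.subgroupOf (N ⊔ H)) ∧ Cfsg.frobeniusKernel (H.subgroupOf (N ⊔ H)) = (N.subgroupOf (N ⊔ H) : Set ↥(N ⊔ H)) := by
  intro H hH hcop
  obtain ⟨k, hk⟩ := IsPGroup.iff_card.mp hNp
  have hcopNH : (Nat.card N).Coprime (Nat.card H) := by
    rw [hk]; exact Nat.Coprime.pow_left k hcop.symm
  have hd : N ⊓ H = ⊥ := Subgroup.inf_eq_bot_of_coprime hcopNH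
  have hc : Subgroup.IsComplement' (N.subgroupOf (N ⊔ H)) (H.subgroupOf (N ⊔ H)) := by
    apply Subgroup.isComplement'_of_coprime
    · rw [Cfsg.Agent.Lib.Helper1.card_subgroupOf le_sup_left, Cfsg.Agent.Lib.Helper1.card_subgroupOf le_sup_right,
        sup_comm, Cfsg.Agent.Lib.Helper1.card_sup_of_disjoint H N (by rw [inf_comm]; exact hd), mul_comm]
    · rw [Cfsg.Agent.Lib.Helper1.card_subgroupOf le_sup_left, Cfsg.Agent.Lib.Helper1.card_subgroupOf le_sup_right]
      exact hcopNH
  have hF : Cfsg.IsFrobeniusComplement (H.subgroupOf (N ⊔ H)) := by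
    apply Cfsg.Agent.Lib.Helper1.FrobD.frob_of_fpf _ _ hc
    · intro h
      apply hN1
      rw [Subgroup.subgroupOf_eq_bot, disjoint_iff, inf_eq_left.mpr le_sup_left] at h
      exact h
    · intro h
      apply hH
      rw [Subgroup.subgroupOf_eq_bot, disjoint_iff, inf_eq_left.mpr le_sup_right] at h
      exact h
    · intro h hh h1 n hn hcomm
      rw [Subgroup.mem_subgroupOf] at hh hn
      have h1' : (h : G) ≠ 1 := fun h' => h1 (Subtype.ext h')
      have hhN : (h : G) ∉ N := by
        intro hhN
        have : (h : G) ∈ N ⊓ H := ⟨hhN, hh⟩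
        rw [hd, Subgroup.mem_bot] at this
        exact h1' this
      have h2 := heq h hhN n hn
      have hcomm' : Commute (h : G) (n : G) := congrArg Subtype.val hcomm
      have hco : (orderOf (h : G)).Coprime (orderOf (n : G)) := by
        apply Nat.Coprime.coprime_dvd_left (Subgroup.orderOf_dvd_natCard H hh)
        apply Nat.Coprime.coprime_dvd_right (Subgroup.orderOf_dvd_natCard N hn)
        exact hcopNH.symm
      rw [hcomm'.orderOf_mul_eq_mul_orderOf_of_coprime hco] at h2
      have h3 : orderOf (n : G) = 1 := by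
        have hpos : 0 < orderOf (h : G) := orderOf_pos _
        exact Nat.eq_of_mul_eq_mul_left hpos (h2.trans (mul_one _).symm)
      rw [orderOf_eq_one_iff] at h3
      exact Subtype.ext h3
  exact ⟨hF, (Cfsg.Agent.Lib.Helper1.FrobD.kernel_eq_of_compl hF hc).symm⟩

end Cfsg.Agent.S4108
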