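import Mathlib
import Cfsg.Statements.S4113

set_option autoImplicit false
open Cfsg

namespace Cfsg.Agent.S4113

theorem result {G : Type*} [Group G] [Finite G] (N M : Subgroup G) [N.Normal] [M.Normal] (hMN : M ≤ N) (hM1 : M ≠ ⊥) (hN2 : N ≠ ⊤)
    (H : Subgroup G) (hHM : H ⊔ M = ⊤) (hHM' : H ⊓ M = ⊥) :
    (∀ x ∈ M, x ≠ 1 → Subgroup.centralizer ({x} : Set G) ≤ N) ↔
      (H ≠ ⊥ ∧ H ≠ ⊤ ∧ H ⊓ N < H ∧ ∀ g : G, g ∉ H → H ⊓ H.map (MulAut.conj g).toMonoidHom ≤ N) := by
  have hMn : M.Normal := inferInstance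
  have hdec : ∀ g : G, ∃ m ∈ M, ∃ h ∈ H, m * h = g := by
    intro g
    have : g ∈ M ⊔ H := by rw [sup_comm, hHM]; exact Subgroup.mem_top g
    exact Subgroup.mem_sup_of_normal_left.mp this
  have hdisj : ∀ y, y ∈ H → y ∈ M → y = 1 := by
    intro y h1 h2
    have : y ∈ H ⊓ M := ⟨h1, h2⟩
    rwa [hHM', Subgroup.mem_bot] at this
  constructor
  · intro hC
    refine ⟨?_, ?_, ?_, ?_⟩
    · rintro rfl
      rw [bot_sup_eq] at hHM
      exact hN2 (top_le_iff.mp (hHM ▸ hMN))
    · rintro rfl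
      rw [top_inf_eq] at hHM'
      exact hM1 hHM'
    · refine lt_of_le_of_ne inf_le_left ?_
      intro h
      have hHN : H ≤ N := inf_eq_left.mp h
      exact hN2 (top_le_iff.mp (hHM ▸ sup_le hHN hMN))
    · intro g hg y hy
      obtain ⟨hy1, k, hk, hky⟩ := hy
      obtain ⟨m, hm, h, hh, rfl⟩ := hdec g
      have hm1 : m ≠ 1 := by
        rintro rfl
        exact hg (by simpa using hh)
      simp only [MulEquiv.coe_toMonoidHom, MulAut.conj_apply] at hky
      -- k' = h k h⁻¹ ∈ H, y = m k' m⁻¹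
      set k' := h * k * h⁻¹ with hk'
      have hk'H : k' ∈ H := mul_mem (mul_mem hh hk) (inv_mem hh)
      have hy2 : y = m * k' * m⁻¹ := by rw [← hky, hk']; group
      have h1 : y * k'⁻¹ ∈ M := by
        have : y * k'⁻¹ = m * (k' * m⁻¹ * k'⁻¹) := by rw [hy2]; group
        rw [this]
        exact mul_mem hm (hMn.conj_mem _ (inv_mem hm) _)
      have h2 := hdisj _ (mul_mem hy1 (inv_mem hk'H)) h1
      have h3 : y = k' := mul_inv_eq_one.mp h2
      apply hC m hm hm1
      rw [Subgroup.mem_centralizer_iff]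
      intro z hz
      rw [Set.mem_singleton_iff] at hz
      subst hz
      have h4 : y = z * y * z⁻¹ := by rw [← h3] at hy2; exact hy2
      calc z * y = (z * y * z⁻¹) * z := by group
        _ = y * z := by rw [← h4]
  · rintro ⟨-, -, -, hF⟩
    have key : ∀ w ∈ M, w ≠ 1 → ∀ h ∈ H, w * h = h * w → h ∈ N := by
      intro w hw hw1 h hh hc
      have hwH : w ∉ H := fun hwH => hw1 (hdisj w hwH hw)
      apply hF w hwH
      refine ⟨hh, h, hh, ?_⟩
      simp only [MulEquiv.coe_toMonoidHom, MulAut.conj_apply]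
      rw [hc]; group
    intro x hx hx1 c hc
    by_contra hcN
    obtain ⟨m, hm, h, hh, rfl⟩ := hdec c
    have hhN : h ∉ N := fun hhN => hcN (mul_mem (hMN hm) hhN)
    let f : M → M := fun u => ⟨(u : G) * h * (u : G)⁻¹ * h⁻¹, by
      have : (u : G) * h * (u : G)⁻¹ * h⁻¹ = u * (h * (u : G)⁻¹ * h⁻¹) := by group
      rw [this]
      exact mul_mem u.2 (hMn.conj_mem _ (inv_mem u.2) _)⟩
    have hinj : Function.Injective f := by
      intro u v huv
      have h1 : (u : G) * h * (u : G)⁻¹ * h⁻¹ = v * h * (v : G)⁻¹ * h⁻¹ := congrArg Subtype.val huv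
      by_contra hne
      apply hhN
      apply key ((v : G)⁻¹ * u) (mul_mem (inv_mem v.2) u.2) _ h hh
      · have h2 : (u : G) * h * (u : G)⁻¹ = v * h * (v : G)⁻¹ := mul_right_cancel h1
        calc (v : G)⁻¹ * u * h = (v : G)⁻¹ * ((u : G) * h * (u : G)⁻¹) * u := by group
          _ = (v : G)⁻¹ * (v * h * (v : G)⁻¹) * u := by rw [h2]
          _ = h * ((v : G)⁻¹ * u) := by group
      · intro h3
        apply hne
        apply Subtype.ext
        exact (inv_mul_eq_one.mp h3).symm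
    have hsurj := Finite.injective_iff_surjective.mp hinj
    obtain ⟨u, hu⟩ := hsurj ⟨m, hm⟩
    have hu' : (u : G) * h * (u : G)⁻¹ * h⁻¹ = m := congrArg Subtype.val hu
    have hc' : x * (m * h) = m * h * x := Subgroup.mem_centralizer_iff.mp hc x rfl
    have hmh : m * h = u * h * (u : G)⁻¹ := by rw [← hu']; group
    rw [hmh] at hc'
    apply hhN
    apply key ((u : G)⁻¹ * x * u) _ _ h hh
    · calc (u : G)⁻¹ * x * u * h = (u : G)⁻¹ * (x * (u * h * (u : G)⁻¹)) * u := by group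
        _ = (u : G)⁻¹ * (u * h * (u : G)⁻¹ * x) * u := by rw [hc']
        _ = h * ((u : G)⁻¹ * x * u) := by group
    · have := hMn.conj_mem x hx (u : G)⁻¹
      simpa using this
    · intro h3
      apply hx1
      have : x = u * ((u : G)⁻¹ * x * u) * (u : G)⁻¹ := by group
      rw [this, h3]; group

end Cfsg.Agent.S4113
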