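import Cfsg.Statements.S4126
import Cfsg.Agent.S1946
import Cfsg.Agent.S0007
open Cfsg.Agent.Lib.Helper1

set_option autoImplicit false
open Cfsg

namespace Cfsg.Agent.S4126

/-- Let G be a finite group and p a prime. Suppose every element of order p, and when p = 2 also every element of order 4, has a conjugacy class of p-power size. Then G has a normal p-complement. -/
theorem result {G : Type*} [Group G] [Finite G] (p : ℕ) [Fact p.Prime]
    (h : ∀ x : G, (orderOf x = p ∨ (p = 2 ∧ orderOf x = 4)) → ∃ a : ℕ, (Subgroup.centralizer ({x} : Set G)).index = p ^ a) :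
    Cfsg.HasNormalPComplement p G := by
  have hpp : p.Prime := Fact.out
  obtain ⟨P⟩ : Nonempty (Sylow p G) := inferInstance
  rw [Cfsg.Agent.S1946.result P]
  intro a ha hsmall g hg
  by_cases ha1 : a = 1
  · subst ha1; exact ⟨1, one_mem _, by simp⟩
  have hord : orderOf a = p ∨ (p = 2 ∧ orderOf a = 4) := by
    rcases hsmall with h1 | ⟨h2, h4⟩
    · left; exact orderOf_eq_prime h1 ha1
    · subst h2
      have hd : orderOf a ∣ 2^2 := orderOf_dvd_of_pow_eq_one h4
      obtain ⟨k, hk, hk2⟩ := (Nat.dvd_prime_pow Nat.prime_two).mp hd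
      interval_cases k
      · simp at hk2; exact absurd hk2 ha1
      · left; simpa using hk2
      · right; exact ⟨rfl, by simpa using hk2⟩
  obtain ⟨k, hk⟩ := h a hord
  have hcop : (P : Subgroup G).index.Coprime (Subgroup.centralizer ({a} : Set G)).index := by
    rw [hk]; exact Nat.Coprime.pow_right _ ((Nat.Prime.coprime_iff_not_dvd hpp).mpr P.not_dvd_index).symm
  obtain ⟨x, hx, y, hy, rfl⟩ := Cfsg.Agent.S0007.exists_mul_of_coprime _ _ hcop g
  refine ⟨x, hx, ?_⟩
  have h1 : y * a = a * y := Subgroup.mem_centralizer_singleton_iff.mp hy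
  calc x * y * a * (x * y)⁻¹ = x * (y * a) * y⁻¹ * x⁻¹ := by group
    _ = x * a * x⁻¹ := by rw [h1]; group

end Cfsg.Agent.S4126
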