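import Cfsg.Statements.S4143
import Mathlib
import Cfsg.Agent.S0095
import Cfsg.Agent.S0112
import Cfsg.Agent.S1894
import Cfsg.Agent.Lib.Helper1.Frobenius

set_option autoImplicit false
open Cfsg

namespace Cfsg.Agent.S4143

open Cfsg
open Cfsg.Agent.Lib.Helper1
open scoped commutatorElement

theorem mem_sup_of_le_nz {G : Type*} [Group G] {A C : Subgroup G} (h : A ≤ Subgroup.normalizer (C : Set G)) {x : G}
    (hx : x ∈ A ⊔ C) : ∃ a ∈ A, ∃ c ∈ C, x = a * c := by
  let T : Subgroup G :=
    { carrier := {x | ∃ a ∈ A, ∃ c ∈ C, x = a * c}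
      one_mem' := ⟨1, A.one_mem, 1, C.one_mem, by simp⟩
      mul_mem' := by
        rintro _ _ ⟨a, ha, c, hc, rfl⟩ ⟨a', ha', c', hc', rfl⟩
        refine ⟨a * a', A.mul_mem ha ha', (a'⁻¹ * c * a') * c', C.mul_mem ?_ hc', by group⟩
        have := (Subgroup.mem_normalizer_iff.mp (h (A.inv_mem ha')) c).mp hc
        rwa [inv_inv] at this
      inv_mem' := by
        rintro _ ⟨a, ha, c, hc, rfl⟩
        refine ⟨a⁻¹, A.inv_mem ha, a * c⁻¹ * a⁻¹, ?_, by group⟩
        exact (Subgroup.mem_normalizer_iff.mp (h ha) c⁻¹).mp (C.inv_mem hc) }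
  have hle : A ⊔ C ≤ T := sup_le (fun a ha => ⟨a, ha, 1, C.one_mem, by simp⟩)
    (fun c hc => ⟨1, A.one_mem, c, hc, by simp⟩)
  exact hle hx

theorem comm_of_cyc {G : Type*} [Group G] (h : IsCyclic G) : IsMulCommutative G := by
  obtain ⟨g, hg⟩ := h.exists_generator
  refine ⟨⟨fun a b => ?_⟩⟩
  obtain ⟨m, rfl⟩ := hg a
  obtain ⟨n, rfl⟩ := hg b
  show g ^ m * g ^ n = g ^ n * g ^ m
  rw [← zpow_add, ← zpow_add, add_comm]

theorem comm_of_card_le_sq {H : Type*} [Group H] [Finite H] {p : ℕ} [hp : Fact p.Prime] {j : ℕ} (hH : Nat.card H = p ^ j)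
    (hj : j ≤ 2) : IsMulCommutative H := by
  interval_cases j
  · have : Subsingleton H := (Nat.card_eq_one_iff_unique.mp (by simpa using hH)).1
    exact ⟨⟨fun a b => Subsingleton.elim _ _⟩⟩
  · exact comm_of_cyc (isCyclic_of_prime_card (p := p) (by simpa using hH))
  · exact IsPGroup.isMulCommutative_of_card_eq_prime_sq hH

theorem center_of_cube {H : Type*} [Group H] [Finite H] {p : ℕ} [hp : Fact p.Prime] (hH : Nat.card H = p ^ 3)
    (hna : ¬ IsMulCommutative H) : Nat.card (Subgroup.center H) = p ∧ ∀ a b : H, ⁅a, b⁆ ∈ Subgroup.center H := by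
  have hHp : IsPGroup p H := IsPGroup.of_card hH
  haveI : Nontrivial H := (Finite.one_lt_card_iff_nontrivial).mp (by
    rw [hH]; exact Nat.one_lt_pow (by norm_num) hp.out.one_lt)
  have hnt : Nontrivial (Subgroup.center H) := hHp.center_nontrivial
  obtain ⟨j, hj3, hj⟩ := (Nat.dvd_prime_pow hp.out).mp (hH ▸ Subgroup.card_subgroup_dvd_card (Subgroup.center H))
  have hidx : Nat.card (Subgroup.center H) * (Subgroup.center H).index = p ^ 3 := by
    rw [Subgroup.card_mul_index, hH]
  have hpos : 0 < p := hp.out.pos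
  have hq : ∀ i, (Subgroup.center H).index = p ^ i → i ≤ 1 → False := by
    intro i hi hi1
    have h1 : Nat.card (H ⧸ Subgroup.center H) = p ^ i := by rw [← Subgroup.index_eq_card, hi]
    haveI : IsCyclic (H ⧸ Subgroup.center H) := by
      interval_cases i
      · have : Subsingleton (H ⧸ Subgroup.center H) := (Nat.card_eq_one_iff_unique.mp (by simpa using h1)).1
        infer_instance
      · exact isCyclic_of_prime_card (p := p) (by simpa using h1)
    exact hna (isMulCommutative_of_isCyclic_quotient_center_self H)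
  have hj1 : j = 1 := by
    rw [hj] at hidx
    interval_cases j
    · exfalso
      have : 1 < Nat.card (Subgroup.center H) := Finite.one_lt_card
      rw [hj] at this; simp at this
    · rfl
    · exfalso
      apply hq 1 _ le_rfl
      have : p ^ 2 * (Subgroup.center H).index = p ^ 2 * p ^ 1 := by rw [hidx]; ring
      exact Nat.eq_of_mul_eq_mul_left (by positivity) this
    · exfalso
      apply hq 0 _ (by norm_num)
      have : p ^ 3 * (Subgroup.center H).index = p ^ 3 * p ^ 0 := by rw [hidx]; ring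
      exact Nat.eq_of_mul_eq_mul_left (by positivity) this
  subst hj1
  refine ⟨by simpa using hj, ?_⟩
  have hi2 : (Subgroup.center H).index = p ^ 2 := by
    rw [hj] at hidx
    have : p ^ 1 * (Subgroup.center H).index = p ^ 1 * p ^ 2 := by rw [hidx]; ring
    exact Nat.eq_of_mul_eq_mul_left (by positivity) this
  have hc : IsMulCommutative (H ⧸ Subgroup.center H) :=
    IsPGroup.isMulCommutative_of_card_eq_prime_sq (by rw [← Subgroup.index_eq_card, hi2])
  intro a b
  rw [← QuotientGroup.eq_one_iff, commutatorElement_def]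
  simp only [QuotientGroup.mk_mul, QuotientGroup.mk_inv]
  have := hc.is_comm.comm (a : H ⧸ Subgroup.center H) (b : H ⧸ Subgroup.center H)
  rw [this]; group

/-- Let X be a finite p-group of order p^n containing a non-abelian subgroup B of order p³ with C_X(B) ≤ B. Then X has nilpotency class n − 1 (maximal class). -/
theorem result {X : Type*} [Group X] [Finite X] {p : ℕ} [Fact p.Prime] (n : ℕ) (hX : Nat.card X = p ^ n)
    (B : Subgroup X) (hB : Nat.card B = p ^ 3) (hBna : ¬ IsMulCommutative B) (hC : Subgroup.centralizer (B : Set X) ≤ B) :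
    Group.nilpotencyClass X = n - 1 := by
  have hp : p.Prime := Fact.out
  have hXp : IsPGroup p X := IsPGroup.of_card hX
  set Z := Subgroup.centralizer (B : Set X) with hZ
  have hZcen : Z.subgroupOf B = Subgroup.center B := by
    ext y
    rw [Subgroup.mem_subgroupOf, Subgroup.mem_center_iff]
    constructor
    · intro h2 z
      exact Subtype.ext (Subgroup.mem_centralizer_iff.mp h2 z z.2)
    · intro h
      refine Subgroup.mem_centralizer_iff.mpr fun z hz => ?_
      exact congrArg Subtype.val (h ⟨z, hz⟩)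
  obtain ⟨hc1, hc2⟩ := center_of_cube hB hBna
  have hZp : Nat.card Z = p := by
    rw [← hc1, ← hZcen]
    exact (Nat.card_congr (Subgroup.subgroupOfEquivOfLe hC).toEquiv).symm
  have hBB : ∀ a ∈ B, ∀ b ∈ B, ⁅a, b⁆ ∈ Z := by
    intro a ha b hb
    have := hc2 ⟨a, ha⟩ ⟨b, hb⟩
    rw [← hZcen, Subgroup.mem_subgroupOf] at this
    exact this
  have hZB : ∀ z ∈ Z, ∀ b ∈ B, z * b = b * z := fun z hz b hb => (Subgroup.mem_centralizer_iff.mp hz b hb).symm
  set N := Subgroup.normalizer (B : Set X) with hN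
  have hBN : B ≤ N := Subgroup.le_normalizer
  -- x₀
  haveI : Group.IsNilpotent N := (hXp.to_subgroup N).isNilpotent
  haveI : (B.subgroupOf N).Normal := Subgroup.normal_in_normalizer
  have hnle : ¬ B.subgroupOf N ≤ Z.subgroupOf N := by
    intro h
    apply hBna
    refine ⟨⟨fun a b => Subtype.ext ?_⟩⟩
    have : (⟨a, hBN a.2⟩ : N) ∈ Z.subgroupOf N := h (by rw [Subgroup.mem_subgroupOf]; exact a.2)
    exact hZB a this b b.2
  obtain ⟨x0', hx0B', hx0Z', hx0g'⟩ := Cfsg.Agent.S1894.exists_central_mod (Z.subgroupOf N) (B.subgroupOf N) hnle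
  obtain ⟨x0, hx0N⟩ := x0'
  have hx0B : x0 ∈ B := hx0B'
  have hx0Z : x0 ∉ Z := hx0Z'
  have hx0g : ∀ g ∈ N, ⁅x0, g⁆ ∈ Z := fun g hg => hx0g' ⟨g, hg⟩
  have hy : ∃ y ∈ B, y * x0 ≠ x0 * y := by
    by_contra hcon
    push Not at hcon
    exact hx0Z (Subgroup.mem_centralizer_iff.mpr hcon)
  obtain ⟨y, hyB, hyx⟩ := hy
  set z0 := ⁅x0, y⁆ with hz0
  have hz0Z : z0 ∈ Z := hBB x0 hx0B y hyB
  have hz01 : z0 ≠ 1 := by
    rw [hz0, Ne, commutatorElement_eq_one_iff_mul_comm]
    exact fun h => hyx h.symm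
  have hZz : ∀ w ∈ Z, ∃ a : ℤ, z0 ^ a = w := by
    intro w hw
    have : Subgroup.zpowers z0 = Z := by
      apply Subgroup.eq_of_le_of_card_ge (by rw [Subgroup.zpowers_le]; exact hz0Z)
      rw [hZp, Nat.card_zpowers]
      have h1 : orderOf z0 ∣ p := by
        rw [← hZp]
        have := Subgroup.card_dvd_of_le (show Subgroup.zpowers z0 ≤ Z by rw [Subgroup.zpowers_le]; exact hz0Z)
        rwa [Nat.card_zpowers] at this
      rcases (Nat.dvd_prime hp).mp h1 with h | h
      · exact absurd (orderOf_eq_one_iff.mp h) hz01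
      · exact h.ge
    rw [← this] at hw
    exact Subgroup.mem_zpowers_iff.mp hw
  -- subgroups of B containing x0, y
  have hgen : ∀ U : Subgroup X, U ≤ B → x0 ∈ U → y ∈ U → U = B := by
    intro U hUB hxU hyU
    obtain ⟨j, hj3, hj⟩ := (Nat.dvd_prime_pow hp).mp (hB ▸ Subgroup.card_dvd_of_le hUB)
    by_cases hj2 : j ≤ 2
    · exfalso
      have := comm_of_card_le_sq hj hj2
      exact hyx (congrArg Subtype.val (this.is_comm.comm ⟨y, hyU⟩ ⟨x0, hxU⟩))
    · have : j = 3 := by omega
      subst this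
      exact Subgroup.eq_of_le_of_card_ge hUB (by rw [hB, hj])
  -- A
  set A := Z ⊔ Subgroup.zpowers y with hA
  have hZA : Z ≤ A := le_sup_left
  have hyA : y ∈ A := Subgroup.mem_sup_right (Subgroup.mem_zpowers y)
  set Cy := B ⊓ Subgroup.centralizer {y} with hCy
  have hACy : A ≤ Cy := by
    apply sup_le
    · intro z hz
      exact ⟨hC hz, Subgroup.mem_centralizer_singleton_iff.mpr (hZB z hz y hyB)⟩
    · rw [Subgroup.zpowers_le]
      exact ⟨hyB, Subgroup.mem_centralizer_singleton_iff.mpr rfl⟩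
  have hCyB : Cy < B := by
    refine lt_of_le_of_ne inf_le_left ?_
    intro h
    have : x0 ∈ Cy := h ▸ hx0B
    exact hyx (Subgroup.mem_centralizer_singleton_iff.mp this.2).symm
  have hZltA : Z < A := by
    refine lt_of_le_of_ne hZA ?_
    intro h
    have : y ∈ Z := h ▸ hyA
    exact hyx (hZB y this x0 hx0B)
  have hcA : Nat.card A = p ^ 2 := Cfsg.Agent.S0112.card_of_lt_lt hXp (i := 1) (by simpa using hZp) hB hZltA
    (lt_of_le_of_lt hACy hCyB)
  have hcCy : Nat.card Cy = p ^ 2 := Cfsg.Agent.S0112.card_of_lt_lt hXp (i := 1) (by simpa using hZp) hB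
    (lt_of_lt_of_le hZltA hACy) hCyB
  have hACy' : A = Cy := Subgroup.eq_of_le_of_card_ge hACy (by rw [hcA, hcCy])
  have hAB : A ≤ B := hACy.trans inf_le_left
  have hAab : IsMulCommutative A := IsPGroup.isMulCommutative_of_card_eq_prime_sq hcA
  set C := Subgroup.centralizer (A : Set X) with hCdef
  have hAC : A ≤ C := by
    intro a ha
    rw [hCdef, Subgroup.mem_centralizer_iff]
    intro b hb
    exact congrArg Subtype.val (hAab.is_comm.comm ⟨b, hb⟩ ⟨a, ha⟩)
  have hAn : ∀ b ∈ B, ∀ a ∈ A, b * a * b⁻¹ ∈ A := by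
    intro b hb a ha
    have h1 := hZA (hBB b hb a (hAB ha))
    have e : b * a * b⁻¹ = ⁅b, a⁆ * a := by rw [commutatorElement_def]; group
    rw [e]; exact A.mul_mem h1 ha
  have hBnC : B ≤ Subgroup.normalizer (C : Set X) := by
    intro b hb
    have key : ∀ b ∈ B, ∀ c ∈ C, b * c * b⁻¹ ∈ C := by
      intro b hb c hc
      rw [hCdef, Subgroup.mem_centralizer_iff]
      intro a ha
      have h1 := hAn b⁻¹ (B.inv_mem hb) a ha
      rw [inv_inv] at h1
      have h2 := Subgroup.mem_centralizer_iff.mp hc _ h1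
      calc a * (b * c * b⁻¹) = b * ((b⁻¹ * a * b) * c) * b⁻¹ := by group
        _ = b * (c * (b⁻¹ * a * b)) * b⁻¹ := by rw [h2]
        _ = b * c * b⁻¹ * a := by group
    rw [Subgroup.mem_normalizer_iff]
    intro c
    constructor
    · exact key b hb c
    · intro h
      have := key b⁻¹ (B.inv_mem hb) _ h
      have e : b⁻¹ * (b * c * b⁻¹) * b⁻¹⁻¹ = c := by group
      rwa [e] at this
  have hCB : C ≤ B := by
    by_contra hcon
    have hlt : B < B ⊔ C := by
      refine lt_of_le_of_ne le_sup_left ?_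
      intro h
      exact hcon (h ▸ le_sup_right)
    have h1 := lt_inf_normalizer_of_lt (hXp.to_subgroup (B ⊔ C)) hlt
    obtain ⟨w, hw, hwB⟩ := SetLike.exists_of_lt h1
    obtain ⟨b, hb, c, hc, rfl⟩ := mem_sup_of_le_nz hBnC hw.1
    have hcN : c ∈ N := by
      have := N.mul_mem (N.inv_mem (hBN hb)) hw.2
      rwa [inv_mul_cancel_left] at this
    have hcB : c ∉ B := fun h => hwB (B.mul_mem hb h)
    -- the homomorphism
    set Q := N ⊓ Subgroup.centralizer (Z : Set X) with hQ
    have hcQ : c ∈ Q := ⟨hcN, Subgroup.centralizer_le hZA hc⟩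
    have hyQ : y ∈ Q := ⟨hBN hyB, Subgroup.mem_centralizer_iff.mpr fun z hz => hZB z hz y hyB⟩
    have hh : ∀ u ∈ Q, ∀ v ∈ Q, Commute ⁅x0, u⁆ v := by
      intro u hu v hv
      exact Subgroup.mem_centralizer_iff.mp hv.2 _ (hx0g u hu.1)
    set f := Cfsg.Agent.S0095.commHom Q x0 hh with hf
    obtain ⟨j, hj⟩ := hZz _ (hx0g c hcN)
    set c' : Q := ⟨c, hcQ⟩ * ⟨y, hyQ⟩ ^ (-j) with hc'
    have e1 : f c' = 1 := by
      rw [hc', map_mul, map_zpow, hf, Cfsg.Agent.S0095.commHom_apply, Cfsg.Agent.S0095.commHom_apply]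
      show ⁅x0, c⁆ * ⁅x0, y⁆ ^ (-j) = 1
      rw [← hj, ← hz0, ← zpow_add]; simp
    rw [hf, Cfsg.Agent.S0095.commHom_apply, commutatorElement_eq_one_iff_mul_comm] at e1
    have hc'v : (c' : X) = c * y ^ (-j) := by
      rw [hc']; simp only [Subgroup.coe_mul, Subgroup.coe_zpow]
    have e2 : y * (c' : X) = (c' : X) * y := by
      have h2 : y * c = c * y := Subgroup.mem_centralizer_iff.mp hc y hyA
      have h3 : Commute y c := h2
      have h4 : Commute y (y ^ (-j)) := (Commute.refl y).zpow_right _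
      rw [hc'v]
      exact (h3.mul_right h4).eq
    have hU := hgen (B ⊓ Subgroup.centralizer {(c' : X)}) inf_le_left
      ⟨hx0B, Subgroup.mem_centralizer_singleton_iff.mpr e1⟩ ⟨hyB, Subgroup.mem_centralizer_singleton_iff.mpr e2⟩
    have hc'Z : (c' : X) ∈ Z := by
      rw [hZ, Subgroup.mem_centralizer_iff]
      intro b hb
      have hb' : b ∈ B := hb
      have : b ∈ B ⊓ Subgroup.centralizer {(c' : X)} := by rw [hU]; exact hb'
      exact Subgroup.mem_centralizer_singleton_iff.mp this.2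
    apply hcB
    have : c = (c' : X) * y ^ j := by rw [hc'v]; group
    rw [this]
    exact B.mul_mem (hC hc'Z) (B.zpow_mem hyB _)
  have hCA : C = A := by
    apply le_antisymm _ hAC
    rw [hACy']
    intro c hc
    exact ⟨hCB hc, Subgroup.mem_centralizer_singleton_iff.mpr (Subgroup.mem_centralizer_iff.mp hc y hyA).symm⟩
  exact Cfsg.Agent.S0112.result n hX A hcA hCA

end Cfsg.Agent.S4143
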