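import Cfsg.Statements.S4155
import Cfsg.Agent.Lib.Helper3.UniqP6
import Cfsg.Agent.Lib.Helper3.CN3
import Cfsg.Agent.Lib.Helper2.Schmidt
import Cfsg.Agent.Lib.Helper1.Cores
import Cfsg.Agent.S0065

set_option autoImplicit false
open Cfsg

namespace Cfsg.Agent.S4155

/-- Let G be a finite group and N a proper non-trivial normal nilpotent subgroup whose order is not a prime power, such that for every x outside N all elements of the coset xN have the same order as x. Then N is the Fitting subgroup of G, and for every prime q every Sylow q-subgroup of G/N is cyclic or generalized quaternion. -/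
theorem result {G : Type*} [Group G] [Finite G] (N : Subgroup G) [N.Normal] (hN1 : N ≠ ⊥) (hN2 : N ≠ ⊤)
    (heq : ∀ x : G, x ∉ N → ∀ n ∈ N, orderOf (x * n) = orderOf x)
    (hnil : Group.IsNilpotent N) (hnpp : ¬ IsPrimePow (Nat.card N)) :
    N = Cfsg.fittingSubgroup G ∧
    ∀ (q : ℕ) [Fact q.Prime] (Q : Sylow q (G ⧸ N)), IsCyclic (Q : Subgroup (G ⧸ N)) ∨ ∃ n : ℕ, Nonempty ((Q : Subgroup (G ⧸ N)) ≃* QuaternionGroup (2 ^ n)) := by
  have hother : ∀ q : ℕ, q.Prime → ∃ r : ℕ, r.Prime ∧ r ∣ Nat.card N ∧ r ≠ q := by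
    intro q hq
    apply Cfsg.Agent.Lib.Helper3.CN.exists_other_prime
    intro hp
    haveI := Fact.mk hq
    obtain ⟨k, hk⟩ := hp.exists_card_eq
    apply hnpp
    rw [hk]
    refine ⟨q, k, Nat.prime_iff.1 hq, ?_, rfl⟩
    rcases Nat.eq_zero_or_pos k with rfl | h
    · rw [pow_zero] at hk
      exact absurd (Subgroup.card_eq_one.1 hk) hN1
    · exact h
  have L1 : ∀ q : ℕ, q.Prime → ∀ y : G, y ∉ N → (∃ a : ℕ, y ^ q ^ a = 1) → ∀ v ∈ N,
      y * v = v * y → (orderOf v).Coprime q → v = 1 := by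
    intro q hq y hy ⟨a, ha⟩ v hv hc hco
    obtain ⟨j, _, hj⟩ := (Nat.dvd_prime_pow hq).1 (orderOf_dvd_of_pow_eq_one ha)
    have h1 : (orderOf y).Coprime (orderOf v) := by
      rw [hj]; exact (Nat.Coprime.pow_right j hco).symm
    have h2 := Commute.orderOf_mul_eq_mul_orderOf_of_coprime (show Commute y v from hc) h1
    rw [heq y hy v hv] at h2
    have h3 : orderOf v = 1 := by
      have hpos : 0 < orderOf y := orderOf_pos y
      exact (Nat.eq_of_mul_eq_mul_left hpos (by rw [mul_one]; exact h2)).symm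
    exact orderOf_eq_one_iff.1 h3
  have L2 : ∀ q : ℕ, q.Prime → ∀ x : G, q ∣ orderOf (x : G ⧸ N) →
      ∃ t : ℕ, x ^ t ∉ N ∧ ∃ a : ℕ, (x ^ t) ^ q ^ a = 1 := by
    intro q hq x hx
    obtain ⟨a, t, ht, hat⟩ := Nat.exists_eq_pow_mul_and_not_dvd (orderOf_pos x).ne' q hq.ne_one
    refine ⟨t, ?_, a, ?_⟩
    · intro h
      apply ht
      rw [← QuotientGroup.eq_one_iff, QuotientGroup.mk_pow] at h
      exact hx.trans (orderOf_dvd_of_pow_eq_one h)
    · rw [← pow_mul, mul_comm, ← hat, pow_orderOf_eq_one]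
  constructor
  · apply le_antisymm
    · exact le_sSup ⟨inferInstance, hnil⟩
    intro x hx
    by_contra hxN
    have hx1 : orderOf (x : G ⧸ N) ≠ 1 := by
      rw [Ne, orderOf_eq_one_iff, QuotientGroup.eq_one_iff]; exact hxN
    obtain ⟨q, hq, hqx⟩ := Nat.exists_prime_and_dvd hx1
    obtain ⟨t, hyN, a, ha⟩ := L2 q hq x hqx
    obtain ⟨r, hr, hrN, hrq⟩ := hother q hq
    haveI := Fact.mk hq
    haveI := Fact.mk hr
    obtain ⟨v, hv⟩ := exists_prime_orderOf_dvd_card' (G := N) r hrN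
    have hvo : orderOf (v : G) = r := by rw [Subgroup.orderOf_coe, hv]
    have hNF : N ≤ Cfsg.fittingSubgroup G := le_sSup ⟨inferInstance, hnil⟩
    have hcomm := Cfsg.Agent.Lib.Helper2.Schmidt.commute_of_le_nilpotent
      (H := Cfsg.fittingSubgroup G) (A := Subgroup.zpowers (x ^ t)) (B := Subgroup.zpowers (v : G))
      Cfsg.Agent.Lib.Helper1.fitting_isNilpotent
      (Subgroup.zpowers_le.2 (Subgroup.pow_mem _ hx t)) (Subgroup.zpowers_le.2 (hNF v.2))
      (Ne.symm hrq) (Cfsg.Agent.Lib.Helper3.CN.isPGroup_zpowers_of_pow ha)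
      (Cfsg.Agent.Lib.Helper3.CN.isPGroup_zpowers hvo) _ (Subgroup.mem_zpowers _) _
      (Subgroup.mem_zpowers _)
    have h1 := L1 q hq _ hyN ⟨a, ha⟩ v v.2 hcomm
      (by rw [hvo]; exact (Nat.coprime_primes hr hq).2 hrq)
    rw [h1, orderOf_one] at hvo
    exact hr.one_lt.ne hvo
  · intro q hqF Q
    have hq : q.Prime := hqF.out
    obtain ⟨r, hr, hrN, hrq⟩ := hother q hq
    haveI := Fact.mk hr
    obtain ⟨R⟩ : Nonempty (Sylow r N) := inferInstance
    have htf : Group.IsNilpotent N ↔ ∀ (p : ℕ) (_hp : Fact p.Prime) (P : Sylow p N),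
        (P : Subgroup N).Normal := (isNilpotent_of_finite_tfae (G := N)).out 0 3
    haveI hRn : (R : Subgroup N).Normal := htf.1 hnil r inferInstance R
    have hRne : (R : Subgroup N) ≠ ⊥ := R.ne_bot_of_dvd_card hrN
    have h1 := Cfsg.Agent.S0065.result (R : Subgroup N) hRne
    obtain ⟨w, hw, hw1⟩ : ∃ w ∈ (R : Subgroup N) ⊓ Subgroup.center N, w ≠ 1 := by
      by_contra hc
      push Not at hc
      exact h1 (eq_bot_iff.2 fun x hx => Subgroup.mem_bot.2 (hc x hx))
    obtain ⟨k, hk⟩ := R.2.exists_card_eq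
    let V : Subgroup G :=
      { carrier := {v | v ∈ N ∧ (∀ n ∈ N, n * v = v * n) ∧ v ^ r ^ k = 1}
        mul_mem' := by
          rintro a b ⟨ha1, ha2, ha3⟩ ⟨hb1, hb2, hb3⟩
          refine ⟨mul_mem ha1 hb1, ?_, ?_⟩
          · intro n hn
            rw [← mul_assoc, ha2 n hn, mul_assoc, hb2 n hn, mul_assoc]
          · rw [(show Commute a b from hb2 a ha1).mul_pow, ha3, hb3, one_mul]
        one_mem' := ⟨one_mem _, fun n _ => by rw [mul_one, one_mul], one_pow _⟩
        inv_mem' := by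
          rintro a ⟨ha1, ha2, ha3⟩
          refine ⟨inv_mem ha1, ?_, by rw [inv_pow, ha3, inv_one]⟩
          intro n hn
          exact (Commute.inv_right (show Commute n a from ha2 n hn)).eq }
    have hVmem : ∀ v : G, v ∈ V ↔ v ∈ N ∧ (∀ n ∈ N, n * v = v * n) ∧ v ^ r ^ k = 1 :=
      fun v => Iff.rfl
    haveI hVn : V.Normal := by
      constructor
      intro v hv g
      obtain ⟨h1, h2, h3⟩ := (hVmem v).1 hv
      rw [hVmem]
      refine ⟨‹N.Normal›.conj_mem v h1 g, ?_, by rw [conj_pow, h3]; group⟩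
      intro n hn
      have h4 := h2 (g⁻¹ * n * g⁻¹⁻¹) (‹N.Normal›.conj_mem n hn g⁻¹)
      have e1 : n * (g * v * g⁻¹) = g * ((g⁻¹ * n * g⁻¹⁻¹) * v) * g⁻¹ := by group
      rw [e1, h4]; group
    have hwV : (w : G) ∈ V := by
      rw [hVmem]
      refine ⟨w.2, ?_, ?_⟩
      · intro n hn
        exact congrArg Subtype.val (Subgroup.mem_center_iff.1 hw.2 ⟨n, hn⟩)
      · have h5 : (⟨w, hw.1⟩ : (R : Subgroup N)) ^ r ^ k = 1 := by
          rw [← hk]; exact pow_card_eq_one'
        exact congrArg (fun z : (R : Subgroup N) => ((z : N) : G)) h5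
    haveI : Nontrivial V :=
      ⟨⟨⟨w, hwV⟩, 1, fun h => hw1 (Subtype.ext (show (w : G) = 1 from congrArg Subtype.val h))⟩⟩
    have hker : N ≤ (MulAut.conjNormal : G →* MulAut V).ker := by
      intro n hn
      rw [MonoidHom.mem_ker]
      ext v
      rw [MulAut.conjNormal_apply, MulAut.one_apply, ((hVmem v).1 v.2).2.1 n hn]
      group
    have hfpf : ∀ l : (Q : Subgroup (G ⧸ N)), l ≠ 1 → ∀ m : V,
        ((QuotientGroup.lift N (MulAut.conjNormal : G →* MulAut V) hker).comp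
          (Q : Subgroup (G ⧸ N)).subtype) l m = m → m = 1 := by
      intro l hl m hm
      obtain ⟨x, hx⟩ := QuotientGroup.mk_surjective (l : G ⧸ N)
      have hm' : x * (m : G) * x⁻¹ = m := by
        have h6 : (MulAut.conjNormal : G →* MulAut V) x m = m := by
          have h5 := hm
          rw [MonoidHom.comp_apply, Subgroup.subtype_apply, ← hx] at h5
          exact h5
        have h7 := congrArg Subtype.val h6
        rwa [MulAut.conjNormal_apply] at h7
      obtain ⟨j, hj⟩ := (IsPGroup.iff_orderOf.1 Q.2) l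
      rw [← Subgroup.orderOf_coe, ← hx] at hj
      have hqx : q ∣ orderOf (x : G ⧸ N) := by
        rw [hj]
        apply dvd_pow_self
        rintro rfl
        rw [pow_zero, orderOf_eq_one_iff, hx] at hj
        exact hl (Subtype.ext hj)
      obtain ⟨t, hyN, a, ha⟩ := L2 q hq x hqx
      have hc : Commute x (m : G) := mul_inv_eq_iff_eq_mul.1 hm'
      have h8 := L1 q hq _ hyN ⟨a, ha⟩ m ((hVmem m).1 m.2).1 (hc.pow_left t).eq (by
        have h9 := orderOf_dvd_of_pow_eq_one ((hVmem m).1 m.2).2.2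
        exact Nat.Coprime.coprime_dvd_left h9
          (Nat.Coprime.pow_left k ((Nat.coprime_primes hr hq).2 hrq)))
      exact Subtype.ext h8
    rcases Cfsg.Agent.Lib.Helper3.UniqP.cyclic_or_quat_of_fpf_hom q Q.2 _ hfpf with
      h | ⟨-, n, h⟩
    · exact Or.inl h
    · exact Or.inr ⟨n, h⟩

end Cfsg.Agent.S4155
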