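import Cfsg.Statements.S4196
import Mathlib
import Cfsg.Agent.S3863

set_option autoImplicit false
open Cfsg

namespace Cfsg.Agent.S4196

/-- A finite group G has elementary abelian Sylow 2-subgroups (commutative with every element squaring to the identity) if and only if every 2-element of G has a Sylow 2-subgroup in its centralizer and is conjugate to its inverse. -/
theorem result {G : Type*} [Group G] [Finite G] (P : Sylow 2 G) :
    (IsMulCommutative (P : Subgroup G) ∧ ∀ x ∈ (P : Subgroup G), x ^ 2 = 1) ↔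
      ∀ x : G, (∃ k : ℕ, orderOf x = 2 ^ k) → (∃ Q : Sylow 2 G, (Q : Subgroup G) ≤ Subgroup.centralizer ({x} : Set G)) ∧ IsConj x x⁻¹ := by
  haveI : Fact (Nat.Prime 2) := ⟨Nat.prime_two⟩
  constructor
  · rintro ⟨hc, he⟩ x ⟨k, hk⟩
    have h1 : IsPGroup 2 (Subgroup.zpowers x) := IsPGroup.of_card (n := k) (by rw [Nat.card_zpowers, hk])
    obtain ⟨Q, hQ⟩ := h1.exists_le_sylow
    have hxQ : x ∈ (Q : Subgroup G) := hQ (Subgroup.mem_zpowers x)
    obtain ⟨g, rfl⟩ := MulAction.exists_smul_eq G P Q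
    have hmem : ∀ y, y ∈ ((g • P : Sylow 2 G) : Subgroup G) ↔ g⁻¹ * y * g ∈ (P : Subgroup G) := by
      intro y
      rw [Sylow.coe_subgroup_smul, Subgroup.mem_pointwise_smul_iff_inv_smul_mem, ← map_inv, MulAut.smul_def,
        MulAut.conj_apply, inv_inv]
    constructor
    · refine ⟨g • P, ?_⟩
      intro y hy
      rw [Subgroup.mem_centralizer_singleton_iff]
      have h2 := congrArg Subtype.val (hc.is_comm.comm ⟨_, (hmem y).mp hy⟩ ⟨_, (hmem x).mp hxQ⟩)
      have h3 : g⁻¹ * y * g * (g⁻¹ * x * g) = g⁻¹ * x * g * (g⁻¹ * y * g) := h2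
      have h4 : g⁻¹ * (y * x) * g = g⁻¹ * (x * y) * g := by
        calc g⁻¹ * (y * x) * g = g⁻¹ * y * g * (g⁻¹ * x * g) := by group
          _ = g⁻¹ * x * g * (g⁻¹ * y * g) := h3
          _ = g⁻¹ * (x * y) * g := by group
      exact mul_left_cancel (mul_right_cancel h4)
    · have h2 := he _ ((hmem x).mp hxQ)
      have h3 : x ^ 2 = 1 := by
        have : g⁻¹ * x ^ 2 * g = 1 := by
          rw [← h2, pow_two, pow_two]; group
        have h5 : x ^ 2 = g * (g⁻¹ * x ^ 2 * g) * g⁻¹ := by group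
        rw [h5, this]; group
      have h4 : x⁻¹ = x := by
        rw [inv_eq_iff_mul_eq_one, ← pow_two]; exact h3
      rw [h4]
  · intro h
    have hsq : ∀ x ∈ (P : Subgroup G), x ^ 2 = 1 := by
      intro x hx
      obtain ⟨k, hk⟩ := (IsPGroup.iff_orderOf.mp P.2) ⟨x, hx⟩
      obtain ⟨⟨Q, hQ⟩, hreal⟩ := h x ⟨k, by rw [← hk, ← Subgroup.orderOf_coe]⟩
      apply (Cfsg.Agent.S3863.result x hreal).2.1
      rw [← Nat.not_even_iff_odd, even_iff_two_dvd]
      intro h2
      exact Q.not_dvd_index (h2.trans (Subgroup.index_dvd_of_le hQ))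
    refine ⟨⟨⟨fun a b => Subtype.ext ?_⟩⟩, hsq⟩
    have ha := hsq a a.2
    have hb := hsq b b.2
    have hab := hsq _ ((P : Subgroup G).mul_mem a.2 b.2)
    show (a : G) * b = b * a
    have hai : (a : G)⁻¹ = a := by rw [inv_eq_iff_mul_eq_one, ← pow_two]; exact ha
    have hbi : (b : G)⁻¹ = b := by rw [inv_eq_iff_mul_eq_one, ← pow_two]; exact hb
    have habi : ((a : G) * b)⁻¹ = a * b := by rw [inv_eq_iff_mul_eq_one, ← pow_two]; exact hab
    rw [← habi, mul_inv_rev, hai, hbi]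

end Cfsg.Agent.S4196
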