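import Cfsg.Statements.S4238
import Cfsg.Agent.Lib.Helper1.PNil
import Cfsg.Agent.Lib.Helper1.Coprime
import Cfsg.Agent.Lib.Helper9.Hup
import Cfsg.Agent.Lib.Helper1.SZQuot
import Cfsg.Agent.Lib.Helper1.FrobF
import Cfsg.Agent.Lib.Helper1.FixedCount

set_option autoImplicit false
open Cfsg

namespace Cfsg.Agent.S4238


open Cfsg.Agent.Lib.Helper1 Cfsg.Agent.Lib.Helper9.Hup
open scoped commutatorElement

universe u

theorem lemmaA {K : Type u} [Group K] [Finite K] {p : ℕ} [hp : Fact p.Prime] (V : Subgroup K)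
    [hVn : V.Normal] (hVp : IsPGroup p V) (hVc : ∀ a ∈ V, ∀ b ∈ V, a * b = b * a) (hV0 : V ≠ ⊥)
    (hV1 : V ≠ ⊤) (w₀ : K) (hw₀ : (orderOf w₀).Coprime p)
    (hgen : V ⊔ Subgroup.zpowers w₀ = ⊤)
    (hmin : ∀ D : Subgroup K, D.Normal → D ≤ V → D = ⊥ ∨ D = V)
    (hC : Subgroup.centralizer (V : Set K) ≤ V) :
    Cfsg.pPrimeCore p K = ⊥ ∧ ¬ ∃ k : K, orderOf k = Monoid.exponent K := by
  obtain ⟨i, hi⟩ := IsPGroup.iff_card.mp hVp
  have hNV : ∀ A : Subgroup K, A ≤ Subgroup.normalizer (V : Set K) := fun A => by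
    rw [Subgroup.normalizer_eq_top]; exact le_top
  constructor
  · rw [Cfsg.pPrimeCore, sSup_eq_bot]
    rintro N ⟨hN, hcop⟩
    have hdis : Disjoint N V := Subgroup.disjoint_of_coprime_natCard (by
      rw [hi]; exact Nat.Coprime.pow_right _ hcop)
    have h1 : N ≤ Subgroup.centralizer (V : Set K) := by
      intro n hn
      rw [Subgroup.mem_centralizer_iff]
      intro v hv
      exact (Subgroup.commute_of_normal_of_disjoint N V hN hVn hdis n v hn hv).symm
    exact le_bot_iff.mp (hdis.eq_bot ▸ le_inf le_rfl (h1.trans hC))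
  · rintro ⟨k, hk⟩
    have hdvd : ∀ x : K, orderOf x ∣ orderOf k := fun x => hk ▸ Monoid.order_dvd_exponent x
    have hn0 : orderOf k ≠ 0 := (orderOf_pos k).ne'
    have hsplit := Nat.ordProj_mul_ordCompl_eq_self (orderOf k) p
    have hcop := Nat.coprime_ordCompl hp.out hn0
    have hpn : p ∣ orderOf k := by
      obtain ⟨v, hv, hv1⟩ : ∃ v ∈ V, v ≠ 1 := by
        by_contra hcon
        push Not at hcon
        exact hV0 ((Subgroup.eq_bot_iff_forall V).mpr hcon)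
      obtain ⟨j, hj⟩ := hVp ⟨v, hv⟩
      have hj' : v ^ p ^ j = 1 := congrArg Subtype.val hj
      obtain ⟨l, -, hl⟩ := (Nat.dvd_prime_pow hp.out).mp (orderOf_dvd_of_pow_eq_one hj')
      have hl0 : l ≠ 0 := by
        rintro rfl
        rw [pow_zero, orderOf_eq_one_iff] at hl
        exact hv1 hl
      exact (dvd_pow_self p hl0).trans (hl ▸ hdvd v)
    have hu1 : k ^ (ordCompl[p] (orderOf k)) ≠ 1 := by
      intro h
      have h1 := hpn.trans (orderOf_dvd_of_pow_eq_one h)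
      exact hp.out.one_lt.ne' (Nat.eq_one_of_dvd_coprimes hcop dvd_rfl h1)
    have huV : k ^ (ordCompl[p] (orderOf k)) ∈ V := by
      rw [← QuotientGroup.eq_one_iff]
      have hx : k ^ (ordCompl[p] (orderOf k)) ∈ V ⊔ Subgroup.zpowers w₀ := hgen ▸ Subgroup.mem_top _
      obtain ⟨v, hv, z, hz, hvz⟩ := Subgroup.mem_sup_of_normal_left.mp hx
      obtain ⟨j, rfl⟩ := Subgroup.mem_zpowers_iff.mp hz
      apply eq_one_of_pow_coprime (m := orderOf w₀) (n := ordProj[p] (orderOf k))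
      · rw [← hvz, QuotientGroup.mk_mul, (QuotientGroup.eq_one_iff v).mpr hv, one_mul,
          ← QuotientGroup.mk_pow, ← zpow_natCast, ← zpow_mul, mul_comm, zpow_mul, zpow_natCast,
          pow_orderOf_eq_one, one_zpow]
        rfl
      · rw [← QuotientGroup.mk_pow, ← pow_mul, mul_comm, hsplit, pow_orderOf_eq_one]
        rfl
      · exact Nat.Coprime.pow_right _ hw₀
    have how : orderOf (k ^ (ordProj[p] (orderOf k))) = ordCompl[p] (orderOf k) :=
      orderOf_pow_of_dvd (pow_ne_zero _ hp.out.ne_zero) (Nat.ordProj_dvd _ _)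
    have hLtop : Subgroup.zpowers (k ^ (ordProj[p] (orderOf k))) ⊔ V = ⊤ := by
      apply Subgroup.eq_top_of_le_card
      have c1 := card_sup_mul_card_inf' (Subgroup.zpowers (k ^ (ordProj[p] (orderOf k)))) V (hNV _)
      have hbot : Subgroup.zpowers (k ^ (ordProj[p] (orderOf k))) ⊓ V = ⊥ :=
        (Subgroup.disjoint_of_coprime_natCard (by
          rw [Nat.card_zpowers, how, hi]
          exact Nat.Coprime.pow_right _ hcop.symm)).eq_bot
      rw [hbot, Subgroup.card_bot, mul_one, Nat.card_zpowers, how] at c1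
      have c2 := card_sup_mul_card_inf' (Subgroup.zpowers w₀) V (hNV _)
      rw [sup_comm, hgen, Subgroup.card_top, Nat.card_zpowers] at c2
      have h3 : orderOf w₀ ∣ ordCompl[p] (orderOf k) := by
        have h4 := hdvd w₀
        rw [← hsplit] at h4
        exact (Nat.Coprime.pow_right _ hw₀).dvd_of_dvd_mul_left h4
      have h5 : orderOf w₀ ≤ ordCompl[p] (orderOf k) :=
        Nat.le_of_dvd (Nat.pos_of_ne_zero (fun h => by rw [h, mul_zero] at hsplit; exact hn0 hsplit.symm)) h3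
      rw [c1]
      calc Nat.card K ≤ Nat.card K * Nat.card (Subgroup.zpowers w₀ ⊓ V : Subgroup K) :=
            Nat.le_mul_of_pos_right _ Nat.card_pos
        _ = orderOf w₀ * Nat.card V := c2
        _ ≤ _ := Nat.mul_le_mul_right _ h5
    have hDn : (V ⊓ Subgroup.centralizer {k ^ (ordProj[p] (orderOf k))}).Normal := by
      rw [← Subgroup.normalizer_eq_top_iff, eq_top_iff, ← hLtop]
      apply sup_le
      · rw [Subgroup.zpowers_le]
        apply Subgroup.centralizer_le_normalizer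
        rw [Subgroup.mem_centralizer_iff]
        intro d hd
        exact (Subgroup.mem_centralizer_singleton_iff.mp hd.2)
      · refine le_trans ?_ (Subgroup.centralizer_le_normalizer _)
        intro v hv
        rw [Subgroup.mem_centralizer_iff]
        intro d hd
        exact hVc d hd.1 v hv
    have huD : k ^ (ordCompl[p] (orderOf k)) ∈
        V ⊓ Subgroup.centralizer {k ^ (ordProj[p] (orderOf k))} := by
      refine Subgroup.mem_inf.mpr ⟨huV, ?_⟩
      rw [Subgroup.mem_centralizer_singleton_iff]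
      exact ((Commute.refl k).pow_pow _ _)
    rcases hmin _ hDn inf_le_left with h | h
    · rw [h] at huD
      exact hu1 (Subgroup.mem_bot.mp huD)
    · have hwC : k ^ (ordProj[p] (orderOf k)) ∈ Subgroup.centralizer (V : Set K) := by
        rw [Subgroup.mem_centralizer_iff]
        intro v hv
        have : v ∈ V ⊓ Subgroup.centralizer {k ^ (ordProj[p] (orderOf k))} := by
          rw [h]; exact hv
        exact (Subgroup.mem_centralizer_singleton_iff.mp this.2)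
      apply hV1
      rw [← hLtop]
      exact (sup_eq_right.mpr (Subgroup.zpowers_le.mpr (hC hwC))).symm

theorem comm_lt {G : Type u} [Group G] [Finite G] {p : ℕ} [hp : Fact p.Prime] {U : Subgroup G}
    (hUp : IsPGroup p U) (hU : U ≠ ⊥) : ⁅U, U⁆ < U := by
  have hle : ⁅U, U⁆ ≤ U := by
    rw [Subgroup.commutator_le]
    intro a ha b hb
    exact U.mul_mem (U.mul_mem (U.mul_mem ha hb) (U.inv_mem ha)) (U.inv_mem hb)
  refine lt_of_le_of_ne hle ?_
  intro he
  have hnt : Nontrivial U := (Subgroup.nontrivial_iff_ne_bot U).mpr hU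
  have hnil : Group.IsNilpotent U := hUp.isNilpotent
  have hsol : Group.IsSolvable U := inferInstance
  have h1 := Group.IsSolvable.commutator_lt_top_of_nontrivial (G := U)
  apply h1.ne
  apply Subgroup.map_injective U.subtype_injective
  rw [commutator_def, Subgroup.map_commutator, ← MonoidHom.range_eq_map, Subgroup.range_subtype]
  exact he

theorem normalizer_comm {G : Type u} [Group G] {U : Subgroup G} {g : G}
    (hg : g ∈ Subgroup.normalizer (U : Set G)) : g ∈ Subgroup.normalizer ((⁅U, U⁆ : Subgroup G) : Set G) := by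
  rw [Subgroup.mem_normalizer_iff_map_conj_eq] at hg ⊢
  rw [Subgroup.map_commutator, hg]

/-- coprime stability -/
theorem stab {G : Type u} [Group G] {p : ℕ} {N₀ : Subgroup G} (hN₀ : IsPGroup p N₀) {c x : G}
    (hc : (orderOf c).Coprime p) (hcN : ∀ n ∈ N₀, c * n = n * c) (hx : c * x * c⁻¹ * x⁻¹ ∈ N₀) :
    c * x = x * c := by
  set n := c * x * c⁻¹ * x⁻¹ with hn
  have h1 : ∀ j : ℕ, c ^ j * x * (c ^ j)⁻¹ = n ^ j * x := by
    intro j
    induction j with
    | zero => simp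
    | succ j ih =>
      have e : c ^ (j + 1) * x * (c ^ (j + 1))⁻¹ = c * (c ^ j * x * (c ^ j)⁻¹) * c⁻¹ := by
        rw [pow_succ']; group
      have hcomm : c * n ^ j = n ^ j * c := hcN _ (N₀.pow_mem hx j)
      rw [e, ih]
      calc c * (n ^ j * x) * c⁻¹ = (c * n ^ j) * x * c⁻¹ := by group
        _ = n ^ j * (c * x * c⁻¹ * x⁻¹) * x := by rw [hcomm]; group
        _ = n ^ (j + 1) * x := by rw [← hn, pow_succ]
  have h2 := h1 (orderOf c)
  rw [pow_orderOf_eq_one, one_mul, inv_one, mul_one] at h2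
  have h3 : n ^ orderOf c = 1 := by
    have := congrArg (fun w => w * x⁻¹) h2
    simpa using this.symm
  obtain ⟨a, ha⟩ := hN₀ ⟨n, hx⟩
  have ha' : n ^ p ^ a = 1 := congrArg Subtype.val ha
  have h4 : n = 1 := eq_one_of_pow_coprime h3 ha' (Nat.Coprime.pow_right _ hc)
  have h5 : c * x * c⁻¹ * x⁻¹ = 1 := h4
  calc c * x = (c * x * c⁻¹ * x⁻¹) * (x * c) := by group
    _ = x * c := by rw [h5, one_mul]

theorem exists_bad_section {G : Type u} [Group G] [Finite G] {p : ℕ} [hp : Fact p.Prime]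
    (h : ¬ Cfsg.HasNormalPComplement p G) :
    ∃ (H : Subgroup G) (N : Subgroup H) (_ : N.Normal), Cfsg.pPrimeCore p (H ⧸ N) = ⊥ ∧
      ¬ ∃ k : H ⧸ N, orderOf k = Monoid.exponent (H ⧸ N) := by
  rw [pn_iff_frobHyp] at h
  unfold FrobHyp at h
  push Not at h
  obtain ⟨Q, hQ, g, hgN, hgcop, hgC⟩ := h
  obtain ⟨U, hU, hUmin⟩ := Set.exists_min_image
    {U : Subgroup G | IsPGroup p U ∧ g ∈ Subgroup.normalizer (U : Set G) ∧
      g ∉ Subgroup.centralizer (U : Set G)}
    (fun U => Nat.card U) (Set.toFinite _) ⟨Q, hQ, hgN, hgC⟩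
  obtain ⟨hUp, hgU, hgCU⟩ := hU
  have hU0 : U ≠ ⊥ := by
    rintro rfl
    apply hgCU
    rw [Subgroup.mem_centralizer_iff]
    intro x hx
    have hx1 : x = 1 := Subgroup.mem_bot.mp hx
    rw [hx1]; simp
  obtain ⟨N₀, hN₀, hN₀max⟩ := Set.exists_max_image
    {M : Subgroup G | ⁅U, U⁆ ≤ M ∧ M < U ∧ g ∈ Subgroup.normalizer (M : Set G)}
    (fun M => Nat.card M) (Set.toFinite _) ⟨⁅U, U⁆, le_rfl, comm_lt hUp hU0, normalizer_comm hgU⟩
  obtain ⟨hN₀1, hN₀2, hN₀3⟩ := hN₀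
  have hN₀p : IsPGroup p N₀ := hUp.to_le hN₀2.le
  have hgN₀ : g ∈ Subgroup.centralizer (N₀ : Set G) := by
    by_contra hcon
    have h1 := hUmin N₀ ⟨hN₀p, hN₀3, hcon⟩
    exact hN₀2.ne (Subgroup.eq_of_le_of_card_ge hN₀2.le h1)
  have hzU : Subgroup.zpowers g ≤ Subgroup.normalizer (U : Set G) := Subgroup.zpowers_le.mpr hgU
  have hzN₀ : Subgroup.zpowers g ≤ Subgroup.centralizer (N₀ : Set G) :=
    Subgroup.zpowers_le.mpr hgN₀
  have hzcop : ∀ z ∈ Subgroup.zpowers g, (orderOf z).Coprime p := by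
    intro z hz
    have h1 : orderOf z ∣ orderOf g := by
      rw [← Nat.card_zpowers, ← Nat.card_zpowers]
      exact Subgroup.card_dvd_of_le (Subgroup.zpowers_le.mpr hz)
    exact Nat.Coprime.coprime_dvd_left h1 hgcop
  have hzU1 : ∀ z ∈ Subgroup.zpowers g, z ∈ U → z = 1 := by
    intro z hz hzU'
    exact eq_one_of_coprime_of_pgroup (hzcop z hz) (by
      obtain ⟨a, ha⟩ := hUp ⟨z, hzU'⟩
      exact ⟨a, congrArg Subtype.val ha⟩)
  have hUN₀ : U ≤ Subgroup.normalizer (N₀ : Set G) := by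
    intro u hu
    rw [Subgroup.mem_normalizer_iff]
    intro n
    constructor
    · intro hn
      have h1 : ⁅u, n⁆ ∈ N₀ := hN₀1 (Subgroup.commutator_mem_commutator hu (hN₀2.le hn))
      have h2 : u * n * u⁻¹ = ⁅u, n⁆ * n := by rw [commutatorElement_def]; group
      rw [h2]; exact N₀.mul_mem h1 hn
    · intro hn
      have hnU : u * n * u⁻¹ ∈ U := hN₀2.le hn
      have h1 : ⁅u⁻¹, u * n * u⁻¹⁆ ∈ N₀ :=
        hN₀1 (Subgroup.commutator_mem_commutator (U.inv_mem hu) hnU)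
      have h2 : n = ⁅u⁻¹, u * n * u⁻¹⁆ * (u * n * u⁻¹) := by rw [commutatorElement_def]; group
      rw [h2]; exact N₀.mul_mem h1 hn
  obtain ⟨Z₀, hZ₀⟩ : ∃ Z₀ : Subgroup G, Z₀ = Subgroup.zpowers g ⊓ Subgroup.centralizer (U : Set G) :=
    ⟨_, rfl⟩
  obtain ⟨H, hH⟩ : ∃ H : Subgroup G, H = Subgroup.zpowers g ⊔ U := ⟨_, rfl⟩
  obtain ⟨N, hN⟩ : ∃ N : Subgroup G, N = Z₀ ⊔ N₀ := ⟨_, rfl⟩
  have hZ₀z : Z₀ ≤ Subgroup.zpowers g := hZ₀ ▸ inf_le_left
  have hZ₀C : Z₀ ≤ Subgroup.centralizer (U : Set G) := hZ₀ ▸ inf_le_right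
  have hUH : U ≤ H := hH ▸ le_sup_right
  have hzH : Subgroup.zpowers g ≤ H := hH ▸ le_sup_left
  have hgH : g ∈ H := hzH (Subgroup.mem_zpowers g)
  have hN₀N : N₀ ≤ N := hN ▸ le_sup_right
  have hZ₀N : Z₀ ≤ N := hN ▸ le_sup_left
  have hNH : N ≤ H := hN ▸ sup_le (hZ₀z.trans hzH) (hN₀2.le.trans hUH)
  have hHN : H ≤ Subgroup.normalizer (N : Set G) := by
    rw [hN]
    apply le_normalizer_sup
    · refine le_trans ?_ (Subgroup.centralizer_le_normalizer _)
      rw [hH]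
      apply sup_le
      · intro z hz
        rw [Subgroup.mem_centralizer_iff]
        intro c hc
        obtain ⟨i, rfl⟩ := Subgroup.mem_zpowers_iff.mp hz
        obtain ⟨j, rfl⟩ := Subgroup.mem_zpowers_iff.mp (hZ₀z hc)
        rw [← zpow_add, ← zpow_add, add_comm]
      · exact Subgroup.le_centralizer_iff.mp hZ₀C
    · rw [hH]
      exact sup_le (hzN₀.trans (Subgroup.centralizer_le_normalizer _)) hUN₀
  have hmemH : ∀ x ∈ H, ∃ z ∈ Subgroup.zpowers g, ∃ u ∈ U, x = z * u := fun x hx =>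
    FrobF.mem_sup_of_le_normalizer hzU (hH ▸ hx)
  have hmemN : ∀ x ∈ N, ∃ z ∈ Z₀, ∃ n ∈ N₀, x = z * n := fun x hx =>
    FrobF.mem_sup_of_le_normalizer
      ((hZ₀z.trans hzN₀).trans (Subgroup.centralizer_le_normalizer _)) (hN ▸ hx)
  have hNU : ∀ x ∈ N, x ∈ U → x ∈ N₀ := by
    intro x hx hxU
    obtain ⟨z, hz, n, hn, rfl⟩ := hmemN x hx
    have h1 : z ∈ U := by
      have := U.mul_mem hxU (U.inv_mem (hN₀2.le hn))
      simpa using this
    rw [hzU1 z (hZ₀z hz) h1, one_mul]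
    exact hn
  have hN'n : (N.subgroupOf H).Normal :=
    (Subgroup.normal_subgroupOf_iff_le_normalizer hNH).mpr hHN
  refine ⟨H, N.subgroupOf H, hN'n, ?_⟩
  have hπ : ∀ x : H, (QuotientGroup.mk' (N.subgroupOf H) x = 1) ↔ (x : G) ∈ N := fun x => by
    rw [QuotientGroup.mk'_apply, QuotientGroup.eq_one_iff]
    exact Subgroup.mem_subgroupOf
  have hsurj := QuotientGroup.mk'_surjective (N.subgroupOf H)
  generalize QuotientGroup.mk' (N.subgroupOf H) = π at hπ hsurj
  have hUn : (U.subgroupOf H).Normal :=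
    (Subgroup.normal_subgroupOf_iff_le_normalizer hUH).mpr
      (hH ▸ sup_le hzU Subgroup.le_normalizer)
  have hVn : ((U.subgroupOf H).map π).Normal := hUn.map π hsurj
  have hVp : IsPGroup p ((U.subgroupOf H).map π) :=
    (hUp.comap_of_injective _ H.subtype_injective).map π
  have hVc : ∀ a ∈ (U.subgroupOf H).map π, ∀ b ∈ (U.subgroupOf H).map π, a * b = b * a := by
    rintro _ ⟨x, hx, rfl⟩ _ ⟨y, hy, rfl⟩
    have h1 : π ((y * x)⁻¹ * (x * y)) = 1 := by
      rw [hπ]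
      apply hN₀N
      apply hN₀1
      have e : (((y * x)⁻¹ * (x * y) : H) : G) = ⁅(x : G)⁻¹, (y : G)⁻¹⁆ := by
        rw [commutatorElement_def]
        push_cast
        group
      rw [e]
      exact Subgroup.commutator_mem_commutator (U.inv_mem hx) (U.inv_mem hy)
    rw [map_mul, map_inv, inv_mul_eq_one] at h1
    rw [← map_mul, ← map_mul, h1]
  have hV0 : (U.subgroupOf H).map π ≠ ⊥ := by
    intro hV
    apply hN₀2.ne
    apply le_antisymm hN₀2.le
    intro u hu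
    apply hNU u _ hu
    rw [← hπ ⟨u, hUH hu⟩, ← Subgroup.mem_bot, ← hV]
    exact Subgroup.mem_map_of_mem π (show (⟨u, hUH hu⟩ : H) ∈ U.subgroupOf H from hu)
  have hV1 : (U.subgroupOf H).map π ≠ ⊤ := by
    intro hV
    have h1 : π ⟨g, hgH⟩ ∈ (U.subgroupOf H).map π := hV ▸ Subgroup.mem_top _
    obtain ⟨y, hy, hyg⟩ := h1
    have hyU : (y : G) ∈ U := hy
    have h2 : π (y⁻¹ * ⟨g, hgH⟩) = 1 := by rw [map_mul, map_inv, hyg, inv_mul_cancel]
    rw [hπ] at h2
    obtain ⟨z, hz, n, hn, he⟩ := hmemN _ h2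
    have he' : (y : G)⁻¹ * g = z * n := he
    have hzy : (y : G) * z = z * y := (Subgroup.mem_centralizer_iff.mp (hZ₀C hz)) y hyU
    have h3 : z⁻¹ * g = y * n := by
      have e1 : g = y * (z * n) := by rw [← he']; group
      calc z⁻¹ * g = z⁻¹ * (y * z * n) := by rw [e1]; group
        _ = y * n := by rw [hzy]; group
    have h4 : z⁻¹ * g = 1 := hzU1 _
      (Subgroup.mul_mem _ (Subgroup.inv_mem _ (hZ₀z hz)) (Subgroup.mem_zpowers g))
      (h3 ▸ U.mul_mem hyU (hN₀2.le hn))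
    have h5 : g = z := (inv_mul_eq_one.mp h4).symm
    exact hgCU (h5 ▸ hZ₀C hz)
  have hw₀ : (orderOf (π ⟨g, hgH⟩)).Coprime p :=
    Nat.Coprime.coprime_dvd_left (orderOf_map_dvd π ⟨g, hgH⟩) (by
      rw [Subgroup.orderOf_mk]; exact hgcop)
  have hπz : ∀ z (hz : z ∈ Subgroup.zpowers g), π ⟨z, hzH hz⟩ ∈ Subgroup.zpowers (π ⟨g, hgH⟩) := by
    intro z hz
    obtain ⟨j, hj⟩ := Subgroup.mem_zpowers_iff.mp hz
    have e : (⟨z, hzH hz⟩ : H) = (⟨g, hgH⟩ : H) ^ j := Subtype.ext (by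
      rw [Subgroup.coe_zpow]; exact hj.symm)
    rw [e, map_zpow]
    exact Subgroup.zpow_mem_zpowers _ j
  have hgen : (U.subgroupOf H).map π ⊔ Subgroup.zpowers (π ⟨g, hgH⟩) = ⊤ := by
    rw [eq_top_iff]
    intro k _
    obtain ⟨x, rfl⟩ := hsurj k
    obtain ⟨z, hz, u, hu, hx⟩ := hmemH x x.2
    have hxe : x = ⟨z, hzH hz⟩ * ⟨u, hUH hu⟩ := Subtype.ext hx
    rw [hxe, map_mul]
    exact Subgroup.mul_mem _ ((le_sup_right : _ ≤ (U.subgroupOf H).map π ⊔ _) (hπz z hz))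
      ((le_sup_left : (U.subgroupOf H).map π ≤ _)
        (Subgroup.mem_map_of_mem π (show (⟨u, hUH hu⟩ : H) ∈ U.subgroupOf H from hu)))
  have hmin : ∀ D : Subgroup (↥H ⧸ N.subgroupOf H), D.Normal → D ≤ (U.subgroupOf H).map π →
      D = ⊥ ∨ D = (U.subgroupOf H).map π := by
    intro D hDn hDV
    obtain ⟨D₂, hD₂⟩ : ∃ D₂ : Subgroup G, D₂ = ((D.comap π).map H.subtype) ⊓ U := ⟨_, rfl⟩
    have hD₂U' : D₂ ≤ U := hD₂ ▸ inf_le_right
    have hD₂mem : ∀ x (hx : x ∈ U), x ∈ D₂ ↔ π ⟨x, hUH hx⟩ ∈ D := by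
      intro x hx
      rw [hD₂]
      constructor
      · rintro ⟨⟨y, hy, hyx⟩, -⟩
        have e : (⟨x, hUH hx⟩ : H) = y := Subtype.ext hyx.symm
        rw [e]
        exact hy
      · intro h
        exact ⟨⟨⟨x, hUH hx⟩, h, rfl⟩, hx⟩
    have hconj : ∀ c ∈ Subgroup.zpowers g, ∀ x ∈ D₂, c * x * c⁻¹ ∈ D₂ := by
      intro c hc x hx
      have hxU : x ∈ U := hD₂U' hx
      have hcxU : c * x * c⁻¹ ∈ U := (Subgroup.mem_normalizer_iff.mp (hzU hc) x).mp hxU
      rw [hD₂mem _ hcxU]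
      have e : (⟨c * x * c⁻¹, hUH hcxU⟩ : H) =
          ⟨c, hzH hc⟩ * ⟨x, hUH hxU⟩ * (⟨c, hzH hc⟩ : H)⁻¹ := Subtype.ext rfl
      rw [e, map_mul, map_mul, map_inv]
      exact hDn.conj_mem _ ((hD₂mem x hxU).mp hx) _
    have hgD₂ : g ∈ Subgroup.normalizer (D₂ : Set G) := by
      rw [Subgroup.mem_normalizer_iff]
      intro x
      constructor
      · exact hconj g (Subgroup.mem_zpowers g) x
      · intro hx
        have := hconj g⁻¹ (Subgroup.inv_mem _ (Subgroup.mem_zpowers g)) _ hx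
        simpa [mul_assoc] using this
    have hN₀D₂ : N₀ ≤ D₂ := by
      intro n hn
      rw [hD₂mem n (hN₀2.le hn), (hπ _).mpr (hN₀N hn)]
      exact D.one_mem
    by_cases hD₂U : D₂ = U
    · right
      apply le_antisymm hDV
      rintro _ ⟨y, hy, rfl⟩
      have hyU : (y : G) ∈ U := hy
      have h1 : (y : G) ∈ D₂ := hD₂U ▸ hyU
      exact (hD₂mem _ hyU).mp h1
    · left
      have hlt : D₂ < U := lt_of_le_of_ne hD₂U' hD₂U
      have hcard := hN₀max D₂ ⟨hN₀1.trans hN₀D₂, hlt, hgD₂⟩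
      have heq : N₀ = D₂ := Subgroup.eq_of_le_of_card_ge hN₀D₂ hcard
      rw [eq_bot_iff]
      intro d hd
      obtain ⟨y, hy, rfl⟩ := hDV hd
      have hyU : (y : G) ∈ U := hy
      have h1 : (y : G) ∈ D₂ := (hD₂mem _ hyU).mpr hd
      rw [← heq] at h1
      exact Subgroup.mem_bot.mpr ((hπ y).mpr (hN₀N h1))
  have hC : Subgroup.centralizer (((U.subgroupOf H).map π : Subgroup _) : Set _) ≤
      (U.subgroupOf H).map π := by
    intro k hk
    obtain ⟨x, rfl⟩ := hsurj k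
    obtain ⟨z, hz, u, hu, hx⟩ := hmemH x x.2
    have hxe : x = ⟨z, hzH hz⟩ * ⟨u, hUH hu⟩ := Subtype.ext hx
    have hπU : ∀ y (hy : y ∈ U), π ⟨y, hUH hy⟩ ∈ (U.subgroupOf H).map π := fun y hy =>
      Subgroup.mem_map_of_mem π (show (⟨y, hUH hy⟩ : H) ∈ U.subgroupOf H from hy)
    have e1 : π ⟨z, hzH hz⟩ = π x * (π ⟨u, hUH hu⟩)⁻¹ := by rw [hxe, map_mul]; group
    have hzC : z ∈ Subgroup.centralizer (U : Set G) := by
      rw [Subgroup.mem_centralizer_iff]
      intro y hy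
      symm
      apply stab hN₀p (hzcop z hz)
        (fun n hn => ((Subgroup.mem_centralizer_iff.mp (hzN₀ hz)) n hn).symm)
      have hzyU : z * y * z⁻¹ ∈ U := (Subgroup.mem_normalizer_iff.mp (hzU hz) y).mp hy
      apply hNU _ _ (U.mul_mem hzyU (U.inv_mem hy))
      have C1 : Commute (π x) (π ⟨y, hUH hy⟩) :=
        ((Subgroup.mem_centralizer_iff.mp hk) _ (hπU y hy)).symm
      have C2 : Commute (π ⟨u, hUH hu⟩) (π ⟨y, hUH hy⟩) := hVc _ (hπU u hu) _ (hπU y hy)
      have C3 : Commute (π ⟨z, hzH hz⟩) (π ⟨y, hUH hy⟩) := by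
        rw [e1]; exact C1.mul_left C2.inv_left
      have e2 : (⟨z * y * z⁻¹ * y⁻¹, H.mul_mem (hUH hzyU) (H.inv_mem (hUH hy))⟩ : H) =
          ⟨z, hzH hz⟩ * ⟨y, hUH hy⟩ * (⟨z, hzH hz⟩ : H)⁻¹ * (⟨y, hUH hy⟩ : H)⁻¹ := Subtype.ext rfl
      rw [← hπ ⟨z * y * z⁻¹ * y⁻¹, H.mul_mem (hUH hzyU) (H.inv_mem (hUH hy))⟩, e2, map_mul, map_mul,
        map_mul, map_inv, map_inv, C3.eq, mul_inv_cancel_right, mul_inv_cancel]
    have hzZ : z ∈ Z₀ := hZ₀ ▸ ⟨hz, hzC⟩
    rw [hxe, map_mul, (hπ _).mpr (hZ₀N hzZ), one_mul]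
    exact hπU u hu
  exact lemmaA _ hVp hVc hV0 hV1 _ hw₀ hgen hmin hC

/-- Let G be a finite group and p a prime. Then G has a normal p-complement if and only if every section K = H/N of G (N a normal subgroup of a subgroup H) whose largest normal subgroup of order prime to p is trivial contains an element whose order equals the exponent of K. -/
theorem result {G : Type*} [Group G] [Finite G] (p : ℕ) [Fact p.Prime] :
    Cfsg.HasNormalPComplement p G ↔
      ∀ (H : Subgroup G) (N : Subgroup H) [N.Normal], Cfsg.pPrimeCore p (H ⧸ N) = ⊥ →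
        ∃ k : H ⧸ N, orderOf k = Monoid.exponent (H ⧸ N) := by
  have hp := (Fact.out : p.Prime)
  constructor
  · intro h H N _ hcore
    have hK : Cfsg.HasNormalPComplement p (H ⧸ N) :=
      pn_of_surjective (QuotientGroup.mk' N) (QuotientGroup.mk'_surjective N)
        (pn_of_injective H.subtype H.subtype_injective h)
    rw [hasNormalPComplement_iff] at hK
    have hres : Cfsg.pResidual p (H ⧸ N) = ⊥ := by
      have h1 : Cfsg.pResidual p (H ⧸ N) ≤ Cfsg.pPrimeCore p (H ⧸ N) :=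
        le_sSup ⟨pResidual_normal p, hK⟩
      rwa [hcore, le_bot_iff] at h1
    have hpg : ∀ x : H ⧸ N, ∃ a : ℕ, orderOf x = p ^ a := by
      intro x
      have ho : orderOf x ≠ 0 := (orderOf_pos x).ne'
      have h1 : x ^ (ordProj[p] (orderOf x)) ∈ Cfsg.pResidual p (H ⧸ N) := by
        apply mem_pResidual_of_coprime
        rw [orderOf_pow_of_dvd (pow_ne_zero _ hp.ne_zero) (Nat.ordProj_dvd _ _)]
        exact (Nat.coprime_ordCompl hp ho).symm
      rw [hres, Subgroup.mem_bot] at h1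
      have h2 := orderOf_dvd_of_pow_eq_one h1
      exact ⟨_, Nat.dvd_antisymm h2 (Nat.ordProj_dvd _ _)⟩
    obtain ⟨k, hk⟩ := Finite.exists_max (fun x : H ⧸ N => orderOf x)
    refine ⟨k, Nat.dvd_antisymm (Monoid.order_dvd_exponent k)
      (Monoid.exponent_dvd_of_forall_pow_eq_one ?_)⟩
    intro x
    obtain ⟨a, ha⟩ := hpg x
    obtain ⟨b, hb⟩ := hpg k
    have hle := hk x
    rw [ha, hb] at hle
    have hab : a ≤ b := (Nat.pow_le_pow_iff_right hp.one_lt).mp hle
    rw [hb, ← Nat.sub_add_cancel hab, pow_add, mul_comm, pow_mul, ← ha, pow_orderOf_eq_one, one_pow]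
  · intro h
    by_contra hcon
    obtain ⟨H, N, hN, h1, h2⟩ := exists_bad_section hcon
    exact h2 (h H N h1)

end Cfsg.Agent.S4238
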