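import Cfsg.Statements.S4249
import Cfsg.Agent.Lib.Helper9.Kegel

set_option autoImplicit false
open Cfsg

namespace Cfsg.Agent.S4249

open Cfsg.Agent.Lib.Helper9.Kegel Cfsg.Agent.Lib.Helper6.Basic Cfsg.Agent.Lib.Helper6.Subn Cfsg.Agent.Lib.Helper6.Nil Cfsg.Agent.Lib.Helper6.Ores

theorem HK_map {G : Type*} [Group G] {p : ℕ} {H : Subgroup G} (h : HK p H) (Z : Subgroup G) [Z.Normal]
    (hZH : Z ≤ H) : HK p (H.map (QuotientGroup.mk' Z)) := by
  refine ⟨h.1.map _ (QuotientGroup.mk'_surjective Z), ?_, ?_⟩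
  · intro htop
    apply h.2.1
    have h3 := congrArg (Subgroup.comap (QuotientGroup.mk' Z)) htop
    rw [Subgroup.comap_map_eq, QuotientGroup.ker_mk', sup_eq_left.mpr hZH,
      Subgroup.comap_top] at h3
    exact h3
  · intro g hg
    obtain ⟨g, rfl⟩ := QuotientGroup.mk'_surjective Z g
    rw [← map_pow, h.2.2 g (fun hm => hg ⟨g, hm, rfl⟩), map_one]

open Cfsg.Agent.Lib.Helper3.CopGen in
theorem HT0 {G : Type*} [Group G] [Finite G] {p : ℕ} (hp : p.Prime) {H : Subgroup G} (h : HK p H)
    (hd : ¬ p ∣ Nat.card H) (hH : H ≠ ⊥) : H.index = p := by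
  haveI : Fact p.Prime := ⟨hp⟩
  haveI := h.1
  have hcop : (Nat.card H).Coprime p := ((Nat.Prime.coprime_iff_not_dvd hp).mpr hd).symm
  obtain ⟨P⟩ : Nonempty (Sylow p G) := inferInstance
  have hP : Syl p (P : Subgroup G) ⊤ := syl_of_sylow P
  have hPH : ∀ y ∈ (P : Subgroup G), y ∈ H → y = 1 := by
    intro y hyP hyH
    obtain ⟨k, hk⟩ := (P.2 ⟨y, hyP⟩)
    have hk' : y ^ p ^ k = 1 := congrArg Subtype.val hk
    have h1 : orderOf y ∣ p ^ k := orderOf_dvd_of_pow_eq_one hk'
    have h2 : orderOf y ∣ Nat.card H := by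
      have := orderOf_dvd_natCard (⟨y, hyH⟩ : ↥H)
      rwa [← Subgroup.orderOf_coe] at this
    exact orderOf_eq_one_iff.mp (Nat.eq_one_of_dvd_coprimes (Nat.Coprime.pow_right k hcop) h2 h1)
  have hpowP : ∀ y ∈ (P : Subgroup G), y ^ p = 1 := by
    intro y hy
    by_cases hyH : y ∈ H
    · rw [hPH y hy hyH, one_pow]
    · exact h.2.2 y hyH
  have hsup : H ⊔ (P : Subgroup G) = ⊤ := by
    apply hP.sup_eq_of_pquot le_top (top_le_Nz h.1)
    intro x _
    refine ⟨1, ?_⟩
    rw [pow_one]
    by_cases hx : x ∈ H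
    · exact H.pow_mem hx p
    · rw [h.2.2 x hx]; exact H.one_mem
  have hidx : H.index = Nat.card (P : Subgroup G) := by
    have hinf : H ⊓ (P : Subgroup G) = ⊥ := by
      rw [eq_bot_iff]
      rintro y ⟨h1, h2⟩
      exact hPH y h2 h1
    rw [← Subgroup.relIndex_top_right, ← hsup, sup_comm, Subgroup.relIndex_sup_right,
      ← Subgroup.inf_relIndex_right, hinf, Subgroup.relIndex_bot_left]
  have hPne : (P : Subgroup G) ≠ ⊥ := by
    intro hbot
    rw [hbot, sup_bot_eq] at hsup
    exact h.2.1 hsup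
  obtain ⟨z, hzP, hzo, hzc⟩ := Cfsg.Agent.Lib.Helper9.SylowIn.exists_central_order_p P.2 hPne
  have hz1 : z ≠ 1 := by
    intro e
    rw [e, orderOf_one] at hzo
    exact hp.one_lt.ne hzo
  have hPz : (P : Subgroup G) ≤ Subgroup.zpowers z := by
    by_contra hcon
    obtain ⟨x, hxP, hxz⟩ := SetLike.not_le_iff_exists.mp hcon
    apply hH
    have hcS : ∀ a ∈ ({x, z} : Set G), ∀ b ∈ ({x, z} : Set G), Commute a b := by
      rintro a (rfl | rfl) b (rfl | rfl)
      · exact Commute.refl _
      · exact hzc _ hxP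
      · exact (hzc _ hxP).symm
      · exact Commute.refl _
    have hcomm := closure_commute hcS
    have hEP : Subgroup.closure ({x, z} : Set G) ≤ P := by
      rw [Subgroup.closure_le]
      rintro a (rfl | rfl)
      · exact hxP
      · exact hzP
    have hEc : IsMulCommutative ↥(Subgroup.closure ({x, z} : Set G)) :=
      ⟨⟨fun a b => Subtype.ext (hcomm a a.2 b b.2)⟩⟩
    have hxE : x ∈ Subgroup.closure ({x, z} : Set G) := Subgroup.subset_closure (by simp)
    have hzE : z ∈ Subgroup.closure ({x, z} : Set G) := Subgroup.subset_closure (by simp)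
    have hcopE : (Nat.card ↥(Subgroup.closure ({x, z} : Set G))).Coprime (Nat.card H) := by
      obtain ⟨k, hk⟩ := IsPGroup.iff_card.mp (P.2.to_le hEP)
      rw [hk]
      exact (Nat.Coprime.pow_right k hcop).symm
    have hgen := gen _ H hEc (le_Nz_of_normal h.1 _) hcopE
    rw [← hgen, eq_bot_iff]
    unfold Gen
    apply iSup₂_le
    rintro B ⟨hBE, a, haE, hBa⟩ y ⟨hyH, hyC⟩
    rw [Subgroup.mem_bot]
    have hBne : B ≠ ⊥ := by
      intro hB
      rw [hB, bot_sup_eq] at hBa
      have haz : a ∈ Subgroup.zpowers z := by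
        by_contra haz
        exact hz1 (zpow_trick hp haz (hpowP a (hEP haE)) (hBa ▸ hzE) (Subgroup.mem_zpowers z))
      apply hxz
      have : Subgroup.zpowers a ≤ Subgroup.zpowers z := Subgroup.zpowers_le.mpr haz
      exact this (hBa ▸ hxE)
    obtain ⟨b, hb⟩ := Subgroup.ne_bot_iff_exists_ne_one.mp hBne
    have hbB : (b : G) ∈ B := b.2
    have hbH : (b : G) ∉ H := fun hm => hb (Subtype.ext (hPH b (hEP (hBE hbB)) hm))
    have hc : Commute (b : G) y := Subgroup.mem_centralizer_iff.mp hyC b hbB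
    exact eq_one_of_pow hp hyH (h.pow_of_commute hbH hyH hc) hcop
  have hPeq : (P : Subgroup G) = Subgroup.zpowers z :=
    le_antisymm hPz (Subgroup.zpowers_le.mpr hzP)
  rw [hidx, hPeq, Nat.card_zpowers, hzo]

theorem HT {G : Type*} [Group G] [Finite G] {p : ℕ} (hp : p.Prime) {H : Subgroup G} (h : HK p H)
    (hG : ¬ IsPGroup p G) : H.index = p := by
  haveI : Fact p.Prime := ⟨hp⟩
  have hnil := kegel hp _ G rfl H h
  obtain ⟨P1, hP1⟩ := exists_syl p H
  haveI hn : P1.Normal := normal_of_top_le_Nz ((top_le_Nz h.1).trans (syl_Nz_le_of_nil hP1 hnil))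
  have hk := HK_map h P1 hP1.le
  have hs := syl_map hP1 hP1.le
  have hbot : P1.map (QuotientGroup.mk' P1) = ⊥ := by
    rw [Subgroup.map_eq_bot_iff, QuotientGroup.ker_mk']
  have hd : ¬ p ∣ Nat.card ↥(H.map (QuotientGroup.mk' P1)) := by
    have := hs.2.2
    rwa [hbot, Subgroup.relIndex_bot_left] at this
  have hne : H.map (QuotientGroup.mk' P1) ≠ ⊥ := by
    intro e
    rw [Subgroup.map_eq_bot_iff, QuotientGroup.ker_mk'] at e
    apply hG
    have hHp : IsPGroup p ↥H := hP1.isPGroup.to_le e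
    intro g
    have hgp : g ^ p ∈ H := by
      by_cases hg : g ∈ H
      · exact H.pow_mem hg p
      · rw [h.2.2 g hg]; exact H.one_mem
    obtain ⟨k, hk⟩ := hHp ⟨g ^ p, hgp⟩
    refine ⟨k + 1, ?_⟩
    have : (g ^ p) ^ p ^ k = 1 := congrArg Subtype.val hk
    rw [pow_succ', pow_mul]
    exact this
  have h1 := HT0 hp hk hd hne
  rwa [Subgroup.index_map_eq _ (QuotientGroup.mk'_surjective P1)
    (by rw [QuotientGroup.ker_mk']; exact hP1.le)] at h1

/-- Let G be a finite group and p a prime such that G is not a p-group, and suppose the Hughes subgroup H_p(G), generated by all elements g with g^p ≠ 1, is a proper subgroup. Then H_p(G) is nilpotent and has index p in G. -/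
theorem result {G : Type*} [Group G] [Finite G] (p : ℕ) (hp : p.Prime) (hG : ¬ IsPGroup p G)
    (hH : Subgroup.closure {g : G | g ^ p ≠ 1} ≠ ⊤) :
    Group.IsNilpotent (Subgroup.closure {g : G | g ^ p ≠ 1}) ∧ (Subgroup.closure {g : G | g ^ p ≠ 1}).index = p := by
  have hn : (Subgroup.closure {g : G | g ^ p ≠ 1}).Normal := by
    constructor
    intro n hn g
    induction hn using Subgroup.closure_induction with
    | mem x hx =>
      apply Subgroup.subset_closure
      show (g * x * g⁻¹) ^ p ≠ 1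
      rw [conj_pow]
      intro e
      apply hx
      simpa using e
    | one => simp
    | mul x y _ _ hx hy =>
      have := mul_mem hx hy
      simpa [mul_assoc] using this
    | inv x _ hx => simpa [mul_assoc] using inv_mem hx
  have hk : HK p (Subgroup.closure {g : G | g ^ p ≠ 1}) := by
    refine ⟨hn, hH, ?_⟩
    intro g hg
    by_contra hne
    exact hg (Subgroup.subset_closure hne)
  exact ⟨kegel hp _ G rfl _ hk, HT hp hk hG⟩

end Cfsg.Agent.S4249
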