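import Cfsg.Statements.S4251
import Cfsg.Agent.Lib.Helper1.AlperinTame
import Cfsg.Agent.S1946
import Cfsg.Agent.S0007
open Cfsg.Agent.Lib.Helper1
open scoped Pointwise

set_option autoImplicit false
open Cfsg

namespace Cfsg.Agent.S4251

theorem aux4251 {G : Type*} [Group G] [Finite G] (p : ℕ) [hp : Fact p.Prime] (P : Sylow p G)
    (h : ∀ T ∈ tameFamily P, T ≠ ⊥ → ∀ x ∈ Subgroup.normalizer (T : Set G),
      ∃ y ∈ (P : Subgroup G) ⊓ Subgroup.normalizer (T : Set G), ∃ c ∈ Subgroup.centralizer (T : Set G), x = y * c)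
    (A : Set G) (g : G) (hf : Fus (tameFamily P) A g) :
    A ⊆ (P : Set G) → (∃ a ∈ A, a ≠ 1) → ∃ y ∈ (P : Subgroup G), ∀ a ∈ A, g⁻¹ * a * g = y⁻¹ * a * y := by
  induction hf with
  | nil A => intro _ _; exact ⟨1, one_mem _, fun a _ => rfl⟩
  | cons A T x g hT hx hA _ ih =>
    intro hAP hne
    obtain ⟨a0, ha0, ha01⟩ := hne
    have hTne : T ≠ ⊥ := by
      intro hb
      have := hA ha0
      rw [hb] at this
      exact ha01 (Subgroup.mem_bot.mp this)
    have hTP : T ≤ (P : Subgroup G) := by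
      obtain ⟨Q, hQ, -⟩ := hT
      rw [hQ]; exact inf_le_left
    obtain ⟨y, hy, c, hc, rfl⟩ := h T hT hTne x hx
    obtain ⟨hyP, hyN⟩ := Subgroup.mem_inf.mp hy
    have hconj : ∀ a ∈ A, (y * c)⁻¹ * a * (y * c) = y⁻¹ * a * y := by
      intro a ha
      have h1 : y⁻¹ * a * y ∈ T := by
        have := (Subgroup.mem_normalizer_iff.mp (Subgroup.inv_mem _ hyN) a).mp (hA ha)
        simpa using this
      have h2 := Subgroup.mem_centralizer_iff.mp hc _ h1
      calc (y * c)⁻¹ * a * (y * c) = c⁻¹ * ((y⁻¹ * a * y) * c) := by group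
        _ = c⁻¹ * (c * (y⁻¹ * a * y)) := by rw [h2]
        _ = y⁻¹ * a * y := by group
    obtain ⟨y', hy', hy'c⟩ := ih ((cj_subset_of_mem_normalizer hx hA).trans hTP)
      ⟨(y * c)⁻¹ * a0 * (y * c), ⟨a0, ha0, rfl⟩, by
        intro h1
        apply ha01
        have : a0 = (y * c) * ((y * c)⁻¹ * a0 * (y * c)) * (y * c)⁻¹ := by group
        rw [this, h1]; group⟩
    refine ⟨y * y', mul_mem hyP hy', ?_⟩
    intro a ha
    have h3 := hy'c _ ⟨a, ha, rfl⟩
    simp only at h3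
    calc (y * c * g)⁻¹ * a * (y * c * g) = g⁻¹ * ((y * c)⁻¹ * a * (y * c)) * g := by group
      _ = y'⁻¹ * ((y * c)⁻¹ * a * (y * c)) * y' := h3
      _ = y'⁻¹ * (y⁻¹ * a * y) * y' := by rw [hconj a ha]
      _ = (y * y')⁻¹ * a * (y * y') := by group

/-- Let P be a Sylow p-subgroup of a finite group G. Call an intersection H = P ∩ Q with a Sylow p-subgroup Q tame when N_P(H) and N_Q(H) are Sylow p-subgroups of N_G(H). If N_G(H)/C_G(H) is a p-group for every nontrivial tame intersection H = P ∩ Q, then G has a normal p-complement. -/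
theorem result {G : Type*} [Group G] [Finite G] (p : ℕ) [Fact p.Prime] (P : Sylow p G)
    (h : ∀ Q : Sylow p G, (P : Subgroup G) ⊓ (Q : Subgroup G) ≠ ⊥ → (¬ p ∣ ((P : Subgroup G) ⊓ Subgroup.normalizer (((P : Subgroup G) ⊓ (Q : Subgroup G) : Subgroup G) : Set G)).relIndex (Subgroup.normalizer (((P : Subgroup G) ⊓ (Q : Subgroup G) : Subgroup G) : Set G)) ∧ ¬ p ∣ ((Q : Subgroup G) ⊓ Subgroup.normalizer (((P : Subgroup G) ⊓ (Q : Subgroup G) : Subgroup G) : Set G)).relIndex (Subgroup.normalizer (((P : Subgroup G) ⊓ (Q : Subgroup G) : Subgroup G) : Set G))) →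
      IsPGroup p (Subgroup.normalizer (((P : Subgroup G) ⊓ (Q : Subgroup G) : Subgroup G) : Set G) ⧸
        (Subgroup.centralizer (((P : Subgroup G) ⊓ (Q : Subgroup G) : Subgroup G) : Set G)).subgroupOf
          (Subgroup.normalizer (((P : Subgroup G) ⊓ (Q : Subgroup G) : Subgroup G) : Set G)))) :
    Cfsg.HasNormalPComplement p G := by
  have hpp : p.Prime := Fact.out
  rw [Cfsg.Agent.S1946.result P]
  intro a ha _ g hg
  by_cases ha1 : a = 1
  · subst ha1; exact ⟨1, one_mem _, by simp⟩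
  have hsub : ({a} : Set G) ⊆ (P : Set G) := by
    rintro _ rfl; exact ha
  have hf := alperin_tame P {a} g⁻¹ hsub (by
    rintro _ ⟨_, rfl, rfl⟩
    simp only [inv_inv]; exact hg)
  have key : ∀ T ∈ tameFamily P, T ≠ ⊥ → ∀ x ∈ Subgroup.normalizer (T : Set G),
      ∃ y ∈ (P : Subgroup G) ⊓ Subgroup.normalizer (T : Set G), ∃ c ∈ Subgroup.centralizer (T : Set G), x = y * c := ?_
  · obtain ⟨y, hy, hya⟩ := aux4251 p P key {a} g⁻¹ hf hsub ⟨a, rfl, ha1⟩
    refine ⟨y⁻¹, inv_mem hy, ?_⟩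
    have := hya a rfl
    simpa using this
  · rintro T ⟨Q, hQ, ht1, ht2⟩ hTne x hx
    subst hQ
    have hpg := h Q hTne ⟨ht1, ht2⟩
    set T := (P : Subgroup G) ⊓ (Q : Subgroup G) with hT
    set N := Subgroup.normalizer (T : Set G) with hN
    obtain ⟨k, hk⟩ := IsPGroup.iff_card.mp hpg
    have hcop : (((P : Subgroup G) ⊓ N).subgroupOf N).index.Coprime
        ((Subgroup.centralizer (T : Set G)).subgroupOf N).index := by
      rw [Subgroup.index_eq_card ((Subgroup.centralizer (T : Set G)).subgroupOf N), hk]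
      exact Nat.Coprime.pow_right _ ((Nat.Prime.coprime_iff_not_dvd hpp).mpr ht1).symm
    obtain ⟨y, hy, c, hc, hyc⟩ := Cfsg.Agent.S0007.exists_mul_of_coprime _ _ hcop ⟨x, hx⟩
    exact ⟨y, hy, c, hc, congrArg Subtype.val hyc⟩

end Cfsg.Agent.S4251
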