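import Cfsg.Statements.S4261
import Cfsg.Agent.Lib.Helper1.ThFPF
import Cfsg.Agent.Lib.Helper1.FunctStab
import Cfsg.Agent.Lib.Helper1.Coprime

set_option autoImplicit false
open Cfsg

namespace Cfsg.Agent.S4261

open Cfsg.Agent.Lib.Helper1

universe u

theorem aux4261 : ∀ (n : ℕ) (G : Type u) [Group G] [Finite G], Nat.card G = n → Group.IsSolvable G →
    ∀ (M : Subgroup G), IsCoatom M → (∀ x : G, x ^ M.index ∈ M) → M.Normal := by
  intro n
  induction n using Nat.strong_induction_on with
  | _ n ih =>
    intro G _ _ hn hG M hM hexp
    by_cases hA : ∃ N : Subgroup G, N.Normal ∧ N ≠ ⊥ ∧ N ≤ M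
    · obtain ⟨N, hNn, hN1, hNM⟩ := hA
      haveI := hNn
      have hlt : Nat.card (G ⧸ N) < n := hn ▸ card_quot_lt N hN1
      have hidx : (M.map (QuotientGroup.mk' N)).index = M.index := by
        rw [Subgroup.index_map, QuotientGroup.ker_mk', MonoidHom.range_eq_top.mpr (QuotientGroup.mk'_surjective N),
          Subgroup.index_top, mul_one, sup_eq_left.mpr hNM]
      have h1 := ih _ hlt (G ⧸ N) rfl inferInstance (M.map (QuotientGroup.mk' N)) (isCoatom_map_mk' N hNM hM) (by
        intro x
        obtain ⟨y, rfl⟩ := QuotientGroup.mk'_surjective N x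
        rw [hidx, ← map_pow]
        exact ⟨_, hexp y, rfl⟩)
      have h2 : (M.map (QuotientGroup.mk' N)).comap (QuotientGroup.mk' N) = M := by
        apply Subgroup.comap_map_eq_self
        rw [QuotientGroup.ker_mk']; exact hNM
      rw [← h2]
      exact h1.comap _
    · push Not at hA
      have htop : (⊤ : Subgroup G) ≠ ⊥ := by
        intro h
        apply hM.1
        rw [h]
        exact eq_bot_iff.mpr (h ▸ le_top)
      obtain ⟨p, hp, N, -, hNn, hN1, hNc, hNp⟩ := exists_normal_elemAbelian _ (⊤ : Subgroup G) rfl inferInstance
        inferInstance htop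
      haveI := hNn
      haveI := Fact.mk hp
      have hNM : ¬ N ≤ M := hA N hNn hN1
      have hsup : M ⊔ N = ⊤ := by
        apply hM.2
        exact lt_of_le_of_ne le_sup_left (fun h => hNM (by rw [h]; exact le_sup_right))
      have hinfn : (M ⊓ N).Normal := by
        rw [← Subgroup.normalizer_eq_top_iff, eq_top_iff, ← hsup]
        apply sup_le
        · apply le_normalizer_inf Subgroup.le_normalizer
          rw [Subgroup.normalizer_eq_top_iff.mpr hNn]; exact le_top
        · intro a ha
          rw [Subgroup.mem_normalizer_iff]
          intro d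
          have hc : ∀ z ∈ N, a * z * a⁻¹ = z := by
            intro z hz
            have := congrArg Subtype.val (hNc.is_comm.comm ⟨a, ha⟩ ⟨z, hz⟩)
            rw [mul_inv_eq_iff_eq_mul]
            exact this
          constructor
          · intro hd
            rw [hc d (Subgroup.mem_inf.mp hd).2]; exact hd
          · intro hd
            have h1 : d ∈ N := by
              have := hNn.conj_mem _ (Subgroup.mem_inf.mp hd).2 a⁻¹
              have e : a⁻¹ * (a * d * a⁻¹) * a⁻¹⁻¹ = d := by group
              rwa [e] at this
            rw [hc d h1] at hd; exact hd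
      have hinf : M ⊓ N = ⊥ := by
        by_contra hne
        exact hA _ hinfn hne inf_le_left
      have hNpg : IsPGroup p N := by
        intro m
        exact ⟨1, Subtype.ext (by rw [pow_one]; exact hNp m m.2)⟩
      obtain ⟨k, hk⟩ := IsPGroup.iff_card.mp hNpg
      have hidx : M.index = p ^ k := by
        have e1 := card_sup_mul_card_inf' M N (by rw [Subgroup.normalizer_eq_top]; exact le_top)
        rw [hsup, hinf, Subgroup.card_top, Subgroup.card_bot, mul_one, ← M.card_mul_index] at e1
        rw [← hk]
        exact Nat.eq_of_mul_eq_mul_left Nat.card_pos e1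
      obtain ⟨T, hT⟩ : ∃ T, T = Subgroup.closure {z : G | (orderOf z).Coprime p} := ⟨_, rfl⟩
      have hTn : T.Normal := by
        constructor
        intro t ht g
        have h1 : T.map (MulAut.conj g).toMonoidHom ≤ T := by
          rw [hT, MonoidHom.map_closure]
          apply Subgroup.closure_mono
          rintro _ ⟨y, hy, rfl⟩
          show (orderOf ((MulAut.conj g) y)).Coprime p
          rw [(MulAut.conj g).orderOf_eq y]
          exact hy
        exact h1 ⟨t, ht, rfl⟩
      have hTM : T ≤ M := by
        rw [hT, Subgroup.closure_le]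
        intro z hz
        have hz' : (orderOf z).Coprime p := hz
        obtain ⟨j, hj⟩ := exists_pow_eq_self_of_coprime (x := z) (n := p ^ k) (Nat.Coprime.pow_left _ hz'.symm)
        rw [SetLike.mem_coe, ← hj, ← hidx]
        exact M.pow_mem (hexp z) j
      have hT1 : T = ⊥ := by
        by_contra hne
        exact hA T hTn hne hTM
      have hGp : IsPGroup p G := by
        intro g
        obtain ⟨a, m, hpm, hgm⟩ := Nat.exists_eq_pow_mul_and_not_dvd (orderOf_pos g).ne' p hp.ne_one
        refine ⟨a, ?_⟩
        have h1 : g ^ p ^ a ∈ T := by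
          rw [hT]
          apply Subgroup.subset_closure
          show (orderOf (g ^ p ^ a)).Coprime p
          rw [orderOf_pow_of_dvd (pow_ne_zero _ hp.ne_zero) (by rw [hgm]; exact dvd_mul_right _ _), hgm,
            Nat.mul_div_cancel_left _ (pow_pos hp.pos _)]
          exact ((Nat.Prime.coprime_iff_not_dvd hp).mpr hpm).symm
        rw [hT1] at h1
        exact h1
      haveI := hGp.isNilpotent
      exact Subgroup.NormalizerCondition.normal_of_coatom M (Group.normalizerCondition_of_isNilpotent (G := G)) hM

/-- Let M be a maximal subgroup of a finite solvable group G such that x^[G : M] lies in M for every x in G. Then M is normal in G. -/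
theorem result {G : Type*} [Group G] [Finite G] (hG : Group.IsSolvable G) (M : Subgroup G) (hM : IsCoatom M)
    (hexp : ∀ x : G, x ^ M.index ∈ M) : M.Normal := by
  exact aux4261 _ G rfl hG M hM hexp

end Cfsg.Agent.S4261
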