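import Cfsg.Statements.S4283
import Mathlib
import Cfsg.Agent.Lib.Helper1.FrobD
import Cfsg.Agent.Lib.Helper1.FrobCount

set_option autoImplicit false
open Cfsg

namespace Cfsg.Agent.S4283

open Cfsg
open Cfsg.Agent.Lib.Helper1 Cfsg.Agent.Lib.Helper1.FrobB Cfsg.Agent.Lib.Helper1.FrobD
open scoped Pointwise

/-- Let G be a finite group with centre Z and let K, H be abelian subgroups of G containing Z such that G/Z is a Frobenius group with complement H/Z and kernel K/Z. Then the conjugacy class sizes of G are exactly 1, [G : K] and [G : H], and these two indices are coprime. (This is the converse half of the characterization of finite groups whose conjugacy class sizes are exactly 1, m and n with m and n coprime.) -/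
theorem result {G : Type*} [Group G] [Finite G] (K H : Subgroup G) (hZK : Subgroup.center G ≤ K) (hZH : Subgroup.center G ≤ H) (hK : IsMulCommutative K) (hH : IsMulCommutative H) (hFrob : Cfsg.IsFrobeniusComplement (H.map (QuotientGroup.mk' (Subgroup.center G)))) (hker : Cfsg.frobeniusKernel (H.map (QuotientGroup.mk' (Subgroup.center G))) = (K.map (QuotientGroup.mk' (Subgroup.center G)) : Set (G ⧸ Subgroup.center G))) : Set.range (fun x : G => (Subgroup.centralizer ({x} : Set G)).index) = ({1, K.index, H.index} : Set ℕ) ∧ K.index.Coprime H.index := by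
  obtain ⟨π, hπ⟩ : ∃ π, π = QuotientGroup.mk' (Subgroup.center G) := ⟨_, rfl⟩
  rw [← hπ] at hFrob hker
  have hsurj : Function.Surjective π := by rw [hπ]; exact QuotientGroup.mk'_surjective _
  have hkerπ : π.ker = Subgroup.center G := by rw [hπ]; exact QuotientGroup.ker_mk' _
  obtain ⟨hKn, hc⟩ := kernel_spec hFrob hker.symm
  have hiK : (K.map π).index = K.index := Subgroup.index_map_eq K hsurj (by rw [hkerπ]; exact hZK)
  have hiH : (H.map π).index = H.index := Subgroup.index_map_eq H hsurj (by rw [hkerπ]; exact hZH)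
  have hmemK : ∀ y : G, π y ∈ K.map π → y ∈ K := by
    intro y hy
    have : y ∈ (K.map π).comap π := hy
    rwa [Subgroup.comap_map_eq, hkerπ, sup_eq_left.mpr hZK] at this
  have hmemH : ∀ y : G, π y ∈ H.map π → y ∈ H := by
    intro y hy
    have : y ∈ (H.map π).comap π := hy
    rwa [Subgroup.comap_map_eq, hkerπ, sup_eq_left.mpr hZH] at this
  have hone : ∀ y : G, π y = 1 ↔ y ∈ Subgroup.center G := by
    intro y
    rw [← MonoidHom.mem_ker]
    exact ⟨fun h => hkerπ ▸ h, fun h => hkerπ.symm ▸ h⟩
  have hA : ∀ x ∈ K, x ∉ Subgroup.center G → Subgroup.centralizer ({x} : Set G) = K := by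
    intro x hx hxZ
    apply le_antisymm
    · intro y hy
      rw [Subgroup.mem_centralizer_singleton_iff] at hy
      by_contra hyK
      have h1 : π y ∉ Cfsg.frobeniusKernel (H.map π) := by
        rw [hker]; intro h; exact hyK (hmemK y h)
      obtain ⟨hy1, g, hg⟩ := not_mem_kernel_iff.mp h1
      have h2 : π y ∈ MulAut.conj (π x * g) • (H.map π) := by
        rw [mem_conj_smul] at hg ⊢
        have e : (π x * g)⁻¹ * π y * (π x * g) = g⁻¹ * (π (x⁻¹ * (y * x))) * g := by
          simp only [map_mul, map_inv]; group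
        rw [e, hy]
        have e2 : x⁻¹ * (x * y) = y := by group
        rw [e2]; exact hg
      have h3 := mem_of_two_conj hFrob hy1 hg h2
      have h4 : π x ∉ Cfsg.frobeniusKernel (H.map π) := by
        rw [not_mem_kernel_iff]
        refine ⟨fun h => hxZ ((hone x).mp h), g, ?_⟩
        rw [mem_conj_smul]
        rwa [← mul_assoc] at h3
      apply h4
      rw [hker]
      exact Subgroup.mem_map_of_mem _ hx
    · intro y hy
      rw [Subgroup.mem_centralizer_singleton_iff]
      exact congrArg Subtype.val (hK.is_comm.comm ⟨y, hy⟩ ⟨x, hx⟩)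
  have hB : ∀ x ∈ H, x ∉ Subgroup.center G → Subgroup.centralizer ({x} : Set G) = H := by
    intro x hx hxZ
    apply le_antisymm
    · intro y hy
      rw [Subgroup.mem_centralizer_singleton_iff] at hy
      apply hmemH
      apply mem_of_conj_mem hFrob (x := π x) (fun h => hxZ ((hone x).mp h)) (Subgroup.mem_map_of_mem _ hx)
      rw [← map_mul, hy, map_mul, mul_inv_cancel_right]
      exact Subgroup.mem_map_of_mem _ hx
    · intro y hy
      rw [Subgroup.mem_centralizer_singleton_iff]
      exact congrArg Subtype.val (hH.is_comm.comm ⟨y, hy⟩ ⟨x, hx⟩)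
  have hconj : ∀ x g : G, (Subgroup.centralizer ({g⁻¹ * x * g} : Set G)).index = (Subgroup.centralizer ({x} : Set G)).index := by
    intro x g
    rw [FrobCount.index_centralizer_eq, FrobCount.index_centralizer_eq]
    apply Nat.card_congr
    apply Equiv.subtypeEquivRight
    intro y
    have h1 : IsConj x (g⁻¹ * x * g) := isConj_iff.mpr ⟨g⁻¹, by rw [inv_inv]⟩
    exact ⟨fun h => h1.trans h, fun h => h1.symm.trans h⟩
  constructor
  · ext n
    simp only [Set.mem_range, Set.mem_insert_iff, Set.mem_singleton_iff]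
    constructor
    · rintro ⟨x, rfl⟩
      by_cases hxZ : x ∈ Subgroup.center G
      · left
        rw [(FrobCount.centralizer_eq_top_iff x).mpr hxZ, Subgroup.index_top]
      · right
        by_cases hxk : π x ∈ Cfsg.frobeniusKernel (H.map π)
        · left
          rw [hker] at hxk
          rw [hA x (hmemK x hxk) hxZ]
        · right
          obtain ⟨hx1, g, hg⟩ := not_mem_kernel_iff.mp hxk
          obtain ⟨g, rfl⟩ := hsurj g
          rw [mem_conj_smul, ← map_inv, ← map_mul, ← map_mul] at hg
          rw [← hconj x g, hB _ (hmemH _ hg)]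
          intro h
          apply hxZ
          have := (FrobCount.conj_mem_center_iff g (g⁻¹ * x * g)).mpr h
          have e : g * (g⁻¹ * x * g) * g⁻¹ = x := by group
          rwa [e] at this
    · rintro (rfl | rfl | rfl)
      · refine ⟨1, ?_⟩
        rw [(FrobCount.centralizer_eq_top_iff 1).mpr (one_mem _), Subgroup.index_top]
      · have hne := kernel_ne_bot hFrob hc
        obtain ⟨y, hy, hy1⟩ := (Subgroup.ne_bot_iff_exists_ne_one).mp hne |>.imp (fun a h => h) |> fun ⟨a, h⟩ => (⟨a.1, a.2, fun h' => h (Subtype.ext h')⟩ : ∃ y, y ∈ K.map π ∧ y ≠ 1)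
        obtain ⟨x, hx, rfl⟩ := hy
        exact ⟨x, by rw [hA x hx (fun h => hy1 ((hone x).mpr h))]⟩
      · have hne := hFrob.1
        obtain ⟨y, hy, hy1⟩ := (Subgroup.ne_bot_iff_exists_ne_one).mp hne |>.imp (fun a h => h) |> fun ⟨a, h⟩ => (⟨a.1, a.2, fun h' => h (Subtype.ext h')⟩ : ∃ y, y ∈ H.map π ∧ y ≠ 1)
        obtain ⟨x, hx, rfl⟩ := hy
        exact ⟨x, by rw [hB x hx (fun h => hy1 ((hone x).mpr h))]⟩
  · rw [← hiK, ← hiH, ← card_of_compl hc.symm]
    exact (index_coprime hFrob).symm

end Cfsg.Agent.S4283
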