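import Cfsg.Statements.S4370
import Cfsg.Agent.Lib.Helper3.NilCop
import Cfsg.Agent.Lib.Helper3.UniqP5

set_option autoImplicit false
open Cfsg

namespace Cfsg.Agent.S4370

theorem two_tors {n : ℕ} [NeZero n] (t : ZMod (2 * n)) (h : t + t = 0) : t = 0 ∨ t = (n : ZMod (2 * n)) := by
  have h1 : ((t.val + t.val : ℕ) : ZMod (2 * n)) = 0 := by
    rw [Nat.cast_add, ZMod.natCast_zmod_val]; exact h
  rw [ZMod.natCast_eq_zero_iff] at h1
  have h2 := ZMod.val_lt t
  obtain ⟨c, hc⟩ := h1
  have hn : 0 < n := Nat.pos_of_ne_zero (NeZero.ne n)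
  have hc2 : c < 2 := by
    by_contra hcc
    push Not at hcc
    have : 2 * n * 2 ≤ 2 * n * c := Nat.mul_le_mul_left _ hcc
    omega
  have h3 : t = ((t.val : ℕ) : ZMod (2 * n)) := (ZMod.natCast_zmod_val t).symm
  interval_cases c
  · left
    rw [h3]
    have : t.val = 0 := by omega
    rw [this, Nat.cast_zero]
  · right
    rw [h3]
    have : t.val = n := by omega
    rw [this]

/-- Let G be a finite non-abelian nilpotent group. Then the centralizer of every non-central element of G is cyclic if and only if G is isomorphic to the direct product of a generalized quaternion group and a cyclic group of odd order. -/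
theorem result {G : Type*} [Group G] [Finite G] (hG : Group.IsNilpotent G)
    (hna : ¬ IsMulCommutative G) :
    (∀ x : G, x ∉ Subgroup.center G → IsCyclic (Subgroup.centralizer ({x} : Set G))) ↔
      ∃ (k m : ℕ), 1 ≤ k ∧ Odd m ∧ Nonempty (G ≃* QuaternionGroup (2 ^ k) × Multiplicative (ZMod m)) := by
  constructor
  · intro hcyc
    haveI := hG
    obtain ⟨x0, hx0⟩ : ∃ x0 : G, x0 ∉ Subgroup.center G := by
      by_contra hc
      push Not at hc
      apply hna
      exact ⟨⟨fun a b => (Subgroup.mem_center_iff.1 (hc b) a)⟩⟩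
    have hall := ((Group.isNilpotent_of_finite_tfae (G := G)).out 0 3).mp hG
    have hno : ∀ (p : ℕ) [Fact p.Prime] (E : Subgroup G), IsMulCommutative E →
        (∀ e ∈ E, e ^ p = 1) → Nat.card E ≠ p ^ 2 := by
      intro p _ E hE hexp hcard
      obtain ⟨w, hw, hEw⟩ : ∃ w : G, w ∉ Subgroup.center G ∧
          E ≤ Subgroup.centralizer ({w} : Set G) := by
        by_cases h : ∃ e ∈ E, e ∉ Subgroup.center G
        · obtain ⟨e, he, hec⟩ := h
          refine ⟨e, hec, fun y hy => ?_⟩
          rw [Subgroup.mem_centralizer_singleton_iff]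
          have := hE.is_comm.comm ⟨y, hy⟩ ⟨e, he⟩
          exact congrArg Subtype.val this
        · push Not at h
          refine ⟨x0, hx0, fun y hy => ?_⟩
          rw [Subgroup.mem_centralizer_singleton_iff]
          exact (Subgroup.mem_center_iff.1 (h y hy) x0).symm
      haveI := hcyc w hw
      haveI : IsCyclic E := Subgroup.isCyclic_of_le hEw
      obtain ⟨g, hg⟩ := IsCyclic.exists_generator (α := E)
      have h1 : orderOf g = Nat.card E := orderOf_eq_card_of_forall_mem_zpowers hg
      have h2 : g ^ p = 1 := Subtype.ext (hexp g g.2)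
      have h3 := orderOf_dvd_of_pow_eq_one h2
      rw [h1, hcard] at h3
      have hp := (Fact.out : p.Prime)
      have := Nat.le_of_dvd hp.pos h3
      nlinarith [hp.two_le]
    haveI : Fact (Nat.Prime 2) := ⟨Nat.prime_two⟩
    obtain ⟨P⟩ : Nonempty (Sylow 2 G) := inferInstance
    haveI hPn : (P : Subgroup G).Normal := hall 2 inferInstance P
    have hsyl : ∀ (p : ℕ) [Fact p.Prime] (S : Sylow p G), IsCyclic (S : Subgroup G) ∨
        (p = 2 ∧ ∃ n : ℕ, Nonempty ((S : Subgroup G) ≃* QuaternionGroup (2 ^ n))) :=
      fun p _ S => Cfsg.Agent.Lib.Helper3.UniqP.cyclic_or_quat_of_no_rank_two p S S.isPGroup'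
        (fun E _ hE hexp => hno p E hE hexp)
    have hPnc : ¬ ∀ a b : (P : Subgroup G), a * b = b * a := by
      intro hPc
      apply hna
      have hallc : ∀ (p : ℕ) [Fact p.Prime] (S : Sylow p G) (a b : (S : Subgroup G)),
          a * b = b * a := by
        intro p _ S a b
        rcases hsyl p S with h | ⟨rfl, _⟩
        · exact Cfsg.Agent.Lib.Helper3.UniqP.comm_of_cyclic a b
        · apply (Sylow.equiv S P).injective
          rw [map_mul, map_mul, hPc]
      let e := Sylow.directProductOfNormal (G := G) (fun {p} _ S => hall p inferInstance S)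
      refine ⟨⟨fun a b => ?_⟩⟩
      apply e.symm.injective
      rw [map_mul, map_mul]
      funext p S
      haveI : Fact (p : ℕ).Prime := ⟨Nat.prime_of_mem_primeFactors p.2⟩
      exact hallc p S _ _
    rcases hsyl 2 P with h | ⟨_, n, ⟨eP⟩⟩
    · exact absurd (fun a b => Cfsg.Agent.Lib.Helper3.UniqP.comm_of_cyclic a b) hPnc
    have hn1 : 1 ≤ n := by
      by_contra hn0
      have hn0 : n = 0 := by omega
      subst hn0
      apply hPnc
      intro a b
      haveI : IsCyclic (QuaternionGroup (2 ^ 0)) := QuaternionGroup.quaternionGroup_one_isCyclic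
      apply eP.injective
      rw [map_mul, map_mul]
      exact Cfsg.Agent.Lib.Helper3.UniqP.comm_of_cyclic _ _
    obtain ⟨x, hxP, hxc⟩ : ∃ x ∈ (P : Subgroup G), x ∉ Subgroup.center G := by
      by_contra hc
      push Not at hc
      apply hPnc
      intro a b
      exact Subtype.ext (Subgroup.mem_center_iff.1 (hc b b.2) a)
    obtain ⟨K, hK⟩ := Subgroup.exists_right_complement'_of_coprime (N := (P : Subgroup G))
      P.card_coprime_index
    have hKcard : (P : Subgroup G).index = Nat.card K := hK.symm.index_eq_card
    have hcomm : ∀ (a : (P : Subgroup G)) (k : K), (a : G) * k = k * a := by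
      intro a k
      apply Cfsg.Agent.Lib.Helper3.NilCop.commute_of_coprime G _ _ (isOfFinOrder_of_finite _)
        (isOfFinOrder_of_finite _)
      apply Nat.Coprime.of_dvd _ _ P.card_coprime_index
      · rw [Subgroup.orderOf_coe]; exact orderOf_dvd_natCard a
      · rw [Subgroup.orderOf_coe, hKcard]; exact orderOf_dvd_natCard k
    haveI := hcyc x hxc
    have hKc : IsCyclic K := by
      apply Subgroup.isCyclic_of_le (H' := Subgroup.centralizer ({x} : Set G))
      intro k hk
      rw [Subgroup.mem_centralizer_singleton_iff]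
      exact (hcomm ⟨x, hxP⟩ ⟨k, hk⟩).symm
    let f : ↥(P : Subgroup G) × ↥K →* G :=
      MonoidHom.noncommCoprod (P : Subgroup G).subtype K.subtype (fun a k => hcomm a k)
    have hbij : Function.Bijective f := hK
    refine ⟨n, Nat.card K, hn1, ?_, ⟨(MulEquiv.ofBijective f hbij).symm.trans
      (MulEquiv.prodCongr eP (zmodCyclicMulEquiv hKc).symm)⟩⟩
    rw [← hKcard]
    have := P.not_dvd_index
    exact Nat.odd_iff.2 (by omega)
  · rintro ⟨k, m, hk, hm, ⟨e⟩⟩ x hx
    haveI : NeZero (2 ^ k) := ⟨by positivity⟩
    have hh : (Multiplicative.ofAdd (1 : ZMod m)) ^ m = 1 := by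
      rw [← ofAdd_nsmul, nsmul_one, ZMod.natCast_self]; rfl
    have close : ∀ (g : QuaternionGroup (2 ^ k)) (M : ℕ), g ^ M = 1 → Nat.Coprime M m →
        (∀ y ∈ Subgroup.centralizer ({x} : Set G), ∃ s : ℤ, (e y).1 = g ^ s) →
        IsCyclic (Subgroup.centralizer ({x} : Set G)) := by
      intro g M hg hc hall
      apply Subgroup.isCyclic_of_le
        (H' := Subgroup.zpowers (e.symm (g, Multiplicative.ofAdd (1 : ZMod m))))
      intro y hy
      obtain ⟨s, hs⟩ := hall y hy
      obtain ⟨t, ht⟩ := ZMod.intCast_surjective (Multiplicative.toAdd (e y).2)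
      have h2 : (e y).2 = (Multiplicative.ofAdd (1 : ZMod m)) ^ t := by
        rw [← ofAdd_zsmul, zsmul_one, ht]; rfl
      have h3 := Cfsg.Agent.Lib.Helper3.NilCop.crt_zpowers hg hh hc s t
      rw [← hs, ← h2] at h3
      obtain ⟨u, hu⟩ := Subgroup.mem_zpowers_iff.1 h3
      rw [Subgroup.mem_zpowers_iff]
      refine ⟨u, ?_⟩
      rw [← map_zpow, hu]
      exact e.symm_apply_apply y
    have hfst : ∀ y ∈ Subgroup.centralizer ({x} : Set G), (e y).1 * (e x).1 = (e x).1 * (e y).1 := by
      intro y hy
      rw [Subgroup.mem_centralizer_singleton_iff] at hy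
      have := congrArg (fun z => (e z).1) hy
      simpa using this
    rcases hq : (e x).1 with i | i
    · have hi : i + i ≠ 0 := by
        intro hi
        apply hx
        rw [Subgroup.mem_center_iff]
        intro g
        apply e.injective
        rw [map_mul, map_mul]
        apply Prod.ext
        · rw [Prod.fst_mul, Prod.fst_mul, hq]
          rcases (e g).1 with l | l
          · rw [QuaternionGroup.a_mul_a, QuaternionGroup.a_mul_a, add_comm]
          · rw [QuaternionGroup.a_mul_xa, QuaternionGroup.xa_mul_a]
            congr 1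
            linear_combination hi
        · exact mul_comm _ _
      apply close (QuaternionGroup.a 1) (2 * 2 ^ k) QuaternionGroup.a_one_pow_n
      · rw [← pow_succ']
        exact Nat.Coprime.pow_left _ (Nat.coprime_two_left.2 hm)
      · intro y hy
        have h1 := hfst y hy
        rw [hq] at h1
        rcases hy1 : (e y).1 with j | j
        · refine ⟨(j.val : ℤ), ?_⟩
          rw [zpow_natCast, QuaternionGroup.a_one_pow, ZMod.natCast_zmod_val]
        · exfalso
          rw [hy1, QuaternionGroup.a_mul_xa, QuaternionGroup.xa_mul_a] at h1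
          apply hi
          have h2 := QuaternionGroup.xa.inj h1
          linear_combination h2
    · apply close (QuaternionGroup.xa i) 4 (QuaternionGroup.xa_pow_four i)
      · exact Nat.Coprime.pow_left 2 (Nat.coprime_two_left.2 hm)
      · intro y hy
        have h1 := hfst y hy
        rw [hq] at h1
        rcases hy1 : (e y).1 with j | j
        · rw [hy1, QuaternionGroup.a_mul_xa, QuaternionGroup.xa_mul_a] at h1
          have h2 := QuaternionGroup.xa.inj h1
          rcases two_tors j (by linear_combination -h2) with rfl | rfl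
          · exact ⟨0, by rw [zpow_zero]; rfl⟩
          · exact ⟨2, by rw [show (2 : ℤ) = ((2 : ℕ) : ℤ) from rfl, zpow_natCast,
              QuaternionGroup.xa_sq]⟩
        · rw [hy1, QuaternionGroup.xa_mul_xa, QuaternionGroup.xa_mul_xa] at h1
          have h2 := QuaternionGroup.a.inj h1
          rcases two_tors (i - j) (by linear_combination h2) with h3 | h3
          · refine ⟨1, ?_⟩
            rw [zpow_one]
            congr 1
            linear_combination -h3
          · refine ⟨3, ?_⟩
            rw [show (3 : ℤ) = ((3 : ℕ) : ℤ) from rfl, zpow_natCast, pow_succ,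
              QuaternionGroup.xa_sq, QuaternionGroup.a_mul_xa]
            congr 1
            linear_combination -h3

end Cfsg.Agent.S4370
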