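import Cfsg.Statements.S4419
import Cfsg.Agent.Lib.Helper1.RankFrattini
open Cfsg.Agent.Lib.Helper1

set_option autoImplicit false
open Cfsg

namespace Cfsg.Agent.S4419

theorem exists_two_generators_of_metacyclic {R : Type*} [Group R] (h : Cfsg.IsMetacyclic R) (Q : Subgroup R) :
    ∃ c y : R, Q = Subgroup.closure {c, y} := by
  obtain ⟨N, hN, hcN, hcQ⟩ := h
  have h1 : IsCyclic (Q ⊓ N : Subgroup R) :=
    isCyclic_of_injective (Subgroup.inclusion (inf_le_right : Q ⊓ N ≤ N)) (Subgroup.inclusion_injective _)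
  obtain ⟨⟨c, hc⟩, hcgen⟩ := IsCyclic.exists_generator (α := (Q ⊓ N : Subgroup R))
  have h2 : IsCyclic (Q.map (QuotientGroup.mk' N)) := inferInstance
  obtain ⟨⟨ybar, hy⟩, hygen⟩ := IsCyclic.exists_generator (α := Q.map (QuotientGroup.mk' N))
  obtain ⟨y, hyQ, rfl⟩ := hy
  refine ⟨c, y, le_antisymm ?_ ?_⟩
  · intro x hx
    obtain ⟨k, hk⟩ := Subgroup.mem_zpowers_iff.mp (hygen ⟨QuotientGroup.mk' N x, x, hx, rfl⟩)
    have hk' : (QuotientGroup.mk' N y) ^ k = QuotientGroup.mk' N x := congrArg Subtype.val hk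
    have h3 : y ^ (-k) * x ∈ Q ⊓ N := by
      refine Subgroup.mem_inf.mpr ⟨Q.mul_mem (Q.zpow_mem hyQ _) hx, ?_⟩
      rw [← QuotientGroup.eq_one_iff]
      change QuotientGroup.mk' N (y ^ (-k) * x) = 1
      rw [map_mul, map_zpow, ← hk', ← zpow_add]
      simp
    obtain ⟨m, hm⟩ := Subgroup.mem_zpowers_iff.mp (hcgen ⟨_, h3⟩)
    have hm' : c ^ m = y ^ (-k) * x := congrArg Subtype.val hm
    have : x = y ^ k * c ^ m := by rw [hm']; group
    rw [this]
    exact mul_mem (zpow_mem (Subgroup.subset_closure (by simp)) _) (zpow_mem (Subgroup.subset_closure (by simp)) _)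
  · rw [Subgroup.closure_le]
    rintro z (rfl | rfl)
    · exact (Subgroup.mem_inf.mp hc).1
    · exact hyQ

/-- Let p be a prime and G a finite group whose Sylow p-subgroups are metacyclic (a cyclic normal subgroup with cyclic quotient). Then G has a normal p-complement if and only if the order of G/O_{p′,p}(G) is coprime to p² − 1. -/
theorem result {G : Type*} [Group G] [Finite G] (p : ℕ) [Fact p.Prime] (S : Sylow p G) (hS : Cfsg.IsMetacyclic ↥(S : Subgroup G)) : Cfsg.HasNormalPComplement p G ↔ Nat.Coprime (Nat.card (G ⧸ Cfsg.pPrimePCore p G)) (p ^ 2 - 1) := by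
  classical
  have hpp : p.Prime := Fact.out
  haveI hOn : (Cfsg.pPrimeCore p G).Normal := Cfsg.Agent.Lib.Helper1.pPrimeCore_normal p
  constructor
  · intro h
    have h1 := hasNormalPComplement_iff.mp h
    have h2 : Cfsg.pResidual p G ≤ Cfsg.pPrimeCore p G := le_pPrimeCore (pResidual_normal p) h1
    have h3 : IsPGroup p (G ⧸ Cfsg.pPrimeCore p G) := isPGroup_quotient_pResidual _ h2
    have h4 : Cfsg.pCore p (G ⧸ Cfsg.pPrimeCore p G) = ⊤ :=
      top_le_iff.mp (le_pCore inferInstance (h3.to_subgroup ⊤))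
    have h5 : Cfsg.pPrimePCore p G = ⊤ := by
      rw [Cfsg.pPrimePCore, h4, Subgroup.comap_top]
    rw [h5, ← Subgroup.index_eq_card, Subgroup.index_top]
    exact Nat.coprime_one_left _
  · intro hcop
    apply hasNormalPComplement_of_frobHyp
    apply frobHyp_of_prime_power S
    intro Q hQS q hq hqp hqG A hA hAQ
    have hQ : IsPGroup p Q := S.2.to_le hQS
    by_cases hq2 : q ∣ p ^ 2 - 1
    · -- A ≤ O_{p'}(G)
      haveI hKn : (Cfsg.pPrimePCore p G).Normal := by
        haveI := Cfsg.Agent.Lib.Helper1.pCore_normal (G := G ⧸ Cfsg.pPrimeCore p G) p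
        rw [Cfsg.pPrimePCore]; infer_instance
      have hqK : Nat.Coprime q (Nat.card (G ⧸ Cfsg.pPrimePCore p G)) := by
        rw [Nat.Prime.coprime_iff_not_dvd hq.out]
        intro hd
        exact hq.out.one_lt.ne' (Nat.eq_one_of_dvd_coprimes hcop hd hq2)
      have hAO : A ≤ Cfsg.pPrimeCore p G := by
        intro a ha
        obtain ⟨k, hk⟩ := hA ⟨a, ha⟩
        have hk' : a ^ q ^ k = 1 := by simpa using congrArg Subtype.val hk
        have haK : a ∈ Cfsg.pPrimePCore p G := by
          rw [← QuotientGroup.eq_one_iff]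
          have e1 : ((a : G ⧸ Cfsg.pPrimePCore p G)) ^ q ^ k = 1 := by
            rw [← QuotientGroup.mk_pow, hk']; rfl
          have e2 : ((a : G ⧸ Cfsg.pPrimePCore p G)) ^ Nat.card (G ⧸ Cfsg.pPrimePCore p G) = 1 := pow_card_eq_one'
          have e3 := pow_gcd_eq_one.mpr ⟨e1, e2⟩
          rwa [Nat.Coprime.pow_left k hqK, pow_one] at e3
        have haK' : QuotientGroup.mk' (Cfsg.pPrimeCore p G) a ∈ Cfsg.pCore p (G ⧸ Cfsg.pPrimeCore p G) := haK
        obtain ⟨j, hj⟩ := pCore_isPGroup (G := G ⧸ Cfsg.pPrimeCore p G) p ⟨_, haK'⟩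
        have hj' : (QuotientGroup.mk' (Cfsg.pPrimeCore p G) a) ^ p ^ j = 1 := by simpa using congrArg Subtype.val hj
        have e1 : (QuotientGroup.mk' (Cfsg.pPrimeCore p G) a) ^ q ^ k = 1 := by
          rw [← map_pow, hk', map_one]
        have e3 := pow_gcd_eq_one.mpr ⟨e1, hj'⟩
        have e4 : Nat.Coprime (q ^ k) (p ^ j) := Nat.Coprime.pow _ _ ((Nat.coprime_primes hq.out hpp).mpr hqp)
        rw [e4, pow_one] at e3
        exact (QuotientGroup.eq_one_iff a).mp e3
      have hdisj : Q ⊓ Cfsg.pPrimeCore p G = ⊥ := by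
        obtain ⟨k, hk⟩ := IsPGroup.iff_card.mp hQ
        apply (Subgroup.disjoint_of_coprime_natCard _).eq_bot
        rw [hk]
        exact Nat.Coprime.pow_left _ (pPrimeCore_coprime p).symm
      intro a ha
      rw [Subgroup.mem_centralizer_iff]
      intro x hx
      have h1 : a * x * a⁻¹ * x⁻¹ ∈ Q ⊓ Cfsg.pPrimeCore p G := by
        refine Subgroup.mem_inf.mpr ⟨?_, ?_⟩
        · exact Q.mul_mem ((Subgroup.mem_normalizer_iff.mp (hAQ ha) x).mp hx) (Q.inv_mem hx)
        · have : a * x * a⁻¹ * x⁻¹ = a * (x * a⁻¹ * x⁻¹) := by group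
          rw [this]
          exact Subgroup.mul_mem _ (hAO ha) (hOn.conj_mem _ (Subgroup.inv_mem _ (hAO ha)) x)
      rw [hdisj, Subgroup.mem_bot] at h1
      have h2 : a * x * a⁻¹ = x := mul_inv_eq_one.mp h1
      exact (mul_inv_eq_iff_eq_mul.mp h2).symm
    · obtain ⟨c, y, hcy⟩ := exists_two_generators_of_metacyclic hS (Q.subgroupOf S)
      have hQeq : Q = Subgroup.closure (({(c : G), (y : G)} : Finset G) : Set G) := by
        have h1 : (Q.subgroupOf S).map (S : Subgroup G).subtype = Q := Subgroup.map_subgroupOf_eq_of_le hQS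
        rw [← h1, hcy, MonoidHom.map_closure]
        congr 1
        simp [Set.image_pair]
      have hrank : Group.rank Q ≤ 2 := by
        rw [Subgroup.rank_congr hQeq]
        exact (Subgroup.rank_closure_finset_le_card _).trans Finset.card_le_two
      apply centralizes_of_frattini_index (d := 2) Q A hQ hA hAQ (Ne.symm hqp)
        ((frattini_index_dvd_pow_rank hQ).trans (pow_dvd_pow p hrank))
      intro i hi1 hi2 hdvd
      apply hq2
      interval_cases i
      · have : p ^ 2 - 1 = (p ^ 1 - 1) * (p + 1) := by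
          obtain ⟨m, hm⟩ : ∃ m, p = m + 1 := ⟨p - 1, by have := hpp.two_le; omega⟩
          rw [hm]
          simp only [pow_one, Nat.add_sub_cancel]
          have : (m + 1) ^ 2 = m * (m + 1 + 1) + 1 := by ring
          omega
        rw [this]; exact Dvd.dvd.mul_right hdvd _
      · exact hdvd

end Cfsg.Agent.S4419
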