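import Cfsg.Statements.S5084
import Cfsg.Agent.Lib.Lead.NormalSub

set_option autoImplicit false
open Cfsg

namespace Cfsg.Agent.S5084

open Cfsg.Agent.Fus Cfsg.FusionSystem

variable {Ω : Type*} [Group Ω] {S : Subgroup Ω}

/-- the subsystem over `S` of maps extending to `P ⊔ Q` and fixing `Q` (for `Q ≤ Z(S)`). -/
def centSystem (F : FusionSystem S) (Q : Subgroup Ω) (hQ : Q ≤ S)
    (hQc : S ≤ Subgroup.centralizer (Q : Set Ω)) : FusionSystem S where
  Hom P := {φ | φ ∈ F.Hom P ∧ ∃ ψ ∈ F.Hom (P ⊔ Q),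
    (∀ x : P, ψ (Subgroup.inclusion le_sup_left x) = φ x) ∧
      ∀ x : Q, ψ (Subgroup.inclusion le_sup_right x) = x}
  le_of_mem h := F.le_of_mem h.1
  injective_of_mem h := F.injective_of_mem h.1
  conj_mem := by
    intro P g hP hg
    refine ⟨F.conj_mem hP hg, conjHom (P ⊔ Q) g, F.conj_mem (sup_le hP hQ) hg, fun x => rfl, ?_⟩
    intro x
    show g * (x : Ω) * g⁻¹ = x
    have := (Subgroup.mem_centralizer_iff.mp (hQc hg)) x x.2
    rw [← this]; group
  comp_mem := by
    intro P P' φ ψ hφ hψ h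
    obtain ⟨hφF, φ', hφ', hφext, hφQ⟩ := hφ
    obtain ⟨hψF, ψ', hψ', hψext, hψQ⟩ := hψ
    have hval : ∀ x : ↥(P ⊔ Q), φ' x ∈ P' ⊔ Q :=
      forall_sup_mem φ' (fun x => by rw [hφext]; exact Subgroup.mem_sup_left (h x))
        (fun x => Subgroup.mem_sup_right (by rw [hφQ]; exact x.2))
    refine ⟨F.comp_mem hφF hψF h, ψ'.comp (φ'.codRestrict _ hval),
      F.comp_mem hφ' hψ' hval, fun x => ?_, ?_⟩
    · have e : φ'.codRestrict _ hval (Subgroup.inclusion le_sup_left x) =
          Subgroup.inclusion le_sup_left (⟨φ x, h x⟩ : P') := Subtype.ext (hφext x)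
      show ψ' (φ'.codRestrict _ hval (Subgroup.inclusion le_sup_left x)) = ψ ⟨φ x, h x⟩
      rw [e, hψext]
    · intro x
      have e : φ'.codRestrict _ hval (Subgroup.inclusion le_sup_right x) =
        Subgroup.inclusion le_sup_right x := Subtype.ext (hφQ x)
      show ψ' (φ'.codRestrict _ hval (Subgroup.inclusion le_sup_right x)) = x
      rw [e]; exact hψQ _
  inv_mem := by
    intro P φ hφ
    obtain ⟨hφF, φ', hφ', hφext, hφQ⟩ := hφ
    obtain ⟨χ, hχ, hχinv, hχrange⟩ := inv_mem' F hφ' rfl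
    have hle : φ.range ⊔ Q ≤ φ'.range := by
      apply sup_le
      · rintro _ ⟨x, rfl⟩; exact ⟨_, hφext x⟩
      · intro y hy
        exact ⟨_, hφQ ⟨y, hy⟩⟩
    have hψ' := restrict_mem F hχ hle
    have hψ := restrict_mem F hψ' (le_sup_left : φ.range ≤ φ.range ⊔ Q)
    have key : ∀ x : P, ∀ hx, χ ⟨φ x, hx⟩ = x := by
      intro x hx
      have hr : φ' (Subgroup.inclusion le_sup_left x) ∈ φ'.range := ⟨_, rfl⟩
      have e : (⟨φ x, hx⟩ : φ'.range) = ⟨φ' (Subgroup.inclusion le_sup_left x), hr⟩ :=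
        Subtype.ext (hφext x).symm
      rw [e]; exact hχinv _ _
    refine ⟨_, ⟨hψ, _, hψ', fun x => rfl, ?_⟩, ?_⟩
    · intro y
      have hh : (y : Ω) ∈ φ'.range := hle (Subgroup.mem_sup_right y.2)
      show χ ⟨(y : Ω), hh⟩ = y
      have hr : φ' (Subgroup.inclusion le_sup_right y) ∈ φ'.range := ⟨_, rfl⟩
      have e : (⟨(y : Ω), hh⟩ : φ'.range) = ⟨φ' (Subgroup.inclusion le_sup_right y), hr⟩ :=
        Subtype.ext (hφQ y).symm
      rw [e, hχinv _ hr]; rfl
    · intro x
      show χ ⟨φ x, _⟩ = x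
      exact key x _

theorem result {Ω : Type*} [Group Ω] {S : Subgroup Ω} [Finite S] (p : ℕ) [Fact p.Prime] (hS : IsPGroup p S) (F : Cfsg.FusionSystem S) (hF : F.IsSaturated p) (Q : Subgroup Ω) : F.IsCentral Q ↔ (Q ≤ S ∧ ∀ x ∈ Q, ∀ y : Ω, F.IsConjElt x y → y = x) := by
  constructor
  · rintro ⟨hQS, hext⟩
    refine ⟨hQS, ?_⟩
    rintro x hx y ⟨φ, hφ, rfl⟩
    obtain ⟨ψ, -, h1, h2⟩ := hext _ φ hφ
    rw [← h1]
    exact h2 ⟨x, hx⟩
  · rintro ⟨hQS, hsing⟩
    have hQc : S ≤ Subgroup.centralizer (Q : Set Ω) := by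
      intro s hs
      rw [Subgroup.mem_centralizer_iff]
      intro x hx
      have hz : Subgroup.zpowers x ≤ S := by rw [Subgroup.zpowers_le]; exact hQS hx
      have h1 := hsing x hx (s * x * s⁻¹) ⟨_, F.conj_mem hz hs, rfl⟩
      calc x * s = (s * x * s⁻¹) * s := by rw [h1]
        _ = s * x := by group
    have hle : F ≤ centSystem F Q hQS hQc := by
      apply Cfsg.Agent.S5082.result p hS F hF
      intro P hP α hα
      have hPS : P ≤ S := by
        rcases hP with rfl | hP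
        · exact le_rfl
        · exact hP.1.1
      have hQP : Q ≤ P := by
        rcases hP with rfl | hP
        · exact hQS
        · intro x hx
          apply hP.1.2 P (isConj_refl F hPS)
          refine ⟨hQS hx, ?_⟩
          show x ∈ Subgroup.centralizer (P : Set Ω)
          rw [Subgroup.mem_centralizer_iff]
          intro y hy
          exact ((Subgroup.mem_centralizer_iff.mp (hQc (hPS hy))) x hx).symm
      have hαF := (mem_autGroup_iff F hPS α).mp hα
      rw [mem_autGroup_iff _ hPS]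
      have hle' : P ⊔ Q ≤ P := sup_le le_rfl hQP
      refine ⟨hαF, _, restrict_mem F hαF hle', fun x => ?_, ?_⟩
      · show ((α _ : P) : Ω) = ((α x : P) : Ω)
        congr 2
      · intro x
        have hz : Subgroup.zpowers (x : Ω) ≤ P := by rw [Subgroup.zpowers_le]; exact hQP x.2
        exact hsing x x.2 _ ⟨_, restrict_mem F hαF hz, rfl⟩
    refine ⟨hQS, fun P φ hφ => ?_⟩
    exact (hle P hφ).2

end Cfsg.Agent.S5084
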