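import Cfsg.Statements.S5103
import Cfsg.Agent.Lib.Lead.Realized
import Cfsg.Agent.Lib.Lead.Cores

set_option autoImplicit false
open Cfsg Cfsg.FusionSystem Cfsg.Agent.Fus Cfsg.Agent.Cores

namespace Cfsg.Agent.S5103

theorem result {Ω : Type*} [Group Ω] {S : Subgroup Ω} [Finite S] (p : ℕ) [Fact p.Prime] (hS : IsPGroup p S) (F : Cfsg.FusionSystem S) {G : Type*} [Group G] (ι : S →* G) (hG : F.IsModel p G ι) : F.IsConstrained p := by
  obtain ⟨hfin, hι, ⟨T, hT⟩, hcen⟩ := hG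
  set Q := ((pCore p G).comap ι).map S.subtype with hQ
  have hQS : Q ≤ S := by
    rintro _ ⟨s, -, rfl⟩; exact s.2
  have hQmem : ∀ (y : Ω) (hy : y ∈ S), y ∈ Q ↔ ι ⟨y, hy⟩ ∈ pCore p G := by
    intro y hy
    constructor
    · rintro ⟨s, hs, hsy⟩
      have : s = ⟨y, hy⟩ := Subtype.ext hsy
      rw [← this]; exact hs
    · intro h
      exact ⟨⟨y, hy⟩, h, rfl⟩
  have hcore : pCore p G ≤ ι.range := hT ▸ pCore_le_sylow T
  have hnorm := pCore_normal p G
  refine ⟨saturated_of_realized p F ι hι T hT, Q, ?_, ?_⟩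
  · refine ⟨hQS, fun P φ hφ => ?_⟩
    have hPS := (F.le_of_mem hφ).1
    have hval := (F.le_of_mem hφ).2
    obtain ⟨g, hg⟩ := (hι.2 P hPS φ hval).mp hφ
    have hPQ : P ⊔ Q ≤ S := sup_le hPS hQS
    have hrange : ∀ y : ↥(P ⊔ Q), g * ι ⟨y, hPQ y.2⟩ * g⁻¹ ∈ ι.range := by
      have : P ⊔ Q ≤ ((ι.range.comap (MulAut.conj g).toMonoidHom).comap ι).map S.subtype := by
        apply sup_le
        · intro x hx
          refine ⟨⟨x, hPS hx⟩, ?_, rfl⟩
          show g * ι ⟨x, _⟩ * g⁻¹ ∈ ι.range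
          rw [← hg ⟨x, hx⟩]; exact ⟨_, rfl⟩
        · intro x hx
          refine ⟨⟨x, hQS hx⟩, ?_, rfl⟩
          show g * ι ⟨x, _⟩ * g⁻¹ ∈ ι.range
          exact hcore (hnorm.conj_mem _ ((hQmem x _).mp hx) g)
      intro y
      obtain ⟨s, hs, hsy⟩ := this y.2
      have e : s = ⟨y, hPQ y.2⟩ := Subtype.ext hsy
      rw [← e]; exact hs
    obtain ⟨ψ, hψ, hψι⟩ := exists_hom_of_realized F ι hι hPQ g hrange
    have hψS := (F.le_of_mem hψ).2
    refine ⟨ψ, hψ, fun x => ?_, ?_⟩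
    · have h1 := hψι (Subgroup.inclusion le_sup_left x) (hψS _)
      have h2 := hg x
      have h3 : ι ⟨ψ (Subgroup.inclusion le_sup_left x), hψS _⟩ = ι ⟨φ x, hval x⟩ := by
        rw [h1, h2]; rfl
      exact congrArg Subtype.val (hι.1 h3)
    · apply le_antisymm
      · rintro _ ⟨y, hy, rfl⟩
        rw [hQmem _ (hψS y), hψι y]
        exact hnorm.conj_mem _ ((hQmem _ _).mp hy) g
      · intro z hz
        have hz' := (hQmem z (hQS hz)).mp hz
        have h1 : g⁻¹ * ι ⟨z, hQS hz⟩ * g ∈ pCore p G := by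
          have := hnorm.conj_mem _ hz' g⁻¹
          rwa [inv_inv] at this
        obtain ⟨s, hs⟩ := hcore h1
        have hsQ : (s : Ω) ∈ Q := (hQmem _ s.2).mpr (by
          have : (⟨(s : Ω), s.2⟩ : S) = s := rfl
          rw [this, hs]; exact h1)
        refine ⟨⟨s, Subgroup.mem_sup_right hsQ⟩, hsQ, ?_⟩
        have h2 := hψι ⟨s, Subgroup.mem_sup_right hsQ⟩ (hψS _)
        have h3 : ι ⟨ψ ⟨s, Subgroup.mem_sup_right hsQ⟩, hψS _⟩ = ι ⟨z, hQS hz⟩ := by
          rw [h2]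
          have : (⟨((⟨(s : Ω), Subgroup.mem_sup_right hsQ⟩ : ↥(P ⊔ Q)) : Ω), hPQ (Subgroup.mem_sup_right hsQ)⟩ : S) = s := rfl
          rw [this, hs]; group
        exact congrArg Subtype.val (hι.1 h3)
  · refine ⟨hQS, ?_⟩
    rintro Q' ⟨φ, hφ, rfl⟩
    have hval := (F.le_of_mem hφ).2
    obtain ⟨g, hg⟩ := (hι.2 Q hQS φ hval).mp hφ
    have hle : φ.range ≤ Q := by
      rintro _ ⟨x, rfl⟩
      rw [hQmem _ (hval x), hg x]
      exact hnorm.conj_mem _ ((hQmem _ _).mp x.2) g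
    haveI : Finite Q := finite_of_le hQS
    have hcard : Nat.card φ.range = Nat.card Q :=
      (Nat.card_congr (MonoidHom.ofInjective (F.injective_of_mem hφ)).toEquiv).symm
    have heq : φ.range = Q := Subgroup.eq_of_le_of_card_ge hle hcard.ge
    rw [heq]
    rintro c ⟨hcS, hcQ⟩
    rw [hQmem c hcS]
    apply hcen
    rw [Subgroup.mem_centralizer_iff]
    intro z hz
    obtain ⟨s, rfl⟩ := hcore hz
    have hsQ : (s : Ω) ∈ Q := (hQmem _ s.2).mpr hz
    have := (Subgroup.mem_centralizer_iff.mp hcQ) s hsQ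
    rw [← map_mul, ← map_mul]
    congr 1
    exact Subtype.ext this

end Cfsg.Agent.S5103
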