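import Cfsg.Statements.S5198
import Cfsg.Agent.Lib.Lead.ModT
import Cfsg.Agent.Lib.Lead.Hyperfocal
import Cfsg.Agent.Lib.Lead.Stability

set_option autoImplicit false
open Cfsg

namespace Cfsg.Agent.S5198

open Cfsg.Agent.Fus Cfsg.FusionSystem

section
variable {Ω : Type*} [Group Ω]

/-- restriction of an automorphism to an invariant finite subgroup. -/
theorem exists_res {W T : Subgroup Ω} [Finite T] (hTW : T ≤ W) (Θ : MulAut W)
    (h : ∀ w : W, (w : Ω) ∈ T → ((Θ w : W) : Ω) ∈ T) :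
    ∃ β : MulAut T, ∀ t : T, ((β t : T) : Ω) = ((Θ (Subgroup.inclusion hTW t) : W) : Ω) := by
  let f : T →* T :=
    { toFun := fun t => ⟨_, h (Subgroup.inclusion hTW t) t.2⟩
      map_one' := by apply Subtype.ext; simp
      map_mul' := by intro a b; apply Subtype.ext; simp }
  have hinj : Function.Injective f := by
    intro a b hab
    have h1 : ((Θ (Subgroup.inclusion hTW a) : W) : Ω) = ((Θ (Subgroup.inclusion hTW b) : W) : Ω) :=
      congrArg (fun z : T => (z : Ω)) hab
    have h2 := Θ.injective (Subtype.ext h1)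
    exact Subgroup.inclusion_injective hTW h2
  exact ⟨MulEquiv.ofBijective f ⟨hinj, Finite.surjective_of_injective hinj⟩, fun t => rfl⟩

end

/-- Let F be a saturated fusion system over a finite p-group S and T a subgroup of S strongly closed in F (so T is normal in S). Then every element x of the hyperfocal subgroup of F acts on T by conjugation as an element of O^p(Aut_F(T))·Inn(T): there is an automorphism of T in the subgroup generated by the elements of Aut_F(T) of order prime to p together with the inner automorphisms of T that agrees with conjugation by x. -/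
theorem result {Ω : Type*} [Group Ω] {S : Subgroup Ω} [Finite S] (p : ℕ) [Fact p.Prime] (hS : IsPGroup p S) (F : Cfsg.FusionSystem S) (hF : F.IsSaturated p) (T : Subgroup Ω) (hT : F.StronglyClosed T) : ∀ x ∈ F.hyperfocalSubgroup p, ∃ α ∈ ((Cfsg.pResidual p ↥(F.autGroup T)).map (F.autGroup T).subtype ⊔ Cfsg.Inn ↥T : Subgroup (MulAut ↥T)), ∀ t : ↥T, ((α t : ↥T) : Ω) = x * (t : Ω) * x⁻¹ := by
  classical
  have hpp : p.Prime := Fact.out
  have hTS := hT.1
  have hSN := stronglyClosed_le_normalizer F hT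
  have hfinT : Finite T := finite_of_le hTS
  let M : Subgroup Ω :=
    { carrier := {s | ∃ γ ∈ ((Cfsg.pResidual p ↥(F.autGroup T)).map (F.autGroup T).subtype ⊔
        Cfsg.Inn ↥T : Subgroup (MulAut ↥T)), ∀ t : T, ((γ t : T) : Ω) = s * t * s⁻¹}
      one_mem' := ⟨1, Subgroup.one_mem _, fun t => by simp⟩
      mul_mem' := by
        rintro a b ⟨γ₁, h₁, e₁⟩ ⟨γ₂, h₂, e₂⟩
        refine ⟨γ₁ * γ₂, Subgroup.mul_mem _ h₁ h₂, fun t => ?_⟩
        rw [MulAut.mul_apply, e₁, e₂]; group
      inv_mem' := by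
        rintro a ⟨γ, h, e⟩
        refine ⟨γ⁻¹, Subgroup.inv_mem _ h, fun t => ?_⟩
        have h1 := e (γ⁻¹ t)
        rw [MulAut.apply_inv_self] at h1
        rw [h1]; group }
  have hTM : T ≤ M := fun t ht =>
    ⟨MulAut.conj ⟨t, ht⟩, Subgroup.mem_sup_right ⟨_, rfl⟩, fun _ => rfl⟩
  suffices h : F.hyperfocalSubgroup p ≤ M from fun x hx => h hx
  rw [hyperfocalSubgroup, Subgroup.closure_le]
  rintro _ ⟨P, α, x, hP, hα, rfl⟩
  show (x : Ω)⁻¹ * (((α : MulAut P) x : P) : Ω) ∈ M
  revert x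
  induction hα using Subgroup.closure_induction with
  | one => intro x; simp
  | mul a b _ _ iha ihb =>
    intro x
    have e : (x : Ω)⁻¹ * ((((a * b : F.autGroup P) : MulAut P) x : P) : Ω) =
        ((x : Ω)⁻¹ * (((b : MulAut P) x : P) : Ω)) *
          ((((b : MulAut P) x : P) : Ω)⁻¹ * (((a : MulAut P) ((b : MulAut P) x) : P) : Ω)) := by
      rw [mul_assoc, mul_inv_cancel_left]; rfl
    rw [e]
    exact M.mul_mem (ihb x) (iha _)
  | inv a _ iha =>
    intro x
    have h1 := M.inv_mem (iha ((a : MulAut P)⁻¹ x))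
    rw [MulAut.apply_inv_self, mul_inv_rev, inv_inv] at h1
    exact h1
  | mem α hα =>
    intro x
    have hαF := (mem_autGroup_iff F hP _).mp α.2
    obtain ⟨ψ, hψ, hmod⟩ := exists_ext_mod hS F hF hT hαF
    have hWS : P ⊔ T ≤ S := sup_le hP hTS
    have hfinW : Finite ↥(P ⊔ T) := finite_of_le hWS
    have hψW : ∀ w : ↥(P ⊔ T), ψ w ∈ P ⊔ T := by
      apply forall_sup_mem ψ
      · intro y
        have e : ψ (Subgroup.inclusion le_sup_left y) = (((α : MulAut P) y : P) : Ω) *
            ((((α : MulAut P) y : P) : Ω)⁻¹ * ψ (Subgroup.inclusion le_sup_left y)) := by group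
        rw [e]
        exact Subgroup.mul_mem _ (Subgroup.mem_sup_left ((α : MulAut P) y).2)
          (Subgroup.mem_sup_right (hmod y))
      · intro t
        exact Subgroup.mem_sup_right (stronglyClosed_map_mem F hT hψ _ t.2)
    have hinj : Function.Injective (ψ.codRestrict (P ⊔ T) hψW) := by
      intro a b hab
      exact F.injective_of_mem hψ (congrArg Subtype.val hab)
    let Ψ : MulAut ↥(P ⊔ T) := MulEquiv.ofBijective (ψ.codRestrict (P ⊔ T) hψW)
      ⟨hinj, Finite.surjective_of_injective hinj⟩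
    have hΨ : ∀ w, ((Ψ w : ↥(P ⊔ T)) : Ω) = ψ w := fun _ => rfl
    have hΨA : Ψ ∈ F.autGroup (P ⊔ T) := by
      rw [mem_autGroup_iff F hWS]
      exact mem_of_forall_eq F hψ (fun _ => rfl)
    have hΨT : ∀ w : ↥(P ⊔ T), (w : Ω) ∈ T → ((Ψ w : ↥(P ⊔ T)) : Ω) ∈ T := fun w hw =>
      stronglyClosed_map_mem F hT hψ w hw
    have hΨTr : ∀ (r : ℕ) (w : ↥(P ⊔ T)), (w : Ω) ∈ T → (((Ψ ^ r) w : ↥(P ⊔ T)) : Ω) ∈ T := by
      intro r
      induction r with
      | zero => intro w hw; simpa using hw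
      | succ r ih =>
        intro w hw
        rw [pow_succ', MulAut.mul_apply]
        exact hΨT _ (ih w hw)
    have hmodr : ∀ (r : ℕ) (y : P), (((((α : MulAut P) ^ r) y : P) : Ω))⁻¹ *
        (((Ψ ^ r) (Subgroup.inclusion le_sup_left y) : ↥(P ⊔ T)) : Ω) ∈ T := by
      intro r
      induction r with
      | zero => intro y; simp
      | succ r ih =>
        intro y
        rw [pow_succ', pow_succ', MulAut.mul_apply, MulAut.mul_apply]
        have e1 : (Ψ ^ r) (Subgroup.inclusion le_sup_left y) =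
            Subgroup.inclusion le_sup_left (((α : MulAut P) ^ r) y) *
              ((Subgroup.inclusion le_sup_left (((α : MulAut P) ^ r) y))⁻¹ *
                (Ψ ^ r) (Subgroup.inclusion le_sup_left y)) := by group
        rw [e1, map_mul, Subgroup.coe_mul, ← mul_assoc]
        exact T.mul_mem (hmod _) (hΨT _ (ih y))
    -- the exponent
    obtain ⟨a, m, hm, e⟩ := Nat.exists_eq_pow_mul_and_not_dvd (orderOf_pos Ψ).ne' p hpp.ne_one
    have hc : (p ^ a).Coprime (orderOf α) := (Nat.Coprime.pow_right a hα).symm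
    obtain ⟨j, hj⟩ := exists_pow_eq_self_of_coprime hc (x := α)
    have hj' : (α : MulAut P) ^ (p ^ a * j) = α := by
      rw [pow_mul]; exact congrArg Subtype.val hj
    have hΨ'm : (Ψ ^ (p ^ a * j)) ^ m = 1 := by
      rw [← pow_mul, mul_right_comm, ← e, pow_mul, pow_orderOf_eq_one, one_pow]
    have hΨ'A : Ψ ^ (p ^ a * j) ∈ F.autGroup (P ⊔ T) := Subgroup.pow_mem _ hΨA _
    generalize hΨ'def : Ψ ^ (p ^ a * j) = Ψ' at hΨ'm hΨ'A
    have hΨ'T : ∀ w : ↥(P ⊔ T), (w : Ω) ∈ T → ((Ψ' w : ↥(P ⊔ T)) : Ω) ∈ T := by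
      rw [← hΨ'def]; exact hΨTr _
    have hmod' : ∀ y : P, ((((α : MulAut P) y : P) : Ω))⁻¹ *
        ((Ψ' (Subgroup.inclusion le_sup_left y) : ↥(P ⊔ T)) : Ω) ∈ T := by
      intro y
      have := hmodr (p ^ a * j) y
      rwa [hj', hΨ'def] at this
    obtain ⟨β, hβ⟩ := exists_res (le_sup_right : T ≤ P ⊔ T) Ψ' hΨ'T
    have hβA : β ∈ F.autGroup T := by
      rw [mem_autGroup_iff F hTS]
      exact mem_of_forall_eq F (restrict_mem F ((mem_autGroup_iff F hWS _).mp hΨ'A) le_sup_right)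
        (fun t => hβ t)
    have hβr : ∀ (r : ℕ) (t : T), (((β ^ r) t : T) : Ω) =
        (((Ψ' ^ r) (Subgroup.inclusion le_sup_right t) : ↥(P ⊔ T)) : Ω) := by
      intro r
      induction r with
      | zero => intro t; simp
      | succ r ih =>
        intro t
        rw [pow_succ', pow_succ', MulAut.mul_apply, MulAut.mul_apply, hβ]
        congr 2
        exact Subtype.ext (ih t)
    have hβm : β ^ m = 1 := by
      ext t
      rw [hβr, hΨ'm]; rfl
    have hβres : (⟨β, hβA⟩ : F.autGroup T) ∈ Cfsg.pResidual p (F.autGroup T) := by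
      apply mem_pResidual_of_coprime
      rw [Subgroup.orderOf_mk]
      exact Nat.Coprime.coprime_dvd_left (orderOf_dvd_of_pow_eq_one hβm)
        ((Nat.Prime.coprime_iff_not_dvd hpp).mpr hm).symm
    -- conjugation by x
    have hxN : (x : Ω) ∈ Subgroup.normalizer (T : Set Ω) := hSN (hP x.2)
    let c : MulAut T := T.normalizerMonoidHom ⟨x, hxN⟩
    have hc : ∀ t : T, ((c t : T) : Ω) = x * t * (x : Ω)⁻¹ := fun _ => rfl
    have hcinv : ∀ t : T, ((c⁻¹ t : T) : Ω) = (x : Ω)⁻¹ * t * x := by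
      intro t
      have h1 := hc (c⁻¹ t)
      rw [MulAut.apply_inv_self] at h1
      rw [h1]; group
    have hcA : c ∈ F.autGroup T := autInducedBy_le_autGroup F hTS
      ((mem_autInducedBy_iff _ _ _).mpr ⟨x, hP x.2, hc⟩)
    have hnorm := pResidual_normal (G := F.autGroup T) p
    have h1 : (x : Ω)⁻¹ * ((Ψ' (Subgroup.inclusion le_sup_left x) : ↥(P ⊔ T)) : Ω) ∈ M := by
      refine ⟨c⁻¹ * β * c * β⁻¹, Subgroup.mem_sup_left
        ⟨(⟨c, hcA⟩ : F.autGroup T)⁻¹ * ⟨β, hβA⟩ * (⟨c, hcA⟩ : F.autGroup T)⁻¹⁻¹ *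
          (⟨β, hβA⟩ : F.autGroup T)⁻¹,
          Subgroup.mul_mem _ (hnorm.conj_mem _ hβres _) (Subgroup.inv_mem _ hβres), ?_⟩, ?_⟩
      · simp
      · intro t
        rw [MulAut.mul_apply, MulAut.mul_apply, MulAut.mul_apply, hcinv, hβ]
        have e2 : Subgroup.inclusion (le_sup_right : T ≤ P ⊔ T) (c (β⁻¹ t)) =
            Subgroup.inclusion le_sup_left x * Subgroup.inclusion le_sup_right (β⁻¹ t) *
              (Subgroup.inclusion le_sup_left x)⁻¹ := Subtype.ext (hc _)
        rw [e2, map_mul, map_mul, map_inv, Subgroup.coe_mul, Subgroup.coe_mul, Subgroup.coe_inv,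
          ← hβ, MulAut.apply_inv_self]
        group
    have h2 : (((Ψ' (Subgroup.inclusion le_sup_left x) : ↥(P ⊔ T)) : Ω))⁻¹ *
        (((α : MulAut P) x : P) : Ω) ∈ M := by
      have := T.inv_mem (hmod' x)
      rw [mul_inv_rev, inv_inv] at this
      exact hTM this
    have := M.mul_mem h1 h2
    rwa [mul_assoc, mul_inv_cancel_left] at this

end Cfsg.Agent.S5198
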