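import Cfsg.Statements.S5291
import Cfsg.Agent.S5088
import Cfsg.Agent.S5145
import Cfsg.Agent.S5198

set_option autoImplicit false
open Cfsg
open scoped commutatorElement

namespace Cfsg.Agent.S5291

open Cfsg.Agent.Fus Cfsg.FusionSystem

section
variable {Ω : Type*} [Group Ω] {S : Subgroup Ω}

theorem isNormal_sSup [Finite S] (F : FusionSystem S) (𝒮 : Set (Subgroup Ω))
    (h : ∀ Q ∈ 𝒮, F.IsNormal Q) : F.IsNormal (sSup 𝒮) := by
  let A : Set ℕ := {n | ∃ Q, F.IsNormal Q ∧ Q ≤ sSup 𝒮 ∧ Nat.card Q = n}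
  have hne : A.Nonempty := ⟨_, ⊥, Cfsg.Agent.S5145.isNormal_bot F, bot_le, rfl⟩
  have hbdd : BddAbove A := ⟨Nat.card S, by
    rintro _ ⟨Q, hQ, -, rfl⟩; exact card_le_of_le_S hQ.1⟩
  obtain ⟨Q₀, hQ₀, hle, hcard⟩ := Nat.sSup_mem hne hbdd
  have hmax : ∀ Q ∈ 𝒮, Q ≤ Q₀ := by
    intro Q hQ
    have hsup := Cfsg.Agent.S5145.isNormal_sup F (h Q hQ) hQ₀
    have h1 : Nat.card ↥(Q ⊔ Q₀) ≤ Nat.card Q₀ := by
      rw [hcard]; exact le_csSup hbdd ⟨_, hsup, sup_le (le_sSup hQ) hle, rfl⟩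
    have : Finite ↥(Q ⊔ Q₀) := finite_of_le hsup.1
    have h2 : Q₀ = Q ⊔ Q₀ := Subgroup.eq_of_le_of_card_ge le_sup_right h1
    rw [h2]; exact le_sup_left
  have : sSup 𝒮 = Q₀ := le_antisymm (sSup_le hmax) hle
  rw [this]; exact hQ₀

/-- image of a subgroup under an automorphism of `T`, inside the ambient group. -/
def im {T : Subgroup Ω} (α : MulAut T) (X : Subgroup Ω) : Subgroup Ω :=
  (X.subgroupOf T).map (T.subtype.comp α.toMonoidHom)

theorem mem_im {T : Subgroup Ω} (α : MulAut T) (X : Subgroup Ω) (y : Ω) :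
    y ∈ im α X ↔ ∃ x : T, (x : Ω) ∈ X ∧ ((α x : T) : Ω) = y := Iff.rfl

theorem im_le {T : Subgroup Ω} (α : MulAut T) (X : Subgroup Ω) : im α X ≤ T := by
  rintro _ ⟨x, -, rfl⟩; exact (α x).2

theorem im_mono {T : Subgroup Ω} (α : MulAut T) {X Y : Subgroup Ω} (h : X ≤ Y) :
    im α X ≤ im α Y := by
  rintro _ ⟨x, hx, rfl⟩; exact ⟨x, h hx, rfl⟩

theorem im_bot {T : Subgroup Ω} (α : MulAut T) : im α ⊥ = ⊥ := by
  rw [eq_bot_iff]
  rintro _ ⟨x, hx, rfl⟩
  have : x = 1 := Subtype.ext (Subgroup.mem_bot.mp hx)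
  rw [this]; simp

theorem im_commutator_le {T : Subgroup Ω} (α : MulAut T) {X Y Z : Subgroup Ω}
    (h : ⁅X, Y⁆ ≤ Z) : ⁅im α X, im α Y⁆ ≤ im α Z := by
  rw [Subgroup.commutator_le]
  rintro _ ⟨x, hx, rfl⟩ _ ⟨y, hy, rfl⟩
  refine ⟨⁅x, y⁆, h (Subgroup.commutator_mem_commutator hx hy), ?_⟩
  show ((α ⁅x, y⁆ : T) : Ω) = _
  rw [map_commutatorElement]
  rfl

end

/-- Let F be a saturated fusion system over a finite p-group S and E a weakly normal subsystem of F over a subgroup T. Suppose a subgroup R of T is normal in E (E = N_E(R)), and let R* be the subgroup of T generated by the images of R under all maps of F with source R. Then R* is normal in F (F = N_F(R*)). -/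
theorem result {Ω : Type*} [Group Ω] {S : Subgroup Ω} [Finite S] (p : ℕ) [Fact p.Prime] (hS : IsPGroup p S)
    (F : Cfsg.FusionSystem S) (hF : F.IsSaturated p)
    {T : Subgroup Ω} (E : Cfsg.FusionSystem T) (hE : E.IsWeaklyNormalIn F p)
    (R : Subgroup Ω) (hR : E.IsNormal R) :
    F.IsNormal (Subgroup.closure {x : Ω | ∃ φ ∈ F.Hom R, ∃ r : R, x = φ r}) := by
  obtain ⟨hEsat, -, hsub, hTsc, hinv, hfrat⟩ := hE
  have hTS := hTsc.1
  have hfinT : Finite T := finite_of_le hTS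
  have hTp : IsPGroup p T := hS.to_le hTS
  have hRT := hR.1
  -- transport of strongly closed subgroups of `E`
  have im_sc : ∀ α ∈ F.autGroup T, ∀ X : Subgroup Ω, E.StronglyClosed X →
      E.StronglyClosed (im α X) := by
    intro α hα X hX
    refine ⟨im_le α X, fun P hP φ hφ x => ?_⟩
    have hPT : P ≤ T := hP.trans (im_le α X)
    obtain ⟨χ, hχ, hχe⟩ := hinv P hPT φ hφ α⁻¹ (Subgroup.inv_mem _ hα)
    have hle : (P.subgroupOf T).map (T.subtype.comp (α⁻¹).toMonoidHom) ≤ X := by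
      rintro _ ⟨y, hy, rfl⟩
      obtain ⟨z, hz, hzy⟩ := hP hy
      have : α z = y := Subtype.ext hzy
      show ((α⁻¹ y : T) : Ω) ∈ X
      rw [← this, MulAut.inv_apply_self]
      exact hz
    have hφx : φ x ∈ T := (E.le_of_mem hφ).2 x
    have h1 := hχe x hφx ⟨⟨x, hPT x.2⟩, x.2, rfl⟩
    have h2 : χ ⟨((α⁻¹ ⟨x, hPT x.2⟩ : T) : Ω), ⟨⟨x, hPT x.2⟩, x.2, rfl⟩⟩ ∈ X :=
      hX.2 _ hle χ hχ ⟨_, ⟨⟨x, hPT x.2⟩, x.2, rfl⟩⟩
    rw [h1] at h2
    refine ⟨_, h2, ?_⟩
    show ((α (α⁻¹ ⟨φ x, hφx⟩) : T) : Ω) = φ x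
    rw [MulAut.apply_inv_self]
  -- the images of `R` are normal in `E`
  obtain ⟨n, Rs, h0, hlast, hmono, hser⟩ := (Cfsg.Agent.S5088.result p hTp E hEsat R).mp hR
  have im_normal : ∀ α ∈ F.autGroup T, E.IsNormal (im α R) := by
    intro α hα
    rw [Cfsg.Agent.S5088.result p hTp E hEsat]
    refine ⟨n, fun i => im α (Rs i), ?_, ?_, fun i j hij => im_mono α (hmono hij), fun i => ?_⟩
    · show im α (Rs 0) = ⊥
      rw [h0, im_bot]
    · show im α (Rs (Fin.last n)) = _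
      rw [hlast]
    · exact ⟨im_sc α hα _ (hser i).1, im_commutator_le α (hser i).2⟩
  -- description of `R*`
  have hRsc := isNormal_stronglyClosed E hR
  have hstar : Subgroup.closure {x : Ω | ∃ φ ∈ F.Hom R, ∃ r : R, x = φ r} =
      sSup {Q | ∃ α ∈ F.autGroup T, Q = im α R} := by
    apply le_antisymm
    · rw [Subgroup.closure_le]
      rintro _ ⟨φ, hφ, r, rfl⟩
      obtain ⟨α, hα, φ₀, hφ₀, h⟩ := hfrat R hRT φ hφ
      have h1 : φ₀ r ∈ R := hRsc.2 R le_rfl φ₀ hφ₀ r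
      have h2 : im α R ≤ sSup {Q | ∃ α ∈ F.autGroup T, Q = im α R} := le_sSup ⟨α, hα, rfl⟩
      apply h2
      rw [h r (hRT h1)]
      exact ⟨_, h1, rfl⟩
    · apply sSup_le
      rintro _ ⟨α, hα, rfl⟩
      rintro _ ⟨x, hx, rfl⟩
      apply Subgroup.subset_closure
      exact ⟨_, restrict_mem F ((mem_autGroup_iff F hTS α).mp hα) hRT, ⟨x, hx⟩, rfl⟩
  rw [hstar]
  generalize hRs : sSup {Q | ∃ α ∈ F.autGroup T, Q = im α R} = Rst
  have hRstE : E.IsNormal Rst := by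
    rw [← hRs]
    apply isNormal_sSup E
    rintro _ ⟨α, hα, rfl⟩
    exact im_normal α hα
  have hRstT := hRstE.1
  have hRstinv : ∀ α ∈ F.autGroup T, ∀ x : T, (x : Ω) ∈ Rst → ((α x : T) : Ω) ∈ Rst := by
    intro α hα x hx
    have hle : Rst ≤ ((Rst.subgroupOf T).comap α.toMonoidHom).map T.subtype := by
      conv_lhs => rw [← hRs]
      apply sSup_le
      rintro _ ⟨β, hβ, rfl⟩
      rintro _ ⟨y, hy, rfl⟩
      refine ⟨β y, ?_, rfl⟩
      show ((α (β y) : T) : Ω) ∈ Rst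
      rw [← hRs]
      have h2 : im (α * β) R ≤ sSup {Q | ∃ α ∈ F.autGroup T, Q = im α R} :=
        le_sSup ⟨α * β, Subgroup.mul_mem _ hα hβ, rfl⟩
      exact h2 ⟨y, hy, rfl⟩
    obtain ⟨y, hy, hyx⟩ := hle hx
    have : y = x := Subtype.ext hyx
    rw [← this]; exact hy
  -- the upper central series of `R*`
  have hfinR : Finite Rst := finite_of_le (hRstT.trans hTS)
  have hnil : Group.IsNilpotent Rst := (hS.to_le (hRstT.trans hTS)).isNilpotent
  obtain ⟨m, hm⟩ := hnil.nilpotent'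
  rw [Cfsg.Agent.S5088.result p hS F hF]
  refine ⟨m, fun i => (Subgroup.upperCentralSeries Rst i).map Rst.subtype, ?_, ?_, ?_, ?_⟩
  · simp
  · simp only [Fin.val_last, hm]
    rw [← MonoidHom.range_eq_map, Subgroup.range_subtype]
  · intro i j hij
    exact Subgroup.map_mono (Subgroup.upperCentralSeries_mono Rst hij)
  · intro i
    constructor
    · have hEsc : E.StronglyClosed
          ((Subgroup.upperCentralSeries Rst (i.succ : Fin (m+1))).map Rst.subtype) := by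
        apply isNormal_stronglyClosed E
        apply Cfsg.Agent.S5085.result E Rst _ hRstE (Subgroup.map_subtype_le _)
        have e : ((Subgroup.upperCentralSeries Rst (i.succ : Fin (m+1))).map Rst.subtype).subgroupOf Rst
            = Subgroup.upperCentralSeries Rst (i.succ : Fin (m+1)) :=
          Subgroup.comap_map_eq_self_of_injective Rst.subtype_injective _
        rw [e]; infer_instance
      refine ⟨hEsc.1.trans hTS, fun P hP φ hφ x => ?_⟩
      obtain ⟨α, hα, φ₀, hφ₀, h⟩ := hfrat P (hP.trans hEsc.1) φ hφ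
      have h1 := hEsc.2 P hP φ₀ hφ₀ x
      rw [h x (hEsc.1 h1)]
      obtain ⟨ρ, hρ⟩ := Cfsg.Agent.S5198.exists_res hRstT α (hRstinv α hα)
      obtain ⟨z, hz, hzx⟩ := h1
      have hchar : (Subgroup.upperCentralSeries Rst (i.succ : Fin (m+1))).Characteristic :=
        inferInstance
      have h2 : ρ z ∈ Subgroup.upperCentralSeries Rst (i.succ : Fin (m+1)) :=
        (Subgroup.characteristic_iff_map_le.mp hchar ρ) ⟨z, hz, rfl⟩
      refine ⟨ρ z, h2, ?_⟩
      show ((ρ z : Rst) : Ω) = _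
      rw [hρ]
      congr 2
      exact Subtype.ext hzx
    · rw [Subgroup.commutator_comm, Subgroup.commutator_le]
      rintro _ ⟨z, hz, rfl⟩ q hq
      have hz' : z ∈ Subgroup.upperCentralSeries Rst ((i : ℕ) + 1) := by simpa using hz
      have h1 := Subgroup.mem_upperCentralSeries_succ_iff.mp hz' ⟨q, hq⟩
      exact ⟨_, by simpa using h1, rfl⟩

end Cfsg.Agent.S5291
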