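import Cfsg.Statements.S5159
import Cfsg.Agent.Lib.Lead.Solvable
import Cfsg.Agent.S5291
import Cfsg.Agent.S5236
import Cfsg.Agent.S5085

set_option autoImplicit false
open Cfsg
open scoped commutatorElement

namespace Cfsg.Agent.S5159

open Cfsg.Agent.Fus Cfsg.FusionSystem Cfsg.Agent.S5291

section
variable {Ω : Type*} [Group Ω] {S T : Subgroup Ω}

theorem im_sc {F : FusionSystem S} {E : FusionSystem T} (hinv : E.IsInvariantIn F)
    {α : MulAut T} (hα : α ∈ F.autGroup T) {X : Subgroup Ω} (hX : E.StronglyClosed X) :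
    E.StronglyClosed (im α X) := by
  obtain ⟨-, -, hinv, -⟩ := hinv
  refine ⟨im_le α X, fun P hP φ hφ x => ?_⟩
  have hPT : P ≤ T := hP.trans (im_le α X)
  obtain ⟨χ, hχ, hχe⟩ := hinv P hPT φ hφ α⁻¹ (Subgroup.inv_mem _ hα)
  have hle : (P.subgroupOf T).map (T.subtype.comp (α⁻¹).toMonoidHom) ≤ X := by
    rintro _ ⟨y, hy, rfl⟩
    obtain ⟨z, hz, hzy⟩ := hP hy
    have : α z = y := Subtype.ext hzy
    show ((α⁻¹ y : T) : Ω) ∈ X
    rw [← this, MulAut.inv_apply_self]
    exact hz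
  have hφx : φ x ∈ T := (E.le_of_mem hφ).2 x
  have h1 := hχe x hφx ⟨⟨x, hPT x.2⟩, x.2, rfl⟩
  have h2 : χ ⟨((α⁻¹ ⟨x, hPT x.2⟩ : T) : Ω), ⟨⟨x, hPT x.2⟩, x.2, rfl⟩⟩ ∈ X :=
    hX.2 _ hle χ hχ ⟨_, ⟨⟨x, hPT x.2⟩, x.2, rfl⟩⟩
  rw [h1] at h2
  refine ⟨_, h2, ?_⟩
  show ((α (α⁻¹ ⟨φ x, hφx⟩) : T) : Ω) = φ x
  rw [MulAut.apply_inv_self]

theorem sc_of_invariant {F : FusionSystem S} {E : FusionSystem T} (hinv : E.IsInvariantIn F)
    {X : Subgroup Ω} (hX : E.StronglyClosed X)
    (hA : ∀ α ∈ F.autGroup T, ∀ x : T, (x : Ω) ∈ X → ((α x : T) : Ω) ∈ X) :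
    F.StronglyClosed X := by
  obtain ⟨-, hT, -, hfrat⟩ := hinv
  refine ⟨hX.1.trans hT.1, fun P hP φ hφ x => ?_⟩
  obtain ⟨α, hα, φ₀, hφ₀, h⟩ := hfrat P (hP.trans hX.1) φ hφ
  have h1 := hX.2 P hP φ₀ hφ₀ x
  rw [h x (hX.1 h1)]
  exact hA α hα _ h1

theorem sc_inf_of_subsystem {F : FusionSystem S} {E : FusionSystem T} (hsub : E.IsSubsystemOf F)
    {X : Subgroup Ω} (hX : F.StronglyClosed X) : E.StronglyClosed (X ⊓ T) :=
  ⟨inf_le_right, fun P hP φ hφ x =>
    ⟨hX.2 P (hP.trans inf_le_left) φ (hsub P hφ) x, (E.le_of_mem hφ).2 x⟩⟩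

theorem comm_self_le (X : Subgroup Ω) : ⁅X, X⁆ ≤ X := by
  rw [Subgroup.commutator_le]
  intro a ha b hb
  rw [commutatorElement_def]
  exact X.mul_mem (X.mul_mem (X.mul_mem ha hb) (X.inv_mem ha)) (X.inv_mem hb)

theorem aut_mem_of_sc {F : FusionSystem S} {X : Subgroup Ω} (hTS : T ≤ S)
    (hX : F.StronglyClosed X) {α : MulAut T} (hα : α ∈ F.autGroup T) (x : T) (hx : (x : Ω) ∈ X) :
    ((α x : T) : Ω) ∈ X := stronglyClosed_aut_mem F hX hTS hα x hx

/-- the key step: above an `F`-strongly closed proper subgroup `R₀` of `T` there is an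
`F`-strongly closed subgroup of `T` with abelian quotient, provided `E` has such a step. -/
theorem exists_step_in [Finite S] {p : ℕ} [Fact p.Prime] (hS : IsPGroup p S)
    {F : FusionSystem S} {E : FusionSystem T} (hE : E.IsWeaklyNormalIn F p)
    {R₀ : Subgroup Ω} (hR₀ : F.StronglyClosed R₀) (hR₀T : R₀ ≤ T) {U : Subgroup Ω}
    (hU : E.StronglyClosed U) (hlt : R₀ < U) (hUU : ⁅U, U⁆ ≤ R₀) :
    ∃ W₁ : Subgroup Ω, F.StronglyClosed W₁ ∧ W₁ ≤ T ∧ R₀ < W₁ ∧ ⁅W₁, W₁⁆ ≤ R₀ := by
  obtain ⟨hEsat, -, hinv⟩ := hE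
  have hsub := hinv.1
  have hTsc := hinv.2.1
  have hTS := hTsc.1
  have hfinT : Finite T := finite_of_le hTS
  have hTp : IsPGroup p T := hS.to_le hTS
  have hR₀E : E.StronglyClosed R₀ := by
    have := sc_inf_of_subsystem hsub hR₀
    rwa [inf_eq_left.mpr hR₀T] at this
  have hn := stronglyClosed_normal E hR₀E
  obtain ⟨Eb, hEb⟩ := Cfsg.Agent.S5132.result p hTp E R₀ hR₀E
  generalize QuotientGroup.mk' (R₀.subgroupOf T) = θ at hEb
  have hmor := Cfsg.Agent.S5134.result p hTp E hEsat R₀ hR₀E θ Eb hEb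
  have hEbsat := Cfsg.Agent.S5133.result p hTp E hEsat Eb θ hmor
  have hker := hEb.2.1
  have hrange := hEb.2.2.1
  have hfin' : Finite (⊤ : Subgroup (T ⧸ R₀.subgroupOf T)) := inferInstance
  have hp' : IsPGroup p (⊤ : Subgroup (T ⧸ R₀.subgroupOf T)) := by
    rw [← hrange]
    exact hTp.of_surjective θ.rangeRestrict θ.rangeRestrict_surjective
  -- the translates of `U`
  have hUα : ∀ α ∈ F.autGroup T, E.StronglyClosed (im α U) ∧ R₀ ≤ im α U ∧
      ⁅im α U, im α U⁆ ≤ R₀ := by
    intro α hα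
    refine ⟨im_sc hinv hα hU, ?_, ?_⟩
    · intro x hx
      refine ⟨α⁻¹ ⟨x, hR₀T hx⟩, hlt.le (aut_mem_of_sc hTS hR₀ (Subgroup.inv_mem _ hα) _ hx), ?_⟩
      show ((α (α⁻¹ ⟨x, hR₀T hx⟩) : T) : Ω) = x
      rw [MulAut.apply_inv_self]
    · refine (im_commutator_le α hUU).trans ?_
      rintro _ ⟨x, hx, rfl⟩
      exact aut_mem_of_sc hTS hR₀ hα x hx
  have hnormal : ∀ α ∈ F.autGroup T, Eb.IsNormal (imageAlong θ (im α U)) := by
    intro α hα
    obtain ⟨h1, h2, h3⟩ := hUα α hα
    apply Cfsg.Agent.S5089.isNormal_of_abelian_stronglyClosed p hp' Eb hEbsat _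
      (image_stronglyClosed hEb h1 h2)
    refine ⟨⟨?_⟩⟩
    rintro ⟨_, a, ha, rfl⟩ ⟨_, b, hb, rfl⟩
    apply Subtype.ext
    show θ a * θ b = θ b * θ a
    rw [← commutatorElement_eq_one_iff_mul_comm, ← map_commutatorElement]
    exact (hker _).mpr (h3 (Subgroup.commutator_mem_commutator ha hb))
  -- `W` and its image
  generalize hWdef : sSup {Q | ∃ α ∈ F.autGroup T, Q = im α U} = W
  have hWT : W ≤ T := by
    rw [← hWdef]
    apply sSup_le
    rintro _ ⟨α, -, rfl⟩
    exact im_le α U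
  have hUW : ∀ α ∈ F.autGroup T, im α U ≤ W := by
    intro α hα
    rw [← hWdef]
    exact le_sSup ⟨α, hα, rfl⟩
  have hWinv : ∀ α ∈ F.autGroup T, ∀ x : T, (x : Ω) ∈ W → ((α x : T) : Ω) ∈ W := by
    intro α hα x hx
    have hle : W ≤ ((W.subgroupOf T).comap α.toMonoidHom).map T.subtype := by
      conv_lhs => rw [← hWdef]
      apply sSup_le
      rintro _ ⟨β, hβ, rfl⟩
      rintro _ ⟨y, hy, rfl⟩
      refine ⟨β y, ?_, rfl⟩
      show ((α (β y) : T) : Ω) ∈ W
      exact hUW (α * β) (Subgroup.mul_mem _ hα hβ) ⟨y, hy, rfl⟩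
    obtain ⟨y, hy, hyx⟩ := hle hx
    have : y = x := Subtype.ext hyx
    rw [← this]; exact hy
  have hWb : Eb.IsNormal (imageAlong θ W) := by
    have h1 : Eb.IsNormal (sSup {Q | ∃ α ∈ F.autGroup T, Q = imageAlong θ (im α U)}) := by
      apply isNormal_sSup Eb
      rintro _ ⟨α, hα, rfl⟩
      exact hnormal α hα
    have h2 : imageAlong θ W = sSup {Q | ∃ α ∈ F.autGroup T, Q = imageAlong θ (im α U)} := by
      apply le_antisymm
      · have h3 : W ≤ preimageAlong θ
            (sSup {Q | ∃ α ∈ F.autGroup T, Q = imageAlong θ (im α U)}) := by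
          rw [← hWdef]
          apply sSup_le
          rintro _ ⟨α, hα, rfl⟩
          intro x hx
          have hxT : x ∈ T := im_le α U hx
          refine mem_preimageAlong_of_map_mem θ _ ⟨x, hxT⟩ ?_
          have h4 : imageAlong θ (im α U) ≤
              sSup {Q | ∃ α ∈ F.autGroup T, Q = imageAlong θ (im α U)} := le_sSup ⟨α, hα, rfl⟩
          exact h4 ⟨⟨x, hxT⟩, hx, rfl⟩
        rintro _ ⟨x, hx, rfl⟩
        exact map_mem_of_mem_preimageAlong θ _ (h3 hx) x.2
      · apply sSup_le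
        rintro _ ⟨α, hα, rfl⟩
        rintro _ ⟨x, hx, rfl⟩
        exact ⟨x, hUW α hα hx, rfl⟩
    rw [h2]; exact h1
  -- the centre of the image
  have hZb : Eb.IsNormal ((Subgroup.center (imageAlong θ W)).map (imageAlong θ W).subtype) := by
    apply Cfsg.Agent.S5085.result Eb _ _ hWb (Subgroup.map_subtype_le _)
    have e : ((Subgroup.center (imageAlong θ W)).map (imageAlong θ W).subtype).subgroupOf
        (imageAlong θ W) = Subgroup.center (imageAlong θ W) :=
      Subgroup.comap_map_eq_self_of_injective (Subgroup.subtype_injective _) _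
    rw [e]; infer_instance
  have hW₁E := preimage_stronglyClosed hmor.1 (isNormal_stronglyClosed Eb hZb)
  have hmemW₁ : ∀ x : T, (x : Ω) ∈ preimageAlong θ
      ((Subgroup.center (imageAlong θ W)).map (imageAlong θ W).subtype) ↔
      (x : Ω) ∈ W ∧ ∀ w : T, (w : Ω) ∈ W → ((⁅x, w⁆ : T) : Ω) ∈ R₀ := by
    intro x
    have hR₀W : R₀ ≤ W := (hUα 1 (Subgroup.one_mem _)).2.1.trans (hUW 1 (Subgroup.one_mem _))
    constructor
    · intro hx
      obtain ⟨⟨z, hz⟩, hzc, hzx⟩ := map_mem_of_mem_preimageAlong θ _ hx x.2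
      have hzx' : z = θ x := hzx
      subst hzx'
      have hxW : (x : Ω) ∈ W := by
        have h1 : (x : Ω) ∈ preimageAlong θ (imageAlong θ W) :=
          mem_preimageAlong_of_map_mem θ _ x hz
        rw [preimageAlong_imageAlong θ hR₀T hker hWT, sup_eq_left.mpr hR₀W] at h1
        exact h1
      refine ⟨hxW, fun w hw => ?_⟩
      rw [← hker, map_commutatorElement, commutatorElement_eq_one_iff_mul_comm]
      have h2 := Subgroup.mem_center_iff.mp hzc ⟨θ w, ⟨w, hw, rfl⟩⟩
      exact (congrArg Subtype.val h2).symm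
    · rintro ⟨hxW, hc⟩
      refine mem_preimageAlong_of_map_mem θ _ x ⟨⟨θ x, ⟨x, hxW, rfl⟩⟩, ?_, rfl⟩
      show _ ∈ Subgroup.center _
      rw [Subgroup.mem_center_iff]
      rintro ⟨_, w, hw, rfl⟩
      apply Subtype.ext
      show θ w * θ x = θ x * θ w
      have h1 := (hker _).mpr (hc w hw)
      rw [map_commutatorElement, commutatorElement_eq_one_iff_mul_comm] at h1
      exact h1.symm
  refine ⟨_, sc_of_invariant hinv hW₁E ?_, hW₁E.1, ?_, ?_⟩
  · intro α hα x hx
    rw [hmemW₁] at hx ⊢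
    refine ⟨hWinv α hα x hx.1, fun w hw => ?_⟩
    have h1 := hx.2 (α⁻¹ w) (hWinv α⁻¹ (Subgroup.inv_mem _ hα) w hw)
    have h2 := aut_mem_of_sc hTS hR₀ hα _ h1
    rwa [map_commutatorElement, MulAut.apply_inv_self] at h2
  · have hle : R₀ ≤ preimageAlong θ
        ((Subgroup.center (imageAlong θ W)).map (imageAlong θ W).subtype) := by
      intro r hr
      refine mem_preimageAlong_of_map_mem θ _ ⟨r, hR₀T hr⟩ ?_
      rw [(hker _).mpr hr]; exact Subgroup.one_mem _
    refine lt_of_le_of_ne hle ?_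
    intro heq
    -- the image of W is nontrivial, so its centre is nontrivial
    have hnt : Nontrivial (imageAlong θ W) := by
      rw [Subgroup.nontrivial_iff_ne_bot]
      intro hbot
      apply hlt.not_ge
      intro x hx
      have hxT : x ∈ T := hU.1 hx
      have hxW : x ∈ W := hUW 1 (Subgroup.one_mem _) ⟨⟨x, hxT⟩, hx, rfl⟩
      have h1 : θ ⟨x, hxT⟩ ∈ imageAlong θ W := ⟨_, hxW, rfl⟩
      rw [hbot] at h1
      exact (hker _).mp h1
    have hfinW : Finite (imageAlong θ W) := inferInstance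
    have hpW : IsPGroup p (imageAlong θ W) := hp'.to_le le_top
    have hcnt := hpW.center_nontrivial
    obtain ⟨⟨⟨z, hzW⟩, hz⟩, hz1⟩ := exists_ne (1 : Subgroup.center (imageAlong θ W))
    obtain ⟨x, hx, hxz⟩ := hzW
    subst hxz
    have h1 : (x : Ω) ∈ preimageAlong θ
        ((Subgroup.center (imageAlong θ W)).map (imageAlong θ W).subtype) :=
      mem_preimageAlong_of_map_mem θ _ x ⟨⟨θ x, ⟨x, hx, rfl⟩⟩, hz, rfl⟩
    rw [← heq] at h1
    apply hz1
    apply Subtype.ext
    apply Subtype.ext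
    exact (hker x).mpr h1
  · rw [Subgroup.commutator_le]
    intro a ha b hb
    have haT := hW₁E.1 ha
    have hbT := hW₁E.1 hb
    have h1 := ((hmemW₁ ⟨a, haT⟩).mp ha).2 ⟨b, hbT⟩ ((hmemW₁ ⟨b, hbT⟩).mp hb).1
    exact h1

end

/-- Let F be a saturated fusion system over a finite p-group S, E a normal subsystem over T, and D the factor system of F modulo T (read through any homomorphism on S with kernel T). Then F is solvable if and only if E and D are solvable (solvable, for a system over a subgroup S: for every subgroup R other than S that is strongly closed in F, the factor system of F modulo R has a nontrivial subgroup normal in it). -/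
theorem result {Ω : Type*} [Group Ω] {S : Subgroup Ω} [Finite S] (p : ℕ) [Fact p.Prime] (hS : IsPGroup p S) (F : Cfsg.FusionSystem S) (hF : F.IsSaturated p) {T : Subgroup Ω} (E : Cfsg.FusionSystem T) (hE : E.IsNormalIn F p) {Ω' : Type*} [Group Ω'] {S' : Subgroup Ω'} (θ : S →* Ω') (D : Cfsg.FusionSystem S') (hD : F.IsFactorSystem T θ D) : F.IsSolvableSystem ↔ (E.IsSolvableSystem ∧ D.IsSolvableSystem) := by
  have hEw := hE.1
  obtain ⟨hEsat, -, hinv⟩ := hEw
  have hsub := hinv.1
  have hTsc := hinv.2.1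
  have hTS := hTsc.1
  have hfinT : Finite T := finite_of_le hTS
  have hTp : IsPGroup p T := hS.to_le hTS
  have hmor := Cfsg.Agent.S5134.result p hS F hF T hTsc θ D hD
  have hDsat := Cfsg.Agent.S5133.result p hS F hF D θ hmor
  have hker := hD.2.1
  have hrange := hD.2.2.1
  have hfin' : Finite S' := by
    rw [← hrange]
    exact Set.finite_range θ
  have hS' : IsPGroup p S' := by
    rw [← hrange]
    exact hS.of_surjective θ.rangeRestrict θ.rangeRestrict_surjective
  constructor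
  · intro h
    obtain ⟨n, C, h0, hlast, hmono, hsc, hcomm⟩ := (isSolvableSystem_iff_hasChain hS F hF).mp h
    constructor
    · rw [isSolvableSystem_iff_hasChain hTp E hEsat]
      refine ⟨n, fun i => C i ⊓ T, ?_, ?_, fun i j hij => inf_le_inf_right _ (hmono hij),
        fun i => sc_inf_of_subsystem hsub (hsc i), fun i => ?_⟩
      · show C 0 ⊓ T = ⊥
        rw [h0]; simp
      · show C (Fin.last n) ⊓ T = T
        rw [hlast]; exact inf_eq_right.mpr hTS
      · exact le_inf ((Subgroup.commutator_mono inf_le_left inf_le_left).trans (hcomm i))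
          ((Subgroup.commutator_mono inf_le_right inf_le_right).trans (comm_self_le T))
    · rw [isSolvableSystem_iff_hasChain hS' D hDsat]
      have hscT : ∀ i, F.StronglyClosed (C i ⊔ T) := fun i =>
        Cfsg.Agent.S5128.result p hS F hF _ _ (hsc i) hTsc
      refine ⟨n, fun i => imageAlong θ (C i ⊔ T), ?_, ?_, ?_,
        fun i => image_stronglyClosed hD (hscT i) le_sup_right, fun i => ?_⟩
      · show imageAlong θ (C 0 ⊔ T) = ⊥
        rw [imageAlong_sup_ker θ hTS hker (hsc 0).1, h0, eq_bot_iff]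
        rintro _ ⟨x, hx, rfl⟩
        have : x = 1 := Subtype.ext (Subgroup.mem_bot.mp hx)
        rw [this, map_one]; exact Subgroup.one_mem _
      · show imageAlong θ (C (Fin.last n) ⊔ T) = S'
        rw [imageAlong_sup_ker θ hTS hker (hsc _).1, hlast, ← hrange]
        ext z
        constructor
        · rintro ⟨x, -, rfl⟩; exact ⟨x, rfl⟩
        · rintro ⟨x, rfl⟩; exact ⟨x, x.2, rfl⟩
      · intro i j hij
        rintro _ ⟨x, hx, rfl⟩
        exact ⟨x, sup_le_sup_right (hmono hij) T hx, rfl⟩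
      · have h1 : ⁅C i.succ ⊔ (C i.castSucc ⊔ T), C i.succ ⊔ (C i.castSucc ⊔ T)⁆ ≤
            C i.castSucc ⊔ T :=
          commutator_sup_le (stronglyClosed_le_normalizer F (hscT _)) (hsc _).1 (hscT _).1
            ((hcomm i).trans le_sup_left)
        have h2 : C i.succ ⊔ (C i.castSucc ⊔ T) = C i.succ ⊔ T := by
          rw [← sup_assoc, sup_eq_left.mpr (hmono (Fin.castSucc_le_succ i))]
        rw [h2] at h1
        rw [Subgroup.commutator_le]
        rintro _ ⟨a, ha, rfl⟩ _ ⟨b, hb, rfl⟩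
        rw [← map_commutatorElement]
        have ha' : (a : Ω) ∈ C i.succ ⊔ T := ha
        have hb' : (b : Ω) ∈ C i.succ ⊔ T := hb
        exact ⟨_, h1 (Subgroup.commutator_mem_commutator ha' hb'), rfl⟩
  · rintro ⟨hEs, hDs⟩
    rw [isSolvableSystem_iff_hasSteps hS F hF]
    have hEsteps := (isSolvableSystem_iff_hasSteps hTp E hEsat).mp hEs
    have hDsteps := (isSolvableSystem_iff_hasSteps hS' D hDsat).mp hDs
    intro R hR hne
    by_cases hTR : T ≤ R
    · have hpre : preimageAlong θ (imageAlong θ R) = R := by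
        rw [preimageAlong_imageAlong θ hTS hker hR.1, sup_eq_left.mpr hTR]
      have hRb := image_stronglyClosed hD hR hTR
      have hRbne : imageAlong θ R ≠ S' := by
        intro heq
        apply hne
        apply le_antisymm hR.1
        intro s hs
        rw [← hpre, heq]
        exact mem_preimageAlong_of_map_mem θ _ ⟨s, hs⟩ (hrange.le ⟨_, rfl⟩)
      obtain ⟨Rb', hRb', hlt, hc⟩ := hDsteps _ hRb hRbne
      refine ⟨preimageAlong θ Rb', preimage_stronglyClosed hmor.1 hRb', ?_, ?_⟩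
      · have hle : R ≤ preimageAlong θ Rb' := by
          conv_lhs => rw [← hpre]
          exact preimageAlong_mono θ hlt.le
        refine lt_of_le_of_ne hle ?_
        intro heq
        apply hlt.ne
        rw [heq, imageAlong_preimageAlong θ (hRb'.1.trans hrange.ge)]
      · rw [Subgroup.commutator_le]
        rintro _ ⟨a, ha, rfl⟩ _ ⟨b, hb, rfl⟩
        rw [← hpre]
        refine mem_preimageAlong_of_map_mem θ _ ⁅a, b⁆ ?_
        rw [map_commutatorElement]
        exact hc (Subgroup.commutator_mem_commutator ha hb)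
    · have hR₀ : F.StronglyClosed (R ⊓ T) := Cfsg.Agent.S5236.stronglyClosed_inf F hR hTsc
      have hR₀E := sc_inf_of_subsystem hsub hR
      have hR₀ne : R ⊓ T ≠ T := fun h => hTR (inf_eq_right.mp h)
      obtain ⟨U, hU, hlt, hUU⟩ := hEsteps _ hR₀E hR₀ne
      obtain ⟨W₁, hW₁, hW₁T, hlt₁, hc₁⟩ := exists_step_in hS hE.1 hR₀ inf_le_right hU hlt hUU
      refine ⟨W₁ ⊔ R, Cfsg.Agent.S5128.result p hS F hF _ _ hW₁ hR, ?_, ?_⟩
      · refine lt_of_le_of_ne le_sup_right ?_
        intro heq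
        apply hlt₁.not_ge
        have : W₁ ≤ R := by rw [heq]; exact le_sup_left
        exact le_inf this hW₁T
      · exact commutator_sup_le (stronglyClosed_le_normalizer F hR) hW₁.1 hR.1
          (hc₁.trans inf_le_left)

end Cfsg.Agent.S5159
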