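import Cfsg.Statements.S5342
import Cfsg.Agent.S5236
import Cfsg.Agent.S5088
import Cfsg.Agent.S5145
import Cfsg.Agent.S5159
import Cfsg.Agent.S5226
import Cfsg.Agent.Lib.Lead.Solvable
import Cfsg.Agent.Lib.Lead.Centric

set_option autoImplicit false
open Cfsg
open scoped commutatorElement

namespace Cfsg.Agent.S5342

open Cfsg.Agent.Fus Cfsg.FusionSystem

variable {Ω : Type*} [Group Ω] {S : Subgroup Ω}

/-- a strongly closed subgroup of a subgroup normal in the system is normal in the system. -/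
theorem isNormal_of_sc_le [Finite S] (F : FusionSystem S) {Q A : Subgroup Ω} (hQ : F.IsNormal Q)
    (hA : F.StronglyClosed A) (hAQ : A ≤ Q) : F.IsNormal A := by
  refine ⟨hA.1, fun P φ hφ => ?_⟩
  obtain ⟨ψ, hψ, hext, -⟩ := hQ.2 P φ hφ
  have hle : P ⊔ A ≤ P ⊔ Q := sup_le_sup_left hAQ P
  refine ⟨_, restrict_mem F hψ hle, fun x => hext x, ?_⟩
  rw [map_subgroupOf_eq_iff _ le_sup_right]
  have h1 := restrict_mem F (restrict_mem F hψ hle) (le_sup_right : A ≤ P ⊔ A)
  exact (Cfsg.Agent.S5226.weaklyClosed_of_stronglyClosed F hA).2 _ h1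

/-- a strongly closed subgroup stabilizing a chain `1 ≤ A ≤ Q` with `Q` normal and centric is normal
in the system. -/
theorem isNormal_of_chain [Finite S] {p : ℕ} [Fact p.Prime] (hS : IsPGroup p S)
    (F : FusionSystem S) (hF : F.IsSaturated p) {Q A X : Subgroup Ω} (hQ : F.IsNormal Q)
    (hQc : F.IsCentric Q) (hA : F.StronglyClosed A) (hX : F.StronglyClosed X)
    (h1 : ⁅Q, X⁆ ≤ A) (h2 : X ≤ Subgroup.centralizer (A : Set Ω)) : F.IsNormal X := by
  rw [Cfsg.Agent.S5086.result p hS F hF]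
  refine ⟨hX, fun R hc hr => ?_⟩
  have hRS := hc.1
  have hXS := hX.1
  have hQsc := isNormal_stronglyClosed F hQ
  have hQN := stronglyClosed_le_normalizer F hQsc
  have hQR : Q ≤ R := le_of_isNormal_of_centric_radical hS F hQ hc hr
  have : Finite R := finite_of_le hRS
  have hRp : IsPGroup p R := hS.to_le hRS
  apply Cfsg.Agent.S5236.le_of_normalizer_mem hS F hX hRS
  intro y hyX hyN
  let β : MulAut R := R.normalizerMonoidHom ⟨y, hyN⟩
  have hβy : ∀ x : R, ((β x : R) : Ω) = y * x * y⁻¹ := fun x => rfl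
  have hβA : β ∈ F.autGroup R := autInducedBy_le_autGroup F hRS
    ((mem_autInducedBy_iff _ _ _).mpr ⟨y, hXS hyX, hβy⟩)
  let K : MulAut R → Prop := fun γ =>
    (∀ x : R, (x : Ω) ∈ Q → ((x⁻¹ * γ x : R) : Ω) ∈ A) ∧ (∀ x : R, (x : Ω) ∈ A → γ x = x)
  have hKβ : K β := by
    refine ⟨fun x hx => ?_, fun x hx => ?_⟩
    · rw [Subgroup.coe_mul, hβy, Subgroup.coe_inv]
      apply h1
      have h3 := Subgroup.commutator_mem_commutator (Q.inv_mem hx) hyX
      have e : (x : Ω)⁻¹ * (y * x * y⁻¹) = ⁅(x : Ω)⁻¹, y⁆ := by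
        rw [commutatorElement_def]; group
      rw [e]; exact h3
    · apply Subtype.ext
      rw [hβy]
      have h3 := (Subgroup.mem_centralizer_iff.mp (h2 hyX)) x hx
      rw [← h3]; group
  have hcore := Cfsg.Agent.S5236.mem_pCore_of_pred p (F.autGroup R) K
    ⟨fun x _ => by simp, fun x _ => rfl⟩
    (by
      intro a b ha hb
      refine ⟨fun x hx => ?_, fun x hx => ?_⟩
      · have e : x⁻¹ * (a * b) x = (x⁻¹ * a x) * a (x⁻¹ * b x) := by
          rw [MulAut.mul_apply, map_mul, map_inv]; group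
        rw [e, ha.2 _ (hb.1 x hx)]
        exact A.mul_mem (ha.1 x hx) (hb.1 x hx)
      · rw [MulAut.mul_apply, hb.2 x hx, ha.2 x hx])
    (by
      intro α hα γ hγ
      have hαi := (F.autGroup R).inv_mem hα
      refine ⟨fun x hx => ?_, fun x hx => ?_⟩
      · have e : x⁻¹ * (α * γ * α⁻¹) x = α ((α⁻¹ x)⁻¹ * γ (α⁻¹ x)) := by
          rw [MulAut.mul_apply, MulAut.mul_apply, map_mul, map_inv, MulAut.apply_inv_self]
        rw [e]
        exact stronglyClosed_aut_mem F hA hRS hα _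
          (hγ.1 _ (stronglyClosed_aut_mem F hQsc hRS hαi _ hx))
      · rw [MulAut.mul_apply, MulAut.mul_apply,
          hγ.2 _ (stronglyClosed_aut_mem F hA hRS hαi _ hx), MulAut.apply_inv_self])
    (by
      intro γ _ hγ hcop
      have hfixQ : ∀ x : R, (x : Ω) ∈ Q → γ x = x := fun x hx =>
        Cfsg.Agent.Lib.Helper1.aut_fix_of_commutator_fixed hRp γ hcop (pow_orderOf_eq_one γ) x
          (hγ.2 _ (hγ.1 x hx))
      ext g
      congr 1
      apply Cfsg.Agent.Lib.Helper1.aut_fix_of_commutator_fixed hRp γ hcop (pow_orderOf_eq_one γ) g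
      apply hfixQ
      apply hQc.2 Q (isConj_refl F hQ.1)
      refine ⟨hRS (g⁻¹ * γ g).2, ?_⟩
      show _ ∈ Subgroup.centralizer (Q : Set Ω)
      rw [Subgroup.mem_centralizer_iff]
      intro x hx
      have hgx : ((g * ⟨x, hQR hx⟩ * g⁻¹ : R) : Ω) ∈ Q :=
        (Subgroup.mem_normalizer_iff.mp (hQN (hRS g.2)) x).mp hx
      have h3 := hfixQ _ hgx
      rw [map_mul, map_mul, map_inv, hfixQ ⟨x, hQR hx⟩ hx] at h3
      have h4 : ((γ g : R) : Ω) * x * ((γ g : R) : Ω)⁻¹ = (g : Ω) * x * (g : Ω)⁻¹ :=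
        congrArg (fun z : R => (z : Ω)) h3
      rw [Subgroup.coe_mul, Subgroup.coe_inv]
      calc x * ((g : Ω)⁻¹ * ((γ g : R) : Ω))
          = (g : Ω)⁻¹ * ((g : Ω) * x * (g : Ω)⁻¹) * ((γ g : R) : Ω) := by group
        _ = (g : Ω)⁻¹ * (((γ g : R) : Ω) * x * ((γ g : R) : Ω)⁻¹) * ((γ g : R) : Ω) := by rw [h4]
        _ = (g : Ω)⁻¹ * ((γ g : R) : Ω) * x := by group)
    hβA hKβ
  have hInn : β ∈ Inn R := by
    rw [← hr.2]; exact ⟨⟨β, hβA⟩, hcore, rfl⟩
  exact mem_of_inner_of_centric F hc β y (hXS hyX) hβy hInn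

/-- a saturated subsystem over a strongly closed subgroup of a constrained system is constrained. -/
theorem constrained_of_subsystem [Finite S] {p : ℕ} [Fact p.Prime] (hS : IsPGroup p S)
    (F : FusionSystem S) (hF : F.IsConstrained p) {T : Subgroup Ω} (E : FusionSystem T)
    (hE : E.IsSaturated p) (hsub : E.IsSubsystemOf F) (hT : F.StronglyClosed T) :
    E.IsConstrained p := by
  obtain ⟨hFsat, Q₀, hQ₀n, hQ₀c⟩ := hF
  have hTS := hT.1
  have hfinT : Finite T := finite_of_le hTS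
  have hTp : IsPGroup p T := hS.to_le hTS
  have hQn : F.IsNormal F.core := Cfsg.Agent.S5145.result F
  have hQ₀Q : Q₀ ≤ F.core := le_sSup hQ₀n
  have hQc : F.IsCentric F.core := isCentric_of_le F hQ₀c hQ₀Q hQn.1
  have hmax : ∀ X : Subgroup Ω, F.IsNormal X → X ≤ F.core := fun X hX => le_sSup hX
  generalize F.core = Q at hQn hQc hmax
  have hQsc := isNormal_stronglyClosed F hQn
  have hA : F.StronglyClosed (Q ⊓ T) := Cfsg.Agent.S5236.stronglyClosed_inf F hQsc hT
  have hAn : F.IsNormal (Q ⊓ T) := isNormal_of_sc_le F hQn hA inf_le_left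
  have hX : F.StronglyClosed (centralizerIn S (Q ⊓ T) ⊓ T) :=
    Cfsg.Agent.S5236.stronglyClosed_inf F (centralizerIn_stronglyClosed F hAn) hT
  have hQN := stronglyClosed_le_normalizer F hQsc
  have hTN := stronglyClosed_le_normalizer F hT
  have hXn : F.IsNormal (centralizerIn S (Q ⊓ T) ⊓ T) := by
    apply isNormal_of_chain hS F hFsat hQn hQc hA hX
    · rw [Subgroup.commutator_le]
      intro q hq x hx
      refine ⟨?_, ?_⟩
      · have h1 : x * q⁻¹ * x⁻¹ ∈ Q :=
          (Subgroup.mem_normalizer_iff.mp (hQN hx.1.1) _).mp (Q.inv_mem hq)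
        have e : ⁅q, x⁆ = q * (x * q⁻¹ * x⁻¹) := by rw [commutatorElement_def]; group
        rw [e]; exact Q.mul_mem hq h1
      · have h1 : q * x * q⁻¹ ∈ T :=
          (Subgroup.mem_normalizer_iff.mp (hTN (hQn.1 hq)) _).mp hx.2
        have e : ⁅q, x⁆ = (q * x * q⁻¹) * x⁻¹ := by rw [commutatorElement_def]
        rw [e]; exact T.mul_mem h1 (T.inv_mem hx.2)
    · intro x hx
      exact hx.1.2
  have hXQ := hmax _ hXn
  have hAE : E.StronglyClosed (Q ⊓ T) := Cfsg.Agent.S5159.sc_inf_of_subsystem hsub hQsc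
  refine ⟨hE, Q ⊓ T, ?_, inf_le_right, ?_⟩
  · rw [Cfsg.Agent.S5088.result p hTp E hE]
    obtain ⟨n, Qs, h0, hlast, hmono, hser⟩ := (Cfsg.Agent.S5088.result p hS F hFsat Q).mp hQn
    refine ⟨n, fun i => Qs i ⊓ T, ?_, ?_, ?_, fun i => ⟨?_, ?_⟩⟩
    · show Qs 0 ⊓ T = ⊥
      rw [h0]; simp
    · show Qs (Fin.last n) ⊓ T = Q ⊓ T
      rw [hlast]
    · intro i j hij
      exact inf_le_inf_right _ (hmono hij)
    · exact Cfsg.Agent.S5159.sc_inf_of_subsystem hsub (hser i).1
    · apply le_inf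
      · exact (Subgroup.commutator_mono inf_le_left inf_le_left).trans (hser i).2
      · exact (Subgroup.commutator_mono inf_le_right inf_le_right).trans
          (Cfsg.Agent.S5159.comm_self_le T)
  · rintro A' ⟨φ, hφ, rfl⟩
    rw [(Cfsg.Agent.S5226.weaklyClosed_of_stronglyClosed E hAE).2 φ hφ]
    intro z hz
    exact ⟨hXQ ⟨⟨hTS hz.1, hz.2⟩, hz.1⟩, hz.1⟩

theorem aux {p : ℕ} {T S : Subgroup Ω} {E : FusionSystem T} {F : FusionSystem S}
    (h : E.IsSubnormalIn F p) : Fact p.Prime → Finite S → IsPGroup p S → F.IsConstrained p →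
      E.IsConstrained p := by
  induction h with
  | refl F p => intro _ _ _ h; exact h
  | step _ hDF ih =>
    intro hp hfin hS hF
    have hU := hDF.1.2.2.2.1
    exact ih hp (finite_of_le hU.1) (hS.to_le hU.1)
      (constrained_of_subsystem hS _ hF _ hDF.1.1 hDF.1.2.2.1 hU)

/-- Let F be a constrained saturated fusion system over a finite p-group S. Then every subsystem of F that is subnormal in F (reached from F by a finite chain of successive normal subsystems) is constrained. -/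
theorem result {Ω : Type*} [Group Ω] {S : Subgroup Ω} [Finite S] (p : ℕ) [Fact p.Prime] (hS : IsPGroup p S) (F : Cfsg.FusionSystem S) (hF : F.IsConstrained p) {T : Subgroup Ω} (E : Cfsg.FusionSystem T) (hE : E.IsSubnormalIn F p) : E.IsConstrained p :=
  aux hE inferInstance inferInstance hS hF

end Cfsg.Agent.S5342
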