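import Cfsg.Statements.S5115
import Cfsg.Agent.S5342
import Cfsg.Agent.S5076
import Cfsg.Agent.Lib.Lead.Realized
import Cfsg.Agent.Lib.Lead.GroupFusion

set_option autoImplicit false
open Cfsg
open scoped commutatorElement

namespace Cfsg.Agent.S5115

open Cfsg.Agent.Fus Cfsg.FusionSystem

variable {G : Type*} [Group G]

/-- Sylow intersection passes to a normal subgroup of a subgroup. -/
theorem sylow_step [Finite G] {p : ℕ} [Fact p.Prime] {S H K : Subgroup G} (hS : IsPGroup p S)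
    (hHK : H ≤ K) (hN : (H.subgroupOf K).Normal)
    (hK : ∃ R : Sylow p K, (R : Subgroup K) = (S ⊓ K).subgroupOf K) :
    ∃ R : Sylow p H, (R : Subgroup H) = (S ⊓ H).subgroupOf H := by
  rw [exists_sylow_eq_subgroupOf_iff inf_le_right (hS.to_le inf_le_left)]
  intro T hTH hT
  obtain ⟨R, hR⟩ := hK
  have hT' : IsPGroup p (T.subgroupOf K) := hT.comap_subtype
  obtain ⟨k, hk⟩ := exists_map_conj_le_sylow R hT'
  rw [← card_map_conj (k : G) T]
  apply Nat.card_le_card_of_injective (Subgroup.inclusion ?_) (Subgroup.inclusion_injective _)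
  rintro _ ⟨x, hx, rfl⟩
  have hxK : x ∈ K := hHK (hTH hx)
  have h1 : (MulAut.conj k).toMonoidHom (⟨x, hxK⟩ : K) ∈ (R : Subgroup K) := hk ⟨_, hx, rfl⟩
  rw [hR] at h1
  have h2 : (k : G) * x * (k : G)⁻¹ ∈ S ⊓ K := h1
  have h3 : k * (⟨x, hxK⟩ : K) * k⁻¹ ∈ H.subgroupOf K := hN.conj_mem _ (hTH hx) k
  exact ⟨h2.1, h3⟩

theorem constrained_step [Finite G] {p : ℕ} [Fact p.Prime] {S H K : Subgroup G}
    (hS : IsPGroup p S) (hHK : H ≤ K) (hN : (H.subgroupOf K).Normal)
    (hK : ∃ R : Sylow p K, (R : Subgroup K) = (S ⊓ K).subgroupOf K)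
    (hc : (fusionSystemOfSubgroup K (S ⊓ K) inf_le_right).IsConstrained p) :
    (fusionSystemOfSubgroup H (S ⊓ H) inf_le_right).IsConstrained p := by
  apply Cfsg.Agent.S5342.constrained_of_subsystem (hS.to_le inf_le_left) _ hc
  · exact saturated_fusionSystemOfSubgroup p H _ inf_le_right (sylow_step hS hHK hN hK)
  · rintro P φ ⟨hP, hφ, g, hg, hgφ⟩
    exact ⟨hP.trans (inf_le_inf_left _ hHK), fun x => inf_le_inf_left _ hHK (hφ x), g, hHK hg, hgφ⟩
  · refine ⟨inf_le_inf_left _ hHK, ?_⟩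
    rintro R hR φ ⟨hP, hφ, g, hg, hgφ⟩ x
    refine ⟨(hφ x).1, ?_⟩
    rw [hgφ]
    have hxH : (x : G) ∈ H := (hR x.2).2
    have h3 : (⟨g, hg⟩ : K) * (⟨x, hHK hxH⟩ : K) * (⟨g, hg⟩ : K)⁻¹ ∈ H.subgroupOf K :=
      hN.conj_mem _ hxH _
    exact h3

theorem constrained_subnormal [Finite G] {p : ℕ} [Fact p.Prime] (S : Sylow p G)
    (hF : (groupFusionSystem (S : Subgroup G)).IsConstrained p) (H : Subgroup G)
    (hH : H.IsSubnormal) :
    (∃ R : Sylow p H, (R : Subgroup H) = ((S : Subgroup G) ⊓ H).subgroupOf H) ∧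
    (fusionSystemOfSubgroup H ((S : Subgroup G) ⊓ H) inf_le_right).IsConstrained p := by
  induction hH with
  | top =>
    have hsyl : ∃ R : Sylow p (⊤ : Subgroup G),
        (R : Subgroup (⊤ : Subgroup G)) = ((S : Subgroup G) ⊓ ⊤).subgroupOf ⊤ := by
      rw [exists_sylow_eq_subgroupOf_iff inf_le_right (S.2.to_le inf_le_left)]
      intro T _ hT
      obtain ⟨g, hg⟩ := exists_map_conj_le_sylow S hT
      rw [← card_map_conj g T]
      exact Nat.card_le_card_of_injective (Subgroup.inclusion (le_inf hg le_top))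
        (Subgroup.inclusion_injective _)
    refine ⟨hsyl, ?_⟩
    apply Cfsg.Agent.S5342.constrained_of_subsystem S.2 _ hF
    · exact saturated_fusionSystemOfSubgroup p ⊤ _ inf_le_right hsyl
    · rintro P φ ⟨hP, hφ, g, hg, hgφ⟩
      exact ⟨hP.trans inf_le_left, fun x => (hφ x).1, g, hgφ⟩
    · refine ⟨inf_le_left, ?_⟩
      rintro R hR φ ⟨hP, hφ, g, hgφ⟩ x
      exact ⟨hφ x, Subgroup.mem_top _⟩
  | step H K hHK _ hN ih =>
    exact ⟨sylow_step S.2 hHK hN ih.1, constrained_step S.2 hHK hN ih.1 ih.2⟩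

/-- strongly closed subgroups pass to the fusion system of the subgroup as a group. -/
theorem sc_transport {S H X : Subgroup G}
    (hX : (fusionSystemOfSubgroup H (S ⊓ H) inf_le_right).StronglyClosed X) :
    (groupFusionSystem (S.subgroupOf H)).StronglyClosed (X.subgroupOf H) := by
  refine ⟨fun x hx => (hX.1 hx).1, ?_⟩
  rintro R hR φ ⟨hP, hφ, g, hgφ⟩ x
  have hle : R.map H.subtype ≤ X := by
    rintro _ ⟨y, hy, rfl⟩
    exact hR hy
  have hmem : conjHom (R.map H.subtype) (g : G) ∈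
      (fusionSystemOfSubgroup H (S ⊓ H) inf_le_right).Hom (R.map H.subtype) := by
    refine ⟨hle.trans hX.1, ?_, g, g.2, fun y => rfl⟩
    rintro ⟨_, y, hy, rfl⟩
    have h1 := hφ ⟨y, hy⟩
    rw [hgφ] at h1
    exact ⟨h1, (g * y * g⁻¹).2⟩
  have h2 := hX.2 _ hle _ hmem ⟨x, x, x.2, rfl⟩
  show ((φ x : H) : G) ∈ X
  rw [hgφ]
  exact h2

/-- If the 2-fusion system of a finite group G on a Sylow 2-subgroup S is constrained, then for every subnormal subgroup H of G the 2-fusion system of H on S ∩ H is constrained. -/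
theorem result {G : Type*} [Group G] [Finite G] (S : Sylow 2 G) (hF : (Cfsg.groupFusionSystem (S : Subgroup G)).IsConstrained 2) (H : Subgroup G) (hH : H.IsSubnormal) : (Cfsg.groupFusionSystem ((S : Subgroup G).subgroupOf H)).IsConstrained 2 := by
  obtain ⟨⟨R, hR⟩, hEsat, Q, hQn, hQc⟩ := constrained_subnormal S hF H hH
  have hR' : (R : Subgroup H) = (S : Subgroup G).subgroupOf H := by
    rw [hR]; ext x; exact ⟨fun h => h.1, fun h => ⟨h, x.2⟩⟩
  have hsat : (groupFusionSystem ((S : Subgroup G).subgroupOf H)).IsSaturated 2 := by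
    rw [← hR']; exact Cfsg.Agent.S5076.result 2 R
  have hSp : IsPGroup 2 ((S : Subgroup G).subgroupOf H) := hR' ▸ R.2
  have hTp : IsPGroup 2 ((S : Subgroup G) ⊓ H : Subgroup G) := S.2.to_le inf_le_left
  have hQsc := sc_transport (isNormal_stronglyClosed _ hQn)
  refine ⟨hsat, Q.subgroupOf H, ?_, hQsc.1, ?_⟩
  · rw [Cfsg.Agent.S5088.result 2 hSp _ hsat]
    obtain ⟨n, Qs, h0, hlast, hmono, hser⟩ := (Cfsg.Agent.S5088.result 2 hTp _ hEsat Q).mp hQn
    refine ⟨n, fun i => (Qs i).subgroupOf H, ?_, ?_, ?_, fun i => ⟨?_, ?_⟩⟩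
    · show (Qs 0).subgroupOf H = ⊥
      rw [h0]; simp
    · show (Qs (Fin.last n)).subgroupOf H = _
      rw [hlast]
    · intro i j hij x hx
      exact hmono hij hx
    · exact sc_transport (hser i).1
    · rw [Subgroup.commutator_le]
      intro a ha b hb
      exact (hser i).2 (Subgroup.commutator_mem_commutator ha hb)
  · rintro A' ⟨φ, hφ, rfl⟩
    rw [(Cfsg.Agent.S5226.weaklyClosed_of_stronglyClosed _ hQsc).2 φ hφ]
    intro z hz
    apply hQc.2 Q (isConj_refl _ hQn.1)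
    refine ⟨⟨hz.1, z.2⟩, ?_⟩
    show (z : G) ∈ Subgroup.centralizer (Q : Set G)
    rw [Subgroup.mem_centralizer_iff]
    intro q hq
    have hqH : q ∈ H := (hQn.1 hq).2
    have h1 := (Subgroup.mem_centralizer_iff.mp hz.2) ⟨q, hqH⟩ hq
    exact congrArg (fun w : H => (w : G)) h1

end Cfsg.Agent.S5115
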