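import Cfsg.Statements.S5191
import Cfsg.Agent.Lib.Lead.GroupFusion

set_option autoImplicit false
open Cfsg

namespace Cfsg.Agent.S5191

open Cfsg.Agent.Fus

/-- lifting fusion from a quotient: if `g` conjugates `P ≤ S` into `S H` then `h g` conjugates `P`
into `S` for some `h ∈ H`. -/
theorem lift {G : Type*} [Group G] [Finite G] {p : ℕ} [Fact p.Prime] (S : Sylow p G)
    (H : Subgroup G) [hH : H.Normal] (P : Subgroup G) (hP : P ≤ (S : Subgroup G)) (g : G)
    (hg : ∀ x ∈ P, (QuotientGroup.mk (g * x * g⁻¹) : G ⧸ H) ∈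
      (S : Subgroup G).map (QuotientGroup.mk' H)) :
    ∃ h ∈ H, ∀ x ∈ P, (h * g) * x * (h * g)⁻¹ ∈ (S : Subgroup G) := by
  have hsyl : ∃ R : Sylow p ((S : Subgroup G) ⊔ H : Subgroup G),
      (R : Subgroup ((S : Subgroup G) ⊔ H : Subgroup G)) = (S : Subgroup G).subgroupOf _ := by
    rw [exists_sylow_eq_subgroupOf_iff le_sup_left S.2]
    intro T _ hT
    obtain ⟨a, ha⟩ := exists_map_conj_le_sylow S hT
    rw [← card_map_conj a T]
    exact Nat.card_le_card_of_injective (Subgroup.inclusion ha) (Subgroup.inclusion_injective _)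
  obtain ⟨R, hR⟩ := hsyl
  have hle : P.map (MulAut.conj g).toMonoidHom ≤ (S : Subgroup G) ⊔ H := by
    rintro _ ⟨x, hx, rfl⟩
    obtain ⟨s, hs, hsx⟩ := hg x hx
    have h1 : s⁻¹ * (g * x * g⁻¹) ∈ H := QuotientGroup.eq.mp hsx
    have e : (MulAut.conj g).toMonoidHom x = s * (s⁻¹ * (g * x * g⁻¹)) := by
      simp [MulAut.conj_apply]
    rw [e]
    exact Subgroup.mul_mem _ (Subgroup.mem_sup_left hs) (Subgroup.mem_sup_right h1)
  have hpg : IsPGroup p (P.map (MulAut.conj g).toMonoidHom) := (S.2.to_le hP).map _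
  obtain ⟨k, hk⟩ := exists_map_conj_le_sylow R
    (hpg.comap_subtype (H := P.map (MulAut.conj g).toMonoidHom)
      (K := ((S : Subgroup G) ⊔ H : Subgroup G)))
  obtain ⟨s, hs, h, hh, hsh⟩ := Subgroup.mem_sup_of_normal_right.mp k.2
  refine ⟨h, hh, fun x hx => ?_⟩
  have hx' : g * x * g⁻¹ ∈ P.map (MulAut.conj g).toMonoidHom := ⟨x, hx, rfl⟩
  have h1 : (MulAut.conj k).toMonoidHom ⟨g * x * g⁻¹, hle hx'⟩ ∈
      (R : Subgroup ((S : Subgroup G) ⊔ H : Subgroup G)) := hk ⟨_, hx', rfl⟩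
  rw [hR] at h1
  have h2 : (k : G) * (g * x * g⁻¹) * (k : G)⁻¹ ∈ (S : Subgroup G) := h1
  rw [← hsh] at h2
  have h3 := Subgroup.mul_mem _ (Subgroup.mul_mem _ (Subgroup.inv_mem _ hs) h2) hs
  have e : s⁻¹ * (s * h * (g * x * g⁻¹) * (s * h)⁻¹) * s = h * g * x * (h * g)⁻¹ := by group
  rwa [e] at h3

/-- Fusion in a finite group G and in its quotient by O_{p'}(G) agree. Let S be a Sylow p-subgroup of G, N = O_{p'}(G) and P ≤ S. If an element of G/N conjugates the image of P into the image of S, then some element g of G conjugates P into S and induces the same map on P modulo N. (Together with the injectivity of S → G/N this says that g ↦ gN induces an isomorphism of the fusion system of G on S with that of G/N on SN/N.) -/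
theorem result {G : Type*} [Group G] [Finite G] {p : ℕ} [Fact p.Prime]
    [hN : (Cfsg.pPrimeCore p G).Normal] (S : Sylow p G) (P : Subgroup G) (hP : P ≤ (S : Subgroup G))
    (γ : G ⧸ Cfsg.pPrimeCore p G)
    (hγ : ∀ x ∈ P, γ * QuotientGroup.mk x * γ⁻¹ ∈ ((S : Subgroup G).map (QuotientGroup.mk' (Cfsg.pPrimeCore p G)))) :
    ∃ g : G, ∀ x ∈ P, g * x * g⁻¹ ∈ S ∧
      (QuotientGroup.mk (g * x * g⁻¹) : G ⧸ Cfsg.pPrimeCore p G) = γ * QuotientGroup.mk x * γ⁻¹ := by
  obtain ⟨g, rfl⟩ := QuotientGroup.mk_surjective γ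
  obtain ⟨h, hh, hS⟩ := lift S (Cfsg.pPrimeCore p G) P hP g (fun x hx => hγ x hx)
  refine ⟨h * g, fun x hx => ⟨hS x hx, ?_⟩⟩
  have h1 : (QuotientGroup.mk h : G ⧸ Cfsg.pPrimeCore p G) = 1 :=
    (QuotientGroup.eq_one_iff h).mpr hh
  simp only [QuotientGroup.mk_mul, QuotientGroup.mk_inv, h1, one_mul]

end Cfsg.Agent.S5191
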