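import Cfsg.Statements.S5135
import Cfsg.Agent.S5191
import Cfsg.Agent.Lib.Lead.Factor

set_option autoImplicit false
open Cfsg

namespace Cfsg.Agent.S5135

open Cfsg.Agent.Fus Cfsg.FusionSystem

/-- Let G be a finite group, S a Sylow p-subgroup and H a normal subgroup of G. Then the fusion system of G/H on the image SH/H of S is the factor system of the fusion system of G on S modulo S ∩ H, read through the quotient map restricted to S: for each subgroup P' of SH/H, the conjugation maps by elements of G/H defined on P' with values in SH/H are exactly the homomorphisms induced by the conjugation maps by elements of G defined on the full preimage of P' in S with values in S. -/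
theorem result {G : Type*} [Group G] [Finite G] (p : ℕ) [Fact p.Prime] (S : Sylow p G) (H : Subgroup G) [H.Normal] : (Cfsg.groupFusionSystem (S : Subgroup G)).IsFactorSystem ((S : Subgroup G) ⊓ H) ((QuotientGroup.mk' H).comp (S : Subgroup G).subtype) (Cfsg.groupFusionSystem ((S : Subgroup G).map (QuotientGroup.mk' H))) := by
  set θ : (S : Subgroup G) →* G ⧸ H := (QuotientGroup.mk' H).comp (S : Subgroup G).subtype with hθ
  have hθa : ∀ s : (S : Subgroup G), θ s = QuotientGroup.mk (s : G) := fun s => rfl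
  refine ⟨inf_le_left, fun s => ?_, ?_, fun P' φ' => ⟨?_, ?_⟩⟩
  · rw [hθa, QuotientGroup.eq_one_iff]
    exact ⟨fun h => ⟨s.2, h⟩, fun h => h.2⟩
  · ext z
    constructor
    · rintro ⟨s, rfl⟩; exact ⟨s, s.2, rfl⟩
    · rintro ⟨s, hs, rfl⟩; exact ⟨⟨s, hs⟩, rfl⟩
  · rintro ⟨hP', hval, γ, hγ⟩
    refine ⟨hP', ?_⟩
    obtain ⟨g, rfl⟩ := QuotientGroup.mk_surjective γ
    have hPS := preimageAlong_le θ P'
    have hmem : ∀ x : preimageAlong θ P', θ ⟨x, hPS x.2⟩ ∈ P' := fun x =>
      map_mem_of_mem_preimageAlong θ P' x.2 (hPS x.2)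
    obtain ⟨h, hh, hS⟩ := Cfsg.Agent.S5191.lift S H (preimageAlong θ P') hPS g (by
      intro x hx
      have h1 := hval ⟨_, hmem ⟨x, hx⟩⟩
      rw [hγ] at h1
      exact h1)
    have h1 : (QuotientGroup.mk h : G ⧸ H) = 1 := (QuotientGroup.eq_one_iff h).mpr hh
    refine ⟨conjHom _ (h * g), ⟨hPS, fun x => hS x x.2, h * g, fun x => rfl⟩, hPS,
      fun x => hS x x.2, hmem, fun x => ?_⟩
    rw [hγ]
    show (QuotientGroup.mk g : G ⧸ H) * QuotientGroup.mk (x : G) * (QuotientGroup.mk g)⁻¹ =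
      (QuotientGroup.mk (h * g * (x : G) * (h * g)⁻¹) : G ⧸ H)
    simp only [QuotientGroup.mk_mul, QuotientGroup.mk_inv, h1, one_mul]
  · rintro ⟨hP'S, φ, ⟨hP, hφS, g, hg⟩, hPS, hφ, hPP', hind⟩
    have key : ∀ z : P', φ' z = QuotientGroup.mk g * (z : G ⧸ H) * (QuotientGroup.mk g)⁻¹ ∧
        φ' z ∈ (S : Subgroup G).map (QuotientGroup.mk' H) := by
      intro z
      obtain ⟨s, hs, hsz⟩ := hP'S z.2
      have hsP : s ∈ preimageAlong θ P' :=
        mem_preimageAlong_of_map_mem θ P' ⟨s, hs⟩ (by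
          have : θ ⟨s, hs⟩ = z := hsz
          rw [this]; exact z.2)
      have h1 := hind ⟨s, hsP⟩
      have e : (⟨θ ⟨s, hPS hsP⟩, hPP' ⟨s, hsP⟩⟩ : P') = z := Subtype.ext hsz
      rw [e] at h1
      rw [h1]
      refine ⟨?_, ⟨_, hφ ⟨s, hsP⟩, rfl⟩⟩
      rw [hθa]
      show (QuotientGroup.mk (φ ⟨s, hsP⟩) : G ⧸ H) = _
      rw [hg, ← hsz]
      rfl
    exact ⟨hP'S, fun z => (key z).2, QuotientGroup.mk g, fun z => (key z).1⟩

end Cfsg.Agent.S5135
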