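import Cfsg.Statements.S5139
import Cfsg.Agent.Lib.Lead.PPower
import Cfsg.Agent.S5093

set_option autoImplicit false
open Cfsg Cfsg.FusionSystem Cfsg.Agent.Fus

namespace Cfsg.Agent.S5139

theorem result {G : Type*} [Group G] [Finite G] (p : ℕ) [Fact p.Prime] (S : Sylow p G) (E : Cfsg.FusionSystem ((Cfsg.groupFusionSystem (S : Subgroup G)).hyperfocalSubgroup p)) (hE : (Cfsg.groupFusionSystem (S : Subgroup G)).IsPResidual p E) : ∃ h : (S : Subgroup G) ⊓ Cfsg.pResidual p G ≤ Cfsg.pResidual p G, ∀ P : Subgroup G, E.Hom P = (Cfsg.fusionSystemOfSubgroup (Cfsg.pResidual p G) ((S : Subgroup G) ⊓ Cfsg.pResidual p G) h).Hom P := by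
  refine ⟨inf_le_right, ?_⟩
  haveI hN : (pResidual p G).Normal := pResidual_normal (G := G) p
  have hhyp := Cfsg.Agent.S5093.result p S
  have hsat : (fusionSystemOfSubgroup (pResidual p G) ((S : Subgroup G) ⊓ (pResidual p G)) inf_le_right).IsSaturated p :=
    saturated_fusionSystemOfSubgroup p (pResidual p G) _ inf_le_right (sylow_inf_normal S (pResidual p G))
  have hidx : (fusionSystemOfSubgroup (pResidual p G) ((S : Subgroup G) ⊓ (pResidual p G)) inf_le_right).HasPPowerIndexIn (groupFusionSystem (S : Subgroup G)) p := by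
    refine ⟨?_, hhyp.le, ?_⟩
    · rintro P φ ⟨hP, hφ, g, -, hg⟩
      exact ⟨hP.trans inf_le_left, fun x => (hφ x).1, g, hg⟩
    · rintro P hP _ ⟨α, hα, rfl⟩
      have hPS : P ≤ S := hP.trans inf_le_left
      let f : Subgroup.normalizer (P : Set G) →* (groupFusionSystem (S : Subgroup G)).autGroup P :=
        P.normalizerMonoidHom.codRestrict _ (fun g => by
          rw [mem_autGroup_iff _ hPS]
          exact ⟨hPS, fun x => hPS (P.normalizerMonoidHom g x).2, g, fun x => rfl⟩)
      have hf : Function.Surjective f := by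
        rintro ⟨β, hβ⟩
        have hβ' := hβ
        rw [mem_autGroup_iff _ hPS] at hβ'
        obtain ⟨-, -, g, hg⟩ := hβ'
        have hg' : ∀ x : P, ((β x : P) : G) = g * x * g⁻¹ := hg
        refine ⟨⟨g, mem_normalizer_of_aut β g hg'⟩, ?_⟩
        apply Subtype.ext
        apply MulEquiv.ext
        intro x
        apply Subtype.ext
        exact (hg' x).symm
      obtain ⟨n, hn, rfl⟩ := pResidual_le_map f hf hα
      have hnG : (n : G) ∈ (pResidual p G) := map_pResidual_le p (Subgroup.subtype _) ⟨n, hn, rfl⟩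
      rw [mem_autGroup_iff _ hP]
      exact ⟨hP, fun x => hP (P.normalizerMonoidHom n x).2, n, hnG, fun x => rfl⟩
  exact pPowerIndex_unique S.2 hhyp (hyperfocal_le (groupFusionSystem (S : Subgroup G)) p) E _ hE.1 hsat hE.2 hidx

end Cfsg.Agent.S5139
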