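import Cfsg.Statements.S5147
import Cfsg.Agent.S5115
import Cfsg.Agent.S5135
import Cfsg.Agent.S5128

set_option autoImplicit false
open Cfsg
open scoped commutatorElement

namespace Cfsg.Agent.S5147

open Cfsg.Agent.Fus Cfsg.FusionSystem

/-- the factor system of a constrained system modulo a strongly closed subgroup of `Z(S)` is
constrained. -/
theorem constrained_factor {Ω : Type*} [Group Ω] {S : Subgroup Ω} [Finite S] {p : ℕ}
    [Fact p.Prime] (hS : IsPGroup p S) (F : FusionSystem S) (hF : F.IsConstrained p)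
    {A : Subgroup Ω} (hA : F.StronglyClosed A) (hAZ : S ≤ Subgroup.centralizer (A : Set Ω))
    {Ω' : Type*} [Group Ω'] {S' : Subgroup Ω'} (θ : S →* Ω') (D : FusionSystem S')
    (hD : F.IsFactorSystem A θ D) : D.IsConstrained p := by
  obtain ⟨hFsat, Q₀, hQ₀n, hQ₀c⟩ := hF
  have hQn : F.IsNormal F.core := Cfsg.Agent.S5145.result F
  have hQ₀Q : Q₀ ≤ F.core := le_sSup hQ₀n
  have hQc : F.IsCentric F.core := isCentric_of_le F hQ₀c hQ₀Q hQn.1
  have hmax : ∀ X : Subgroup Ω, F.IsNormal X → X ≤ F.core := fun X hX => le_sSup hX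
  generalize F.core = Q at hQn hQc hmax
  have hQsc := isNormal_stronglyClosed F hQn
  have hQS := hQn.1
  have hsurj := Cfsg.Agent.S5134.result p hS F hFsat A hA θ D hD
  have hDsat := Cfsg.Agent.S5133.result p hS F hFsat D θ hsurj
  have hAS := hD.1
  have hker := hD.2.1
  have hrange := hD.2.2.1
  have hfin' : Finite S' := by
    rw [← hrange]
    exact Set.finite_range θ
  have hS' : IsPGroup p S' := by
    rw [← hrange]
    exact hS.of_surjective θ.rangeRestrict θ.rangeRestrict_surjective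
  have hsc' : ∀ X : Subgroup Ω, F.StronglyClosed X → D.StronglyClosed (imageAlong θ X) := by
    intro X hX
    rw [← imageAlong_sup_ker θ hAS hker hX.1]
    exact image_stronglyClosed hD (Cfsg.Agent.S5128.result p hS F hFsat X A hX hA) le_sup_right
  have hQ'sc := hsc' Q hQsc
  have hQ'n : D.IsNormal (imageAlong θ Q) := by
    rw [Cfsg.Agent.S5088.result p hS' D hDsat]
    obtain ⟨n, Qs, h0, hlast, hmono, hser⟩ := (Cfsg.Agent.S5088.result p hS F hFsat Q).mp hQn
    refine ⟨n, fun i => imageAlong θ (Qs i), ?_, ?_, ?_, fun i => ⟨hsc' _ (hser i).1, ?_⟩⟩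
    · show imageAlong θ (Qs 0) = ⊥
      rw [h0, eq_bot_iff]
      rintro _ ⟨y, hy, rfl⟩
      have : y = 1 := Subtype.ext (Subgroup.mem_bot.mp hy)
      rw [this, map_one]; exact Subgroup.one_mem _
    · show imageAlong θ (Qs (Fin.last n)) = _
      rw [hlast]
    · rintro i j hij _ ⟨y, hy, rfl⟩
      exact ⟨y, hmono hij hy, rfl⟩
    · rw [Subgroup.commutator_le]
      rintro _ ⟨a, ha, rfl⟩ _ ⟨b, hb, rfl⟩
      rw [← map_commutatorElement]
      have ha' : (a : Ω) ∈ Q := ha
      have hb' : (b : Ω) ∈ Qs i.succ := hb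
      exact ⟨_, (hser i).2 (Subgroup.commutator_mem_commutator ha' hb'), rfl⟩
  refine ⟨hDsat, imageAlong θ Q, hQ'n, hQ'sc.1, ?_⟩
  rintro A' ⟨φ, hφ, rfl⟩
  rw [(Cfsg.Agent.S5226.weaklyClosed_of_stronglyClosed D hQ'sc).2 φ hφ]
  have hX : F.StronglyClosed (preimageAlong θ (centralizerIn S' (imageAlong θ Q))) :=
    preimage_stronglyClosed hsurj.1 (centralizerIn_stronglyClosed D hQ'n)
  have hXn : F.IsNormal (preimageAlong θ (centralizerIn S' (imageAlong θ Q))) := by
    apply Cfsg.Agent.S5342.isNormal_of_chain hS F hFsat hQn hQc hA hX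
    · rw [Subgroup.commutator_le]
      rintro q hq _ ⟨s, hs, rfl⟩
      have h1 : θ ⁅(⟨q, hQS hq⟩ : S), s⁆ = 1 := by
        rw [map_commutatorElement, commutatorElement_eq_one_iff_mul_comm]
        exact (Subgroup.mem_centralizer_iff.mp hs.2) _ ⟨_, hq, rfl⟩
      exact (hker _).mp h1
    · exact hX.1.trans hAZ
  intro z hz
  obtain ⟨s, rfl⟩ := hrange.ge hz.1
  exact ⟨s, hmax _ hXn (mem_preimageAlong_of_map_mem θ _ s hz), rfl⟩

theorem constrained_mod_center {L : Type*} [Group L] [Finite L] {p : ℕ} [Fact p.Prime]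
    (R : Sylow p L) (hc : (groupFusionSystem (R : Subgroup L)).IsConstrained p) :
    (groupFusionSystem ((R : Subgroup L).map (QuotientGroup.mk' (Subgroup.center L)))).IsConstrained
      p := by
  apply constrained_factor R.2 _ hc (A := (R : Subgroup L) ⊓ Subgroup.center L) ?_ ?_ _ _
    (Cfsg.Agent.S5135.result p R (Subgroup.center L))
  · refine ⟨inf_le_left, ?_⟩
    rintro P hP φ ⟨-, hval, g, hg⟩ x
    refine ⟨hval x, ?_⟩
    rw [hg]
    exact (inferInstance : (Subgroup.center L).Normal).conj_mem _ (hP x.2).2 g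
  · intro s _
    rw [Subgroup.mem_centralizer_iff]
    intro a ha
    exact (Subgroup.mem_center_iff.mp ha.2 s).symm

/-- Let G be a finite group with Sylow 2-subgroup S whose 2-fusion system on S is constrained, and L a component of G (a subnormal quasisimple subgroup). Then the 2-fusion system of L/Z(L) on the image of S ∩ L is constrained. -/
theorem result {G : Type*} [Group G] [Finite G] (S : Sylow 2 G) (hF : (Cfsg.groupFusionSystem (S : Subgroup G)).IsConstrained 2) (L : Subgroup G) (hL : Cfsg.IsComponent L) : (Cfsg.groupFusionSystem (((S : Subgroup G).subgroupOf L).map (QuotientGroup.mk' (Subgroup.center L)))).IsConstrained 2 := by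
  have hc := Cfsg.Agent.S5115.result S hF L hL.1
  obtain ⟨⟨R, hR⟩, -⟩ := Cfsg.Agent.S5115.constrained_subnormal S hF L hL.1
  have hR' : (R : Subgroup L) = (S : Subgroup G).subgroupOf L := by
    rw [hR]; ext x; exact ⟨fun h => h.1, fun h => ⟨h, x.2⟩⟩
  rw [← hR'] at hc ⊢
  exact constrained_mod_center R hc

end Cfsg.Agent.S5147
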