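import Cfsg.Statements.S5251
import Cfsg.Agent.S5236
import Cfsg.Agent.S5079
import Cfsg.Agent.Lib.Lead.Centric

set_option autoImplicit false
open Cfsg
open scoped commutatorElement

namespace Cfsg.Agent.S5251

open Cfsg.Agent.Fus Cfsg.FusionSystem

variable {Ω : Type*} [Group Ω] {S : Subgroup Ω}

/-- an automorphism in `Aut_F(P)` stabilizing `1 ≤ P ∩ T ≤ P`, `T` strongly closed, lies in
`O_p(Aut_F(P))`. -/
theorem mem_pCore_of_stab_sc [Finite S] {p : ℕ} [Fact p.Prime] (hS : IsPGroup p S)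
    (F : FusionSystem S) {T P : Subgroup Ω} (hT : F.StronglyClosed T) (hPS : P ≤ S)
    {β : MulAut P} (hβA : β ∈ F.autGroup P) (h1 : ∀ x : P, ((x⁻¹ * β x : P) : Ω) ∈ T)
    (h2 : ∀ x : P, (x : Ω) ∈ T → β x = x) :
    (⟨β, hβA⟩ : F.autGroup P) ∈ pCore p (F.autGroup P) := by
  have : Finite P := finite_of_le hPS
  have hPp : IsPGroup p P := hS.to_le hPS
  let K : MulAut P → Prop := fun γ =>
    (∀ x : P, ((x⁻¹ * γ x : P) : Ω) ∈ T) ∧ (∀ x : P, (x : Ω) ∈ T → γ x = x)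
  exact Cfsg.Agent.S5236.mem_pCore_of_pred p (F.autGroup P) K
    ⟨fun x => by simp, fun x _ => rfl⟩
    (by
      intro a b ha hb
      refine ⟨fun x => ?_, fun x hx => ?_⟩
      · have e : x⁻¹ * (a * b) x = (x⁻¹ * a x) * a (x⁻¹ * b x) := by
          rw [MulAut.mul_apply, map_mul, map_inv]; group
        rw [e, ha.2 _ (hb.1 x)]
        exact T.mul_mem (ha.1 x) (hb.1 x)
      · rw [MulAut.mul_apply, hb.2 x hx, ha.2 x hx])
    (by
      intro α hα γ hγ
      have hαi := (F.autGroup P).inv_mem hα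
      refine ⟨fun x => ?_, fun x hx => ?_⟩
      · have e : x⁻¹ * (α * γ * α⁻¹) x = α ((α⁻¹ x)⁻¹ * γ (α⁻¹ x)) := by
          rw [MulAut.mul_apply, MulAut.mul_apply, map_mul, map_inv, MulAut.apply_inv_self]
        rw [e]
        exact stronglyClosed_aut_mem F hT hPS hα _ (hγ.1 _)
      · rw [MulAut.mul_apply, MulAut.mul_apply,
          hγ.2 _ (stronglyClosed_aut_mem F hT hPS hαi _ hx), MulAut.apply_inv_self])
    (by
      intro γ _ hγ hcop
      ext g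
      congr 1
      exact Cfsg.Agent.Lib.Helper1.aut_fix_of_commutator_fixed hPp γ hcop (pow_orderOf_eq_one γ) g
        (hγ.2 _ (hγ.1 g)))
    hβA ⟨h1, h2⟩

/-- if every element of `X` normalizing `P` lies in `P`, and `P` normalizes `X`, then `X ≤ P`. -/
theorem le_of_normalizer_mem' [Finite S] {p : ℕ} [Fact p.Prime] (hS : IsPGroup p S)
    {X P : Subgroup Ω} (hXS : X ≤ S) (hPS : P ≤ S) (hPN : P ≤ Subgroup.normalizer (X : Set Ω))
    (key : ∀ y ∈ X, y ∈ Subgroup.normalizer (P : Set Ω) → y ∈ P) : X ≤ P := by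
  have hPXS : P ⊔ X ≤ S := sup_le hPS hXS
  have heq : P = P ⊔ X := by
    by_contra hne
    have : Finite ↥(P ⊔ X) := finite_of_le hPXS
    obtain ⟨g, hg, hgP⟩ := exists_mem_normalizerIn_not_mem (S := P ⊔ X) (hS.to_le hPXS)
      le_sup_left hne
    obtain ⟨a, ha, c, hc', rfl⟩ := mem_sup_of_le_normalizer hPN hg.1
    apply hgP
    refine P.mul_mem ha (key c hc' ?_)
    have h1 : a⁻¹ * (a * c) ∈ Subgroup.normalizer (P : Set Ω) :=
      Subgroup.mul_mem _ (Subgroup.inv_mem _ (Subgroup.le_normalizer ha)) hg.2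
    rwa [inv_mul_cancel_left] at h1
  rw [heq]; exact le_sup_right

/-- preimages of elements of a strongly closed subgroup lie in it. -/
theorem mem_of_map_mem (F : FusionSystem S) {T P : Subgroup Ω} (hT : F.StronglyClosed T)
    {φ : P →* Ω} (hφ : φ ∈ F.Hom P) (x : P) (hx : φ x ∈ T) : (x : Ω) ∈ T := by
  obtain ⟨χ, hχ, hχφ, -⟩ := inv_mem' F hφ rfl
  have h1 := restrict_mem F hχ (inf_le_left : φ.range ⊓ T ≤ φ.range)
  have h2 := hT.2 _ inf_le_right _ h1 ⟨φ x, ⟨x, rfl⟩, hx⟩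
  have h3 := hχφ x ⟨x, rfl⟩
  rw [← h3]
  exact h2

theorem map_mem (F : FusionSystem S) {T P : Subgroup Ω} (hT : F.StronglyClosed T)
    {φ : P →* Ω} (hφ : φ ∈ F.Hom P) (x : P) (hx : (x : Ω) ∈ T) : φ x ∈ T :=
  hT.2 _ inf_le_right _ (restrict_mem F hφ (inf_le_left : P ⊓ T ≤ P)) ⟨x, x.2, hx⟩

theorem main [Finite S] {p : ℕ} [Fact p.Prime] (hS : IsPGroup p S) (F : FusionSystem S)
    (hF : F.IsSaturated p) {T : Subgroup Ω} (E : FusionSystem T) (hsub : E.IsSubsystemOf F)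
    (hT : F.StronglyClosed T) (P : Subgroup Ω) (hP : F.IsCentric P)
    (hPT : ¬ E.IsCentric (P ⊓ T)) :
    ∃ φ ∈ F.Hom P, ∃ x ∈ S ⊓ Subgroup.normalizer (φ.range : Set Ω), x ∉ φ.range ∧ x ∈ T ∧
      ∀ y : P, (y : Ω) ∈ T → x * φ y * x⁻¹ = φ y := by
  have hPS := hP.1
  have hTS := hT.1
  have hTN := stronglyClosed_le_normalizer F hT
  obtain ⟨R, hUR, hR⟩ : ∃ R, E.IsConj (P ⊓ T) R ∧ ¬ centralizerIn T R ≤ R := by
    by_contra h
    push Not at h
    exact hPT ⟨inf_le_right, h⟩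
  have hUR' : F.IsConj (P ⊓ T) R := by
    obtain ⟨φ₀, hφ₀, hr⟩ := hUR
    exact ⟨φ₀, hsub _ hφ₀, hr⟩
  have hUS : P ⊓ T ≤ S := inf_le_left.trans hPS
  obtain ⟨U', hUU', hU'a, hU'r⟩ := hF (P ⊓ T) hUS
  obtain ⟨ψ, hψ, -, hψU⟩ := Cfsg.Agent.S5079.result p hS F U' (P ⊓ T) hU'a hU'r hUU'
  have hUN : P ⊓ T ≤ normalizerIn S (P ⊓ T) := le_inf hUS Subgroup.le_normalizer
  rw [map_subgroupOf_eq_iff' _ hUN] at hψU
  have hPN : P ≤ normalizerIn S (P ⊓ T) := by
    refine le_inf hPS ?_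
    apply mem_normalizer_of_forall
    intro n hn y hy
    exact ⟨P.mul_mem (P.mul_mem hn hy.1) (P.inv_mem hn),
      (Subgroup.mem_normalizer_iff.mp (hTN (hPS hn)) y).mp hy.2⟩
  have hφ := restrict_mem F hψ hPN
  set φ := ψ.comp (Subgroup.inclusion hPN) with hφdef
  have hφS : φ.range ≤ S := range_le F hφ
  -- `φ(P) ∩ T = U'`
  have hU'1 : ∀ y : P, (y : Ω) ∈ T → φ y ∈ U' := fun y hy => hψU.1 ⟨y, y.2, hy⟩
  have hU'2 : ∀ u ∈ U', ∃ y : P, (y : Ω) ∈ T ∧ φ y = u := by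
    intro u hu
    obtain ⟨y, hy⟩ := hψU.2 u hu
    exact ⟨⟨y, y.2.1⟩, y.2.2, hy⟩
  -- an element of `C_T(U')` outside `U'`
  obtain ⟨c', hc'T, hc'C, hc'U⟩ : ∃ c' ∈ T, (∀ u ∈ U', c' * u * c'⁻¹ = u) ∧ c' ∉ U' := by
    obtain ⟨ρ, hρ, hρr⟩ := isConj_trans F (isConj_symm F hUR') hUU'
    obtain ⟨ρ', hρ', hext⟩ := hU'r.2 R ρ hρ hρr
    obtain ⟨c, hc, hcR⟩ := SetLike.not_le_iff_exists.mp hR
    have hcC : ∀ r ∈ R, c * r * c⁻¹ = r := by
      intro r hr
      have := (Subgroup.mem_centralizer_iff.mp hc.2) r hr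
      rw [← this]; group
    have hRS : R ≤ S := le_of_mem' F hρ
    have hcN : c ∈ extender S R ρ := by
      rw [mem_extender_iff]
      refine ⟨hTS hc.1, ?_, 1, S.one_mem, fun x hx => ?_⟩
      · exact Subgroup.centralizer_le_normalizer _ hc.2
      · have e : (⟨c * (x : Ω) * c⁻¹, hx⟩ : R) = x := Subtype.ext (hcC x x.2)
        rw [e]; simp
    have hRN : ∀ r : R, (r : Ω) ∈ extender S R ρ := by
      intro r
      rw [mem_extender_iff]
      refine ⟨hRS r.2, Subgroup.le_normalizer r.2, ρ r, (F.le_of_mem hρ).2 r, fun x hx => ?_⟩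
      have e : (⟨(r : Ω) * (x : Ω) * (r : Ω)⁻¹, hx⟩ : R) = r * x * r⁻¹ := rfl
      rw [e, map_mul, map_mul, map_inv]
    refine ⟨ρ' ⟨c, hcN⟩, map_mem F hT hρ' _ hc.1, ?_, ?_⟩
    · intro u hu
      rw [← hρr] at hu
      obtain ⟨r, rfl⟩ := hu
      rw [← hext r r.2 (hRN r), ← map_inv, ← map_mul, ← map_mul]
      congr 1
      exact Subtype.ext (hcC r r.2)
    · intro hu
      rw [← hρr] at hu
      obtain ⟨r, hr⟩ := hu
      rw [← hext r r.2 (hRN r)] at hr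
      have := F.injective_of_mem hρ' hr
      apply hcR
      have h3 : (r : Ω) = c := congrArg (fun z : extender S R ρ => (z : Ω)) this
      rw [← h3]; exact r.2
  -- the subgroup `X = C_T(U')`
  have hU'S : U' ≤ S := hU'a.1
  by_contra hcon
  push Not at hcon
  have hXle : centralizerIn T U' ≤ φ.range := by
    apply le_of_normalizer_mem' hS (inf_le_left.trans hTS) hφS
    · apply mem_normalizer_of_forall
      rintro _ ⟨n, rfl⟩ y hy
      refine ⟨(Subgroup.mem_normalizer_iff.mp (hTN ((F.le_of_mem hφ).2 n)) y).mp hy.1, ?_⟩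
      show _ ∈ Subgroup.centralizer (U' : Set Ω)
      rw [Subgroup.mem_centralizer_iff]
      intro u hu
      obtain ⟨z, hzT, rfl⟩ := hU'2 u hu
      have hz' : ((n⁻¹ * z * n : P) : Ω) ∈ T := by
        have := (Subgroup.mem_normalizer_iff.mp (hTN (S.inv_mem (hPS n.2))) z).mp hzT
        simpa using this
      have h4 := (Subgroup.mem_centralizer_iff.mp hy.2) _ (hU'1 _ hz')
      rw [map_mul, map_mul, map_inv] at h4
      calc φ z * (φ n * y * (φ n)⁻¹) = φ n * ((φ n)⁻¹ * φ z * φ n * y) * (φ n)⁻¹ := by group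
        _ = φ n * (y * ((φ n)⁻¹ * φ z * φ n)) * (φ n)⁻¹ := by rw [h4]
        _ = φ n * y * (φ n)⁻¹ * φ z := by group
    · intro y hy hyN
      by_contra hyP
      obtain ⟨z, hzT, hz⟩ := hcon φ hφ y ⟨hTS hy.1, hyN⟩ hyP hy.1
      apply hz
      have := (Subgroup.mem_centralizer_iff.mp hy.2) _ (hU'1 z hzT)
      rw [← this]; group
  have hc'X : c' ∈ centralizerIn T U' := by
    refine ⟨hc'T, ?_⟩
    show _ ∈ Subgroup.centralizer (U' : Set Ω)
    rw [Subgroup.mem_centralizer_iff]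
    intro u hu
    have := hc'C u hu
    calc u * c' = (c' * u * c'⁻¹) * c' := by rw [this]
      _ = c' * u := by group
  obtain ⟨y, hy⟩ := hXle hc'X
  apply hc'U
  rw [← hy]
  exact hU'1 y (mem_of_map_mem F hT hφ y (hy ▸ hc'T))

/-- Let F be a saturated fusion system over a finite p-group S, E a normal subsystem of F over T, and P an F-centric subgroup of S such that P ∩ T is not E-centric. Then some F-conjugate P* of P satisfies Out_S(P*) ∩ O_p(Out_F(P*)) ≠ 1: there is an element of N_S(P*) outside P* whose conjugation action on P* lies in O_p(Aut_F(P*)). In particular P is not both centric and radical in F. -/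
theorem result {Ω : Type*} [Group Ω] {S : Subgroup Ω} [Finite S] (p : ℕ) [Fact p.Prime] (hS : IsPGroup p S) (F : Cfsg.FusionSystem S) (hF : F.IsSaturated p) {T : Subgroup Ω} (E : Cfsg.FusionSystem T) (hE : E.IsNormalIn F p) (P : Subgroup Ω) (hP : F.IsCentric P) (hPT : ¬ E.IsCentric (P ⊓ T)) : (∃ φ ∈ F.Hom P, ∃ x ∈ S ⊓ Subgroup.normalizer (φ.range : Set Ω), x ∉ φ.range ∧ ∃ α ∈ ((Cfsg.pCore p ↥(F.autGroup φ.range)).map (F.autGroup φ.range).subtype : Subgroup (MulAut ↥φ.range)), ∀ y : ↥φ.range, ((α y : ↥φ.range) : Ω) = x * (y : Ω) * x⁻¹) ∧ ¬ F.IsRadical p P := by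
  have hsub := hE.1.2.2.1
  have hT := hE.1.2.2.2.1
  have hTN := stronglyClosed_le_normalizer F hT
  have hPS := hP.1
  obtain ⟨φ, hφ, x, hx, hxP, hxT, hxC⟩ := main hS F hF E hsub hT P hP hPT
  have hφS : φ.range ≤ S := range_le F hφ
  let β : MulAut φ.range := (φ.range).normalizerMonoidHom ⟨x, hx.2⟩
  have hβx : ∀ y : φ.range, ((β y : φ.range) : Ω) = x * y * x⁻¹ := fun y => rfl
  have hβA : β ∈ F.autGroup φ.range := autInducedBy_le_autGroup F hφS
    ((mem_autInducedBy_iff _ _ _).mpr ⟨x, hx.1, hβx⟩)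
  have h1 : ∀ y : φ.range, ((y⁻¹ * β y : φ.range) : Ω) ∈ T := by
    intro y
    rw [Subgroup.coe_mul, hβx, Subgroup.coe_inv]
    have h3 : (y : Ω)⁻¹ * x * ((y : Ω)⁻¹)⁻¹ ∈ T :=
      (Subgroup.mem_normalizer_iff.mp (hTN (S.inv_mem (hφS y.2))) x).mp hxT
    have e : (y : Ω)⁻¹ * (x * y * x⁻¹) = ((y : Ω)⁻¹ * x * ((y : Ω)⁻¹)⁻¹) * x⁻¹ := by group
    rw [e]; exact T.mul_mem h3 (T.inv_mem hxT)
  have h2 : ∀ y : φ.range, (y : Ω) ∈ T → β y = y := by
    rintro ⟨_, z, rfl⟩ hy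
    apply Subtype.ext
    rw [hβx]
    exact hxC z (mem_of_map_mem F hT hφ z hy)
  refine ⟨⟨φ, hφ, x, hx, hxP, β, ⟨⟨β, hβA⟩, mem_pCore_of_stab_sc hS F hT hφS hβA h1 h2, rfl⟩,
    hβx⟩, ?_⟩
  intro hr
  set e := isoOfMap φ (F.injective_of_mem hφ) rfl with he
  have heφ : ∀ z : P, ((e z : φ.range) : Ω) = φ z := fun z => rfl
  let γ : MulAut P := (e.trans β).trans e.symm
  have hγ : ∀ z : P, γ z = e.symm (β (e z)) := fun z => rfl
  have heγ : ∀ z : P, e (γ z) = β (e z) := fun z => by rw [hγ, MulEquiv.apply_symm_apply]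
  have hγA : γ ∈ F.autGroup P := by
    rw [mem_autGroup_iff F hPS]
    have h3 := (mem_autGroup_iff F hφS β).mp hβA
    have h4 := isoOfMap_symm_mem F hφ rfl
    have h5 : (φ.range.subtype.comp β.toMonoidHom).comp e.toMonoidHom ∈ F.Hom P :=
      comp_mem' F hφ h3 (fun z => ⟨⟨z, rfl⟩, rfl⟩)
    exact comp_mem' F h5 h4 (fun z => ⟨(β (e z)).2, rfl⟩)
  have hcore := mem_pCore_of_stab_sc hS F hT hPS hγA
    (by
      intro z
      apply mem_of_map_mem F hT hφ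
      rw [← heφ, map_mul, map_inv, heγ]
      exact h1 (e z))
    (by
      intro z hz
      apply e.injective
      rw [heγ]
      exact h2 _ (map_mem F hT hφ z hz))
  have hInn : γ ∈ Inn P := by
    rw [← hr.2]; exact ⟨⟨γ, hγA⟩, hcore, rfl⟩
  obtain ⟨r, hr'⟩ := hInn
  have hβInn : β ∈ Inn φ.range := by
    refine ⟨e r, ?_⟩
    ext y
    congr 1
    obtain ⟨z, rfl⟩ := e.surjective y
    rw [← heγ, ← hr']
    simp
  have hc' : F.IsCentric φ.range :=
    ⟨hφS, fun Q hQ => hP.2 Q (isConj_trans F ⟨φ, hφ, rfl⟩ hQ)⟩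
  exact hxP (mem_of_inner_of_centric F hc' β x hx.1 hβx hβInn)

end Cfsg.Agent.S5251
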