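import Cfsg.Statements.S5255
import Cfsg.Agent.Lib.Lead.ModT

set_option autoImplicit false
open Cfsg Cfsg.FusionSystem Cfsg.Agent.Fus

namespace Cfsg.Agent.S5255

/-- Let F be a saturated fusion system over a finite p-group S and T a subgroup of S strongly closed in F. Then T·C_S(T) is strongly closed in F. -/
theorem result {Ω : Type*} [Group Ω] {S : Subgroup Ω} [Finite S] (p : ℕ) [Fact p.Prime] (hS : IsPGroup p S) (F : Cfsg.FusionSystem S) (hF : F.IsSaturated p) (T : Subgroup Ω) (hT : F.StronglyClosed T) : F.StronglyClosed (T ⊔ Cfsg.FusionSystem.centralizerIn S T) := by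
  refine ⟨sup_le hT.1 inf_le_left, fun R hR φ hφ x => ?_⟩
  obtain ⟨ψ, hψ, h⟩ := exists_ext_mod hS F hF hT hφ
  have hnorm : T ≤ Subgroup.normalizer ((centralizerIn S T : Subgroup Ω) : Set Ω) := by
    apply mem_normalizer_of_forall
    intro n hn y hy
    refine ⟨S.mul_mem (S.mul_mem (hT.1 hn) hy.1) (S.inv_mem (hT.1 hn)), ?_⟩
    have e : n * y * n⁻¹ = y := by
      have := Subgroup.mem_centralizer_iff.mp hy.2 n hn
      rw [this]; group
    rw [e]; exact hy.2
  obtain ⟨a, ha, c, hc, hx⟩ := mem_sup_of_le_normalizer hnorm (hR x.2)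
  have haR : a ∈ R ⊔ T := Subgroup.mem_sup_right ha
  have hcR : c ∈ R ⊔ T := by
    have e : c = a⁻¹ * x := by rw [hx]; group
    rw [e]
    exact Subgroup.mul_mem _ (Subgroup.inv_mem _ haR) (Subgroup.mem_sup_left x.2)
  have e : Subgroup.inclusion le_sup_left x = (⟨a, haR⟩ : ↥(R ⊔ T)) * ⟨c, hcR⟩ :=
    Subtype.ext hx
  have hTr : (ψ.comp (Subgroup.inclusion le_sup_right : T →* ↥(R ⊔ T))).range = T :=
    (Cfsg.Agent.S5226.weaklyClosed_of_stronglyClosed F hT).2 _ (restrict_mem F hψ le_sup_right)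
  have hψc : ψ ⟨c, hcR⟩ ∈ centralizerIn S T := by
    refine ⟨(F.le_of_mem hψ).2 _, ?_⟩
    apply Subgroup.mem_centralizer_iff.mpr
    intro t ht
    have ht' : t ∈ (ψ.comp (Subgroup.inclusion le_sup_right : T →* ↥(R ⊔ T))).range := by
      rw [hTr]; exact ht
    obtain ⟨s, rfl⟩ := ht'
    rw [MonoidHom.comp_apply, ← map_mul, ← map_mul]
    congr 1
    apply Subtype.ext
    exact Subgroup.mem_centralizer_iff.mp hc.2 s s.2
  have h1 : ψ (Subgroup.inclusion le_sup_left x) ∈ T ⊔ centralizerIn S T := by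
    rw [e, map_mul]
    exact Subgroup.mul_mem _ (Subgroup.mem_sup_left (stronglyClosed_map_mem F hT hψ _ ha))
      (Subgroup.mem_sup_right hψc)
  have e2 : φ x = ψ (Subgroup.inclusion le_sup_left x)
      * ((φ x)⁻¹ * ψ (Subgroup.inclusion le_sup_left x))⁻¹ := by group
  rw [e2]
  exact Subgroup.mul_mem _ h1 (Subgroup.mem_sup_left (T.inv_mem (h x)))

end Cfsg.Agent.S5255
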