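import Cfsg.Statements.S5256
import Cfsg.Agent.Lib.Lead.Residual
import Cfsg.Agent.S5133
import Cfsg.Agent.S5134

set_option autoImplicit false
open Cfsg Cfsg.FusionSystem Cfsg.Agent.Fus Cfsg.Agent.S5133

namespace Cfsg.Agent.S5256

variable {Ω : Type*} [Group Ω] {S : Subgroup Ω} {Ω' : Type*} [Group Ω'] {S' : Subgroup Ω'}
variable {F : FusionSystem S} {F' : FusionSystem S'} {α : S →* Ω'} {T : Subgroup Ω}

theorem autMap_mem (h : Setup F F' α T) {Q : Subgroup Ω} (hQS : Q ≤ S) (β : F.autGroup Q) :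
    h.autMap hQS β ∈ F'.autGroup (imageAlong α Q) := by
  obtain ⟨φ', hφ', _, _, _, hind⟩ := h.m2 Q _ ((mem_autGroup_iff F hQS _).mp β.2)
  rw [mem_autGroup_iff F' (h.img_le Q)]
  refine mem_of_forall_eq F' hφ' ?_
  intro y
  obtain ⟨x, rfl⟩ := proj_surjective α hQS y
  show ((h.autMap hQS β (proj α hQS x) : imageAlong α Q) : Ω') = _
  rw [h.autMap_apply, proj_coe]
  exact (hind x).symm

/-- `Aut_F(Q) → Aut_{F'}(α Q)`. -/
noncomputable def autMap' (h : Setup F F' α T) {Q : Subgroup Ω} (hQS : Q ≤ S) :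
    ↥(F.autGroup Q) →* ↥(F'.autGroup (imageAlong α Q)) :=
  (h.autMap hQS).codRestrict _ (autMap_mem h hQS)

theorem autMap'_apply (h : Setup F F' α T) {Q : Subgroup Ω} (hQS : Q ≤ S)
    (β : F.autGroup Q) (x : Q) :
    ((autMap' h hQS β : F'.autGroup (imageAlong α Q)) : MulAut _) (proj α hQS x)
      = proj α hQS ((β : MulAut Q) x) :=
  h.autMap_apply hQS β x

theorem autMap'_surjective [Finite S] (h : Setup F F' α T) {Q : Subgroup Ω} (hQS : Q ≤ S)
    (hTQ : T ≤ Q) : Function.Surjective (autMap' h hQS) := by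
  rintro ⟨β', hβ'⟩
  rw [← h.autMap_range hQS hTQ] at hβ'
  obtain ⟨β, hβ⟩ := hβ'
  exact ⟨β, Subtype.ext hβ⟩

theorem key (h : Setup F F' α T) {Q : Subgroup Ω} (hQS : Q ≤ S) (β : F.autGroup Q) (x : Q)
    (hy : (x : Ω)⁻¹ * ((β : MulAut Q) x : Q) ∈ S) :
    α ⟨(x : Ω)⁻¹ * ((β : MulAut Q) x : Q), hy⟩ =
      ((proj α hQS x : imageAlong α Q) : Ω')⁻¹ *
        (((autMap' h hQS β : F'.autGroup (imageAlong α Q)) : MulAut _) (proj α hQS x) :
          imageAlong α Q) := by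
  rw [autMap'_apply, proj_coe, proj_coe, ← map_inv, ← map_mul]
  rfl

theorem result {Ω : Type*} [Group Ω] {S : Subgroup Ω} [Finite S] (p : ℕ) [Fact p.Prime] (hS : IsPGroup p S) (F : Cfsg.FusionSystem S) (hF : F.IsSaturated p) (T : Subgroup Ω) (hT : F.StronglyClosed T) {Ω' : Type*} [Group Ω'] {S' : Subgroup Ω'} (θ : ↥S →* Ω') (E : Cfsg.FusionSystem S') (hE : F.IsFactorSystem T θ E) : E.hyperfocalSubgroup p = ((F.hyperfocalSubgroup p).subgroupOf S).map θ := by
  have hsm := Cfsg.Agent.S5134.result p hS F hF T hT θ E hE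
  have h : Setup F E θ T :=
    { sc := hT, ker := hE.2.1, range := hE.2.2.1, m2 := hsm.1.2, m4 := hsm.2.2 }
  apply le_antisymm
  · have A : ∀ (Q : Subgroup Ω) (hQS : Q ≤ S) (_ : T ≤ Q) (P'' : Subgroup Ω')
        (_ : P'' = imageAlong θ Q) (α' : E.autGroup P'') (_ : α' ∈ pResidual p (E.autGroup P''))
        (x' : P''), (x' : Ω')⁻¹ * ((α' : MulAut P'') x' : P'') ∈
          ((F.hyperfocalSubgroup p).subgroupOf S).map θ := by
      rintro Q hQS hTQ _ rfl α' hα' x'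
      haveI : Finite Q := finite_of_le hQS
      obtain ⟨β, hβ, rfl⟩ := pResidual_le_map (autMap' h hQS) (autMap'_surjective h hQS hTQ) hα'
      obtain ⟨x, rfl⟩ := proj_surjective θ hQS x'
      have hy := mem_hyperfocal F hQS hβ x
      rw [← key h hQS β x (hyperfocal_le F p hy)]
      exact ⟨_, hy, rfl⟩
    rw [hyperfocalSubgroup, Subgroup.closure_le]
    rintro _ ⟨P', α', x', hP', hα', rfl⟩
    exact A (preimageAlong θ P') (preimageAlong_le θ P') (h.le_pre P') P'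
      (imageAlong_preimageAlong θ (h.range ▸ hP')).symm α' hα' x'
  · have B : F.hyperfocalSubgroup p ≤ ((E.hyperfocalSubgroup p).comap θ).map S.subtype := by
      conv_lhs => rw [hyperfocalSubgroup]
      rw [Subgroup.closure_le]
      rintro _ ⟨Q, β, x, hQS, hβ, rfl⟩
      have hy := hyperfocal_le F p (mem_hyperfocal F hQS hβ x)
      refine ⟨⟨_, hy⟩, ?_, rfl⟩
      show θ _ ∈ E.hyperfocalSubgroup p
      rw [key h hQS β x hy]
      exact mem_hyperfocal E (h.img_le Q)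
        (map_pResidual_le p (autMap' h hQS) ⟨β, hβ, rfl⟩) _
    rintro _ ⟨s, hs, rfl⟩
    obtain ⟨t, ht, hts⟩ := B hs
    have : t = s := Subtype.ext hts
    rw [← this]; exact ht

end Cfsg.Agent.S5256
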