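import Cfsg.Statements.S5294
import Cfsg.Agent.S5144
import Cfsg.Agent.S5145
import Cfsg.Agent.S5084
import Cfsg.Agent.S5106
import Cfsg.Agent.S5226
import Cfsg.Agent.Lib.Lead.NormalSub

set_option autoImplicit false
open Cfsg

universe u

namespace Cfsg.Agent.S5294

open Cfsg.Agent.Fus Cfsg.FusionSystem

/-- the trace (norm) map from `U`-fixed points to `A`-fixed points. -/
theorem trace_exists {V A : Type*} [CommGroup V] [Group A] [Finite A] (U : Subgroup A)
    (ρ : A → V →* V) (hρ : ∀ a b v, ρ (a * b) v = ρ a (ρ b v)) :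
    ∃ tr : V →* V, (∀ v, (∀ u ∈ U, ρ u v = v) → ∀ a, ρ a (tr v) = tr v) ∧
      (∀ v, (∀ a, ρ a v = v) → tr v = v ^ U.index) := by
  classical
  have : Fintype (A ⧸ U) := Fintype.ofFinite _
  refine ⟨∏ q : A ⧸ U, ρ q.out, ?_, ?_⟩
  · intro v hv a
    rw [MonoidHom.finsetProd_apply, map_prod]
    have h1 : ∀ q : A ⧸ U, ρ a (ρ q.out v) = ρ (a • q).out v := by
      intro q
      rw [← hρ]
      obtain ⟨u, hu⟩ := QuotientGroup.mk_out_eq_mul U (a * q.out)
      have h2 : a • q = ((a * q.out : A) : A ⧸ U) := by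
        conv_lhs => rw [← QuotientGroup.out_eq' q]
        rfl
      rw [h2, hu, hρ _ (u : A), hv u u.2]
    rw [Finset.prod_congr rfl (fun q _ => h1 q)]
    exact Equiv.prod_comp (MulAction.toPerm a) (fun q : A ⧸ U => ρ q.out v)
  · intro v hv
    rw [MonoidHom.finsetProd_apply, Finset.prod_congr rfl (fun q _ => hv q.out),
      Finset.prod_const, Finset.card_univ, Subgroup.index, Nat.card_eq_fintype_card]

/-- Let F be a saturated fusion system over a finite p-group S whose centre Z(S) lies in the largest subgroup O_p(F) normal in F. Then the centre Z(F) of F is a direct factor of Z(S): there is a subgroup K of Z(S) with Z(F) ∩ K = 1 and Z(F)K = Z(S). -/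
theorem result {Ω : Type u} [Group Ω] {S : Subgroup Ω} [Finite S] (p : ℕ) [Fact p.Prime] (hS : IsPGroup p S)
    (F : Cfsg.FusionSystem S) (hF : F.IsSaturated p) (hZ : (S ⊓ Subgroup.centralizer (S : Set Ω)) ≤ F.core) :
    ∃ K : Subgroup Ω, K ≤ (S ⊓ Subgroup.centralizer (S : Set Ω)) ∧ F.center ⊓ K = ⊥ ∧ F.center ⊔ K = (S ⊓ Subgroup.centralizer (S : Set Ω)) := by
  classical
  have hQ : F.IsNormal F.core := Cfsg.Agent.S5145.result F
  have hQS : F.core ≤ S := hQ.1
  have hfinQ : Finite F.core := finite_of_le hQS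
  have hfinA : Finite (MulAut F.core) := inferInstance
  have hcen : F.IsCentral F.center := Cfsg.Agent.S5144.result F
  have hcen' := (Cfsg.Agent.S5084.result p hS F hF F.center).mp hcen
  -- full automization of the core
  have haut : F.IsFullyAutomized p F.core := by
    obtain ⟨Q', ⟨φ, hφ, hr⟩, ha, -⟩ := hF F.core hQS
    have hw := (Cfsg.Agent.S5226.weaklyClosed_of_stronglyClosed F
      (isNormal_stronglyClosed F hQ)).2 φ hφ
    rw [hr] at hw
    rw [hw] at ha
    exact ha
  obtain ⟨-, R, hR⟩ := haut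
  have hidx : ¬ p ∣ ((autInducedBy S F.core).subgroupOf (F.autGroup F.core)).index := by
    rw [← hR]; exact R.not_dvd_index
  -- the abelian group V = Z(Q)
  have hVc : ∀ a b : ↥(F.core ⊓ Subgroup.centralizer (F.core : Set Ω)), a * b = b * a := by
    intro a b
    apply Subtype.ext
    exact (Subgroup.mem_centralizer_iff.mp b.2.2) a a.2.1
  letI : CommGroup ↥(F.core ⊓ Subgroup.centralizer (F.core : Set Ω)) :=
    { (inferInstance : Group ↥(F.core ⊓ Subgroup.centralizer (F.core : Set Ω))) with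
      mul_comm := hVc }
  have hVS : F.core ⊓ Subgroup.centralizer (F.core : Set Ω) ≤ S := inf_le_left.trans hQS
  have hVp : IsPGroup p ↥(F.core ⊓ Subgroup.centralizer (F.core : Set Ω)) := hS.to_le hVS
  have hZV : S ⊓ Subgroup.centralizer (S : Set Ω) ≤
      F.core ⊓ Subgroup.centralizer (F.core : Set Ω) :=
    le_inf hZ (inf_le_right.trans (Subgroup.centralizer_le hQS))
  have hmemV : ∀ (a : MulAut F.core) (v : ↥(F.core ⊓ Subgroup.centralizer (F.core : Set Ω))),
      ((a ⟨v, v.2.1⟩ : F.core) : Ω) ∈ F.core ⊓ Subgroup.centralizer (F.core : Set Ω) := by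
    intro a v
    refine Subgroup.mem_inf.mpr ⟨(a _).2, ?_⟩
    rw [Subgroup.mem_centralizer_iff]
    intro y hy
    have h1 : (⟨y, hy⟩ : F.core) = a (a⁻¹ ⟨y, hy⟩) := by simp
    have h2 : (a⁻¹ ⟨y, hy⟩ : F.core) * ⟨v, v.2.1⟩ = ⟨v, v.2.1⟩ * (a⁻¹ ⟨y, hy⟩ : F.core) := by
      apply Subtype.ext
      exact (Subgroup.mem_centralizer_iff.mp v.2.2) _ (a⁻¹ ⟨y, hy⟩ : F.core).2
    have h3 := congrArg (fun t : F.core => ((a t : F.core) : Ω)) h2
    simp only [map_mul, ← h1, Subgroup.coe_mul] at h3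
    exact h3
  let ρ : F.autGroup F.core → (↥(F.core ⊓ Subgroup.centralizer (F.core : Set Ω)) →*
      ↥(F.core ⊓ Subgroup.centralizer (F.core : Set Ω))) := fun a =>
    { toFun := fun v => ⟨_, hmemV a v⟩
      map_one' := by
        apply Subtype.ext
        show (((a : MulAut F.core) (1 : F.core) : F.core) : Ω) = 1
        simp
      map_mul' := by
        intro v w
        apply Subtype.ext
        show (((a : MulAut F.core) (⟨v, v.2.1⟩ * ⟨w, w.2.1⟩ : F.core) : F.core) : Ω) = _
        rw [map_mul]; rfl }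
  have hρ_apply : ∀ a v, ((ρ a v : ↥(F.core ⊓ Subgroup.centralizer (F.core : Set Ω))) : Ω) =
      (((a : MulAut F.core) ⟨v, v.2.1⟩ : F.core) : Ω) := fun _ _ => rfl
  obtain ⟨tr, htr1, htr2⟩ := trace_exists
    ((autInducedBy S F.core).subgroupOf (F.autGroup F.core)) ρ (by
      intro a b v
      apply Subtype.ext
      rfl)
  -- fixed points of U
  have hfixU : ∀ v : ↥(F.core ⊓ Subgroup.centralizer (F.core : Set Ω)),
      (v : Ω) ∈ S ⊓ Subgroup.centralizer (S : Set Ω) →
      ∀ u ∈ (autInducedBy S F.core).subgroupOf (F.autGroup F.core), ρ u v = v := by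
    intro v hv u hu
    rw [Subgroup.mem_subgroupOf, mem_autInducedBy_iff] at hu
    obtain ⟨g, hg, hgu⟩ := hu
    apply Subtype.ext
    rw [hρ_apply, hgu]
    have := (Subgroup.mem_centralizer_iff.mp hv.2) g hg
    show g * (v : Ω) * g⁻¹ = v
    rw [this]; group
  -- fixed points of A are the centre
  have hfixA : ∀ v : ↥(F.core ⊓ Subgroup.centralizer (F.core : Set Ω)),
      (v : Ω) ∈ F.center ↔ ∀ a, ρ a v = v := by
    intro v
    constructor
    · intro hv a
      apply Subtype.ext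
      rw [hρ_apply]
      apply hcen'.2 v hv
      have ha := (mem_autGroup_iff F hQS _).mp a.2
      have hle : Subgroup.zpowers (v : Ω) ≤ F.core := by
        rw [Subgroup.zpowers_le]; exact v.2.1
      exact ⟨_, restrict_mem F ha hle, rfl⟩
    · intro hv
      have hc : F.IsCentral (Subgroup.zpowers (v : Ω)) := by
        rw [Cfsg.Agent.S5084.result p hS F hF]
        have hle : Subgroup.zpowers (v : Ω) ≤ F.core := by
          rw [Subgroup.zpowers_le]; exact v.2.1
        refine ⟨hle.trans hQS, ?_⟩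
        rintro x hx y ⟨φ, hφ, rfl⟩
        have hle' : Subgroup.zpowers x ≤ F.core := by
          rw [Subgroup.zpowers_le]; exact hle hx
        obtain ⟨α, hα, hαφ⟩ := Cfsg.Agent.S5106.exists_aut_of_isNormal F hQ _ hle' φ hφ
        rw [← hαφ]
        obtain ⟨k, rfl⟩ := hx
        have h1 := congrArg Subtype.val (hv ⟨α, hα⟩)
        rw [hρ_apply] at h1
        have h2 : (Subgroup.inclusion hle' ⟨(v : Ω) ^ k, Subgroup.mem_zpowers _⟩ : F.core) =
            (⟨v, v.2.1⟩ : F.core) ^ k := by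
          apply Subtype.ext; simp
        show ((α (Subgroup.inclusion hle' ⟨(v : Ω) ^ k, _⟩) : F.core) : Ω) = (v : Ω) ^ k
        rw [h2, map_zpow, Subgroup.coe_zpow]
        exact congrArg (· ^ k) h1
      exact (le_sSup (a := Subgroup.zpowers (v : Ω)) hc) (Subgroup.mem_zpowers _)
  have hcenZ : F.center ≤ S ⊓ Subgroup.centralizer (S : Set Ω) := by
    intro z hz
    refine Subgroup.mem_inf.mpr ⟨hcen.1 hz, ?_⟩
    rw [Subgroup.mem_centralizer_iff]
    intro g hg
    have hle : Subgroup.zpowers z ≤ S := by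
      rw [Subgroup.zpowers_le]; exact hcen.1 hz
    have := hcen'.2 z hz (g * z * g⁻¹) ⟨_, F.conj_mem hle hg, rfl⟩
    calc g * z = (g * z * g⁻¹) * g := by group
      _ = z * g := by rw [this]
  -- inverse of the index
  obtain ⟨m, hm⟩ : ∃ m : ℕ, ∀ v : ↥(F.core ⊓ Subgroup.centralizer (F.core : Set Ω)),
      (v ^ ((autInducedBy S F.core).subgroupOf (F.autGroup F.core)).index) ^ m = v := by
    have hfinV : Finite ↥(F.core ⊓ Subgroup.centralizer (F.core : Set Ω)) := finite_of_le hVS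
    obtain ⟨n, hn⟩ := IsPGroup.iff_card.mp hVp
    have hcop : (((autInducedBy S F.core).subgroupOf (F.autGroup F.core)).index).Coprime
        (Nat.card ↥(F.core ⊓ Subgroup.centralizer (F.core : Set Ω))) := by
      rw [hn]
      apply Nat.Coprime.pow_right
      exact ((Nat.Prime.coprime_iff_not_dvd Fact.out).mpr hidx).symm
    by_cases h1 : Nat.card ↥(F.core ⊓ Subgroup.centralizer (F.core : Set Ω)) = 1
    · refine ⟨0, fun v => ?_⟩
      have : Subsingleton ↥(F.core ⊓ Subgroup.centralizer (F.core : Set Ω)) :=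
        (Nat.card_eq_one_iff_unique.mp h1).1
      exact Subsingleton.elim _ _
    · have hlt : 1 < Nat.card ↥(F.core ⊓ Subgroup.centralizer (F.core : Set Ω)) := by
        have : 0 < Nat.card ↥(F.core ⊓ Subgroup.centralizer (F.core : Set Ω)) := Nat.card_pos
        omega
      obtain ⟨m, hm⟩ := Nat.exists_mul_mod_eq_one_of_coprime hcop hlt
      refine ⟨m, fun v => ?_⟩
      rw [← pow_mul, ← Nat.div_add_mod
        (((autInducedBy S F.core).subgroupOf (F.autGroup F.core)).index * m)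
        (Nat.card ↥(F.core ⊓ Subgroup.centralizer (F.core : Set Ω))), hm.2, pow_add, pow_mul,
        pow_card_eq_one', one_pow, one_mul, pow_one]
  refine ⟨(tr.ker.map (Subgroup.subtype _)) ⊓ (S ⊓ Subgroup.centralizer (S : Set Ω)),
    inf_le_right, ?_, ?_⟩
  · rw [eq_bot_iff]
    rintro z ⟨hz, ⟨⟨v, hv, rfl⟩, -⟩⟩
    have h1 := htr2 v ((hfixA v).mp hz)
    rw [MonoidHom.mem_ker.mp hv] at h1
    have h2 := hm v
    rw [← h1, one_pow] at h2
    rw [← h2]; exact Subgroup.one_mem _
  · apply le_antisymm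
    · exact sup_le hcenZ inf_le_right
    · intro z hz
      have hy : ∀ a, ρ a (tr ⟨z, hZV hz⟩ ^ m) = tr ⟨z, hZV hz⟩ ^ m := by
        intro a
        rw [map_pow, htr1 ⟨z, hZV hz⟩ (hfixU ⟨z, hZV hz⟩ hz) a]
      have hyc : ((tr ⟨z, hZV hz⟩ ^ m : ↥(F.core ⊓ Subgroup.centralizer (F.core : Set Ω))) : Ω) ∈
          F.center := (hfixA _).mpr hy
      have hk : (tr ⟨z, hZV hz⟩ ^ m)⁻¹ * ⟨z, hZV hz⟩ ∈ tr.ker := by
        rw [MonoidHom.mem_ker, map_mul, map_inv, htr2 _ hy, ← pow_mul, mul_comm m, pow_mul, hm,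
          inv_mul_cancel]
      have : z = ((tr ⟨z, hZV hz⟩ ^ m : ↥(F.core ⊓ Subgroup.centralizer (F.core : Set Ω))) : Ω) *
          (((tr ⟨z, hZV hz⟩ ^ m)⁻¹ * ⟨z, hZV hz⟩ :
            ↥(F.core ⊓ Subgroup.centralizer (F.core : Set Ω))) : Ω) := by
        rw [← Subgroup.coe_mul, mul_inv_cancel_left]
      rw [this]
      refine Subgroup.mul_mem_sup hyc ⟨⟨_, hk, rfl⟩, ?_⟩
      rw [Subgroup.coe_mul, Subgroup.coe_inv]
      exact Subgroup.mul_mem _ (Subgroup.inv_mem _ (hcenZ hyc)) hz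

end Cfsg.Agent.S5294
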