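import Cfsg.Statements.S5315
import Cfsg.Agent.S5144
import Cfsg.Agent.S5148
import Cfsg.Agent.S5084
import Cfsg.Agent.S5134
import Cfsg.Agent.Lib.Lead.Hyperfocal
import Cfsg.Agent.Lib.Lead.Factor

set_option autoImplicit false
open Cfsg

namespace Cfsg.Agent.S5315

open Cfsg.Agent.Fus Cfsg.FusionSystem

section
variable {Ω : Type*} [Group Ω] {S : Subgroup Ω}

theorem central_fix (F : FusionSystem S) {Q : Subgroup Ω} (hQ : F.IsCentral Q) {P : Subgroup Ω}
    {φ : P →* Ω} (hφ : φ ∈ F.Hom P) (x : P) (hx : (x : Ω) ∈ Q) : φ x = x := by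
  obtain ⟨ψ, -, h1, h2⟩ := hQ.2 P φ hφ
  rw [← h1]
  exact h2 ⟨x, hx⟩

theorem central_comm (F : FusionSystem S) {Q : Subgroup Ω} (hQ : F.IsCentral Q) {s x : Ω}
    (hs : s ∈ S) (hx : x ∈ Q) : s * x = x * s := by
  have := central_fix F hQ (F.conj_mem hQ.1 hs) ⟨x, hx⟩ hx
  have h2 : s * x * s⁻¹ = x := this
  calc s * x = (s * x * s⁻¹) * s := by group
    _ = x * s := by rw [h2]

theorem alg {G : Type*} [Group G] (a b u z : G) (h1 : (u⁻¹ * a) * b = b * (u⁻¹ * a))
    (h2 : (z⁻¹ * b) * u = u * (z⁻¹ * b)) : a * b * a⁻¹ * b⁻¹ = u * z * u⁻¹ * z⁻¹ := by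
  have e1 : a * b * a⁻¹ = u * b * u⁻¹ := by
    calc a * b * a⁻¹ = u * ((u⁻¹ * a) * b) * a⁻¹ := by group
      _ = u * (b * (u⁻¹ * a)) * a⁻¹ := by rw [h1]
      _ = u * b * u⁻¹ := by group
  have e2 : u * b * u⁻¹ * b⁻¹ = u * z * u⁻¹ * z⁻¹ := by
    calc u * b * u⁻¹ * b⁻¹ = u * z * (u⁻¹ * (u * (z⁻¹ * b))) * u⁻¹ * b⁻¹ := by group
      _ = u * z * (u⁻¹ * ((z⁻¹ * b) * u)) * u⁻¹ * b⁻¹ := by rw [h2]
      _ = u * z * u⁻¹ * z⁻¹ := by group
  rw [e1, e2]

/-- A saturated fusion system is generated by `F_S(S)` and the groups `O^p(Aut_F(P))`, `P` equal to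
`S` or essential. -/
theorem le_of_pResidual' [Finite S] {p : ℕ} [Fact p.Prime] (hS : IsPGroup p S) (F : FusionSystem S)
    (hF : F.IsSaturated p) (E : FusionSystem S)
    (h : ∀ P : Subgroup Ω, (P = S ∨ F.IsEssential p P) → ∀ β ∈ Cfsg.pResidual p (F.autGroup P),
      (β : MulAut P) ∈ E.autGroup P) : F ≤ E := by
  have hsat := (Cfsg.Agent.S5077.result p hS F).mp hF
  apply Cfsg.Agent.S5082.result p hS F hF
  intro P hP α hα
  have hPn : F.IsFullyNormalized P := by
    rcases hP with rfl | hP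
    · exact Cfsg.Agent.S5083.fullyNormalized_top F
    · exact hP.2.1
  have hPS := hPn.1
  obtain ⟨U, hU⟩ := (hsat.1 P hPn).2.2
  have : Finite P := finite_of_le hPS
  have : Finite (MulAut P) := inferInstance
  have h1 : (⟨α, hα⟩ : F.autGroup P) ∈ (U : Subgroup (F.autGroup P)) ⊔ Cfsg.pResidual p (F.autGroup P) := by
    rw [sylow_sup_pResidual]; exact Subgroup.mem_top _
  have := pResidual_normal (G := F.autGroup P) p
  rw [Subgroup.mem_sup_of_normal_right] at h1
  obtain ⟨u, hu, β, hβ, huβ⟩ := h1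
  have e : α = (u : MulAut P) * (β : MulAut P) := by
    have := congrArg Subtype.val huβ
    simpa using this.symm
  rw [e]
  refine Subgroup.mul_mem _ ?_ (h P hP β hβ)
  rw [hU] at hu
  exact autInducedBy_le_autGroup E hPS hu

theorem gruen {Ω' : Type*} [Group Ω'] {S' : Subgroup Ω'} [Finite S] (p : ℕ) [Fact p.Prime]
    (hS : IsPGroup p S) (F : FusionSystem S) (hF : F.IsSaturated p)
    (hperf : F.hyperfocalSubgroup p = S) (θ : S →* Ω') (E : FusionSystem S')
    (hE : F.IsFactorSystem F.center θ E) : E.center = ⊥ := by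
  have hcen : F.IsCentral F.center := Cfsg.Agent.S5144.result F
  have hsc : F.StronglyClosed F.center := Cfsg.Agent.S5148.stronglyClosed_of_isCentral F hcen
  have hmor := Cfsg.Agent.S5134.result p hS F hF F.center hsc θ E hE
  have hker := hE.2.1
  have hrange := hE.2.2.1
  have hfin' : Finite S' := by
    rw [← hrange]
    exact Set.finite_range θ
  have hEcen : E.IsCentral E.center := Cfsg.Agent.S5144.result E
  have hZ₂S : preimageAlong θ E.center ≤ S := preimageAlong_le θ _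
  have hθeq : ∀ a b : S, θ a = θ b → ((b : Ω)⁻¹ * a) ∈ F.center := by
    intro a b hab
    have : θ (b⁻¹ * a) = 1 := by rw [map_mul, map_inv, hab, inv_mul_cancel]
    exact (hker _).mp this
  -- maps of `F` move elements of `Z₂` only by elements of `Z`
  have star : ∀ {P : Subgroup Ω} {φ : P →* Ω} (hφ : φ ∈ F.Hom P) (x : P),
      (x : Ω) ∈ preimageAlong θ E.center →
      θ ⟨φ x, (F.le_of_mem hφ).2 x⟩ = θ ⟨x, (F.le_of_mem hφ).1 x.2⟩ := by
    intro P φ hφ x hx
    obtain ⟨φ', hφ', hPS, hφS, hP', hind⟩ := hmor.1.2 P φ hφ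
    rw [← hind x]
    exact central_fix E hEcen hφ' _ (map_mem_of_mem_preimageAlong θ _ hx _)
  -- key commutator identity
  have key : ∀ {P : Subgroup Ω} {φ : P →* Ω} (_ : φ ∈ F.Hom P) (x : P) (z : Ω),
      z ∈ preimageAlong θ E.center → φ x * z * (φ x)⁻¹ = x * z * (x : Ω)⁻¹ := by
    intro P φ hφ x z hz
    obtain ⟨φ', hφ', hPS, hφS, hP', hind⟩ := hmor.1.2 P φ hφ
    obtain ⟨ψ', hψ', hext, hfix⟩ := hEcen.2 _ φ' hφ'
    obtain ⟨α, hα, hRS, hαS, hR', hind2⟩ := hmor.2.2 _ (E.le_of_mem hψ').1 ψ' hψ'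
    have hzS : z ∈ S := hZ₂S hz
    have hθz : θ ⟨z, hzS⟩ ∈ E.center := map_mem_of_mem_preimageAlong θ _ hz _
    have hxR : (x : Ω) ∈ preimageAlong θ (imageAlong θ P ⊔ E.center) :=
      mem_preimageAlong_of_map_mem θ _ ⟨x, hPS x.2⟩ (Subgroup.mem_sup_left ⟨_, x.2, rfl⟩)
    have hzR : z ∈ preimageAlong θ (imageAlong θ P ⊔ E.center) :=
      mem_preimageAlong_of_map_mem θ _ ⟨z, hzS⟩ (Subgroup.mem_sup_right hθz)
    have hx2 : θ ⟨α ⟨x, hxR⟩, hαS _⟩ = θ ⟨φ x, hφS x⟩ := by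
      rw [← hind2 ⟨x, hxR⟩, ← hind x, ← hext]
      rfl
    have hz2 : θ ⟨α ⟨z, hzR⟩, hαS _⟩ = θ ⟨z, hzS⟩ := by
      rw [← hind2 ⟨z, hzR⟩]
      exact hfix ⟨_, hθz⟩
    have hζ₁ := hθeq _ _ hx2
    have hζ₂ := hθeq _ _ hz2
    simp only at hζ₁ hζ₂
    have hxS : (x : Ω) ∈ S := hPS x.2
    have hc : (x : Ω) * z * (x : Ω)⁻¹ * z⁻¹ ∈ F.center := by
      have h1 : θ (⟨x, hxS⟩ * ⟨z, hzS⟩ * ⟨x, hxS⟩⁻¹ * ⟨z, hzS⟩⁻¹) = 1 := by
        have h2 : θ ⟨x, hxS⟩ ∈ S' := hrange.le ⟨_, rfl⟩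
        have h3 := central_comm E hEcen h2 hθz
        rw [map_mul, map_mul, map_mul, map_inv, map_inv, h3]
        group
      exact (hker _).mp h1
    have hcR : (x : Ω) * z * (x : Ω)⁻¹ * z⁻¹ ∈ preimageAlong θ (imageAlong θ P ⊔ E.center) :=
      Subgroup.mul_mem _ (Subgroup.mul_mem _ (Subgroup.mul_mem _ hxR hzR) (Subgroup.inv_mem _ hxR))
        (Subgroup.inv_mem _ hzR)
    have h4 : α ⟨_, hcR⟩ = (x : Ω) * z * (x : Ω)⁻¹ * z⁻¹ := central_fix F hcen hα ⟨_, hcR⟩ hc
    have h5 : α ⟨_, hcR⟩ = α ⟨x, hxR⟩ * α ⟨z, hzR⟩ * (α ⟨x, hxR⟩)⁻¹ * (α ⟨z, hzR⟩)⁻¹ := by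
      rw [← map_inv, ← map_inv, ← map_mul, ← map_mul, ← map_mul]
      rfl
    have h6 := alg (α ⟨x, hxR⟩) (α ⟨z, hzR⟩) (φ x) z
      (central_comm F hcen (hαS _) hζ₁).symm (central_comm F hcen (hφS x) hζ₂).symm
    rw [← h5, h4] at h6
    exact (mul_right_cancel h6).symm
  -- `Z₂` is central in `S`
  have hZ₂c : S ≤ Subgroup.centralizer (preimageAlong θ E.center : Set Ω) := by
    conv_lhs => rw [← hperf]
    rw [hyperfocalSubgroup, Subgroup.closure_le]
    rintro _ ⟨P, α, x, hP, -, rfl⟩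
    show _ ∈ Subgroup.centralizer (preimageAlong θ E.center : Set Ω)
    rw [Subgroup.mem_centralizer_iff]
    intro z hz
    have h1 := key ((mem_autGroup_iff F hP _).mp α.2) x z hz
    have h2 : (((α : MulAut P) x : P) : Ω) * z * (((α : MulAut P) x : P) : Ω)⁻¹ =
      x * z * (x : Ω)⁻¹ := h1
    calc z * ((x : Ω)⁻¹ * (((α : MulAut P) x : P) : Ω))
        = (x : Ω)⁻¹ * (x * z * (x : Ω)⁻¹) * (((α : MulAut P) x : P) : Ω) := by group
      _ = (x : Ω)⁻¹ * ((((α : MulAut P) x : P) : Ω) * z * (((α : MulAut P) x : P) : Ω)⁻¹) *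
          (((α : MulAut P) x : P) : Ω) := by rw [h2]
      _ = (x : Ω)⁻¹ * (((α : MulAut P) x : P) : Ω) * z := by group
  -- elements of `O^p(Aut_F(P))` fix `Z₂ ∩ P`
  have hfixp : ∀ (P : Subgroup Ω), P ≤ S → ∀ β ∈ Cfsg.pResidual p (F.autGroup P),
      ∀ y : P, (y : Ω) ∈ preimageAlong θ E.center → (β : MulAut P) y = y := by
    intro P hPS β hβ
    induction hβ using Subgroup.closure_induction with
    | mem β hβ =>
      intro y hy
      have hβF := (mem_autGroup_iff F hPS _).mp β.2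
      have h1 := hθeq _ _ (star hβF y hy)
      have h1' : (y : Ω)⁻¹ * (((β : MulAut P) y : P) : Ω) ∈ F.center := h1
      have h2 : (β : MulAut P) (y⁻¹ * (β : MulAut P) y) = y⁻¹ * (β : MulAut P) y :=
        Subtype.ext (central_fix F hcen hβF (y⁻¹ * (β : MulAut P) y) h1')
      have h3 : ∀ k : ℕ, ((β : MulAut P) ^ k) y = y * (y⁻¹ * (β : MulAut P) y) ^ k := by
        intro k
        induction k with
        | zero => simp
        | succ k ih =>
          rw [pow_succ', MulAut.mul_apply, ih, map_mul, map_pow, h2, pow_succ', ← mul_assoc,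
            mul_inv_cancel_left]
      have h4 := h3 (orderOf β)
      have h5 : (β : MulAut P) ^ orderOf β = 1 := by
        rw [← Subgroup.coe_pow, pow_orderOf_eq_one]; rfl
      rw [h5, MulAut.one_apply] at h4
      have h6 : (y⁻¹ * (β : MulAut P) y) ^ orderOf β = 1 := by
        have := h4.symm
        rwa [mul_eq_left] at this
      have hPp : IsPGroup p P := hS.to_le hPS
      obtain ⟨j, hj⟩ := hPp (y⁻¹ * (β : MulAut P) y)
      have h7 : orderOf (y⁻¹ * (β : MulAut P) y) ∣ Nat.gcd (orderOf β) (p ^ j) :=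
        Nat.dvd_gcd (orderOf_dvd_of_pow_eq_one h6) (orderOf_dvd_of_pow_eq_one hj)
      have h8 : Nat.gcd (orderOf β) (p ^ j) = 1 := Nat.Coprime.pow_right j hβ
      rw [h8, Nat.dvd_one, orderOf_eq_one_iff] at h7
      exact (inv_mul_eq_one.mp h7).symm
    | one => intro y _; rfl
    | mul a b _ _ iha ihb =>
      intro y hy
      show (a : MulAut P) ((b : MulAut P) y) = y
      rw [ihb y hy, iha y hy]
    | inv a _ iha =>
      intro y hy
      show (a : MulAut P)⁻¹ y = y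
      conv_lhs => rw [← iha y hy]
      simp
  have hle : F ≤ Cfsg.Agent.S5084.centSystem F (preimageAlong θ E.center) hZ₂S hZ₂c := by
    apply le_of_pResidual' hS F hF
    intro P hP β hβ
    have hPS : P ≤ S := by
      rcases hP with rfl | hP
      · exact le_rfl
      · exact hP.1.1
    have hQP : preimageAlong θ E.center ≤ P := by
      rcases hP with rfl | hP
      · exact hZ₂S
      · intro x hx
        apply hP.1.2 P (isConj_refl F hPS)
        refine ⟨hZ₂S hx, ?_⟩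
        show x ∈ Subgroup.centralizer (P : Set Ω)
        rw [Subgroup.mem_centralizer_iff]
        intro y hy
        exact ((Subgroup.mem_centralizer_iff.mp (hZ₂c (hPS hy))) x hx).symm
    have hβF := (mem_autGroup_iff F hPS _).mp β.2
    rw [mem_autGroup_iff _ hPS]
    have hle' : P ⊔ preimageAlong θ E.center ≤ P := sup_le le_rfl hQP
    refine ⟨hβF, _, restrict_mem F hβF hle', fun x => ?_, ?_⟩
    · show ((((β : MulAut P)) _ : P) : Ω) = (((β : MulAut P) x : P) : Ω)
      congr 2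
    · intro x
      exact congrArg Subtype.val (hfixp P hPS β hβ ⟨x, hQP x.2⟩ x.2)
  have hZ₂cen : F.IsCentral (preimageAlong θ E.center) :=
    ⟨hZ₂S, fun P φ hφ => (hle P hφ).2⟩
  have hZ₂le : preimageAlong θ E.center ≤ F.center := le_sSup hZ₂cen
  rw [eq_bot_iff]
  intro w hw
  obtain ⟨s, rfl⟩ := hrange.ge (hEcen.1 hw)
  exact (hker s).mpr (hZ₂le (mem_preimageAlong_of_map_mem θ _ s hw))

end

/-- An analogue of Grün's lemma for fusion systems. Let F be a saturated fusion system over a finite p-group S that is perfect in the sense that its hyperfocal subgroup is all of S (F coincides with its p-residual subsystem). Then the second centre of F equals its centre: every fusion system over S/(Z(F) ∩ S) that is the factor system of F modulo its centre Z(F), read through the quotient map, has trivial centre. -/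
theorem result {Ω : Type*} [Group Ω] {S : Subgroup Ω} [Finite S] (p : ℕ) [Fact p.Prime] (hS : IsPGroup p S) (F : Cfsg.FusionSystem S) (hF : F.IsSaturated p)
    (hperf : F.hyperfocalSubgroup p = S)
    (E : Cfsg.FusionSystem (⊤ : Subgroup (↥S ⧸ (F.center).subgroupOf S)))
    (hE : F.IsFactorSystem F.center (QuotientGroup.mk' ((F.center).subgroupOf S)) E) : E.center = ⊥ :=
  gruen p hS F hF hperf _ E hE

end Cfsg.Agent.S5315
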