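import Cfsg.Statements.S5727
import Cfsg.Agent.Lib.Lead.Derange

set_option autoImplicit false
open Cfsg

namespace Cfsg.Agent.S5727

open Cfsg.Agent.Der MulAction

/-- orbits of a Sylow `p`-subgroup of a transitive group have length divisible by the `p`-part of
the degree. -/
theorem pow_dvd_orbit {G Ω : Type*} [Group G] [Finite G] [MulAction G Ω] [IsPretransitive G Ω]
    [Finite Ω] {p : ℕ} [hp : Fact p.Prime] (P : Sylow p G) (k : ℕ) (hk : p ^ k ∣ Nat.card Ω)
    (ω : Ω) : ∃ i, k ≤ i ∧ (orbit P ω).ncard = p ^ i := by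
  have h1 : (orbit P ω).ncard * Nat.card (stabilizer P ω) = Nat.card P := by
    rw [← index_stabilizer]; exact Subgroup.index_mul_card _
  have h2 : Nat.card Ω * Nat.card (stabilizer G ω) = Nat.card G := by
    rw [← index_stabilizer_of_transitive G ω]; exact Subgroup.index_mul_card _
  have h3 : Nat.card (stabilizer P ω) ∣ Nat.card (stabilizer G ω) := by
    let f : stabilizer P ω →* stabilizer G ω :=
      { toFun := fun x => ⟨x.1.1, x.2⟩
        map_one' := rfl
        map_mul' := fun _ _ => rfl }
    apply Subgroup.card_dvd_of_injective f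
    intro x y hxy
    exact Subtype.ext (Subtype.ext (congrArg (fun z : stabilizer G ω => (z : G)) hxy))
  have h4 : Nat.card P = p ^ (Nat.card G).factorization p := P.card_eq_multiplicity
  obtain ⟨j, hj⟩ := IsPGroup.iff_card.mp (P.2.to_subgroup (stabilizer P ω))
  obtain ⟨i, -, hi⟩ := (Nat.dvd_prime_pow hp.out).mp (h4 ▸ Dvd.intro _ h1)
  refine ⟨i, ?_, hi⟩
  have h5 : p ^ (k + j) ∣ Nat.card G := by
    rw [pow_add, ← h2]
    exact Nat.mul_dvd_mul hk (hj ▸ h3)
  have h6 := (Nat.Prime.pow_dvd_iff_le_factorization hp.out Nat.card_pos.ne').mp h5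
  rw [hi, hj, h4, ← pow_add] at h1
  have h7 := Nat.pow_right_injective hp.out.two_le h1
  omega

/-- If a finite group acts faithfully and transitively on a set with m·p elements, where p is a prime and 1 ≤ m ≤ p, then some element of order p fixes no point. -/
theorem result {G Ω : Type*} [Group G] [Finite G] [MulAction G Ω] [FaithfulSMul G Ω] [Fintype Ω] (htr : MulAction.IsPretransitive G Ω)
    (p m : ℕ) (hp : p.Prime) (hm : 1 ≤ m) (hmp : m ≤ p) (hΩ : Fintype.card Ω = m * p) :
    ∃ g : G, orderOf g = p ∧ ∀ ω : Ω, g • ω ≠ ω := by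
  classical
  haveI : Fact p.Prime := ⟨hp⟩
  have hcard : Nat.card Ω = m * p := by rw [Nat.card_eq_fintype_card, hΩ]
  have hne : Nonempty Ω := by
    have : 0 < Nat.card Ω := by rw [hcard]; exact Nat.mul_pos hm hp.pos
    exact (Nat.card_pos_iff.mp this).1
  obtain ⟨P⟩ : Nonempty (Sylow p G) := inferInstance
  rcases eq_or_lt_of_le hmp with rfl | hlt
  · -- `P` is transitive
    have htrans : ∀ ω : Ω, orbit P ω = Set.univ := by
      intro ω
      obtain ⟨i, hi, hcardo⟩ := pow_dvd_orbit P 2 (by rw [hcard, sq]) ω
      apply Set.eq_of_subset_of_ncard_le (Set.subset_univ _) _ (Set.toFinite _)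
      rw [Set.ncard_univ, hcard, hcardo, ← sq]
      exact Nat.pow_le_pow_right hp.pos hi
    obtain ⟨ω₀⟩ := hne
    haveI : Nontrivial P := by
      by_contra h
      rw [not_nontrivial_iff_subsingleton] at h
      have h1 : orbit P ω₀ = {ω₀} := by
        ext x
        constructor
        · rintro ⟨g, rfl⟩
          have : g = 1 := Subsingleton.elim _ _
          rw [this]; simp
        · rintro rfl; exact mem_orbit_self _
      have h2 := congrArg Set.ncard (htrans ω₀)
      rw [h1, Set.ncard_singleton, Set.ncard_univ, hcard] at h2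
      have := hp.two_le
      nlinarith
    haveI := P.2.center_nontrivial
    have hZp : IsPGroup m (Subgroup.center P) := P.2.to_subgroup _
    obtain ⟨k, hk⟩ := IsPGroup.iff_card.mp hZp
    have hk0 : k ≠ 0 := by
      rintro rfl
      rw [pow_zero] at hk
      exact (Finite.one_lt_card_iff_nontrivial.mpr (inferInstance : Nontrivial (Subgroup.center P))).ne' hk
    obtain ⟨z, hz⟩ := exists_prime_orderOf_dvd_card' (G := Subgroup.center P) m
      (hk ▸ dvd_pow_self m hk0)
    refine ⟨((z : P) : G), by rw [Subgroup.orderOf_coe, Subgroup.orderOf_coe, hz], fun ω hω => ?_⟩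
    have h1 : ((z : P) : G) = 1 := by
      apply FaithfulSMul.eq_of_smul_eq_smul (α := Ω)
      intro ω'
      rw [one_smul]
      have : ω' ∈ orbit P ω := htrans ω ▸ Set.mem_univ _
      obtain ⟨h, rfl⟩ := this
      have hcomm : (z : P) * h = h * (z : P) := (Subgroup.mem_center_iff.mp z.2 h).symm
      show ((z : P) : G) • ((h : G) • ω) = (h : G) • ω
      rw [← mul_smul, ← Subgroup.coe_mul, hcomm, Subgroup.coe_mul, mul_smul, hω]
    have h2 : z = 1 := Subtype.ext (Subtype.ext h1)
    rw [h2, orderOf_one] at hz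
    exact hp.one_lt.ne hz
  · -- all orbits of `P` have length `p`
    have horb : ∀ ω : Ω, (orbit P ω).ncard = p := by
      intro ω
      obtain ⟨i, hi, hcardo⟩ := pow_dvd_orbit P 1 (by rw [hcard, pow_one]; exact dvd_mul_left _ _) ω
      have h1 : (orbit P ω).ncard ≤ Nat.card Ω := by
        rw [← Set.ncard_univ]; exact Set.ncard_le_ncard (Set.subset_univ _) (Set.toFinite _)
      rw [hcardo, hcard] at h1
      have h2 : i < 2 := by
        by_contra h
        have h3 : p ^ 2 ≤ p ^ i := Nat.pow_le_pow_right hp.pos (by omega)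
        nlinarith [hp.pos]
      have : i = 1 := by omega
      rw [hcardo, this, pow_one]
    have hnorm : ∀ ω : Ω, (stabilizer P ω).Normal := by
      intro ω
      apply Subgroup.normal_of_index_eq_minFac_card
      rw [index_stabilizer, horb]
      obtain ⟨e, he⟩ := IsPGroup.iff_card.mp P.2
      have he0 : e ≠ 0 := by
        rintro rfl
        rw [pow_zero] at he
        have h1 : (orbit P ω).ncard * Nat.card (stabilizer P ω) = Nat.card P := by
          rw [← index_stabilizer]; exact Subgroup.index_mul_card _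
        rw [horb, he] at h1
        have := Nat.eq_one_of_mul_eq_one_right h1
        exact hp.one_lt.ne' this
      rw [he, hp.pow_minFac he0]
    have hpow : ∀ x : P, x ^ p = 1 := by
      intro x
      apply Subtype.ext
      apply FaithfulSMul.eq_of_smul_eq_smul (α := Ω)
      intro ω
      haveI := hnorm ω
      have h1 := Subgroup.pow_index_mem (stabilizer P ω) x
      rw [index_stabilizer, horb] at h1
      rw [Subgroup.coe_one, one_smul]
      exact h1
    have hfix : ∀ x : P, ∀ ω : Ω, x • ω = ω → p ≤ Nat.card (fixedBy Ω x) := by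
      intro x ω hx
      rw [Nat.card_coe_set_eq]
      refine (horb ω).ge.trans ?_
      apply Set.ncard_le_ncard _ (Set.toFinite _)
      rintro _ ⟨h, rfl⟩
      have h1 := (hnorm ω).conj_mem x hx h⁻¹
      rw [mem_stabilizer_iff, inv_inv, mul_smul, mul_smul, inv_smul_eq_iff] at h1
      exact h1
    -- number of orbits
    have hk : Nat.card (orbitRel.Quotient P Ω) * p = m * p := by
      haveI := Fintype.ofFinite (orbitRel.Quotient P Ω)
      rw [← hcard, Nat.card_congr (selfEquivSigmaOrbits P Ω), Nat.card_sigma]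
      simp only [Nat.card_coe_set_eq, horb]
      rw [Finset.sum_const, smul_eq_mul, Finset.card_univ, Nat.card_eq_fintype_card]
    have hk' : Nat.card (orbitRel.Quotient P Ω) = m := Nat.eq_of_mul_eq_mul_right hp.pos hk
    cases nonempty_fintype P
    have hB := burnside P Ω
    rw [hk'] at hB
    obtain ⟨x, hx⟩ : ∃ x : P, ∀ ω : Ω, x • ω ≠ ω := by
      by_contra hcon
      push Not at hcon
      have h1 : ∑ _x : P, p ≤ ∑ x : P, Nat.card (fixedBy Ω x) := by
        apply Finset.sum_le_sum
        intro x _
        obtain ⟨ω, hω⟩ := hcon x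
        exact hfix x ω hω
      rw [hB, Finset.sum_const, smul_eq_mul, Finset.card_univ, ← Nat.card_eq_fintype_card] at h1
      have hPpos : 0 < Nat.card P := Nat.card_pos
      nlinarith
    refine ⟨(x : G), ?_, hx⟩
    rw [Subgroup.orderOf_coe]
    apply orderOf_eq_prime (hpow x)
    rintro rfl
    obtain ⟨ω⟩ := hne
    exact hx ω (one_smul _ ω)

end Cfsg.Agent.S5727
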