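import Cfsg.Statements.S5726
import Cfsg.Agent.S5727

set_option autoImplicit false
open Cfsg

namespace Cfsg.Agent.S5726

open MulAction

/-- If a finite group acts faithfully and transitively on a set with p^k elements, p a prime and k ≥ 1, then some element of order p fixes no point. -/
theorem result {G Ω : Type*} [Group G] [Finite G] [MulAction G Ω] [FaithfulSMul G Ω] [Fintype Ω] (htr : MulAction.IsPretransitive G Ω)
    (p k : ℕ) (hp : p.Prime) (hk : 1 ≤ k) (hΩ : Fintype.card Ω = p ^ k) :
    ∃ g : G, orderOf g = p ∧ ∀ ω : Ω, g • ω ≠ ω := by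
  classical
  haveI : Fact p.Prime := ⟨hp⟩
  have hcard : Nat.card Ω = p ^ k := by rw [Nat.card_eq_fintype_card, hΩ]
  have hne : Nonempty Ω := by
    have : 0 < Nat.card Ω := by rw [hcard]; exact pow_pos hp.pos _
    exact (Nat.card_pos_iff.mp this).1
  obtain ⟨P⟩ : Nonempty (Sylow p G) := inferInstance
  have htrans : ∀ ω : Ω, orbit P ω = Set.univ := by
    intro ω
    obtain ⟨i, hi, hcardo⟩ := Cfsg.Agent.S5727.pow_dvd_orbit P k (by rw [hcard]) ω
    apply Set.eq_of_subset_of_ncard_le (Set.subset_univ _) _ (Set.toFinite _)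
    rw [Set.ncard_univ, hcard, hcardo]
    exact Nat.pow_le_pow_right hp.pos hi
  obtain ⟨ω₀⟩ := hne
  haveI : Nontrivial P := by
    by_contra h
    rw [not_nontrivial_iff_subsingleton] at h
    have h1 : orbit P ω₀ = {ω₀} := by
      ext x
      constructor
      · rintro ⟨g, rfl⟩
        have : g = 1 := Subsingleton.elim _ _
        rw [this]; simp
      · rintro rfl; exact mem_orbit_self _
    have h2 := congrArg Set.ncard (htrans ω₀)
    rw [h1, Set.ncard_singleton, Set.ncard_univ, hcard] at h2
    have := Nat.one_lt_pow (by omega : k ≠ 0) hp.one_lt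
    omega
  haveI := P.2.center_nontrivial
  have hZp : IsPGroup p (Subgroup.center P) := P.2.to_subgroup _
  obtain ⟨e, he⟩ := IsPGroup.iff_card.mp hZp
  have he0 : e ≠ 0 := by
    rintro rfl
    rw [pow_zero] at he
    exact (Finite.one_lt_card_iff_nontrivial.mpr (inferInstance : Nontrivial (Subgroup.center P))).ne' he
  obtain ⟨z, hz⟩ := exists_prime_orderOf_dvd_card' (G := Subgroup.center P) p
    (he ▸ dvd_pow_self p he0)
  refine ⟨((z : P) : G), by rw [Subgroup.orderOf_coe, Subgroup.orderOf_coe, hz], fun ω hω => ?_⟩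
  have h1 : ((z : P) : G) = 1 := by
    apply FaithfulSMul.eq_of_smul_eq_smul (α := Ω)
    intro ω'
    rw [one_smul]
    have : ω' ∈ orbit P ω := htrans ω ▸ Set.mem_univ _
    obtain ⟨h, rfl⟩ := this
    have hcomm : (z : P) * h = h * (z : P) := (Subgroup.mem_center_iff.mp z.2 h).symm
    show ((z : P) : G) • ((h : G) • ω) = (h : G) • ω
    rw [← mul_smul, ← Subgroup.coe_mul, hcomm, Subgroup.coe_mul, mul_smul, hω]
  have h2 : z = 1 := Subtype.ext (Subtype.ext h1)
  rw [h2, orderOf_one] at hz
  exact hp.one_lt.ne hz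

end Cfsg.Agent.S5726
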